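import Mathlib
import Cfsg.Agent.Lib.Helper1.LeechEnum7
import Cfsg.Agent.Lib.Helper1.Co1B.VGF0
import Cfsg.Agent.Lib.Helper1.Co1B.VGF1
import Cfsg.Agent.Lib.Helper1.Co1B.VGF2
import Cfsg.Agent.Lib.Helper1.Co1B.VGF3
import Cfsg.Agent.Lib.Helper1.Co1B.VGF4
import Cfsg.Agent.Lib.Helper1.Co1B.VGF5
import Cfsg.Agent.Lib.Helper1.Co1B.VGF6
import Cfsg.Agent.Lib.Helper1.Co1B.VGF7
import Cfsg.Agent.Lib.Helper1.Co1B.VGF8
import Cfsg.Agent.Lib.Helper1.Co1B.VGF9
import Cfsg.Agent.Lib.Helper1.Co1B.VGF10
import Cfsg.Agent.Lib.Helper1.Co1B.VGF11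
import Cfsg.Agent.Lib.Helper1.Co1B.TF0
import Cfsg.Agent.Lib.Helper1.Co1B.TF1
import Cfsg.Agent.Lib.Helper1.Co1B.TF2
import Cfsg.Agent.Lib.Helper1.Co1B.TF3
import Cfsg.Agent.Lib.Helper1.Co1B.TI0
import Cfsg.Agent.Lib.Helper1.Co1B.TI1
import Cfsg.Agent.Lib.Helper1.Co1B.TI2
import Cfsg.Agent.Lib.Helper1.Co1B.TR

set_option autoImplicit false
set_option maxRecDepth 100000

/-! The first Conway group as a permutation group on the 98280 pairs of minimal vectors: the
access to the data. -/

namespace Cfsg.Agent.Lib.Helper1.Co1B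

open Cfsg Cfsg.Agent.Lib.Helper1.LeechEnum

noncomputable section

/-- lookup in a list of numbers, with raw recursors -/
def nthN (l : List ℕ) (n : ℕ) : ℕ :=
  List.rec (motive := fun _ => ℕ → ℕ) (fun _ => 0)
    (fun a _ ih n => Nat.casesOn (motive := fun _ => ℕ) n a (fun m => ih m)) l n

/-- lookup in a list of lists of numbers, with raw recursors -/
def nthL (l : List (List ℕ)) (n : ℕ) : List ℕ :=
  List.rec (motive := fun _ => ℕ → List ℕ) (fun _ => [])
    (fun a _ ih n => Nat.casesOn (motive := fun _ => List ℕ) n a (fun m => ih m)) l n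

/-- lookup in a table packed in groups of chunks: `per` entries of `bits` bits in a chunk, `cpg`
chunks in a group -/
def tget (tab : List (List ℕ)) (per bits cpg i : ℕ) : ℕ :=
  Nat.mod (Nat.shiftRight
    (nthN (nthL tab (Nat.div (Nat.div i per) cpg)) (Nat.mod (Nat.div i per) cpg))
    (Nat.mul bits (Nat.mod i per))) (Nat.pow 2 bits)

/-- the groups of chunks of the packed vectors -/
def VGs : List (List ℕ) := [VG0, VG1, VG2, VG3, VG4, VG5, VG6, VG7, VG8, VG9, VG10, VG11, VG12, VG13, VG14, VG15, VG16, VG17, VG18, VG19, VG20, VG21, VG22, VG23]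

/-- the packed vector of an index below 98280 -/
def vL (i : ℕ) : ℕ := tget VGs 64 384 64 i

/-- the tables of the letters on the vectors -/
def tf (c i : ℕ) : ℕ :=
  tget (Nat.casesOn (motive := fun _ => List (List ℕ)) c TF0 (fun c1 =>
    Nat.casesOn (motive := fun _ => List (List ℕ)) c1 TF1 (fun c2 =>
      Nat.casesOn (motive := fun _ => List (List ℕ)) c2 TF2 (fun _ => TF3)))) 512 18 16 i

/-- the tables of the inverses of the first three letters on the pairs -/
def ti (c i : ℕ) : ℕ :=
  tget (Nat.casesOn (motive := fun _ => List (List ℕ)) c TI0 (fun c1 =>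
    Nat.casesOn (motive := fun _ => List (List ℕ)) c1 TI1 (fun _ => TI2))) 512 17 16 i

/-- the entry of the tree -/
def trE (i : ℕ) : ℕ := tget TR 512 24 16 i

/-- the parent in the tree -/
def par (i : ℕ) : ℕ := Nat.mod (trE i) 131072

/-- the letter of the edge to the parent -/
def parg (i : ℕ) : ℕ := Nat.mod (Nat.shiftRight (trE i) 17) 4

/-- the rank in the tree -/
def rk (i : ℕ) : ℕ := Nat.shiftRight (trE i) 19

/-- the packed vector with all entries `2` (offset 256): the sum of a packed vector and of its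
negative -/
def P2 : ℕ := 307832870566170341904125559338880449655921667909945963134043277988461273319700493370627974708187637263950462059008

/-- the packed vector of an index below 196560 -/
def vLf (j : ℕ) : ℕ :=
  cond (Nat.blt j 98280) (vL j) (Nat.sub P2 (vL (Nat.sub 196559 j)))

/-- the pair of an index -/
def qdN (j : ℕ) : ℕ := cond (Nat.blt j 98280) j (Nat.sub 196559 j)

/-- the first letter: the permutation `t ↦ t + 1` -/
def g0 : List (List ℕ) := [[2, 4, 6, 8, 10, 12, 14, 16, 18, 20, 22, 24, 26, 28, 30, 32, 34, 36, 38, 40, 42, 44, 0, 46]]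

/-- the second letter: the permutation `t ↦ 2 t` -/
def g1 : List (List ℕ) := [[0, 4, 8, 12, 16, 20, 24, 28, 32, 36, 40, 44, 2, 6, 10, 14, 18, 22, 26, 30, 34, 38, 42, 46]]

/-- the third letter: a signed permutation -/
def g2 : List (List ℕ) := [[13, 21, 23, 26, 43, 0, 38, 47, 45, 41, 29, 9, 14, 7, 35, 32, 11, 31, 24, 3, 4, 36, 17, 19]]

/-- the fourth letter: the extra automorphism -/
def g3 : List (List ℕ) := [[]]

/-- the letters -/
def gOf (c : ℕ) : List (List ℕ) := nthG [g0, g1, g2, g3] c

/-- a check on a range -/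
def allR (f : ℕ → Bool) (lo len : ℕ) : Bool := allB (fun k => f (Nat.add lo k)) len

theorem allR_iff (f : ℕ → Bool) (lo len : ℕ) :
    allR f lo len = true ↔ ∀ i, lo ≤ i → i < lo + len → f i = true := by
  unfold allR
  rw [allB_iff]
  constructor
  · intro h i h1 h2
    have := h (i - lo) (by omega)
    have e : Nat.add lo (i - lo) = i := by show lo + (i - lo) = i; omega
    rwa [e] at this
  · intro h k hk
    exact h (lo + k) (by omega) (by omega)

/-- the check of the action of a letter on a vector -/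
def actChk (c i : ℕ) : Bool :=
  Nat.beq (applyGen (gOf c) (vL i)) (vLf (tf c i)) && Nat.blt (tf c i) 196560

/-- the check of the order of the vectors -/
def sortChk (i : ℕ) : Bool := Nat.blt (vL i) (vL (Nat.succ i))

/-- the check of the tree -/
def treeChk (i : ℕ) : Bool :=
  Nat.beq i 22 || (Nat.blt (par i) 98280 && Nat.blt (rk (par i)) (rk i) &&
    Nat.beq (qdN (tf (parg i) (par i))) i)

/-- the check of the inverse tables -/
def invChk (i : ℕ) : Bool :=
  allB (fun c => Nat.blt (ti c i) 98280 && Nat.beq (qdN (tf c (ti c i))) i &&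
    Nat.beq (ti c (qdN (tf c i))) i) 3 &&
  Nat.beq (qdN (tf 3 (qdN (tf 3 i)))) i

end

end Cfsg.Agent.Lib.Helper1.Co1B
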