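import Mathlib
import Cfsg.Agent.Lib.Helper1.Co1B.VL
import Cfsg.Agent.Lib.Helper1.Co1B.PT3
import Cfsg.Agent.Lib.Helper1.Co1B.PT4
import Cfsg.Agent.Lib.Helper1.Co1B.PT5
import Cfsg.Agent.Lib.Helper1.Co1B.PT6
import Cfsg.Agent.Lib.Helper1.Co1B.PT7
import Cfsg.Agent.Lib.Helper1.Co1B.PT8
import Cfsg.Agent.Lib.Helper1.Co1B.PT9
import Cfsg.Agent.Lib.Helper1.Co1B.PT10
import Cfsg.Agent.Lib.Helper1.Co1B.PT11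
import Cfsg.Agent.Lib.Helper1.Co1B.PT12
import Cfsg.Agent.Lib.Helper1.Co1B.PT13
import Cfsg.Agent.Lib.Helper1.Co1B.PT14
import Cfsg.Agent.Lib.Helper1.Co1B.PT15
import Cfsg.Agent.Lib.Helper1.Co1B.PT16
import Cfsg.Agent.Lib.Helper1.Co1B.PT17
import Cfsg.Agent.Lib.Helper1.Co1B.PT18
import Cfsg.Agent.Lib.Helper1.Co1B.PT19
import Cfsg.Agent.Lib.Helper1.Co1B.PT20
import Cfsg.Agent.Lib.Helper1.Co1B.PT21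
import Cfsg.Agent.Lib.Helper1.Co1B.PT22
import Cfsg.Agent.Lib.Helper1.Co1B.PT23
import Cfsg.Agent.Lib.Helper1.Co1B.PT24
import Cfsg.Agent.Lib.Helper1.Co1B.LV0_0
import Cfsg.Agent.Lib.Helper1.Co1B.LV0_1
import Cfsg.Agent.Lib.Helper1.Co1B.LV0_2
import Cfsg.Agent.Lib.Helper1.Co1B.LV0_3
import Cfsg.Agent.Lib.Helper1.Co1B.LV0_4
import Cfsg.Agent.Lib.Helper1.Co1B.LV0_5
import Cfsg.Agent.Lib.Helper1.Co1B.LV0_6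
import Cfsg.Agent.Lib.Helper1.Co1B.LV0_7

set_option autoImplicit false
set_option maxRecDepth 100000

/-! The first Conway group on the 98280 pairs of minimal vectors: strong generators and the
stabilizer chain (data). -/

namespace Cfsg.Agent.Lib.Helper1.Co1B

noncomputable section

/-- the definitions of the new letters -/
def ds : List (List ℕ) := [[1, 1, 1, 3, 5, 3, 5, 5, 5, 5, 3, 5, 5, 3, 1, 1, 1, 3, 1, 3, 5, 5, 3, 1, 1, 1, 3, 1], [5, 3, 5, 5, 5, 3, 1, 1, 3, 5, 3, 5, 5, 5, 3, 1, 1, 3, 1, 1, 1, 1, 3, 1, 3, 5, 5, 5], [4, 4, 3, 5, 5, 4, 5, 4, 3, 5, 3, 4, 4, 3, 0, 0, 3, 0, 1, 1, 8, 8, 3], [3, 7, 7, 5, 5, 4, 3, 4, 4, 3, 0, 0, 3, 1, 3, 0, 1, 0, 1, 1, 3, 0, 0], [9, 9], [10, 10], [6, 1, 6, 6, 4, 1, 6, 5, 5, 4, 2, 1, 4, 6, 4, 6,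 5, 5, 4, 4, 1, 10, 3, 1, 7, 7, 10, 7], [8, 9, 8, 8, 5, 3, 9, 5, 0, 0, 1, 1, 2, 0, 2, 0, 5, 6, 0, 1, 1, 2, 5, 0, 2, 2, 5, 2], [1, 1, 13, 9, 5, 9, 13, 3, 9, 1, 7], [8, 5, 10, 3, 14, 10, 1, 10, 14, 5, 5], [0, 5, 14, 1, 4, 13, 3, 4, 3, 1, 14, 4, 4, 1, 1, 13, 5, 5, 16, 8, 3, 16, 16, 13], [14, 15, 15, 3, 7, 15, 1, 1, 14, 5, 5, 0, 0, 13, 5, 3, 0, 3, 14, 0, 5, 13, 1, 4], [9, 15, 10, 13, 18, 15, 18, 12, 18], [17, 11, 17, 16, 17, 14, 9, 16, 10], [12, 18, 18, 18, 19, 17, 11], [12, 18, 20, 17, 17, 17, 11], [1, 14, 1, 10, 14, 14, 5, 9, 13, 1, 18, 8, 18, 16, 18, 18, 12, 21], [22, 11, 17, 17, 15, 17, 7, 17, 5, 14, 10, 1, 13, 13, 9, 5, 13, 5]]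

/-- the tables of the letters on the pairs -/
def PTs : List (List (List ℕ)) := [TI0, TI1, TI2, PT3, PT4, PT5, PT6, PT7, PT8, PT9, PT10, PT11, PT12, PT13, PT14, PT15, PT16, PT17, PT18, PT19, PT20, PT21, PT22, PT23, PT24]

/-- lookup in a list of tables, with raw recursors -/
def nthT (l : List (List (List ℕ))) (n : ℕ) : List (List ℕ) :=
  List.rec (motive := fun _ => ℕ → List (List ℕ)) (fun _ => [])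
    (fun a _ ih n => Nat.casesOn (motive := fun _ => List (List ℕ)) n a (fun m => ih m)) l n

/-- the right action of the letters -/
def pm (c q : ℕ) : ℕ := tget (nthT PTs c) 512 17 16 q

/-- the base -/
def baseC : List ℕ := [2093, 23, 24, 48, 26, 9, 47, 0]

/-- the first level -/
def lv0 : List (List ℕ) := lv0_0 ++ lv0_1 ++ lv0_2 ++ lv0_3 ++ lv0_4 ++ lv0_5 ++ lv0_6 ++ lv0_7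

/-- level 1 -/
def lv1 : List (List ℕ) := [[], [0], [4], [0, 0], [0, 5], [4, 1], [4, 3], [4, 5], [4, 7], [4, 8], [4, 9], [4, 10], [4, 11], [4, 12], [4, 13], [4, 14], [4, 15], [4, 17], [4, 19], [4, 20], [4, 21], [4, 22], [4, 23], [4, 24], [0, 0, 0], [0, 0, 1], [0, 0, 7], [0, 0, 8], [0, 0, 9], [0, 0, 10], [0, 0, 11], [0, 0, 12], [0, 0, 13], [0, 0, 14], [0, 0, 15], [0, 0, 16], [0, 0, 17], [0, 0, 18], [0, 0, 19], [0, 0, 20], [0, 0, 21], [0, 0, 23], [0, 5, 0], [0, 5, 3], [0, 5, 5], [0, 5, 7], [0, 5, 8], [0, 5, 9], [0, 5, 10], [0, 5, 11], [0, 5, 12], [0, 5, 13], [0, 5, 14], [0, 5, 15], [0, 5, 16], [0, 5, 17], [0, 5, 18], [0, 5, 19], [0, 5, 20], [0, 5, 21], [0, 5, 23], [4, 1, 1], [4, 1, 3], [4, 1, 4], [4, 1, 8], [4, 1, 9], [4, 1, 10],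 [4, 1, 11], [4, 1, 12], [4, 1, 13], [4, 1, 14], [4, 1, 15], [4, 1, 16], [4, 1, 19], [4, 1, 20], [4, 1, 24], [4, 3, 0], [4, 3, 1], [4, 3, 5], [4, 3, 7], [4, 3, 9], [4, 3, 12], [4, 3, 13], [4, 3, 14], [4, 3, 15], [4, 3, 17], [4, 3, 18], [4, 3, 19], [4, 3, 20], [4, 3, 22], [4, 3, 23], [4, 3, 24], [4, 5, 4], [4, 5, 5], [4, 5, 7], [4, 5, 8], [4, 5, 10], [4, 5, 11], [4, 5, 12], [4, 5, 14], [4, 5, 15], [4, 5, 16], [4, 5, 17], [4, 5, 18], [4, 5, 23], [4, 7, 0], [4, 7, 1], [4, 7, 4], [4, 7, 5], [4, 7, 7], [4, 7, 9], [4, 7, 10], [4, 7, 11], [4, 7, 12], [4, 7, 13], [4, 7, 16], [4, 7, 17], [4, 7, 18], [4, 7, 19], [4, 7, 20], [4, 7, 21], [4, 8, 0], [4, 8, 1], [4, 8, 3], [4, 8, 4], [4, 8, 5], [4, 8, 12], [4, 8, 13], [4, 8, 14], [4, 8, 15],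 [4, 8, 17], [4, 8, 18], [4, 8, 19], [4, 8, 21], [4, 8, 22], [4, 8, 24], [4, 9, 1], [4, 9, 3], [4, 9, 4], [4, 9, 7], [4, 9, 8], [4, 9, 11], [4, 9, 13], [4, 9, 14], [4, 9, 15], [4, 9, 16], [4, 9, 19], [4, 9, 20], [4, 9, 21], [4, 9, 22], [4, 9, 23], [4, 10, 0], [4, 10, 1], [4, 10, 4], [4, 10, 5], [4, 10, 7], [4, 10, 8], [4, 10, 14], [4, 10, 18], [4, 10, 22], [4, 10, 23], [4, 11, 0], [4, 11, 4], [4, 11, 5], [4, 11, 7], [4, 11, 15], [4, 11, 16], [4, 11, 17], [4, 11, 19], [4, 11, 23], [4, 11, 24], [4, 12, 3], [4, 12, 4], [4, 12, 5], [4, 12, 7], [4, 12, 8], [4, 12, 19], [4, 13, 1], [4, 13, 3], [4, 13, 4], [4, 13, 9], [4, 13, 11], [4, 13, 16], [4, 13, 19], [4, 13, 22], [4, 13, 24], [4, 14, 0], [4, 14, 1], [4, 14, 5], [4, 14, 21], [4,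 14, 22], [4, 15, 0], [4, 15, 1], [4, 15, 4], [4, 15, 5], [4, 15, 7], [4, 15, 12], [4, 15, 15], [4, 15, 17], [4, 15, 22], [4, 17, 0], [4, 17, 4], [4, 17, 5], [4, 17, 15], [4, 17, 19], [4, 17, 20], [4, 17, 21], [4, 17, 22], [4, 17, 23], [4, 19, 0], [4, 19, 1], [4, 19, 10], [4, 19, 12], [4, 19, 18], [4, 20, 0], [4, 20, 1], [4, 20, 7], [4, 20, 16], [4, 20, 17], [4, 20, 21], [4, 20, 24], [4, 21, 0], [4, 21, 8], [4, 21, 17], [4, 21, 23], [4, 22, 0], [4, 22, 1], [4, 22, 5], [4, 22, 7], [4, 22, 9], [4, 22, 12], [4, 22, 15], [4, 22, 16], [4, 23, 0], [4, 23, 3], [4, 23, 4], [4, 23, 5], [4, 23, 8], [4, 23, 10], [4, 23, 11], [4, 23, 19], [4, 24, 0], [4, 24, 1], [4, 24, 5], [4, 24, 8], [4, 24, 13], [0, 0, 0, 3], [0, 0, 0, 8], [0, 0, 0, 13],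 [0, 0, 0, 14], [0, 0, 0, 15], [0, 0, 0, 16], [0, 0, 1, 1], [0, 0, 1, 10], [0, 0, 1, 13], [0, 0, 1, 16], [0, 0, 7, 0], [0, 0, 7, 1], [0, 0, 7, 3], [0, 0, 7, 4], [0, 0, 7, 5], [0, 0, 7, 7], [0, 0, 7, 9], [0, 0, 7, 10], [0, 0, 7, 14], [0, 0, 7, 21], [0, 0, 8, 0], [0, 0, 8, 1], [0, 0, 8, 4], [0, 0, 8, 5], [0, 0, 8, 8], [0, 0, 8, 10], [0, 0, 8, 21], [0, 0, 8, 23], [0, 0, 9, 0], [0, 0, 9, 1], [0, 0, 9, 3], [0, 0, 9, 4], [0, 0, 9, 5], [0, 0, 9, 11], [0, 0, 9, 16], [0, 0, 9, 21], [0, 0, 10, 1], [0, 0, 10, 4], [0, 0, 10, 5], [0, 0, 10, 23], [0, 0, 11, 1], [0, 0, 11, 3], [0, 0, 11, 5], [0, 0, 11, 17], [0, 0, 12, 1], [0, 0, 12, 3], [0, 0, 12, 15], [0, 0, 12, 24], [0, 0, 13, 1], [0, 0, 13, 4], [0, 0, 13, 5], [0, 0, 13, 7], [0, 0, 14, 0],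 [0, 0, 14, 1], [0, 0, 14, 4], [0, 0, 14, 5], [0, 0, 14, 8], [0, 0, 15, 1], [0, 0, 16, 0], [0, 0, 16, 9], [0, 0, 16, 16], [0, 0, 17, 0], [0, 0, 17, 1], [0, 0, 17, 4], [0, 0, 17, 5], [0, 0, 17, 9], [0, 0, 17, 10], [0, 0, 17, 12], [0, 0, 17, 19], [0, 0, 18, 0], [0, 0, 18, 1], [0, 0, 18, 4], [0, 0, 18, 5], [0, 0, 18, 8], [0, 0, 18, 23], [0, 0, 19, 0], [0, 0, 19, 1], [0, 0, 19, 4], [0, 0, 20, 4], [0, 0, 20, 5], [0, 0, 20, 9], [0, 0, 20, 10], [0, 0, 21, 3], [0, 0, 21, 4], [0, 0, 21, 5], [0, 0, 21, 7], [0, 0, 23, 4], [0, 0, 23, 5], [0, 0, 23, 22], [0, 5, 0, 0], [0, 5, 0, 3], [0, 5, 0, 10], [0, 5, 0, 11], [0, 5, 0, 15], [0, 5, 0, 16], [0, 5, 0, 17], [0, 5, 0, 18], [0, 5, 3, 0], [0, 5, 3, 1], [0, 5, 3, 21], [0, 5, 3, 22], [0, 5, 5, 7],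 [0, 5, 5, 9], [0, 5, 5, 10], [0, 5, 5, 17], [0, 5, 7, 0], [0, 5, 7, 1], [0, 5, 7, 4], [0, 5, 7, 5], [0, 5, 7, 7], [0, 5, 7, 12], [0, 5, 8, 0], [0, 5, 8, 4], [0, 5, 8, 5], [0, 5, 9, 0], [0, 5, 9, 1], [0, 5, 9, 4], [0, 5, 9, 5], [0, 5, 10, 4], [0, 5, 10, 5], [0, 5, 10, 22], [0, 5, 11, 4], [0, 5, 11, 5], [0, 5, 11, 7], [0, 5, 11, 18], [0, 5, 11, 19], [0, 5, 11, 20], [0, 5, 12, 4], [0, 5, 12, 5], [0, 5, 13, 0], [0, 5, 13, 1], [0, 5, 13, 4], [0, 5, 13, 7], [0, 5, 14, 0], [0, 5, 14, 4], [0, 5, 14, 5], [0, 5, 15, 1], [0, 5, 15, 7], [0, 5, 15, 11], [0, 5, 15, 15], [0, 5, 15, 21], [0, 5, 16, 0], [0, 5, 16, 1], [0, 5, 16, 4], [0, 5, 16, 5], [0, 5, 16, 19], [0, 5, 17, 4], [0, 5, 17, 5], [0, 5, 17, 8], [0, 5, 17, 19], [0, 5, 18, 5], [0,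 5, 18, 7], [0, 5, 20, 0], [0, 5, 20, 4], [0, 5, 20, 5], [0, 5, 20, 8], [0, 5, 20, 10], [0, 5, 20, 11], [0, 5, 21, 1], [0, 5, 21, 8], [0, 5, 21, 11], [0, 5, 21, 12], [0, 5, 23, 0], [4, 1, 1, 16], [4, 1, 3, 0], [4, 1, 3, 8], [4, 1, 8, 0], [4, 1, 8, 5], [4, 1, 8, 15], [4, 1, 9, 1], [4, 1, 9, 7], [4, 1, 9, 15], [4, 1, 10, 0], [4, 1, 10, 1], [4, 1, 11, 0], [4, 1, 12, 0], [4, 1, 12, 1], [4, 1, 12, 4], [4, 1, 12, 5], [4, 1, 13, 1], [4, 1, 14, 0], [4, 1, 15, 1], [4, 1, 15, 4], [4, 1, 15, 5], [4, 1, 16, 0], [4, 1, 16, 1], [4, 1, 19, 0], [4, 1, 19, 1], [4, 1, 19, 7], [4, 1, 20, 0], [4, 1, 20, 4], [4, 1, 20, 5], [4, 1, 24, 4], [4, 1, 24, 5], [4, 3, 0, 0], [4, 3, 0, 1], [4, 3, 0, 5], [4, 3, 0, 7], [4, 3, 0, 8], [4, 3, 0, 9], [4, 3, 0, 13],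 [4, 3, 0, 14], [4, 3, 0, 15], [4, 3, 0, 16], [4, 3, 0, 17], [4, 3, 0, 20], [4, 3, 1, 0], [4, 3, 1, 1], [4, 3, 1, 3], [4, 3, 1, 7], [4, 3, 1, 9], [4, 3, 1, 10], [4, 3, 1, 13], [4, 3, 1, 14], [4, 3, 1, 16], [4, 3, 1, 17], [4, 3, 1, 18], [4, 3, 1, 20], [4, 3, 1, 22], [4, 3, 1, 24], [4, 3, 5, 0], [4, 3, 5, 4], [4, 3, 5, 14], [4, 3, 7, 4], [4, 3, 7, 5], [4, 3, 9, 0], [4, 3, 9, 1], [4, 3, 9, 4], [4, 3, 9, 5], [4, 3, 9, 13], [4, 3, 9, 22], [4, 3, 12, 0], [4, 3, 12, 1], [4, 3, 12, 4], [4, 3, 12, 5], [4, 3, 13, 0], [4, 3, 13, 4], [4, 3, 13, 5], [4, 3, 13, 9], [4, 3, 14, 0], [4, 3, 15, 0], [4, 3, 15, 4], [4, 3, 18, 1], [4, 3, 19, 1], [4, 3, 19, 4], [4, 3, 20, 0], [4, 3, 20, 1], [4, 3, 20, 4], [4, 3, 20, 5], [4, 3, 22, 0], [4, 3, 22, 1],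 [4, 3, 22, 4], [4, 3, 22, 5], [4, 3, 23, 1], [4, 3, 23, 4], [4, 3, 24, 0], [4, 3, 24, 5], [4, 5, 4, 3], [4, 5, 7, 0], [4, 5, 7, 4], [4, 5, 7, 5], [4, 5, 7, 10], [4, 5, 7, 15], [4, 5, 7, 22], [4, 5, 8, 0], [4, 5, 8, 1], [4, 5, 8, 4], [4, 5, 8, 5], [4, 5, 12, 5], [4, 5, 14, 4], [4, 5, 14, 5], [4, 5, 15, 4], [4, 5, 16, 0], [4, 5, 16, 1], [4, 5, 16, 4], [4, 5, 16, 5], [4, 5, 17, 0], [4, 5, 17, 1], [4, 5, 17, 4], [4, 5, 17, 5], [4, 5, 18, 0], [4, 5, 18, 1], [4, 5, 23, 0], [4, 5, 23, 4], [4, 5, 23, 5], [4, 7, 0, 0], [4, 7, 0, 1], [4, 7, 0, 3], [4, 7, 0, 5], [4, 7, 0, 8], [4, 7, 0, 9], [4, 7, 0, 10], [4, 7, 0, 13], [4, 7, 0, 15], [4, 7, 0, 16], [4, 7, 0, 17], [4, 7, 0, 18], [4, 7, 0, 19], [4, 7, 0, 21], [4, 7, 0, 22], [4, 7, 0, 23],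 [4, 7, 0, 24], [4, 7, 1, 0], [4, 7, 1, 4], [4, 7, 1, 7], [4, 7, 1, 8], [4, 7, 1, 9], [4, 7, 1, 10], [4, 7, 1, 13], [4, 7, 1, 16], [4, 7, 1, 18], [4, 7, 1, 21], [4, 7, 4, 1], [4, 7, 4, 3], [4, 7, 4, 4], [4, 7, 4, 5], [4, 7, 4, 7], [4, 7, 4, 9], [4, 7, 4, 14], [4, 7, 4, 15], [4, 7, 4, 16], [4, 7, 4, 18], [4, 7, 4, 19], [4, 7, 4, 20], [4, 7, 5, 0], [4, 7, 5, 7], [4, 7, 5, 8], [4, 7, 5, 9], [4, 7, 5, 10], [4, 7, 5, 11], [4, 7, 5, 12], [4, 7, 5, 13], [4, 7, 5, 14], [4, 7, 5, 15], [4, 7, 5, 16], [4, 7, 5, 17], [4, 7, 5, 20], [4, 7, 5, 21], [4, 7, 5, 22], [4, 7, 7, 5], [4, 7, 9, 0], [4, 7, 10, 0], [4, 7, 11, 0], [4, 7, 11, 1], [4, 7, 11, 4], [4, 7, 11, 18], [4, 7, 12, 0], [4, 7, 12, 1], [4, 7, 16, 1], [4, 7, 17, 0], [4, 7, 17, 1], [4,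 7, 18, 0], [4, 7, 19, 4], [4, 7, 19, 5], [4, 8, 0, 0], [4, 8, 0, 1], [4, 8, 0, 3], [4, 8, 0, 5], [4, 8, 0, 7], [4, 8, 0, 8], [4, 8, 0, 9], [4, 8, 0, 10], [4, 8, 0, 11], [4, 8, 0, 12], [4, 8, 0, 13], [4, 8, 0, 14], [4, 8, 0, 16], [4, 8, 0, 17], [4, 8, 0, 18], [4, 8, 0, 19], [4, 8, 0, 20], [4, 8, 0, 21], [4, 8, 0, 22], [4, 8, 0, 24], [4, 8, 1, 0], [4, 8, 1, 1], [4, 8, 1, 4], [4, 8, 1, 7], [4, 8, 1, 8], [4, 8, 1, 9], [4, 8, 1, 10], [4, 8, 1, 12], [4, 8, 1, 13], [4, 8, 1, 14], [4, 8, 1, 16], [4, 8, 1, 17], [4, 8, 1, 18], [4, 8, 1, 20], [4, 8, 1, 22], [4, 8, 1, 24], [4, 8, 3, 4], [4, 8, 3, 5], [4, 8, 3, 8], [4, 8, 4, 1], [4, 8, 4, 3], [4, 8, 4, 4], [4, 8, 4, 5], [4, 8, 4, 7], [4, 8, 4, 8], [4, 8, 4, 12], [4, 8, 4, 14], [4, 8, 4, 16],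 [4, 8, 4, 18], [4, 8, 4, 19], [4, 8, 4, 20], [4, 8, 4, 21], [4, 8, 4, 22], [4, 8, 4, 24], [4, 8, 5, 0], [4, 8, 5, 3], [4, 8, 5, 4], [4, 8, 5, 8], [4, 8, 5, 10], [4, 8, 5, 12], [4, 8, 5, 13], [4, 8, 5, 15], [4, 8, 5, 16], [4, 8, 5, 18], [4, 8, 5, 19], [4, 8, 5, 22], [4, 8, 12, 7], [4, 8, 13, 0], [4, 8, 14, 0], [4, 8, 14, 1], [4, 8, 17, 0], [4, 8, 17, 4], [4, 8, 18, 0], [4, 8, 19, 1], [4, 8, 19, 4], [4, 8, 19, 5], [4, 8, 21, 0], [4, 8, 21, 4], [4, 8, 22, 0], [4, 8, 22, 1], [4, 8, 22, 4], [4, 8, 22, 5], [4, 9, 3, 0], [4, 9, 4, 4], [4, 9, 4, 19], [4, 9, 7, 0], [4, 9, 7, 1], [4, 9, 7, 5], [4, 9, 8, 0], [4, 9, 8, 1], [4, 9, 8, 4], [4, 9, 8, 5], [4, 9, 8, 20], [4, 9, 8, 21], [4, 9, 11, 4], [4, 9, 11, 5], [4, 9, 13, 1], [4, 9, 14, 0],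 [4, 9, 14, 1], [4, 9, 20, 0], [4, 9, 20, 4], [4, 9, 20, 5], [4, 9, 21, 0], [4, 9, 22, 4], [4, 9, 23, 0], [4, 9, 23, 4], [4, 9, 23, 5], [4, 10, 0, 23], [4, 10, 4, 5], [4, 10, 7, 0], [4, 10, 7, 15], [4, 10, 7, 16], [4, 10, 8, 0], [4, 10, 8, 5], [4, 10, 14, 0], [4, 10, 14, 1], [4, 10, 14, 5], [4, 10, 18, 0], [4, 10, 18, 1], [4, 10, 22, 1], [4, 10, 22, 4], [4, 10, 23, 0], [4, 10, 23, 5], [4, 11, 0, 0], [4, 11, 5, 0], [4, 11, 7, 5], [4, 11, 7, 22], [4, 11, 15, 1], [4, 11, 16, 4], [4, 11, 16, 5], [4, 11, 17, 0], [4, 11, 19, 4], [4, 11, 23, 0], [4, 11, 23, 5], [4, 12, 3, 0], [4, 12, 5, 0], [4, 12, 5, 5], [4, 12, 7, 0], [4, 12, 7, 1], [4, 12, 7, 5], [4, 12, 8, 0], [4, 12, 8, 4], [4, 12, 8, 5], [4, 12, 8, 13], [4, 13, 1, 4], [4, 13, 1,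 7], [4, 13, 1, 9], [4, 13, 1, 10], [4, 13, 1, 11], [4, 13, 1, 12], [4, 13, 1, 15], [4, 13, 1, 16], [4, 13, 1, 17], [4, 13, 1, 18], [4, 13, 1, 20], [4, 13, 3, 0], [4, 13, 11, 1], [4, 13, 16, 7], [4, 14, 0, 1], [4, 14, 1, 0], [4, 14, 1, 4], [4, 14, 1, 7], [4, 14, 1, 9], [4, 14, 1, 10], [4, 14, 1, 13], [4, 14, 1, 15], [4, 14, 1, 16], [4, 14, 1, 20], [4, 14, 1, 21], [4, 14, 21, 0], [4, 14, 22, 4], [4, 14, 22, 5], [4, 15, 0, 0], [4, 15, 0, 1], [4, 15, 1, 0], [4, 15, 1, 8], [4, 15, 1, 9], [4, 15, 1, 10], [4, 15, 1, 11], [4, 15, 1, 12], [4, 15, 1, 14], [4, 15, 1, 16], [4, 15, 1, 20], [4, 15, 1, 24], [4, 15, 4, 1], [4, 15, 4, 3], [4, 15, 4, 4], [4, 15, 4, 5], [4, 15, 4, 8], [4, 15, 4, 10], [4, 15, 4, 11], [4, 15, 4, 12], [4, 15, 4, 14],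 [4, 15, 4, 16], [4, 15, 4, 20], [4, 15, 4, 21], [4, 15, 4, 23], [4, 15, 4, 24], [4, 15, 5, 0], [4, 15, 5, 3], [4, 15, 5, 4], [4, 15, 5, 5], [4, 15, 5, 7], [4, 15, 5, 13], [4, 15, 5, 14], [4, 15, 5, 15], [4, 15, 5, 19], [4, 15, 5, 21], [4, 15, 15, 0], [4, 15, 15, 4], [4, 15, 17, 0], [4, 15, 17, 4], [4, 15, 22, 0], [4, 15, 22, 5], [4, 17, 0, 1], [4, 17, 0, 7], [4, 17, 0, 8], [4, 17, 0, 9], [4, 17, 0, 10], [4, 17, 0, 12], [4, 17, 0, 17], [4, 17, 0, 18], [4, 17, 0, 20], [4, 17, 0, 21], [4, 17, 4, 4], [4, 17, 4, 9], [4, 17, 4, 22], [4, 17, 4, 24], [4, 17, 5, 3], [4, 17, 5, 4], [4, 17, 5, 7], [4, 17, 5, 11], [4, 17, 5, 14], [4, 17, 5, 18], [4, 17, 5, 19], [4, 17, 5, 20], [4, 17, 5, 22], [4, 17, 5, 23], [4, 17, 15, 0], [4, 17, 21, 1],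 [4, 17, 23, 1], [4, 19, 0, 1], [4, 19, 0, 7], [4, 19, 0, 8], [4, 19, 0, 13], [4, 19, 0, 15], [4, 19, 0, 17], [4, 19, 0, 19], [4, 19, 0, 20], [4, 19, 0, 21], [4, 19, 0, 23], [4, 19, 0, 24], [4, 19, 1, 0], [4, 19, 1, 4], [4, 19, 1, 8], [4, 19, 1, 9], [4, 19, 1, 11], [4, 19, 1, 16], [4, 19, 1, 19], [4, 19, 1, 21], [4, 19, 1, 23], [4, 19, 10, 0], [4, 19, 10, 1], [4, 19, 10, 4], [4, 19, 12, 0], [4, 19, 12, 1], [4, 20, 0, 0], [4, 20, 0, 1], [4, 20, 0, 5], [4, 20, 0, 7], [4, 20, 0, 9], [4, 20, 0, 10], [4, 20, 0, 11], [4, 20, 0, 12], [4, 20, 0, 13], [4, 20, 0, 14], [4, 20, 0, 15], [4, 20, 0, 18], [4, 20, 0, 19], [4, 20, 0, 20], [4, 20, 0, 24], [4, 20, 7, 1], [4, 20, 7, 5], [4, 20, 16, 5], [4, 21, 0, 1], [4, 21, 0, 7], [4, 21, 0, 9],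 [4, 21, 0, 10], [4, 21, 0, 11], [4, 21, 0, 12], [4, 21, 0, 13], [4, 21, 0, 15], [4, 21, 0, 17], [4, 21, 0, 18], [4, 21, 0, 20], [4, 21, 0, 21], [4, 21, 0, 22], [4, 21, 0, 23], [4, 21, 0, 24], [4, 21, 8, 0], [4, 21, 8, 4], [4, 21, 8, 5], [4, 22, 0, 1], [4, 22, 0, 8], [4, 22, 0, 10], [4, 22, 0, 11], [4, 22, 0, 15], [4, 22, 0, 16], [4, 22, 0, 17], [4, 22, 0, 18], [4, 22, 0, 19], [4, 22, 0, 20], [4, 22, 0, 21], [4, 22, 0, 22], [4, 22, 0, 23], [4, 22, 1, 0], [4, 22, 7, 0], [4, 22, 7, 4], [4, 22, 9, 0], [4, 22, 9, 4], [4, 22, 9, 5], [4, 22, 12, 0], [4, 22, 12, 1], [4, 22, 15, 0], [4, 22, 15, 1], [4, 22, 16, 0], [4, 22, 16, 4], [4, 23, 0, 3], [4, 23, 0, 7], [4, 23, 0, 8], [4, 23, 0, 15], [4, 23, 0, 17], [4, 23, 0, 18], [4, 23, 0, 19],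 [4, 23, 0, 21], [4, 23, 0, 22], [4, 23, 0, 23], [4, 23, 0, 24], [4, 23, 3, 1], [4, 23, 3, 4], [4, 23, 3, 5], [4, 23, 4, 7], [4, 23, 4, 8], [4, 23, 4, 9], [4, 23, 4, 12], [4, 23, 4, 13], [4, 23, 4, 16], [4, 23, 4, 18], [4, 23, 4, 20], [4, 23, 5, 4], [4, 23, 5, 8], [4, 23, 5, 9], [4, 23, 5, 10], [4, 23, 5, 12], [4, 23, 5, 15], [4, 23, 5, 16], [4, 23, 5, 17], [4, 23, 5, 18], [4, 23, 5, 22], [4, 23, 10, 0], [4, 23, 11, 0], [4, 24, 0, 1], [4, 24, 0, 5], [4, 24, 0, 7], [4, 24, 0, 9], [4, 24, 0, 10], [4, 24, 0, 13], [4, 24, 0, 14], [4, 24, 0, 15], [4, 24, 0, 21], [4, 24, 0, 24], [4, 24, 1, 0], [4, 24, 1, 4], [4, 24, 1, 11], [4, 24, 1, 12], [4, 24, 1, 14], [4, 24, 1, 17], [4, 24, 1, 20], [4, 24, 1, 21], [4, 24, 1, 22], [4, 24, 1, 23],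 [4, 24, 1, 24], [4, 24, 13, 4], [0, 0, 0, 3, 0], [0, 0, 0, 3, 1], [0, 0, 0, 8, 0], [0, 0, 0, 8, 1], [0, 0, 0, 15, 0], [0, 0, 0, 16, 0], [0, 0, 1, 10, 0], [0, 0, 1, 16, 0], [0, 0, 7, 0, 0], [0, 0, 7, 0, 1], [0, 0, 7, 0, 9], [0, 0, 7, 0, 10], [0, 0, 7, 0, 17], [0, 0, 7, 0, 19], [0, 0, 7, 0, 20], [0, 0, 7, 0, 21], [0, 0, 7, 1, 10], [0, 0, 7, 1, 14], [0, 0, 7, 1, 17], [0, 0, 7, 1, 24], [0, 0, 7, 4, 1], [0, 0, 7, 4, 4], [0, 0, 7, 4, 7], [0, 0, 7, 4, 9], [0, 0, 7, 4, 15], [0, 0, 7, 5, 0], [0, 0, 7, 5, 4], [0, 0, 7, 5, 8], [0, 0, 7, 5, 10], [0, 0, 7, 5, 14], [0, 0, 7, 5, 15], [0, 0, 7, 5, 23], [0, 0, 7, 9, 1], [0, 0, 7, 9, 5], [0, 0, 7, 10, 0], [0, 0, 7, 10, 1], [0, 0, 8, 0, 5], [0, 0, 8, 0, 7], [0, 0, 8, 0, 9], [0, 0, 8, 0, 11], [0,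 0, 8, 0, 12], [0, 0, 8, 0, 13], [0, 0, 8, 0, 14], [0, 0, 8, 0, 19], [0, 0, 8, 0, 20], [0, 0, 8, 0, 21], [0, 0, 8, 0, 22], [0, 0, 8, 0, 23], [0, 0, 8, 1, 4], [0, 0, 8, 1, 9], [0, 0, 8, 1, 12], [0, 0, 8, 1, 13], [0, 0, 8, 1, 17], [0, 0, 8, 1, 18], [0, 0, 8, 1, 19], [0, 0, 8, 1, 21], [0, 0, 8, 1, 22], [0, 0, 8, 4, 1], [0, 0, 8, 4, 4], [0, 0, 8, 4, 7], [0, 0, 8, 4, 14], [0, 0, 8, 4, 17], [0, 0, 8, 4, 18], [0, 0, 8, 4, 22], [0, 0, 8, 5, 4], [0, 0, 8, 5, 10], [0, 0, 8, 5, 13], [0, 0, 8, 5, 16], [0, 0, 8, 5, 22], [0, 0, 8, 5, 23], [0, 0, 8, 8, 0], [0, 0, 8, 8, 1], [0, 0, 8, 10, 0], [0, 0, 8, 21, 0], [0, 0, 8, 23, 0], [0, 0, 9, 3, 0], [0, 0, 9, 4, 3], [0, 0, 9, 4, 4], [0, 0, 9, 4, 9], [0, 0, 9, 4, 16], [0, 0, 9, 4, 17], [0, 0, 9, 4,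 22], [0, 0, 9, 5, 3], [0, 0, 9, 5, 4], [0, 0, 9, 5, 7], [0, 0, 9, 5, 8], [0, 0, 9, 5, 14], [0, 0, 9, 5, 23], [0, 0, 9, 21, 0], [0, 0, 9, 21, 4], [0, 0, 10, 1, 4], [0, 0, 10, 1, 8], [0, 0, 10, 1, 9], [0, 0, 10, 1, 16], [0, 0, 10, 1, 18], [0, 0, 10, 1, 20], [0, 0, 10, 1, 21], [0, 0, 10, 1, 22], [0, 0, 10, 4, 3], [0, 0, 10, 4, 4], [0, 0, 10, 4, 10], [0, 0, 10, 4, 18], [0, 0, 10, 5, 10], [0, 0, 10, 5, 14], [0, 0, 10, 5, 21], [0, 0, 10, 23, 4], [0, 0, 10, 23, 5], [0, 0, 11, 1, 4], [0, 0, 12, 1, 4], [0, 0, 12, 1, 8], [0, 0, 12, 1, 15], [0, 0, 12, 1, 17], [0, 0, 12, 3, 0], [0, 0, 12, 24, 0], [0, 0, 13, 1, 4], [0, 0, 13, 1, 11], [0, 0, 13, 1, 14], [0, 0, 13, 1, 18], [0, 0, 13, 1, 19], [0, 0, 13, 4, 11], [0, 0, 13, 4, 15], [0, 0, 13,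 5, 4], [0, 0, 13, 5, 17], [0, 0, 14, 1, 7], [0, 0, 14, 1, 12], [0, 0, 14, 1, 16], [0, 0, 14, 4, 4], [0, 0, 14, 5, 10], [0, 0, 14, 5, 13], [0, 0, 14, 5, 16], [0, 0, 15, 1, 9], [0, 0, 15, 1, 13], [0, 0, 15, 1, 14], [0, 0, 16, 0, 0], [0, 0, 16, 0, 5], [0, 0, 16, 0, 7], [0, 0, 16, 0, 8], [0, 0, 16, 0, 9], [0, 0, 16, 0, 10], [0, 0, 16, 0, 12], [0, 0, 16, 0, 13], [0, 0, 16, 0, 14], [0, 0, 16, 0, 15], [0, 0, 16, 0, 17], [0, 0, 16, 0, 21], [0, 0, 16, 0, 22], [0, 0, 16, 0, 23], [0, 0, 16, 9, 5], [0, 0, 16, 16, 0], [0, 0, 16, 16, 5], [0, 0, 17, 0, 0], [0, 0, 17, 0, 7], [0, 0, 17, 0, 8], [0, 0, 17, 0, 9], [0, 0, 17, 0, 11], [0, 0, 17, 0, 13], [0, 0, 17, 0, 14], [0, 0, 17, 0, 15], [0, 0, 17, 0, 16], [0, 0, 17, 0, 18], [0, 0, 17, 0, 19],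 [0, 0, 17, 0, 21], [0, 0, 17, 0, 22], [0, 0, 17, 1, 19], [0, 0, 17, 1, 20], [0, 0, 17, 4, 8], [0, 0, 17, 5, 0], [0, 0, 17, 5, 4], [0, 0, 17, 9, 0], [0, 0, 18, 0, 0], [0, 0, 18, 0, 1], [0, 0, 18, 0, 5], [0, 0, 18, 0, 8], [0, 0, 18, 0, 11], [0, 0, 18, 0, 14], [0, 0, 18, 0, 17], [0, 0, 18, 0, 19], [0, 0, 18, 0, 20], [0, 0, 18, 0, 21], [0, 0, 18, 0, 22], [0, 0, 18, 1, 0], [0, 0, 18, 1, 10], [0, 0, 18, 4, 8], [0, 0, 18, 4, 15], [0, 0, 18, 4, 17], [0, 0, 18, 5, 0], [0, 0, 18, 5, 4], [0, 0, 18, 5, 8], [0, 0, 18, 5, 12], [0, 0, 18, 5, 14], [0, 0, 19, 1, 16], [0, 0, 19, 4, 18], [0, 0, 19, 4, 19], [0, 0, 20, 4, 7], [0, 0, 20, 4, 15], [0, 0, 20, 4, 18], [0, 0, 20, 4, 21], [0, 0, 20, 5, 4], [0, 0, 20, 5, 7], [0, 0, 20, 9, 0], [0, 0, 21,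 4, 9], [0, 0, 21, 4, 23], [0, 0, 21, 5, 7], [0, 0, 21, 5, 9], [0, 0, 21, 5, 23], [0, 5, 0, 17, 0], [0, 5, 0, 17, 5], [0, 5, 0, 18, 0], [0, 5, 3, 0, 0], [0, 5, 3, 0, 5], [0, 5, 3, 0, 9], [0, 5, 3, 0, 10], [0, 5, 3, 0, 17], [0, 5, 3, 0, 18], [0, 5, 3, 0, 20], [0, 5, 3, 1, 8], [0, 5, 3, 1, 9], [0, 5, 3, 1, 10], [0, 5, 3, 1, 11], [0, 5, 3, 1, 15], [0, 5, 3, 1, 17], [0, 5, 3, 1, 18], [0, 5, 3, 1, 20], [0, 5, 3, 1, 21], [0, 5, 3, 1, 23], [0, 5, 3, 21, 0], [0, 5, 5, 7, 4], [0, 5, 5, 9, 0], [0, 5, 5, 17, 0], [0, 5, 7, 0, 0], [0, 5, 7, 0, 1], [0, 5, 7, 0, 7], [0, 5, 7, 0, 17], [0, 5, 7, 0, 18], [0, 5, 7, 0, 22], [0, 5, 7, 0, 24], [0, 5, 7, 1, 0], [0, 5, 7, 1, 14], [0, 5, 7, 1, 20], [0, 5, 7, 4, 1], [0, 5, 7, 4, 3], [0, 5, 7, 4, 7], [0,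 5, 7, 4, 13], [0, 5, 7, 5, 0], [0, 5, 7, 5, 24], [0, 5, 8, 0, 0], [0, 5, 8, 0, 5], [0, 5, 8, 0, 7], [0, 5, 8, 0, 10], [0, 5, 8, 0, 16], [0, 5, 8, 0, 21], [0, 5, 8, 0, 23], [0, 5, 8, 4, 4], [0, 5, 8, 5, 4], [0, 5, 8, 5, 10], [0, 5, 8, 5, 11], [0, 5, 8, 5, 14], [0, 5, 8, 5, 22], [0, 5, 9, 0, 0], [0, 5, 9, 4, 4], [0, 5, 9, 5, 0], [0, 5, 9, 5, 4], [0, 5, 10, 4, 3], [0, 5, 10, 4, 4], [0, 5, 10, 5, 0], [0, 5, 10, 5, 4], [0, 5, 10, 5, 13], [0, 5, 11, 4, 20], [0, 5, 11, 5, 0], [0, 5, 12, 5, 4], [0, 5, 13, 0, 9], [0, 5, 13, 0, 10], [0, 5, 13, 0, 13], [0, 5, 13, 0, 15], [0, 5, 13, 0, 17], [0, 5, 13, 0, 18], [0, 5, 13, 0, 19], [0, 5, 13, 0, 23], [0, 5, 13, 1, 4], [0, 5, 13, 1, 16], [0, 5, 13, 7, 0], [0, 5, 14, 0, 0], [0, 5, 14, 0, 1], [0,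 5, 14, 0, 7], [0, 5, 14, 0, 14], [0, 5, 14, 0, 15], [0, 5, 14, 0, 18], [0, 5, 14, 0, 22], [0, 5, 14, 4, 4], [0, 5, 14, 4, 8], [0, 5, 14, 5, 4], [0, 5, 15, 1, 15], [0, 5, 15, 11, 0], [0, 5, 15, 21, 0], [0, 5, 16, 0, 0], [0, 5, 16, 0, 5], [0, 5, 16, 0, 8], [0, 5, 16, 0, 18], [0, 5, 16, 0, 21], [0, 5, 16, 0, 22], [0, 5, 16, 4, 4], [0, 5, 16, 5, 4], [0, 5, 16, 5, 20], [0, 5, 16, 19, 0], [0, 5, 17, 4, 4], [0, 5, 17, 4, 19], [0, 5, 17, 5, 4], [0, 5, 17, 5, 23], [0, 5, 18, 5, 4], [0, 5, 20, 0, 0], [0, 5, 20, 0, 8], [0, 5, 20, 0, 10], [0, 5, 20, 0, 11], [0, 5, 20, 0, 17], [0, 5, 20, 0, 18], [0, 5, 20, 0, 19], [0, 5, 20, 0, 20], [0, 5, 20, 0, 22], [0, 5, 20, 0, 23], [0, 5, 20, 0, 24], [0, 5, 20, 4, 7], [0, 5, 21, 1, 4], [0, 5, 21, 1,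 7], [0, 5, 21, 12, 0], [0, 5, 23, 0, 7], [0, 5, 23, 0, 8], [0, 5, 23, 0, 10], [0, 5, 23, 0, 15], [0, 5, 23, 0, 16], [0, 5, 23, 0, 17], [0, 5, 23, 0, 18], [0, 5, 23, 0, 19], [0, 5, 23, 0, 20], [4, 1, 3, 0, 1], [4, 1, 3, 0, 8], [4, 1, 3, 0, 13], [4, 1, 3, 0, 14], [4, 1, 3, 0, 16], [4, 1, 3, 0, 20], [4, 1, 3, 0, 23], [4, 1, 8, 0, 0], [4, 1, 8, 0, 1], [4, 1, 8, 0, 5], [4, 1, 8, 0, 16], [4, 1, 8, 0, 18], [4, 1, 8, 5, 0], [4, 1, 8, 5, 4], [4, 1, 8, 5, 13], [4, 1, 9, 15, 0], [4, 1, 10, 0, 1], [4, 1, 10, 0, 5], [4, 1, 10, 0, 15], [4, 1, 10, 1, 0], [4, 1, 10, 1, 4], [4, 1, 11, 0, 7], [4, 1, 11, 0, 9], [4, 1, 11, 0, 16], [4, 1, 11, 0, 17], [4, 1, 11, 0, 18], [4, 1, 12, 0, 8], [4, 1, 12, 0, 15], [4, 1, 12, 0, 18], [4, 1, 12, 1, 4], [4,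 1, 12, 4, 4], [4, 1, 12, 5, 4], [4, 1, 15, 1, 8], [4, 1, 15, 1, 9], [4, 1, 15, 1, 10], [4, 1, 15, 1, 16], [4, 1, 15, 1, 21], [4, 1, 15, 5, 4], [4, 1, 15, 5, 13], [4, 1, 15, 5, 20], [4, 1, 16, 0, 8], [4, 1, 16, 0, 9], [4, 1, 16, 0, 17], [4, 1, 19, 0, 10], [4, 1, 19, 0, 11], [4, 1, 19, 0, 14], [4, 1, 19, 0, 21], [4, 1, 20, 4, 16], [4, 1, 24, 5, 0], [4, 3, 0, 0, 0], [4, 3, 0, 0, 1], [4, 3, 0, 0, 3], [4, 3, 0, 0, 7], [4, 3, 0, 0, 8], [4, 3, 0, 0, 9], [4, 3, 0, 0, 10], [4, 3, 0, 0, 11], [4, 3, 0, 0, 12], [4, 3, 0, 0, 13], [4, 3, 0, 0, 14], [4, 3, 0, 0, 15], [4, 3, 0, 0, 16], [4, 3, 0, 0, 18], [4, 3, 0, 0, 19], [4, 3, 0, 0, 20], [4, 3, 0, 0, 21], [4, 3, 0, 0, 22], [4, 3, 0, 1, 0], [4, 3, 0, 1, 1], [4, 3, 0, 1, 3], [4, 3, 0, 1, 7],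 [4, 3, 0, 1, 8], [4, 3, 0, 1, 9], [4, 3, 0, 1, 10], [4, 3, 0, 1, 11], [4, 3, 0, 1, 12], [4, 3, 0, 1, 13], [4, 3, 0, 1, 14], [4, 3, 0, 1, 15], [4, 3, 0, 1, 16], [4, 3, 0, 1, 17], [4, 3, 0, 1, 18], [4, 3, 0, 1, 19], [4, 3, 0, 1, 20], [4, 3, 0, 1, 21], [4, 3, 0, 1, 22], [4, 3, 0, 1, 23], [4, 3, 0, 5, 0], [4, 3, 0, 5, 3], [4, 3, 0, 5, 5], [4, 3, 0, 5, 16], [4, 3, 0, 5, 20], [4, 3, 0, 5, 22], [4, 3, 0, 7, 0], [4, 3, 0, 7, 1], [4, 3, 0, 7, 5], [4, 3, 0, 7, 15], [4, 3, 0, 7, 16], [4, 3, 0, 7, 17], [4, 3, 0, 7, 23], [4, 3, 0, 8, 0], [4, 3, 0, 8, 1], [4, 3, 0, 8, 5], [4, 3, 0, 8, 21], [4, 3, 0, 9, 5], [4, 3, 0, 9, 17], [4, 3, 0, 13, 1], [4, 3, 0, 13, 5], [4, 3, 0, 14, 0], [4, 3, 0, 14, 1], [4, 3, 0, 14, 5], [4, 3, 0, 15, 1], [4, 3, 0,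 16, 0], [4, 3, 0, 16, 1], [4, 3, 0, 16, 4], [4, 3, 0, 16, 5], [4, 3, 0, 17, 0], [4, 3, 0, 17, 1], [4, 3, 0, 17, 5], [4, 3, 0, 20, 5], [4, 3, 1, 0, 1], [4, 3, 1, 0, 5], [4, 3, 1, 0, 9], [4, 3, 1, 0, 21], [4, 3, 1, 1, 0], [4, 3, 1, 1, 4], [4, 3, 1, 1, 15], [4, 3, 1, 7, 4], [4, 3, 1, 9, 4], [4, 3, 1, 10, 0], [4, 3, 1, 10, 4], [4, 3, 1, 13, 4], [4, 3, 1, 14, 4], [4, 3, 1, 16, 4], [4, 3, 1, 18, 0], [4, 3, 1, 20, 4], [4, 3, 1, 22, 4], [4, 3, 1, 24, 0], [4, 3, 1, 24, 4], [4, 3, 5, 0, 0], [4, 3, 5, 0, 5], [4, 3, 5, 0, 11], [4, 3, 5, 0, 17], [4, 3, 7, 5, 4], [4, 3, 9, 0, 1], [4, 3, 9, 0, 7], [4, 3, 9, 0, 16], [4, 3, 9, 0, 17], [4, 3, 9, 0, 21], [4, 3, 9, 5, 4], [4, 3, 12, 0, 1], [4, 3, 12, 0, 5], [4, 3, 12, 0, 7], [4, 3, 12, 0, 14], [4,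 3, 12, 4, 4], [4, 3, 13, 0, 0], [4, 3, 13, 0, 1], [4, 3, 13, 0, 11], [4, 3, 13, 0, 16], [4, 3, 13, 0, 21], [4, 3, 13, 0, 22], [4, 3, 13, 0, 23], [4, 3, 13, 4, 4], [4, 3, 13, 5, 0], [4, 3, 13, 5, 4], [4, 3, 14, 0, 0], [4, 3, 14, 0, 8], [4, 3, 14, 0, 9], [4, 3, 14, 0, 11], [4, 3, 14, 0, 15], [4, 3, 14, 0, 18], [4, 3, 14, 0, 21], [4, 3, 15, 0, 8], [4, 3, 15, 0, 17], [4, 3, 15, 0, 18], [4, 3, 15, 0, 20], [4, 3, 19, 4, 4], [4, 3, 19, 4, 9], [4, 3, 19, 4, 11], [4, 3, 19, 4, 12], [4, 3, 20, 0, 17], [4, 3, 20, 4, 4], [4, 3, 20, 5, 4], [4, 3, 22, 0, 0], [4, 3, 22, 0, 1], [4, 3, 22, 0, 15], [4, 3, 22, 0, 22], [4, 3, 22, 4, 4], [4, 3, 22, 5, 0], [4, 3, 22, 5, 4], [4, 3, 24, 0, 0], [4, 3, 24, 0, 1], [4, 3, 24, 0, 22], [4, 3, 24, 5, 4], [4,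 5, 7, 0, 0], [4, 5, 7, 0, 11], [4, 5, 7, 0, 14], [4, 5, 7, 0, 21], [4, 5, 7, 0, 22], [4, 5, 7, 0, 23], [4, 5, 7, 4, 4], [4, 5, 7, 5, 4], [4, 5, 7, 10, 0], [4, 5, 8, 0, 0], [4, 5, 8, 0, 12], [4, 5, 8, 0, 17], [4, 5, 8, 0, 20], [4, 5, 8, 0, 22], [4, 5, 8, 0, 24], [4, 5, 8, 1, 4], [4, 5, 8, 4, 4], [4, 5, 8, 4, 7], [4, 5, 8, 4, 8], [4, 5, 8, 4, 9], [4, 5, 8, 5, 4], [4, 5, 12, 5, 4], [4, 5, 16, 0, 0], [4, 5, 16, 0, 1], [4, 5, 16, 0, 13], [4, 5, 16, 0, 18], [4, 5, 16, 4, 4], [4, 5, 16, 5, 4], [4, 5, 17, 0, 0], [4, 5, 17, 0, 1], [4, 5, 17, 0, 21], [4, 5, 17, 1, 0], [4, 5, 17, 5, 4], [4, 5, 18, 0, 0], [4, 5, 18, 0, 1], [4, 5, 23, 0, 0], [4, 5, 23, 0, 9], [4, 5, 23, 5, 4], [4, 7, 0, 0, 0], [4, 7, 0, 0, 1], [4, 7, 0, 0, 3], [4, 7, 0, 0,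 7], [4, 7, 0, 0, 8], [4, 7, 0, 0, 9], [4, 7, 0, 0, 10], [4, 7, 0, 0, 11], [4, 7, 0, 0, 12], [4, 7, 0, 0, 13], [4, 7, 0, 0, 14], [4, 7, 0, 0, 15], [4, 7, 0, 0, 16], [4, 7, 0, 0, 17], [4, 7, 0, 0, 18], [4, 7, 0, 0, 19], [4, 7, 0, 0, 20], [4, 7, 0, 0, 21], [4, 7, 0, 0, 22], [4, 7, 0, 0, 24], [4, 7, 0, 1, 0], [4, 7, 0, 1, 1], [4, 7, 0, 1, 3], [4, 7, 0, 1, 8], [4, 7, 0, 1, 9], [4, 7, 0, 1, 10], [4, 7, 0, 1, 11], [4, 7, 0, 1, 12], [4, 7, 0, 1, 13], [4, 7, 0, 1, 14], [4, 7, 0, 1, 15], [4, 7, 0, 1, 17], [4, 7, 0, 1, 18], [4, 7, 0, 1, 19], [4, 7, 0, 1, 20], [4, 7, 0, 1, 21], [4, 7, 0, 1, 22], [4, 7, 0, 1, 23], [4, 7, 0, 3, 7], [4, 7, 0, 3, 10], [4, 7, 0, 5, 0], [4, 7, 0, 5, 5], [4, 7, 0, 5, 8], [4, 7, 0, 5, 12], [4, 7, 0, 5, 16], [4,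 7, 0, 5, 24], [4, 7, 0, 8, 0], [4, 7, 0, 8, 9], [4, 7, 0, 8, 12], [4, 7, 0, 8, 21], [4, 7, 0, 10, 0], [4, 7, 0, 10, 1], [4, 7, 0, 10, 5], [4, 7, 0, 13, 0], [4, 7, 0, 13, 1], [4, 7, 0, 13, 3], [4, 7, 0, 13, 5], [4, 7, 0, 13, 15], [4, 7, 0, 15, 1], [4, 7, 0, 15, 19], [4, 7, 0, 16, 0], [4, 7, 0, 16, 1], [4, 7, 0, 16, 5], [4, 7, 0, 16, 10], [4, 7, 0, 16, 18], [4, 7, 0, 17, 0], [4, 7, 0, 17, 1], [4, 7, 0, 17, 3], [4, 7, 0, 17, 5], [4, 7, 0, 17, 7], [4, 7, 0, 18, 0], [4, 7, 0, 18, 1], [4, 7, 0, 18, 13], [4, 7, 0, 18, 15], [4, 7, 0, 19, 0], [4, 7, 0, 19, 1], [4, 7, 0, 19, 5], [4, 7, 0, 19, 7], [4, 7, 0, 19, 9], [4, 7, 0, 21, 0], [4, 7, 0, 21, 5], [4, 7, 0, 21, 9], [4, 7, 0, 21, 12], [4, 7, 0, 22, 1], [4, 7, 0, 23, 5], [4, 7, 0, 23,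 7], [4, 7, 0, 24, 17], [4, 7, 0, 24, 21], [4, 7, 1, 0, 5], [4, 7, 1, 0, 13], [4, 7, 1, 4, 5], [4, 7, 1, 7, 4], [4, 7, 1, 7, 7], [4, 7, 1, 7, 13], [4, 7, 1, 8, 4], [4, 7, 1, 9, 4], [4, 7, 1, 10, 4], [4, 7, 1, 13, 4], [4, 7, 1, 16, 4], [4, 7, 1, 18, 4], [4, 7, 1, 21, 4], [4, 7, 1, 21, 7], [4, 7, 4, 1, 4], [4, 7, 4, 3, 4], [4, 7, 4, 4, 1], [4, 7, 4, 4, 3], [4, 7, 4, 4, 7], [4, 7, 4, 4, 8], [4, 7, 4, 4, 10], [4, 7, 4, 4, 11], [4, 7, 4, 4, 12], [4, 7, 4, 4, 13], [4, 7, 4, 4, 14], [4, 7, 4, 4, 15], [4, 7, 4, 4, 16], [4, 7, 4, 4, 17], [4, 7, 4, 4, 18], [4, 7, 4, 4, 19], [4, 7, 4, 4, 20], [4, 7, 4, 4, 21], [4, 7, 4, 4, 22], [4, 7, 4, 4, 23], [4, 7, 4, 4, 24], [4, 7, 4, 5, 4], [4, 7, 4, 7, 4], [4, 7, 4, 9, 4], [4, 7, 4, 15, 4], [4, 7,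 4, 16, 4], [4, 7, 4, 18, 4], [4, 7, 4, 20, 4], [4, 7, 5, 0, 5], [4, 7, 5, 0, 15], [4, 7, 5, 7, 4], [4, 7, 5, 9, 4], [4, 7, 5, 10, 4], [4, 7, 5, 12, 4], [4, 7, 5, 13, 4], [4, 7, 5, 14, 4], [4, 7, 5, 16, 4], [4, 7, 5, 20, 4], [4, 7, 5, 21, 4], [4, 7, 5, 22, 4], [4, 7, 7, 5, 4], [4, 7, 9, 0, 1], [4, 7, 10, 0, 8], [4, 7, 10, 0, 14], [4, 7, 11, 0, 1], [4, 7, 11, 4, 4], [4, 7, 12, 0, 1], [4, 7, 12, 1, 0], [4, 7, 17, 0, 1], [4, 7, 18, 0, 1], [4, 7, 18, 0, 8], [4, 8, 0, 0, 0], [4, 8, 0, 0, 3], [4, 8, 0, 0, 7], [4, 8, 0, 0, 8], [4, 8, 0, 0, 9], [4, 8, 0, 0, 10], [4, 8, 0, 0, 11], [4, 8, 0, 0, 12], [4, 8, 0, 0, 13], [4, 8, 0, 0, 14], [4, 8, 0, 0, 15], [4, 8, 0, 0, 16], [4, 8, 0, 0, 17], [4, 8, 0, 0, 18], [4, 8, 0, 0, 20], [4, 8, 0, 0,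 21], [4, 8, 0, 0, 22], [4, 8, 0, 1, 1], [4, 8, 0, 1, 3], [4, 8, 0, 1, 7], [4, 8, 0, 1, 8], [4, 8, 0, 1, 9], [4, 8, 0, 1, 10], [4, 8, 0, 1, 11], [4, 8, 0, 1, 12], [4, 8, 0, 1, 14], [4, 8, 0, 1, 15], [4, 8, 0, 1, 17], [4, 8, 0, 1, 18], [4, 8, 0, 1, 19], [4, 8, 0, 1, 20], [4, 8, 0, 1, 21], [4, 8, 0, 1, 22], [4, 8, 0, 1, 23], [4, 8, 0, 1, 24], [4, 8, 0, 5, 0], [4, 8, 0, 5, 5], [4, 8, 0, 5, 15], [4, 8, 0, 7, 3], [4, 8, 0, 7, 5], [4, 8, 0, 7, 7], [4, 8, 0, 8, 0], [4, 8, 0, 8, 1], [4, 8, 0, 9, 0], [4, 8, 0, 9, 1], [4, 8, 0, 9, 5], [4, 8, 0, 9, 13], [4, 8, 0, 10, 3], [4, 8, 0, 10, 5], [4, 8, 0, 10, 15], [4, 8, 0, 11, 0], [4, 8, 0, 11, 1], [4, 8, 0, 11, 5], [4, 8, 0, 12, 0], [4, 8, 0, 12, 1], [4, 8, 0, 12, 5], [4, 8, 0, 12, 20], [4, 8,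 0, 13, 0], [4, 8, 0, 13, 1], [4, 8, 0, 13, 19], [4, 8, 0, 14, 0], [4, 8, 0, 14, 3], [4, 8, 0, 14, 5], [4, 8, 0, 16, 0], [4, 8, 0, 16, 1], [4, 8, 0, 16, 5], [4, 8, 0, 17, 5], [4, 8, 0, 17, 13], [4, 8, 0, 18, 5], [4, 8, 0, 19, 3], [4, 8, 0, 19, 5], [4, 8, 0, 20, 1], [4, 8, 0, 20, 8], [4, 8, 0, 20, 16], [4, 8, 0, 21, 1], [4, 8, 0, 21, 5], [4, 8, 0, 22, 5], [4, 8, 0, 22, 16], [4, 8, 0, 24, 0], [4, 8, 0, 24, 5], [4, 8, 0, 24, 14], [4, 8, 1, 0, 1], [4, 8, 1, 0, 5], [4, 8, 1, 4, 5], [4, 8, 1, 7, 4], [4, 8, 1, 10, 4], [4, 8, 1, 13, 4], [4, 8, 1, 14, 4], [4, 8, 1, 16, 4], [4, 8, 1, 17, 4], [4, 8, 1, 18, 0], [4, 8, 1, 20, 4], [4, 8, 1, 24, 4], [4, 8, 3, 5, 4], [4, 8, 4, 1, 4], [4, 8, 4, 3, 4], [4, 8, 4, 4, 3], [4, 8, 4, 4, 7], [4, 8, 4,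 4, 8], [4, 8, 4, 4, 10], [4, 8, 4, 4, 11], [4, 8, 4, 4, 12], [4, 8, 4, 4, 13], [4, 8, 4, 4, 14], [4, 8, 4, 4, 15], [4, 8, 4, 4, 16], [4, 8, 4, 4, 17], [4, 8, 4, 4, 18], [4, 8, 4, 4, 19], [4, 8, 4, 4, 20], [4, 8, 4, 4, 21], [4, 8, 4, 4, 22], [4, 8, 4, 4, 23], [4, 8, 4, 4, 24], [4, 8, 4, 5, 4], [4, 8, 4, 7, 4], [4, 8, 4, 12, 4], [4, 8, 4, 14, 4], [4, 8, 4, 18, 4], [4, 8, 4, 24, 4], [4, 8, 5, 0, 3], [4, 8, 5, 0, 5], [4, 8, 5, 4, 5], [4, 8, 5, 4, 13], [4, 8, 5, 4, 14], [4, 8, 5, 4, 16], [4, 8, 5, 8, 4], [4, 8, 5, 10, 4], [4, 8, 5, 12, 4], [4, 8, 5, 13, 4], [4, 8, 5, 16, 4], [4, 8, 5, 18, 4], [4, 8, 5, 19, 0], [4, 8, 5, 19, 4], [4, 8, 5, 22, 4], [4, 8, 17, 0, 0], [4, 8, 17, 4, 4], [4, 8, 18, 0, 0], [4, 8, 19, 4, 4], [4, 8, 19, 5,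 0], [4, 8, 19, 5, 4], [4, 8, 21, 0, 0], [4, 8, 21, 4, 4], [4, 9, 4, 4, 4], [4, 9, 7, 0, 1], [4, 9, 7, 5, 4], [4, 9, 8, 0, 0], [4, 9, 8, 0, 13], [4, 9, 8, 0, 14], [4, 9, 8, 4, 4], [4, 9, 8, 5, 4], [4, 9, 11, 4, 4], [4, 9, 14, 0, 1], [4, 9, 20, 0, 0], [4, 9, 20, 4, 4], [4, 9, 22, 4, 4], [4, 9, 23, 4, 4], [4, 10, 7, 0, 21], [4, 10, 8, 0, 0], [4, 10, 14, 0, 1], [4, 10, 14, 5, 4], [4, 10, 18, 0, 1], [4, 10, 22, 4, 4], [4, 10, 23, 0, 0], [4, 10, 23, 5, 4], [4, 11, 0, 0, 15], [4, 11, 16, 5, 4], [4, 11, 17, 0, 1], [4, 11, 17, 0, 11], [4, 11, 17, 0, 14], [4, 11, 23, 5, 4], [4, 12, 3, 0, 9], [4, 12, 5, 0, 0], [4, 12, 7, 0, 0], [4, 12, 7, 0, 1], [4, 12, 7, 5, 4], [4, 12, 8, 0, 0], [4, 12, 8, 0, 1], [4, 12, 8, 4, 4], [4, 12, 8, 5, 4], [4,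 13, 1, 7, 4], [4, 13, 1, 9, 4], [4, 13, 1, 10, 4], [4, 13, 1, 11, 4], [4, 13, 1, 15, 4], [4, 13, 1, 16, 4], [4, 13, 1, 17, 4], [4, 13, 1, 18, 4], [4, 13, 1, 20, 4], [4, 14, 1, 7, 4], [4, 14, 1, 9, 4], [4, 14, 1, 10, 4], [4, 14, 1, 13, 4], [4, 14, 1, 15, 4], [4, 14, 1, 16, 4], [4, 14, 21, 0, 1], [4, 14, 22, 4, 4], [4, 15, 0, 0, 1], [4, 15, 1, 0, 1], [4, 15, 1, 0, 5], [4, 15, 1, 8, 4], [4, 15, 1, 9, 4], [4, 15, 1, 10, 4], [4, 15, 1, 11, 4], [4, 15, 1, 12, 4], [4, 15, 1, 14, 4], [4, 15, 1, 16, 4], [4, 15, 1, 20, 4], [4, 15, 1, 24, 4], [4, 15, 4, 1, 4], [4, 15, 4, 4, 1], [4, 15, 4, 4, 3], [4, 15, 4, 4, 4], [4, 15, 4, 4, 7], [4, 15, 4, 4, 8], [4, 15, 4, 4, 9], [4, 15, 4, 4, 10], [4, 15, 4, 4, 11], [4, 15, 4, 4, 12], [4, 15, 4, 4,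 13], [4, 15, 4, 4, 15], [4, 15, 4, 4, 17], [4, 15, 4, 4, 18], [4, 15, 4, 4, 19], [4, 15, 4, 4, 20], [4, 15, 4, 4, 21], [4, 15, 4, 4, 23], [4, 15, 4, 4, 24], [4, 15, 4, 5, 4], [4, 15, 4, 8, 4], [4, 15, 4, 12, 4], [4, 15, 4, 14, 4], [4, 15, 4, 20, 4], [4, 15, 4, 23, 4], [4, 15, 5, 0, 0], [4, 15, 5, 0, 5], [4, 15, 5, 3, 4], [4, 15, 5, 4, 3], [4, 15, 5, 4, 7], [4, 15, 5, 4, 8], [4, 15, 5, 4, 9], [4, 15, 5, 4, 10], [4, 15, 5, 4, 12], [4, 15, 5, 4, 13], [4, 15, 5, 4, 14], [4, 15, 5, 4, 15], [4, 15, 5, 4, 16], [4, 15, 5, 4, 17], [4, 15, 5, 4, 18], [4, 15, 5, 4, 19], [4, 15, 5, 4, 20], [4, 15, 5, 4, 21], [4, 15, 5, 4, 22], [4, 15, 5, 4, 24], [4, 15, 5, 5, 4], [4, 15, 5, 7, 4], [4, 15, 5, 13, 4], [4, 15, 5, 14, 4], [4, 15, 5, 19, 4],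 [4, 15, 5, 21, 4], [4, 15, 15, 0, 0], [4, 15, 15, 4, 4], [4, 15, 17, 4, 4], [4, 17, 0, 1, 0], [4, 17, 0, 1, 1], [4, 17, 0, 1, 7], [4, 17, 0, 1, 8], [4, 17, 0, 1, 9], [4, 17, 0, 1, 10], [4, 17, 0, 1, 11], [4, 17, 0, 1, 12], [4, 17, 0, 1, 13], [4, 17, 0, 1, 15], [4, 17, 0, 1, 16], [4, 17, 0, 1, 19], [4, 17, 0, 1, 20], [4, 17, 0, 1, 23], [4, 17, 0, 7, 0], [4, 17, 0, 7, 1], [4, 17, 0, 7, 5], [4, 17, 0, 8, 0], [4, 17, 0, 8, 1], [4, 17, 0, 8, 5], [4, 17, 0, 9, 0], [4, 17, 0, 9, 5], [4, 17, 0, 10, 5], [4, 17, 0, 12, 0], [4, 17, 0, 12, 1], [4, 17, 0, 12, 5], [4, 17, 0, 17, 0], [4, 17, 0, 17, 1], [4, 17, 0, 17, 5], [4, 17, 0, 18, 0], [4, 17, 0, 18, 1], [4, 17, 0, 18, 5], [4, 17, 0, 20, 0], [4, 17, 0, 20, 1], [4, 17, 0, 20, 5], [4, 17,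 0, 21, 0], [4, 17, 0, 21, 1], [4, 17, 0, 21, 5], [4, 17, 4, 4, 1], [4, 17, 4, 9, 4], [4, 17, 4, 22, 4], [4, 17, 5, 3, 4], [4, 17, 5, 4, 3], [4, 17, 5, 4, 4], [4, 17, 5, 4, 8], [4, 17, 5, 4, 9], [4, 17, 5, 4, 10], [4, 17, 5, 4, 12], [4, 17, 5, 4, 13], [4, 17, 5, 4, 14], [4, 17, 5, 4, 16], [4, 17, 5, 4, 17], [4, 17, 5, 4, 20], [4, 17, 5, 4, 22], [4, 17, 5, 4, 23], [4, 17, 5, 4, 24], [4, 17, 5, 7, 4], [4, 17, 5, 11, 4], [4, 17, 5, 18, 4], [4, 17, 5, 20, 4], [4, 17, 5, 23, 4], [4, 19, 0, 1, 3], [4, 19, 0, 1, 7], [4, 19, 0, 1, 8], [4, 19, 0, 1, 9], [4, 19, 0, 1, 10], [4, 19, 0, 1, 11], [4, 19, 0, 1, 12], [4, 19, 0, 1, 14], [4, 19, 0, 1, 16], [4, 19, 0, 1, 17], [4, 19, 0, 1, 18], [4, 19, 0, 1, 19], [4, 19, 0, 1, 20], [4, 19, 0, 1,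 21], [4, 19, 0, 1, 22], [4, 19, 0, 1, 23], [4, 19, 0, 7, 1], [4, 19, 0, 7, 5], [4, 19, 0, 8, 0], [4, 19, 0, 8, 1], [4, 19, 0, 8, 5], [4, 19, 0, 13, 0], [4, 19, 0, 13, 1], [4, 19, 0, 13, 5], [4, 19, 0, 13, 21], [4, 19, 0, 15, 0], [4, 19, 0, 15, 5], [4, 19, 0, 17, 5], [4, 19, 0, 19, 1], [4, 19, 0, 20, 1], [4, 19, 0, 21, 0], [4, 19, 0, 21, 5], [4, 19, 0, 23, 5], [4, 19, 1, 0, 5], [4, 19, 1, 9, 4], [4, 19, 1, 11, 4], [4, 19, 1, 16, 4], [4, 19, 1, 19, 4], [4, 19, 1, 21, 4], [4, 19, 1, 23, 4], [4, 19, 10, 0, 0], [4, 19, 10, 0, 1], [4, 20, 0, 0, 3], [4, 20, 0, 0, 7], [4, 20, 0, 0, 8], [4, 20, 0, 0, 9], [4, 20, 0, 0, 10], [4, 20, 0, 0, 11], [4, 20, 0, 0, 12], [4, 20, 0, 0, 14], [4, 20, 0, 0, 15], [4, 20, 0, 0, 16], [4, 20, 0, 0, 17],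 [4, 20, 0, 0, 18], [4, 20, 0, 0, 19], [4, 20, 0, 0, 20], [4, 20, 0, 0, 21], [4, 20, 0, 0, 24], [4, 20, 0, 7, 1], [4, 20, 0, 7, 5], [4, 20, 0, 9, 0], [4, 20, 0, 9, 5], [4, 20, 0, 10, 1], [4, 20, 0, 10, 5], [4, 20, 0, 11, 1], [4, 20, 0, 11, 5], [4, 20, 0, 14, 0], [4, 20, 0, 14, 5], [4, 20, 0, 15, 1], [4, 20, 0, 15, 5], [4, 20, 0, 18, 5], [4, 20, 0, 19, 0], [4, 20, 0, 19, 5], [4, 20, 0, 20, 1], [4, 20, 0, 20, 5], [4, 20, 0, 24, 5], [4, 20, 7, 5, 4], [4, 21, 0, 1, 0], [4, 21, 0, 7, 1], [4, 21, 0, 7, 5], [4, 21, 0, 9, 0], [4, 21, 0, 9, 1], [4, 21, 0, 10, 5], [4, 21, 0, 11, 1], [4, 21, 0, 11, 5], [4, 21, 0, 15, 0], [4, 21, 0, 15, 1], [4, 21, 0, 15, 5], [4, 21, 0, 17, 0], [4, 21, 0, 17, 1], [4, 21, 0, 17, 5], [4, 21, 0, 18, 5], [4,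 21, 0, 20, 0], [4, 21, 0, 20, 5], [4, 21, 0, 24, 1], [4, 21, 8, 0, 0], [4, 21, 8, 0, 1], [4, 21, 8, 4, 4], [4, 22, 0, 1, 3], [4, 22, 0, 1, 7], [4, 22, 0, 1, 8], [4, 22, 0, 1, 9], [4, 22, 0, 1, 10], [4, 22, 0, 1, 11], [4, 22, 0, 1, 13], [4, 22, 0, 1, 15], [4, 22, 0, 1, 16], [4, 22, 0, 1, 17], [4, 22, 0, 1, 18], [4, 22, 0, 1, 20], [4, 22, 0, 1, 21], [4, 22, 0, 1, 23], [4, 22, 0, 1, 24], [4, 22, 0, 8, 5], [4, 22, 0, 10, 5], [4, 22, 0, 11, 0], [4, 22, 0, 11, 5], [4, 22, 0, 18, 1], [4, 22, 0, 18, 5], [4, 22, 0, 19, 1], [4, 22, 0, 19, 5], [4, 22, 0, 21, 5], [4, 22, 0, 23, 5], [4, 22, 7, 0, 0], [4, 22, 9, 4, 4], [4, 22, 9, 5, 4], [4, 22, 12, 0, 0], [4, 22, 12, 0, 1], [4, 22, 16, 0, 0], [4, 23, 0, 3, 0], [4, 23, 0, 8, 0], [4, 23, 0,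 8, 1], [4, 23, 0, 8, 5], [4, 23, 0, 15, 1], [4, 23, 0, 17, 0], [4, 23, 0, 17, 1], [4, 23, 0, 17, 5], [4, 23, 0, 18, 0], [4, 23, 0, 18, 1], [4, 23, 0, 18, 5], [4, 23, 0, 19, 0], [4, 23, 0, 19, 5], [4, 23, 0, 21, 1], [4, 23, 0, 22, 0], [4, 23, 0, 22, 1], [4, 23, 0, 22, 5], [4, 23, 0, 23, 0], [4, 23, 0, 23, 1], [4, 23, 0, 23, 5], [4, 23, 3, 5, 4], [4, 23, 4, 8, 4], [4, 23, 4, 9, 4], [4, 23, 4, 13, 4], [4, 23, 4, 16, 4], [4, 23, 5, 8, 4], [4, 23, 5, 9, 4], [4, 23, 5, 10, 4], [4, 23, 5, 12, 4], [4, 23, 5, 15, 4], [4, 23, 5, 18, 4], [4, 23, 5, 22, 4], [4, 23, 10, 0, 1], [4, 24, 0, 1, 7], [4, 24, 0, 1, 8], [4, 24, 0, 1, 9], [4, 24, 0, 1, 10], [4, 24, 0, 1, 16], [4, 24, 0, 1, 17], [4, 24, 0, 1, 18], [4, 24, 0, 1, 20], [4, 24, 0, 1, 21],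 [4, 24, 0, 1, 22], [4, 24, 0, 9, 0], [4, 24, 0, 9, 1], [4, 24, 0, 9, 5], [4, 24, 0, 10, 5], [4, 24, 0, 13, 0], [4, 24, 0, 13, 5], [4, 24, 0, 15, 5], [4, 24, 1, 0, 5], [4, 24, 1, 4, 5], [4, 24, 1, 11, 4], [4, 24, 1, 17, 4], [4, 24, 1, 21, 4], [4, 24, 1, 22, 4], [4, 24, 1, 23, 4], [4, 24, 1, 24, 4], [0, 0, 7, 0, 0, 7], [0, 0, 7, 0, 0, 8], [0, 0, 7, 0, 0, 10], [0, 0, 7, 0, 0, 13], [0, 0, 7, 0, 0, 15], [0, 0, 7, 0, 0, 16], [0, 0, 7, 0, 0, 17], [0, 0, 7, 0, 0, 18], [0, 0, 7, 0, 1, 0], [0, 0, 7, 0, 1, 1], [0, 0, 7, 0, 1, 7], [0, 0, 7, 0, 1, 8], [0, 0, 7, 0, 1, 9], [0, 0, 7, 0, 1, 10], [0, 0, 7, 0, 1, 11], [0, 0, 7, 0, 1, 13], [0, 0, 7, 0, 1, 14], [0, 0, 7, 0, 1, 15], [0, 0, 7, 0, 1, 16], [0, 0, 7, 0, 1, 17], [0, 0, 7, 0, 1, 18], [0,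 0, 7, 0, 1, 19], [0, 0, 7, 0, 1, 20], [0, 0, 7, 0, 1, 21], [0, 0, 7, 0, 17, 5], [0, 0, 7, 0, 20, 1], [0, 0, 7, 1, 17, 4], [0, 0, 7, 1, 24, 4], [0, 0, 7, 4, 1, 4], [0, 0, 7, 4, 4, 1], [0, 0, 7, 4, 7, 4], [0, 0, 7, 4, 9, 4], [0, 0, 7, 4, 15, 4], [0, 0, 7, 5, 0, 5], [0, 0, 7, 5, 4, 5], [0, 0, 7, 5, 10, 4], [0, 0, 7, 5, 14, 4], [0, 0, 7, 5, 23, 4], [0, 0, 7, 9, 5, 4], [0, 0, 7, 10, 0, 1], [0, 0, 8, 0, 7, 5], [0, 0, 8, 0, 9, 0], [0, 0, 8, 0, 9, 1], [0, 0, 8, 0, 9, 5], [0, 0, 8, 0, 11, 1], [0, 0, 8, 0, 11, 5], [0, 0, 8, 0, 13, 5], [0, 0, 8, 0, 14, 1], [0, 0, 8, 0, 19, 5], [0, 0, 8, 0, 21, 1], [0, 0, 8, 0, 21, 5], [0, 0, 8, 0, 22, 5], [0, 0, 8, 0, 23, 1], [0, 0, 8, 0, 23, 5], [0, 0, 8, 1, 4, 5], [0, 0, 8, 1, 9, 4], [0, 0, 8, 1, 12,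 4], [0, 0, 8, 1, 17, 4], [0, 0, 8, 1, 19, 4], [0, 0, 8, 1, 21, 4], [0, 0, 8, 1, 22, 4], [0, 0, 8, 4, 4, 4], [0, 0, 8, 4, 4, 7], [0, 0, 8, 4, 4, 8], [0, 0, 8, 4, 4, 9], [0, 0, 8, 4, 4, 11], [0, 0, 8, 4, 4, 12], [0, 0, 8, 4, 4, 13], [0, 0, 8, 4, 4, 14], [0, 0, 8, 4, 4, 16], [0, 0, 8, 4, 4, 17], [0, 0, 8, 4, 4, 18], [0, 0, 8, 4, 4, 20], [0, 0, 8, 4, 4, 23], [0, 0, 8, 4, 4, 24], [0, 0, 8, 4, 14, 4], [0, 0, 8, 4, 17, 4], [0, 0, 8, 4, 18, 4], [0, 0, 8, 4, 22, 4], [0, 0, 8, 5, 4, 3], [0, 0, 8, 5, 4, 4], [0, 0, 8, 5, 4, 7], [0, 0, 8, 5, 4, 8], [0, 0, 8, 5, 4, 9], [0, 0, 8, 5, 4, 10], [0, 0, 8, 5, 4, 11], [0, 0, 8, 5, 4, 12], [0, 0, 8, 5, 4, 13], [0, 0, 8, 5, 4, 15], [0, 0, 8, 5, 4, 16], [0, 0, 8, 5, 4, 17], [0, 0, 8, 5, 4, 18], [0, 0,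 8, 5, 4, 20], [0, 0, 8, 5, 4, 21], [0, 0, 8, 5, 4, 22], [0, 0, 8, 5, 4, 23], [0, 0, 8, 5, 13, 4], [0, 0, 8, 5, 16, 4], [0, 0, 8, 5, 23, 4], [0, 0, 8, 8, 0, 0], [0, 0, 8, 8, 0, 1], [0, 0, 8, 23, 0, 1], [0, 0, 9, 4, 3, 4], [0, 0, 9, 4, 4, 11], [0, 0, 9, 4, 4, 12], [0, 0, 9, 4, 4, 15], [0, 0, 9, 4, 4, 16], [0, 0, 9, 4, 4, 18], [0, 0, 9, 4, 4, 20], [0, 0, 9, 4, 4, 22], [0, 0, 9, 4, 9, 4], [0, 0, 9, 4, 17, 4], [0, 0, 9, 4, 22, 4], [0, 0, 9, 5, 3, 4], [0, 0, 9, 5, 4, 3], [0, 0, 9, 5, 4, 7], [0, 0, 9, 5, 4, 8], [0, 0, 9, 5, 4, 9], [0, 0, 9, 5, 4, 13], [0, 0, 9, 5, 4, 15], [0, 0, 9, 5, 4, 16], [0, 0, 9, 5, 4, 17], [0, 0, 9, 5, 4, 18], [0, 0, 9, 5, 4, 19], [0, 0, 9, 5, 4, 22], [0, 0, 9, 5, 7, 4], [0, 0, 9, 5, 8, 4], [0, 0, 9, 21, 0, 0],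 [0, 0, 9, 21, 0, 1], [0, 0, 9, 21, 4, 4], [0, 0, 10, 1, 8, 4], [0, 0, 10, 1, 9, 4], [0, 0, 10, 1, 16, 4], [0, 0, 10, 4, 3, 4], [0, 0, 10, 4, 4, 7], [0, 0, 10, 4, 4, 8], [0, 0, 10, 4, 4, 10], [0, 0, 10, 4, 4, 13], [0, 0, 10, 4, 4, 15], [0, 0, 10, 4, 4, 17], [0, 0, 10, 4, 4, 18], [0, 0, 10, 4, 4, 20], [0, 0, 10, 4, 4, 21], [0, 0, 10, 4, 4, 22], [0, 0, 10, 4, 4, 24], [0, 0, 10, 5, 10, 4], [0, 0, 10, 5, 14, 4], [0, 0, 12, 1, 8, 4], [0, 0, 12, 1, 15, 4], [0, 0, 13, 1, 11, 4], [0, 0, 13, 1, 14, 4], [0, 0, 13, 1, 18, 4], [0, 0, 13, 4, 15, 4], [0, 0, 14, 1, 7, 4], [0, 0, 14, 4, 4, 7], [0, 0, 14, 4, 4, 8], [0, 0, 14, 4, 4, 9], [0, 0, 14, 4, 4, 13], [0, 0, 14, 4, 4, 14], [0, 0, 14, 4, 4, 15], [0, 0, 14, 4, 4, 17], [0, 0, 14, 4, 4, 18],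 [0, 0, 14, 4, 4, 23], [0, 0, 14, 4, 4, 24], [0, 0, 14, 5, 10, 4], [0, 0, 14, 5, 13, 4], [0, 0, 14, 5, 16, 4], [0, 0, 15, 1, 9, 4], [0, 0, 16, 0, 0, 7], [0, 0, 16, 0, 0, 8], [0, 0, 16, 0, 0, 9], [0, 0, 16, 0, 0, 10], [0, 0, 16, 0, 0, 13], [0, 0, 16, 0, 0, 14], [0, 0, 16, 0, 0, 15], [0, 0, 16, 0, 0, 16], [0, 0, 16, 0, 0, 17], [0, 0, 16, 0, 0, 21], [0, 0, 16, 0, 10, 1], [0, 0, 16, 0, 12, 5], [0, 0, 16, 0, 17, 5], [0, 0, 16, 0, 21, 5], [0, 0, 16, 0, 22, 0], [0, 0, 16, 0, 22, 5], [0, 0, 16, 0, 23, 5], [0, 0, 16, 9, 5, 4], [0, 0, 16, 16, 0, 0], [0, 0, 17, 0, 0, 8], [0, 0, 17, 0, 0, 13], [0, 0, 17, 0, 0, 14], [0, 0, 17, 0, 0, 17], [0, 0, 17, 0, 0, 19], [0, 0, 17, 0, 0, 20], [0, 0, 17, 0, 0, 23], [0, 0, 17, 0, 7, 1], [0, 0, 17, 0, 7,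 5], [0, 0, 17, 0, 11, 0], [0, 0, 17, 0, 11, 5], [0, 0, 17, 0, 13, 1], [0, 0, 17, 0, 13, 5], [0, 0, 17, 0, 15, 1], [0, 0, 17, 0, 15, 5], [0, 0, 17, 0, 16, 5], [0, 0, 17, 0, 21, 5], [0, 0, 17, 1, 20, 4], [0, 0, 17, 5, 0, 5], [0, 0, 18, 0, 0, 0], [0, 0, 18, 0, 0, 1], [0, 0, 18, 0, 0, 7], [0, 0, 18, 0, 0, 8], [0, 0, 18, 0, 0, 10], [0, 0, 18, 0, 0, 11], [0, 0, 18, 0, 0, 12], [0, 0, 18, 0, 0, 13], [0, 0, 18, 0, 0, 14], [0, 0, 18, 0, 0, 16], [0, 0, 18, 0, 0, 17], [0, 0, 18, 0, 0, 18], [0, 0, 18, 0, 0, 19], [0, 0, 18, 0, 0, 20], [0, 0, 18, 0, 0, 21], [0, 0, 18, 0, 0, 24], [0, 0, 18, 0, 1, 0], [0, 0, 18, 0, 1, 9], [0, 0, 18, 0, 1, 10], [0, 0, 18, 0, 1, 13], [0, 0, 18, 0, 1, 15], [0, 0, 18, 0, 1, 16], [0, 0, 18, 0, 1, 17], [0, 0, 18, 0,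 1, 20], [0, 0, 18, 0, 1, 22], [0, 0, 18, 0, 1, 24], [0, 0, 18, 0, 14, 0], [0, 0, 18, 0, 14, 5], [0, 0, 18, 0, 19, 1], [0, 0, 18, 1, 0, 1], [0, 0, 18, 1, 0, 5], [0, 0, 18, 4, 8, 4], [0, 0, 18, 4, 15, 4], [0, 0, 18, 4, 17, 4], [0, 0, 18, 5, 0, 0], [0, 0, 18, 5, 0, 5], [0, 0, 18, 5, 4, 3], [0, 0, 18, 5, 4, 4], [0, 0, 18, 5, 4, 5], [0, 0, 18, 5, 4, 7], [0, 0, 18, 5, 4, 8], [0, 0, 18, 5, 4, 9], [0, 0, 18, 5, 4, 10], [0, 0, 18, 5, 4, 12], [0, 0, 18, 5, 4, 13], [0, 0, 18, 5, 4, 14], [0, 0, 18, 5, 4, 15], [0, 0, 18, 5, 4, 16], [0, 0, 18, 5, 4, 17], [0, 0, 18, 5, 4, 18], [0, 0, 18, 5, 4, 19], [0, 0, 18, 5, 4, 21], [0, 0, 18, 5, 4, 22], [0, 0, 18, 5, 4, 24], [0, 0, 18, 5, 8, 4], [0, 0, 18, 5, 14, 4], [0, 0, 19, 1, 16, 4], [0, 0, 20, 4,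 7, 4], [0, 0, 20, 4, 15, 4], [0, 0, 20, 4, 18, 4], [0, 0, 20, 5, 4, 3], [0, 0, 20, 5, 4, 7], [0, 0, 20, 5, 4, 8], [0, 0, 20, 5, 4, 14], [0, 0, 20, 5, 4, 16], [0, 0, 20, 5, 4, 17], [0, 0, 20, 5, 4, 18], [0, 0, 20, 5, 4, 20], [0, 0, 20, 5, 7, 4], [0, 0, 21, 5, 7, 4], [0, 0, 21, 5, 9, 4], [0, 5, 3, 0, 0, 1], [0, 5, 3, 0, 0, 7], [0, 5, 3, 0, 0, 8], [0, 5, 3, 0, 0, 9], [0, 5, 3, 0, 0, 10], [0, 5, 3, 0, 0, 13], [0, 5, 3, 0, 0, 15], [0, 5, 3, 0, 0, 19], [0, 5, 3, 0, 0, 20], [0, 5, 3, 0, 0, 22], [0, 5, 3, 0, 0, 23], [0, 5, 3, 0, 9, 5], [0, 5, 3, 0, 10, 0], [0, 5, 3, 0, 10, 1], [0, 5, 3, 0, 10, 5], [0, 5, 3, 1, 8, 4], [0, 5, 3, 1, 11, 4], [0, 5, 3, 1, 15, 4], [0, 5, 3, 1, 17, 4], [0, 5, 3, 1, 18, 4], [0, 5, 3, 1, 20, 4], [0, 5, 3, 1,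 21, 4], [0, 5, 3, 1, 23, 4], [0, 5, 7, 0, 0, 0], [0, 5, 7, 0, 0, 1], [0, 5, 7, 0, 0, 7], [0, 5, 7, 0, 0, 8], [0, 5, 7, 0, 0, 9], [0, 5, 7, 0, 0, 10], [0, 5, 7, 0, 0, 12], [0, 5, 7, 0, 0, 13], [0, 5, 7, 0, 0, 22], [0, 5, 7, 0, 1, 0], [0, 5, 7, 0, 1, 8], [0, 5, 7, 0, 1, 9], [0, 5, 7, 0, 1, 10], [0, 5, 7, 0, 1, 11], [0, 5, 7, 0, 1, 13], [0, 5, 7, 0, 1, 14], [0, 5, 7, 0, 1, 16], [0, 5, 7, 0, 1, 17], [0, 5, 7, 0, 1, 18], [0, 5, 7, 0, 1, 21], [0, 5, 7, 0, 1, 23], [0, 5, 7, 0, 17, 5], [0, 5, 7, 0, 18, 0], [0, 5, 7, 0, 18, 1], [0, 5, 7, 0, 18, 5], [0, 5, 7, 1, 0, 5], [0, 5, 7, 1, 20, 4], [0, 5, 7, 4, 3, 4], [0, 5, 7, 4, 13, 4], [0, 5, 7, 5, 0, 5], [0, 5, 7, 5, 24, 4], [0, 5, 8, 0, 0, 7], [0, 5, 8, 0, 0, 8], [0, 5, 8, 0, 0, 9], [0, 5,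 8, 0, 0, 10], [0, 5, 8, 0, 0, 11], [0, 5, 8, 0, 0, 12], [0, 5, 8, 0, 0, 13], [0, 5, 8, 0, 0, 14], [0, 5, 8, 0, 0, 15], [0, 5, 8, 0, 0, 16], [0, 5, 8, 0, 0, 21], [0, 5, 8, 0, 0, 23], [0, 5, 8, 0, 0, 24], [0, 5, 8, 0, 7, 0], [0, 5, 8, 0, 7, 1], [0, 5, 8, 0, 7, 5], [0, 5, 8, 0, 10, 5], [0, 5, 8, 0, 16, 1], [0, 5, 8, 0, 16, 5], [0, 5, 8, 0, 21, 0], [0, 5, 8, 0, 21, 5], [0, 5, 8, 4, 4, 1], [0, 5, 8, 4, 4, 3], [0, 5, 8, 4, 4, 7], [0, 5, 8, 4, 4, 8], [0, 5, 8, 4, 4, 11], [0, 5, 8, 4, 4, 12], [0, 5, 8, 4, 4, 14], [0, 5, 8, 4, 4, 16], [0, 5, 8, 4, 4, 17], [0, 5, 8, 4, 4, 18], [0, 5, 8, 4, 4, 20], [0, 5, 8, 4, 4, 24], [0, 5, 8, 5, 4, 3], [0, 5, 8, 5, 4, 7], [0, 5, 8, 5, 4, 9], [0, 5, 8, 5, 4, 10], [0, 5, 8, 5, 4, 12], [0, 5, 8, 5, 4, 15],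 [0, 5, 8, 5, 4, 16], [0, 5, 8, 5, 4, 17], [0, 5, 8, 5, 4, 18], [0, 5, 8, 5, 4, 21], [0, 5, 8, 5, 4, 23], [0, 5, 8, 5, 10, 4], [0, 5, 8, 5, 14, 4], [0, 5, 8, 5, 22, 4], [0, 5, 9, 4, 4, 3], [0, 5, 9, 4, 4, 4], [0, 5, 9, 4, 4, 7], [0, 5, 9, 4, 4, 8], [0, 5, 9, 4, 4, 9], [0, 5, 9, 4, 4, 11], [0, 5, 9, 4, 4, 12], [0, 5, 9, 4, 4, 17], [0, 5, 9, 4, 4, 18], [0, 5, 9, 4, 4, 20], [0, 5, 9, 4, 4, 22], [0, 5, 9, 5, 4, 3], [0, 5, 9, 5, 4, 7], [0, 5, 9, 5, 4, 8], [0, 5, 9, 5, 4, 9], [0, 5, 9, 5, 4, 13], [0, 5, 9, 5, 4, 14], [0, 5, 9, 5, 4, 15], [0, 5, 9, 5, 4, 17], [0, 5, 9, 5, 4, 18], [0, 5, 9, 5, 4, 19], [0, 5, 10, 4, 4, 9], [0, 5, 10, 4, 4, 10], [0, 5, 10, 4, 4, 13], [0, 5, 10, 4, 4, 19], [0, 5, 10, 4, 4, 24], [0, 5, 10, 5, 0, 0], [0, 5,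 10, 5, 4, 7], [0, 5, 10, 5, 4, 14], [0, 5, 10, 5, 4, 16], [0, 5, 10, 5, 4, 17], [0, 5, 10, 5, 4, 18], [0, 5, 10, 5, 4, 20], [0, 5, 10, 5, 4, 21], [0, 5, 10, 5, 4, 22], [0, 5, 10, 5, 4, 23], [0, 5, 10, 5, 13, 4], [0, 5, 12, 5, 4, 3], [0, 5, 12, 5, 4, 7], [0, 5, 12, 5, 4, 8], [0, 5, 12, 5, 4, 9], [0, 5, 12, 5, 4, 10], [0, 5, 12, 5, 4, 15], [0, 5, 12, 5, 4, 17], [0, 5, 12, 5, 4, 18], [0, 5, 13, 0, 15, 0], [0, 5, 13, 0, 17, 0], [0, 5, 13, 0, 17, 5], [0, 5, 13, 0, 18, 0], [0, 5, 13, 0, 18, 1], [0, 5, 13, 0, 18, 5], [0, 5, 13, 0, 19, 0], [0, 5, 13, 1, 16, 4], [0, 5, 14, 0, 0, 1], [0, 5, 14, 0, 0, 8], [0, 5, 14, 0, 0, 13], [0, 5, 14, 0, 0, 14], [0, 5, 14, 0, 0, 16], [0, 5, 14, 0, 1, 7], [0, 5, 14, 0, 1, 8], [0, 5, 14, 0, 1, 9], [0,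 5, 14, 0, 1, 10], [0, 5, 14, 0, 1, 11], [0, 5, 14, 0, 1, 12], [0, 5, 14, 0, 1, 13], [0, 5, 14, 0, 1, 15], [0, 5, 14, 0, 1, 16], [0, 5, 14, 0, 1, 17], [0, 5, 14, 0, 1, 18], [0, 5, 14, 0, 1, 19], [0, 5, 14, 0, 1, 20], [0, 5, 14, 0, 1, 21], [0, 5, 14, 0, 1, 22], [0, 5, 14, 0, 1, 23], [0, 5, 14, 0, 1, 24], [0, 5, 14, 0, 7, 0], [0, 5, 14, 0, 7, 5], [0, 5, 14, 0, 18, 1], [0, 5, 14, 4, 4, 3], [0, 5, 14, 4, 4, 7], [0, 5, 14, 4, 4, 8], [0, 5, 14, 4, 4, 9], [0, 5, 14, 4, 4, 10], [0, 5, 14, 4, 4, 14], [0, 5, 14, 4, 4, 15], [0, 5, 14, 4, 4, 17], [0, 5, 14, 4, 4, 20], [0, 5, 14, 4, 4, 21], [0, 5, 14, 5, 4, 7], [0, 5, 14, 5, 4, 8], [0, 5, 14, 5, 4, 17], [0, 5, 14, 5, 4, 20], [0, 5, 14, 5, 4, 23], [0, 5, 14, 5, 4, 24], [0, 5, 16, 0, 0, 7],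 [0, 5, 16, 0, 0, 8], [0, 5, 16, 0, 0, 9], [0, 5, 16, 0, 0, 10], [0, 5, 16, 0, 0, 13], [0, 5, 16, 0, 0, 14], [0, 5, 16, 0, 0, 16], [0, 5, 16, 0, 0, 17], [0, 5, 16, 0, 0, 18], [0, 5, 16, 0, 0, 19], [0, 5, 16, 0, 0, 20], [0, 5, 16, 0, 0, 21], [0, 5, 16, 0, 18, 5], [0, 5, 16, 0, 21, 5], [0, 5, 16, 4, 4, 3], [0, 5, 16, 4, 4, 4], [0, 5, 16, 4, 4, 7], [0, 5, 16, 4, 4, 10], [0, 5, 16, 4, 4, 13], [0, 5, 16, 4, 4, 19], [0, 5, 16, 4, 4, 20], [0, 5, 16, 4, 4, 21], [0, 5, 16, 4, 4, 23], [0, 5, 16, 5, 4, 4], [0, 5, 16, 5, 4, 5], [0, 5, 16, 5, 4, 7], [0, 5, 16, 5, 4, 8], [0, 5, 16, 5, 4, 12], [0, 5, 16, 5, 4, 14], [0, 5, 16, 5, 4, 15], [0, 5, 16, 5, 4, 16], [0, 5, 16, 5, 4, 18], [0, 5, 16, 5, 4, 19], [0, 5, 16, 5, 4, 21], [0, 5, 16, 5, 4, 22],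 [0, 5, 16, 5, 4, 23], [0, 5, 17, 4, 19, 4], [0, 5, 17, 5, 4, 4], [0, 5, 17, 5, 4, 8], [0, 5, 17, 5, 4, 13], [0, 5, 17, 5, 4, 16], [0, 5, 17, 5, 4, 17], [0, 5, 17, 5, 4, 19], [0, 5, 17, 5, 4, 21], [0, 5, 17, 5, 4, 22], [0, 5, 17, 5, 23, 4], [0, 5, 18, 5, 4, 7], [0, 5, 18, 5, 4, 8], [0, 5, 18, 5, 4, 10], [0, 5, 18, 5, 4, 16], [0, 5, 18, 5, 4, 18], [0, 5, 18, 5, 4, 19], [0, 5, 18, 5, 4, 21], [0, 5, 18, 5, 4, 24], [0, 5, 20, 0, 0, 7], [0, 5, 20, 0, 0, 8], [0, 5, 20, 0, 0, 10], [0, 5, 20, 0, 0, 17], [0, 5, 20, 0, 0, 21], [0, 5, 20, 0, 0, 24], [0, 5, 20, 0, 10, 5], [0, 5, 20, 0, 17, 1], [0, 5, 20, 0, 17, 5], [0, 5, 20, 0, 18, 1], [0, 5, 20, 0, 22, 5], [0, 5, 20, 0, 24, 0], [0, 5, 20, 4, 7, 4], [0, 5, 21, 12, 0, 1], [0, 5, 23, 0, 7,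 1], [0, 5, 23, 0, 7, 5], [0, 5, 23, 0, 17, 5], [4, 1, 3, 0, 1, 9], [4, 1, 3, 0, 1, 10], [4, 1, 3, 0, 1, 11], [4, 1, 3, 0, 1, 16], [4, 1, 3, 0, 13, 0], [4, 1, 3, 0, 13, 5], [4, 1, 3, 0, 16, 5], [4, 1, 3, 0, 20, 5], [4, 1, 8, 0, 0, 0], [4, 1, 8, 0, 0, 7], [4, 1, 8, 0, 0, 8], [4, 1, 8, 0, 0, 10], [4, 1, 8, 0, 0, 11], [4, 1, 8, 0, 0, 14], [4, 1, 8, 0, 1, 1], [4, 1, 8, 0, 1, 8], [4, 1, 8, 0, 1, 11], [4, 1, 8, 0, 1, 15], [4, 1, 8, 0, 1, 18], [4, 1, 8, 0, 1, 20], [4, 1, 8, 0, 1, 22], [4, 1, 8, 0, 1, 23], [4, 1, 8, 0, 5, 5], [4, 1, 8, 0, 16, 5], [4, 1, 8, 5, 4, 7], [4, 1, 8, 5, 4, 16], [4, 1, 8, 5, 4, 17], [4, 1, 8, 5, 4, 23], [4, 1, 10, 0, 1, 7], [4, 1, 10, 0, 1, 9], [4, 1, 10, 0, 1, 10], [4, 1, 10, 0, 1, 12], [4, 1, 10, 0, 1, 15],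 [4, 1, 10, 0, 1, 17], [4, 1, 10, 0, 1, 18], [4, 1, 10, 0, 1, 20], [4, 1, 10, 0, 1, 22], [4, 1, 10, 0, 1, 24], [4, 1, 10, 1, 0, 5], [4, 1, 10, 1, 4, 5], [4, 1, 11, 0, 7, 1], [4, 1, 11, 0, 9, 5], [4, 1, 11, 0, 16, 5], [4, 1, 11, 0, 17, 5], [4, 1, 12, 0, 18, 0], [4, 1, 12, 0, 18, 5], [4, 1, 12, 5, 4, 7], [4, 1, 12, 5, 4, 9], [4, 1, 12, 5, 4, 10], [4, 1, 12, 5, 4, 16], [4, 1, 15, 1, 8, 4], [4, 1, 15, 1, 9, 4], [4, 1, 15, 1, 10, 4], [4, 1, 15, 5, 4, 3], [4, 1, 15, 5, 4, 13], [4, 1, 15, 5, 4, 17], [4, 1, 15, 5, 4, 18], [4, 1, 15, 5, 4, 21], [4, 1, 15, 5, 4, 22], [4, 1, 15, 5, 13, 4], [4, 1, 15, 5, 20, 4], [4, 1, 16, 0, 8, 0], [4, 1, 16, 0, 9, 5], [4, 1, 19, 0, 11, 5], [4, 3, 0, 0, 0, 0], [4, 3, 0, 0, 0, 1], [4, 3, 0, 0, 0, 3], [4,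 3, 0, 0, 0, 7], [4, 3, 0, 0, 0, 9], [4, 3, 0, 0, 0, 10], [4, 3, 0, 0, 0, 11], [4, 3, 0, 0, 0, 12], [4, 3, 0, 0, 0, 18], [4, 3, 0, 0, 1, 7], [4, 3, 0, 0, 1, 10], [4, 3, 0, 0, 1, 11], [4, 3, 0, 0, 1, 15], [4, 3, 0, 0, 1, 17], [4, 3, 0, 0, 1, 20], [4, 3, 0, 0, 1, 21], [4, 3, 0, 0, 1, 24], [4, 3, 0, 0, 3, 7], [4, 3, 0, 0, 3, 8], [4, 3, 0, 0, 3, 12], [4, 3, 0, 0, 3, 13], [4, 3, 0, 0, 3, 16], [4, 3, 0, 0, 3, 17], [4, 3, 0, 0, 3, 18], [4, 3, 0, 0, 3, 19], [4, 3, 0, 0, 3, 20], [4, 3, 0, 0, 3, 21], [4, 3, 0, 0, 3, 22], [4, 3, 0, 0, 3, 24], [4, 3, 0, 0, 7, 0], [4, 3, 0, 0, 7, 1], [4, 3, 0, 0, 7, 3], [4, 3, 0, 0, 7, 4], [4, 3, 0, 0, 7, 9], [4, 3, 0, 0, 7, 10], [4, 3, 0, 0, 7, 11], [4, 3, 0, 0, 7, 12], [4, 3, 0, 0, 7, 14], [4, 3, 0, 0, 7,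 15], [4, 3, 0, 0, 7, 17], [4, 3, 0, 0, 7, 18], [4, 3, 0, 0, 7, 19], [4, 3, 0, 0, 7, 20], [4, 3, 0, 0, 8, 1], [4, 3, 0, 0, 8, 3], [4, 3, 0, 0, 8, 4], [4, 3, 0, 0, 8, 5], [4, 3, 0, 0, 8, 8], [4, 3, 0, 0, 8, 9], [4, 3, 0, 0, 8, 10], [4, 3, 0, 0, 8, 12], [4, 3, 0, 0, 8, 13], [4, 3, 0, 0, 8, 17], [4, 3, 0, 0, 8, 18], [4, 3, 0, 0, 8, 19], [4, 3, 0, 0, 8, 21], [4, 3, 0, 0, 9, 0], [4, 3, 0, 0, 9, 1], [4, 3, 0, 0, 9, 4], [4, 3, 0, 0, 9, 5], [4, 3, 0, 0, 9, 11], [4, 3, 0, 0, 9, 13], [4, 3, 0, 0, 9, 14], [4, 3, 0, 0, 9, 15], [4, 3, 0, 0, 9, 19], [4, 3, 0, 0, 9, 20], [4, 3, 0, 0, 9, 21], [4, 3, 0, 0, 9, 24], [4, 3, 0, 0, 10, 0], [4, 3, 0, 0, 10, 5], [4, 3, 0, 0, 10, 7], [4, 3, 0, 0, 10, 15], [4, 3, 0, 0, 10, 16], [4, 3, 0, 0, 10, 17], [4,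 3, 0, 0, 10, 18], [4, 3, 0, 0, 10, 20], [4, 3, 0, 0, 10, 21], [4, 3, 0, 0, 10, 23], [4, 3, 0, 0, 10, 24], [4, 3, 0, 0, 11, 1], [4, 3, 0, 0, 11, 3], [4, 3, 0, 0, 11, 5], [4, 3, 0, 0, 11, 7], [4, 3, 0, 0, 11, 8], [4, 3, 0, 0, 11, 15], [4, 3, 0, 0, 11, 16], [4, 3, 0, 0, 11, 24], [4, 3, 0, 0, 12, 7], [4, 3, 0, 0, 12, 8], [4, 3, 0, 0, 12, 15], [4, 3, 0, 0, 12, 22], [4, 3, 0, 0, 13, 0], [4, 3, 0, 0, 13, 1], [4, 3, 0, 0, 13, 7], [4, 3, 0, 0, 13, 8], [4, 3, 0, 0, 13, 10], [4, 3, 0, 0, 13, 12], [4, 3, 0, 0, 13, 16], [4, 3, 0, 0, 13, 18], [4, 3, 0, 0, 13, 21], [4, 3, 0, 0, 14, 4], [4, 3, 0, 0, 14, 7], [4, 3, 0, 0, 14, 15], [4, 3, 0, 0, 14, 16], [4, 3, 0, 0, 14, 17], [4, 3, 0, 0, 14, 22], [4, 3, 0, 0, 15, 0], [4, 3, 0, 0, 15, 7], [4, 3,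 0, 0, 15, 9], [4, 3, 0, 0, 15, 10], [4, 3, 0, 0, 15, 11], [4, 3, 0, 0, 15, 12], [4, 3, 0, 0, 15, 13], [4, 3, 0, 0, 15, 17], [4, 3, 0, 0, 15, 20], [4, 3, 0, 0, 15, 22], [4, 3, 0, 0, 15, 24], [4, 3, 0, 0, 16, 4], [4, 3, 0, 0, 16, 5], [4, 3, 0, 0, 16, 7], [4, 3, 0, 0, 16, 8], [4, 3, 0, 0, 16, 9], [4, 3, 0, 0, 16, 10], [4, 3, 0, 0, 16, 13], [4, 3, 0, 0, 16, 14], [4, 3, 0, 0, 16, 17], [4, 3, 0, 0, 16, 20], [4, 3, 0, 0, 18, 0], [4, 3, 0, 0, 18, 1], [4, 3, 0, 0, 18, 3], [4, 3, 0, 0, 18, 5], [4, 3, 0, 0, 18, 7], [4, 3, 0, 0, 18, 8], [4, 3, 0, 0, 18, 10], [4, 3, 0, 0, 18, 13], [4, 3, 0, 0, 18, 14], [4, 3, 0, 0, 18, 16], [4, 3, 0, 0, 18, 22], [4, 3, 0, 0, 18, 23], [4, 3, 0, 0, 18, 24], [4, 3, 0, 0, 19, 3], [4, 3, 0, 0, 19, 5], [4, 3, 0,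 0, 19, 7], [4, 3, 0, 0, 19, 8], [4, 3, 0, 0, 19, 10], [4, 3, 0, 0, 19, 13], [4, 3, 0, 0, 19, 18], [4, 3, 0, 0, 20, 3], [4, 3, 0, 0, 20, 10], [4, 3, 0, 0, 21, 3], [4, 3, 0, 0, 21, 7], [4, 3, 0, 0, 21, 8], [4, 3, 0, 0, 21, 13], [4, 3, 0, 0, 21, 14], [4, 3, 0, 0, 21, 17], [4, 3, 0, 0, 22, 1], [4, 3, 0, 0, 22, 3], [4, 3, 0, 0, 22, 8], [4, 3, 0, 0, 22, 14], [4, 3, 0, 0, 22, 16], [4, 3, 0, 1, 0, 3], [4, 3, 0, 1, 0, 5], [4, 3, 0, 1, 0, 7], [4, 3, 0, 1, 0, 14], [4, 3, 0, 1, 1, 3], [4, 3, 0, 1, 1, 4], [4, 3, 0, 1, 1, 8], [4, 3, 0, 1, 1, 10], [4, 3, 0, 1, 1, 11], [4, 3, 0, 1, 1, 13], [4, 3, 0, 1, 1, 15], [4, 3, 0, 1, 1, 16], [4, 3, 0, 1, 1, 17], [4, 3, 0, 1, 1, 18], [4, 3, 0, 1, 1, 19], [4, 3, 0, 1, 1, 20], [4, 3, 0, 1, 1, 23], [4, 3,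 0, 1, 3, 1], [4, 3, 0, 1, 3, 7], [4, 3, 0, 1, 3, 8], [4, 3, 0, 1, 3, 9], [4, 3, 0, 1, 3, 11], [4, 3, 0, 1, 3, 12], [4, 3, 0, 1, 3, 13], [4, 3, 0, 1, 3, 14], [4, 3, 0, 1, 3, 15], [4, 3, 0, 1, 3, 16], [4, 3, 0, 1, 3, 17], [4, 3, 0, 1, 3, 18], [4, 3, 0, 1, 3, 19], [4, 3, 0, 1, 3, 20], [4, 3, 0, 1, 3, 21], [4, 3, 0, 1, 3, 22], [4, 3, 0, 1, 3, 23], [4, 3, 0, 1, 3, 24], [4, 3, 0, 1, 7, 1], [4, 3, 0, 1, 7, 3], [4, 3, 0, 1, 7, 9], [4, 3, 0, 1, 7, 10], [4, 3, 0, 1, 7, 11], [4, 3, 0, 1, 7, 12], [4, 3, 0, 1, 7, 13], [4, 3, 0, 1, 7, 14], [4, 3, 0, 1, 7, 15], [4, 3, 0, 1, 7, 16], [4, 3, 0, 1, 7, 17], [4, 3, 0, 1, 7, 18], [4, 3, 0, 1, 7, 19], [4, 3, 0, 1, 7, 21], [4, 3, 0, 1, 7, 23], [4, 3, 0, 1, 8, 0], [4, 3, 0, 1, 8, 1], [4, 3, 0, 1, 8,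 3], [4, 3, 0, 1, 8, 4], [4, 3, 0, 1, 8, 5], [4, 3, 0, 1, 8, 8], [4, 3, 0, 1, 8, 9], [4, 3, 0, 1, 8, 12], [4, 3, 0, 1, 8, 13], [4, 3, 0, 1, 8, 14], [4, 3, 0, 1, 8, 15], [4, 3, 0, 1, 8, 16], [4, 3, 0, 1, 8, 17], [4, 3, 0, 1, 8, 18], [4, 3, 0, 1, 8, 20], [4, 3, 0, 1, 8, 22], [4, 3, 0, 1, 8, 23], [4, 3, 0, 1, 9, 0], [4, 3, 0, 1, 9, 3], [4, 3, 0, 1, 9, 5], [4, 3, 0, 1, 9, 14], [4, 3, 0, 1, 9, 15], [4, 3, 0, 1, 9, 17], [4, 3, 0, 1, 9, 19], [4, 3, 0, 1, 9, 23], [4, 3, 0, 1, 9, 24], [4, 3, 0, 1, 10, 3], [4, 3, 0, 1, 10, 5], [4, 3, 0, 1, 10, 7], [4, 3, 0, 1, 10, 8], [4, 3, 0, 1, 10, 13], [4, 3, 0, 1, 10, 14], [4, 3, 0, 1, 10, 15], [4, 3, 0, 1, 10, 16], [4, 3, 0, 1, 10, 17], [4, 3, 0, 1, 10, 18], [4, 3, 0, 1, 10, 20], [4, 3, 0, 1, 10,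 23], [4, 3, 0, 1, 10, 24], [4, 3, 0, 1, 11, 1], [4, 3, 0, 1, 11, 3], [4, 3, 0, 1, 11, 4], [4, 3, 0, 1, 11, 5], [4, 3, 0, 1, 11, 7], [4, 3, 0, 1, 11, 17], [4, 3, 0, 1, 11, 18], [4, 3, 0, 1, 11, 19], [4, 3, 0, 1, 11, 20], [4, 3, 0, 1, 11, 21], [4, 3, 0, 1, 11, 23], [4, 3, 0, 1, 12, 0], [4, 3, 0, 1, 12, 1], [4, 3, 0, 1, 12, 4], [4, 3, 0, 1, 12, 5], [4, 3, 0, 1, 12, 8], [4, 3, 0, 1, 12, 16], [4, 3, 0, 1, 12, 18], [4, 3, 0, 1, 12, 20], [4, 3, 0, 1, 13, 0], [4, 3, 0, 1, 13, 3], [4, 3, 0, 1, 13, 4], [4, 3, 0, 1, 13, 7], [4, 3, 0, 1, 13, 10], [4, 3, 0, 1, 13, 11], [4, 3, 0, 1, 13, 15], [4, 3, 0, 1, 13, 18], [4, 3, 0, 1, 13, 24], [4, 3, 0, 1, 14, 3], [4, 3, 0, 1, 14, 4], [4, 3, 0, 1, 14, 7], [4, 3, 0, 1, 14, 15], [4, 3, 0, 1, 14, 18],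 [4, 3, 0, 1, 14, 20], [4, 3, 0, 1, 14, 21], [4, 3, 0, 1, 14, 24], [4, 3, 0, 1, 15, 0], [4, 3, 0, 1, 15, 4], [4, 3, 0, 1, 15, 8], [4, 3, 0, 1, 15, 9], [4, 3, 0, 1, 15, 10], [4, 3, 0, 1, 15, 11], [4, 3, 0, 1, 15, 12], [4, 3, 0, 1, 15, 14], [4, 3, 0, 1, 15, 15], [4, 3, 0, 1, 15, 17], [4, 3, 0, 1, 15, 18], [4, 3, 0, 1, 15, 23], [4, 3, 0, 1, 15, 24], [4, 3, 0, 1, 16, 0], [4, 3, 0, 1, 16, 1], [4, 3, 0, 1, 16, 4], [4, 3, 0, 1, 16, 8], [4, 3, 0, 1, 16, 12], [4, 3, 0, 1, 16, 17], [4, 3, 0, 1, 16, 18], [4, 3, 0, 1, 16, 19], [4, 3, 0, 1, 16, 20], [4, 3, 0, 1, 16, 21], [4, 3, 0, 1, 16, 23], [4, 3, 0, 1, 16, 24], [4, 3, 0, 1, 17, 0], [4, 3, 0, 1, 17, 1], [4, 3, 0, 1, 17, 3], [4, 3, 0, 1, 17, 5], [4, 3, 0, 1, 17, 7], [4, 3, 0, 1, 17, 9], [4,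 3, 0, 1, 17, 12], [4, 3, 0, 1, 17, 13], [4, 3, 0, 1, 17, 15], [4, 3, 0, 1, 17, 16], [4, 3, 0, 1, 17, 24], [4, 3, 0, 1, 18, 0], [4, 3, 0, 1, 18, 1], [4, 3, 0, 1, 18, 7], [4, 3, 0, 1, 18, 8], [4, 3, 0, 1, 18, 9], [4, 3, 0, 1, 18, 10], [4, 3, 0, 1, 18, 11], [4, 3, 0, 1, 18, 12], [4, 3, 0, 1, 18, 14], [4, 3, 0, 1, 18, 15], [4, 3, 0, 1, 18, 16], [4, 3, 0, 1, 18, 18], [4, 3, 0, 1, 18, 24], [4, 3, 0, 1, 19, 0], [4, 3, 0, 1, 19, 1], [4, 3, 0, 1, 19, 3], [4, 3, 0, 1, 19, 4], [4, 3, 0, 1, 19, 5], [4, 3, 0, 1, 19, 7], [4, 3, 0, 1, 19, 8], [4, 3, 0, 1, 19, 9], [4, 3, 0, 1, 19, 10], [4, 3, 0, 1, 19, 11], [4, 3, 0, 1, 19, 12], [4, 3, 0, 1, 19, 13], [4, 3, 0, 1, 19, 23], [4, 3, 0, 1, 20, 3], [4, 3, 0, 1, 20, 4], [4, 3, 0, 1, 20, 9], [4, 3,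 0, 1, 20, 14], [4, 3, 0, 1, 20, 16], [4, 3, 0, 1, 20, 17], [4, 3, 0, 1, 21, 0], [4, 3, 0, 1, 21, 1], [4, 3, 0, 1, 21, 3], [4, 3, 0, 1, 21, 5], [4, 3, 0, 1, 21, 7], [4, 3, 0, 1, 21, 16], [4, 3, 0, 1, 22, 0], [4, 3, 0, 1, 22, 1], [4, 3, 0, 1, 22, 3], [4, 3, 0, 1, 22, 4], [4, 3, 0, 1, 22, 5], [4, 3, 0, 1, 22, 7], [4, 3, 0, 1, 22, 8], [4, 3, 0, 1, 22, 9], [4, 3, 0, 1, 22, 10], [4, 3, 0, 1, 22, 13], [4, 3, 0, 1, 22, 15], [4, 3, 0, 1, 22, 16], [4, 3, 0, 1, 23, 3], [4, 3, 0, 1, 23, 7], [4, 3, 0, 1, 23, 8], [4, 3, 0, 1, 23, 11], [4, 3, 0, 1, 23, 15], [4, 3, 0, 1, 23, 16], [4, 3, 0, 5, 0, 3], [4, 3, 0, 5, 0, 7], [4, 3, 0, 5, 0, 9], [4, 3, 0, 5, 0, 11], [4, 3, 0, 5, 0, 17], [4, 3, 0, 5, 0, 18], [4, 3, 0, 5, 0, 19], [4, 3, 0, 5, 5, 0],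 [4, 3, 0, 5, 5, 3], [4, 3, 0, 5, 5, 7], [4, 3, 0, 5, 5, 8], [4, 3, 0, 5, 16, 0], [4, 3, 0, 5, 16, 5], [4, 3, 0, 5, 20, 1], [4, 3, 0, 5, 22, 5], [4, 3, 0, 7, 0, 7], [4, 3, 0, 7, 0, 8], [4, 3, 0, 7, 0, 9], [4, 3, 0, 7, 0, 10], [4, 3, 0, 7, 0, 11], [4, 3, 0, 7, 0, 12], [4, 3, 0, 7, 0, 14], [4, 3, 0, 7, 0, 15], [4, 3, 0, 7, 0, 16], [4, 3, 0, 7, 0, 18], [4, 3, 0, 7, 0, 19], [4, 3, 0, 7, 0, 22], [4, 3, 0, 7, 0, 24], [4, 3, 0, 7, 1, 0], [4, 3, 0, 7, 1, 1], [4, 3, 0, 7, 1, 8], [4, 3, 0, 7, 1, 10], [4, 3, 0, 7, 1, 11], [4, 3, 0, 7, 1, 13], [4, 3, 0, 7, 1, 14], [4, 3, 0, 7, 1, 15], [4, 3, 0, 7, 1, 16], [4, 3, 0, 7, 1, 17], [4, 3, 0, 7, 1, 20], [4, 3, 0, 7, 1, 22], [4, 3, 0, 7, 1, 24], [4, 3, 0, 7, 5, 3], [4, 3, 0, 7, 5, 8], [4, 3, 0, 7,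 5, 14], [4, 3, 0, 7, 15, 5], [4, 3, 0, 7, 16, 5], [4, 3, 0, 8, 0, 0], [4, 3, 0, 8, 0, 1], [4, 3, 0, 8, 0, 9], [4, 3, 0, 8, 0, 10], [4, 3, 0, 8, 0, 11], [4, 3, 0, 8, 0, 14], [4, 3, 0, 8, 0, 18], [4, 3, 0, 8, 0, 19], [4, 3, 0, 8, 0, 20], [4, 3, 0, 8, 0, 21], [4, 3, 0, 8, 0, 23], [4, 3, 0, 8, 1, 9], [4, 3, 0, 8, 1, 11], [4, 3, 0, 8, 1, 12], [4, 3, 0, 8, 1, 13], [4, 3, 0, 8, 1, 17], [4, 3, 0, 8, 1, 18], [4, 3, 0, 8, 1, 19], [4, 3, 0, 8, 1, 21], [4, 3, 0, 8, 1, 22], [4, 3, 0, 8, 5, 4], [4, 3, 0, 8, 5, 5], [4, 3, 0, 8, 5, 8], [4, 3, 0, 9, 5, 0], [4, 3, 0, 9, 5, 3], [4, 3, 0, 9, 5, 4], [4, 3, 0, 9, 5, 7], [4, 3, 0, 9, 5, 8], [4, 3, 0, 9, 5, 9], [4, 3, 0, 9, 5, 10], [4, 3, 0, 9, 5, 11], [4, 3, 0, 9, 5, 12], [4, 3, 0, 9, 5, 13], [4, 3,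 0, 9, 5, 14], [4, 3, 0, 9, 5, 15], [4, 3, 0, 9, 5, 16], [4, 3, 0, 9, 5, 17], [4, 3, 0, 9, 5, 18], [4, 3, 0, 9, 5, 19], [4, 3, 0, 9, 5, 20], [4, 3, 0, 9, 5, 21], [4, 3, 0, 9, 5, 22], [4, 3, 0, 9, 5, 23], [4, 3, 0, 9, 5, 24], [4, 3, 0, 9, 17, 1], [4, 3, 0, 9, 17, 5], [4, 3, 0, 13, 1, 7], [4, 3, 0, 13, 1, 9], [4, 3, 0, 13, 5, 0], [4, 3, 0, 13, 5, 7], [4, 3, 0, 13, 5, 14], [4, 3, 0, 13, 5, 20], [4, 3, 0, 14, 0, 1], [4, 3, 0, 14, 0, 8], [4, 3, 0, 14, 0, 9], [4, 3, 0, 14, 0, 12], [4, 3, 0, 14, 0, 13], [4, 3, 0, 14, 0, 14], [4, 3, 0, 14, 0, 16], [4, 3, 0, 14, 0, 18], [4, 3, 0, 14, 0, 19], [4, 3, 0, 14, 0, 21], [4, 3, 0, 14, 0, 23], [4, 3, 0, 14, 0, 24], [4, 3, 0, 14, 1, 8], [4, 3, 0, 14, 1, 9], [4, 3, 0, 14, 1, 12], [4, 3, 0, 14, 1,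 14], [4, 3, 0, 14, 1, 17], [4, 3, 0, 14, 1, 18], [4, 3, 0, 14, 1, 23], [4, 3, 0, 14, 5, 9], [4, 3, 0, 14, 5, 10], [4, 3, 0, 14, 5, 14], [4, 3, 0, 14, 5, 15], [4, 3, 0, 14, 5, 19], [4, 3, 0, 14, 5, 23], [4, 3, 0, 15, 1, 1], [4, 3, 0, 15, 1, 10], [4, 3, 0, 15, 1, 11], [4, 3, 0, 15, 1, 13], [4, 3, 0, 15, 1, 14], [4, 3, 0, 15, 1, 15], [4, 3, 0, 15, 1, 19], [4, 3, 0, 15, 1, 20], [4, 3, 0, 15, 1, 23], [4, 3, 0, 16, 0, 7], [4, 3, 0, 16, 0, 8], [4, 3, 0, 16, 0, 9], [4, 3, 0, 16, 0, 10], [4, 3, 0, 16, 0, 11], [4, 3, 0, 16, 0, 12], [4, 3, 0, 16, 0, 13], [4, 3, 0, 16, 0, 14], [4, 3, 0, 16, 0, 15], [4, 3, 0, 16, 0, 17], [4, 3, 0, 16, 0, 18], [4, 3, 0, 16, 0, 19], [4, 3, 0, 16, 0, 20], [4, 3, 0, 16, 0, 21], [4, 3, 0, 16, 0, 23], [4, 3, 0,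 16, 0, 24], [4, 3, 0, 16, 1, 8], [4, 3, 0, 16, 1, 9], [4, 3, 0, 16, 1, 11], [4, 3, 0, 16, 1, 12], [4, 3, 0, 16, 1, 14], [4, 3, 0, 16, 1, 18], [4, 3, 0, 16, 1, 19], [4, 3, 0, 16, 1, 21], [4, 3, 0, 16, 1, 22], [4, 3, 0, 16, 4, 4], [4, 3, 0, 16, 5, 3], [4, 3, 0, 16, 5, 4], [4, 3, 0, 16, 5, 5], [4, 3, 0, 16, 5, 8], [4, 3, 0, 16, 5, 9], [4, 3, 0, 16, 5, 10], [4, 3, 0, 16, 5, 11], [4, 3, 0, 16, 5, 12], [4, 3, 0, 16, 5, 14], [4, 3, 0, 16, 5, 15], [4, 3, 0, 16, 5, 16], [4, 3, 0, 16, 5, 17], [4, 3, 0, 16, 5, 21], [4, 3, 0, 16, 5, 23], [4, 3, 0, 16, 5, 24], [4, 3, 0, 17, 0, 12], [4, 3, 0, 17, 0, 16], [4, 3, 0, 17, 0, 17], [4, 3, 0, 17, 0, 18], [4, 3, 0, 17, 0, 19], [4, 3, 0, 17, 1, 9], [4, 3, 0, 17, 5, 14], [4, 3, 0, 17, 5, 16], [4, 3,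 0, 20, 5, 4], [4, 3, 0, 20, 5, 5], [4, 3, 0, 20, 5, 7], [4, 3, 0, 20, 5, 8], [4, 3, 0, 20, 5, 16], [4, 3, 0, 20, 5, 18], [4, 3, 1, 0, 1, 1], [4, 3, 1, 0, 1, 8], [4, 3, 1, 0, 1, 21], [4, 3, 1, 0, 5, 7], [4, 3, 1, 0, 5, 8], [4, 3, 1, 0, 5, 9], [4, 3, 1, 0, 5, 10], [4, 3, 1, 0, 5, 11], [4, 3, 1, 0, 5, 12], [4, 3, 1, 0, 5, 15], [4, 3, 1, 0, 5, 17], [4, 3, 1, 0, 5, 18], [4, 3, 1, 0, 5, 20], [4, 3, 1, 1, 4, 3], [4, 3, 1, 1, 4, 5], [4, 3, 1, 1, 4, 8], [4, 3, 1, 1, 4, 10], [4, 3, 1, 1, 4, 15], [4, 3, 1, 7, 4, 11], [4, 3, 1, 7, 4, 12], [4, 3, 1, 7, 4, 14], [4, 3, 1, 7, 4, 16], [4, 3, 1, 7, 4, 18], [4, 3, 1, 7, 4, 19], [4, 3, 1, 7, 4, 20], [4, 3, 1, 7, 4, 21], [4, 3, 1, 7, 4, 23], [4, 3, 1, 7, 4, 24], [4, 3, 1, 9, 4, 3], [4, 3, 1, 9, 4,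 8], [4, 3, 1, 9, 4, 12], [4, 3, 1, 9, 4, 14], [4, 3, 1, 9, 4, 17], [4, 3, 1, 9, 4, 18], [4, 3, 1, 10, 4, 8], [4, 3, 1, 10, 4, 9], [4, 3, 1, 10, 4, 19], [4, 3, 1, 13, 4, 7], [4, 3, 1, 13, 4, 10], [4, 3, 1, 13, 4, 11], [4, 3, 1, 13, 4, 12], [4, 3, 1, 13, 4, 15], [4, 3, 1, 13, 4, 19], [4, 3, 1, 14, 4, 3], [4, 3, 1, 14, 4, 9], [4, 3, 1, 14, 4, 11], [4, 3, 1, 14, 4, 15], [4, 3, 1, 14, 4, 17], [4, 3, 1, 14, 4, 18], [4, 3, 1, 14, 4, 19], [4, 3, 1, 14, 4, 21], [4, 3, 1, 16, 4, 7], [4, 3, 1, 16, 4, 13], [4, 3, 1, 16, 4, 14], [4, 3, 1, 16, 4, 17], [4, 3, 1, 16, 4, 18], [4, 3, 1, 16, 4, 19], [4, 3, 1, 16, 4, 20], [4, 3, 1, 20, 4, 8], [4, 3, 1, 20, 4, 18], [4, 3, 1, 20, 4, 19], [4, 3, 1, 20, 4, 21], [4, 3, 1, 20, 4, 22], [4, 3, 1, 22, 4,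 8], [4, 3, 1, 22, 4, 15], [4, 3, 1, 22, 4, 16], [4, 3, 1, 22, 4, 20], [4, 3, 1, 24, 4, 7], [4, 3, 1, 24, 4, 9], [4, 3, 1, 24, 4, 10], [4, 3, 1, 24, 4, 11], [4, 3, 1, 24, 4, 13], [4, 3, 1, 24, 4, 20], [4, 3, 5, 0, 0, 9], [4, 3, 5, 0, 0, 10], [4, 3, 5, 0, 0, 13], [4, 3, 5, 0, 11, 1], [4, 3, 5, 0, 11, 5], [4, 3, 7, 5, 4, 8], [4, 3, 7, 5, 4, 16], [4, 3, 7, 5, 4, 19], [4, 3, 7, 5, 4, 22], [4, 3, 9, 0, 1, 7], [4, 3, 9, 0, 1, 8], [4, 3, 9, 0, 1, 12], [4, 3, 9, 0, 1, 13], [4, 3, 9, 0, 1, 14], [4, 3, 9, 0, 1, 19], [4, 3, 9, 0, 1, 20], [4, 3, 9, 0, 1, 24], [4, 3, 9, 0, 16, 5], [4, 3, 9, 0, 17, 5], [4, 3, 12, 0, 1, 1], [4, 3, 12, 0, 1, 19], [4, 3, 12, 0, 1, 20], [4, 3, 12, 0, 1, 22], [4, 3, 12, 0, 1, 23], [4, 3, 12, 0, 5, 5], [4, 3, 12,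 0, 7, 5], [4, 3, 12, 4, 4, 11], [4, 3, 12, 4, 4, 16], [4, 3, 12, 4, 4, 20], [4, 3, 12, 4, 4, 24], [4, 3, 13, 0, 0, 0], [4, 3, 13, 0, 0, 9], [4, 3, 13, 0, 0, 13], [4, 3, 13, 0, 0, 14], [4, 3, 13, 0, 0, 16], [4, 3, 13, 0, 0, 17], [4, 3, 13, 0, 0, 20], [4, 3, 13, 0, 0, 21], [4, 3, 13, 0, 0, 23], [4, 3, 13, 0, 1, 7], [4, 3, 13, 0, 1, 9], [4, 3, 13, 0, 1, 10], [4, 3, 13, 0, 1, 13], [4, 3, 13, 0, 1, 21], [4, 3, 13, 0, 16, 0], [4, 3, 13, 0, 22, 5], [4, 3, 13, 4, 4, 8], [4, 3, 13, 4, 4, 15], [4, 3, 13, 4, 4, 16], [4, 3, 13, 4, 4, 23], [4, 3, 13, 4, 4, 24], [4, 3, 13, 5, 4, 3], [4, 3, 13, 5, 4, 7], [4, 3, 13, 5, 4, 14], [4, 3, 13, 5, 4, 16], [4, 3, 13, 5, 4, 17], [4, 3, 13, 5, 4, 18], [4, 3, 13, 5, 4, 19], [4, 3, 13, 5, 4, 23], [4, 3,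 13, 5, 4, 24], [4, 3, 14, 0, 0, 9], [4, 3, 14, 0, 0, 14], [4, 3, 14, 0, 0, 16], [4, 3, 14, 0, 0, 23], [4, 3, 14, 0, 15, 5], [4, 3, 14, 0, 18, 0], [4, 3, 14, 0, 18, 5], [4, 3, 14, 0, 21, 5], [4, 3, 15, 0, 8, 0], [4, 3, 15, 0, 8, 5], [4, 3, 15, 0, 17, 5], [4, 3, 19, 4, 4, 10], [4, 3, 19, 4, 4, 13], [4, 3, 19, 4, 4, 17], [4, 3, 19, 4, 4, 18], [4, 3, 19, 4, 4, 20], [4, 3, 19, 4, 4, 23], [4, 3, 20, 4, 4, 3], [4, 3, 20, 4, 4, 15], [4, 3, 20, 4, 4, 16], [4, 3, 20, 5, 4, 7], [4, 3, 20, 5, 4, 16], [4, 3, 20, 5, 4, 18], [4, 3, 20, 5, 4, 19], [4, 3, 20, 5, 4, 20], [4, 3, 20, 5, 4, 21], [4, 3, 20, 5, 4, 22], [4, 3, 20, 5, 4, 23], [4, 3, 20, 5, 4, 24], [4, 3, 22, 0, 0, 1], [4, 3, 22, 0, 0, 8], [4, 3, 22, 0, 0, 10], [4, 3, 22, 0, 0, 13], [4,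 3, 22, 0, 0, 24], [4, 3, 22, 0, 1, 1], [4, 3, 22, 0, 1, 7], [4, 3, 22, 0, 1, 10], [4, 3, 22, 0, 1, 11], [4, 3, 22, 0, 1, 13], [4, 3, 22, 0, 1, 14], [4, 3, 22, 0, 1, 18], [4, 3, 22, 0, 1, 22], [4, 3, 22, 0, 1, 24], [4, 3, 22, 0, 22, 0], [4, 3, 22, 0, 22, 5], [4, 3, 22, 4, 4, 3], [4, 3, 22, 4, 4, 8], [4, 3, 22, 4, 4, 14], [4, 3, 22, 4, 4, 16], [4, 3, 22, 4, 4, 18], [4, 3, 22, 4, 4, 20], [4, 3, 22, 4, 4, 21], [4, 3, 22, 4, 4, 22], [4, 3, 22, 4, 4, 23], [4, 3, 22, 5, 4, 4], [4, 3, 22, 5, 4, 5], [4, 3, 22, 5, 4, 7], [4, 3, 22, 5, 4, 18], [4, 3, 22, 5, 4, 22], [4, 3, 24, 0, 0, 7], [4, 3, 24, 0, 0, 14], [4, 3, 24, 0, 0, 15], [4, 3, 24, 0, 0, 16], [4, 3, 24, 0, 1, 7], [4, 3, 24, 0, 1, 9], [4, 3, 24, 0, 1, 13], [4, 3, 24, 0, 1, 15], [4,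 3, 24, 0, 22, 5], [4, 3, 24, 5, 4, 17], [4, 5, 7, 0, 0, 9], [4, 5, 7, 0, 0, 11], [4, 5, 7, 0, 0, 13], [4, 5, 7, 0, 0, 18], [4, 5, 7, 0, 0, 21], [4, 5, 7, 0, 21, 5], [4, 5, 7, 0, 22, 0], [4, 5, 7, 0, 22, 1], [4, 5, 7, 0, 22, 5], [4, 5, 7, 0, 23, 0], [4, 5, 7, 4, 4, 1], [4, 5, 7, 4, 4, 8], [4, 5, 8, 0, 0, 7], [4, 5, 8, 0, 0, 8], [4, 5, 8, 0, 0, 13], [4, 5, 8, 0, 12, 5], [4, 5, 8, 0, 17, 1], [4, 5, 8, 0, 17, 5], [4, 5, 8, 4, 4, 1], [4, 5, 8, 4, 4, 3], [4, 5, 8, 4, 4, 8], [4, 5, 8, 4, 4, 16], [4, 5, 8, 4, 4, 23], [4, 5, 8, 4, 9, 4], [4, 5, 8, 5, 4, 3], [4, 5, 8, 5, 4, 7], [4, 5, 8, 5, 4, 12], [4, 5, 8, 5, 4, 14], [4, 5, 8, 5, 4, 16], [4, 5, 8, 5, 4, 20], [4, 5, 12, 5, 4, 7], [4, 5, 12, 5, 4, 8], [4, 5, 12, 5, 4, 12], [4, 5, 12, 5,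 4, 17], [4, 5, 12, 5, 4, 18], [4, 5, 12, 5, 4, 19], [4, 5, 12, 5, 4, 23], [4, 5, 16, 0, 0, 1], [4, 5, 16, 0, 0, 11], [4, 5, 16, 0, 0, 13], [4, 5, 16, 0, 0, 16], [4, 5, 16, 0, 0, 17], [4, 5, 16, 0, 0, 18], [4, 5, 16, 0, 1, 1], [4, 5, 16, 0, 1, 7], [4, 5, 16, 0, 1, 11], [4, 5, 16, 0, 1, 18], [4, 5, 16, 0, 1, 19], [4, 5, 16, 0, 1, 20], [4, 5, 16, 0, 1, 22], [4, 5, 16, 4, 4, 3], [4, 5, 16, 4, 4, 8], [4, 5, 16, 4, 4, 12], [4, 5, 16, 4, 4, 13], [4, 5, 16, 4, 4, 15], [4, 5, 16, 4, 4, 18], [4, 5, 16, 4, 4, 19], [4, 5, 16, 4, 4, 20], [4, 5, 16, 4, 4, 21], [4, 5, 16, 4, 4, 23], [4, 5, 16, 4, 4, 24], [4, 5, 16, 5, 4, 4], [4, 5, 16, 5, 4, 14], [4, 5, 16, 5, 4, 16], [4, 5, 16, 5, 4, 17], [4, 5, 16, 5, 4, 20], [4, 5, 16, 5, 4, 21], [4, 5,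 16, 5, 4, 23], [4, 5, 17, 0, 0, 7], [4, 5, 17, 0, 0, 14], [4, 5, 17, 0, 1, 7], [4, 5, 17, 0, 1, 17], [4, 5, 17, 0, 1, 23], [4, 5, 17, 5, 4, 3], [4, 5, 17, 5, 4, 7], [4, 5, 17, 5, 4, 8], [4, 5, 17, 5, 4, 16], [4, 5, 17, 5, 4, 19], [4, 5, 18, 0, 0, 1], [4, 5, 18, 0, 1, 0], [4, 5, 18, 0, 1, 13], [4, 5, 18, 0, 1, 16], [4, 5, 18, 0, 1, 18], [4, 5, 23, 0, 0, 17], [4, 5, 23, 0, 0, 18], [4, 5, 23, 5, 4, 14], [4, 5, 23, 5, 4, 15], [4, 5, 23, 5, 4, 16], [4, 7, 0, 0, 0, 9], [4, 7, 0, 0, 0, 10], [4, 7, 0, 0, 0, 15], [4, 7, 0, 0, 0, 16], [4, 7, 0, 0, 1, 7], [4, 7, 0, 0, 1, 10], [4, 7, 0, 0, 1, 12], [4, 7, 0, 0, 1, 14], [4, 7, 0, 0, 1, 17], [4, 7, 0, 0, 1, 21], [4, 7, 0, 0, 1, 23], [4, 7, 0, 0, 3, 10], [4, 7, 0, 0, 3, 12], [4, 7, 0, 0, 3,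 16], [4, 7, 0, 0, 3, 17], [4, 7, 0, 0, 3, 19], [4, 7, 0, 0, 3, 20], [4, 7, 0, 0, 3, 21], [4, 7, 0, 0, 7, 4], [4, 7, 0, 0, 7, 5], [4, 7, 0, 0, 7, 9], [4, 7, 0, 0, 7, 12], [4, 7, 0, 0, 7, 20], [4, 7, 0, 0, 7, 22], [4, 7, 0, 0, 8, 1], [4, 7, 0, 0, 8, 4], [4, 7, 0, 0, 8, 5], [4, 7, 0, 0, 8, 8], [4, 7, 0, 0, 8, 16], [4, 7, 0, 0, 8, 17], [4, 7, 0, 0, 8, 23], [4, 7, 0, 0, 8, 24], [4, 7, 0, 0, 9, 5], [4, 7, 0, 0, 9, 13], [4, 7, 0, 0, 9, 14], [4, 7, 0, 0, 9, 20], [4, 7, 0, 0, 9, 22], [4, 7, 0, 0, 9, 24], [4, 7, 0, 0, 10, 7], [4, 7, 0, 0, 10, 15], [4, 7, 0, 0, 10, 22], [4, 7, 0, 0, 10, 24], [4, 7, 0, 0, 11, 3], [4, 7, 0, 0, 11, 7], [4, 7, 0, 0, 12, 3], [4, 7, 0, 0, 12, 8], [4, 7, 0, 0, 13, 3], [4, 7, 0, 0, 13, 4], [4, 7, 0, 0, 13, 9],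 [4, 7, 0, 0, 13, 10], [4, 7, 0, 0, 13, 11], [4, 7, 0, 0, 13, 17], [4, 7, 0, 0, 13, 22], [4, 7, 0, 0, 14, 3], [4, 7, 0, 0, 14, 7], [4, 7, 0, 0, 14, 20], [4, 7, 0, 0, 14, 23], [4, 7, 0, 0, 14, 24], [4, 7, 0, 0, 15, 7], [4, 7, 0, 0, 15, 9], [4, 7, 0, 0, 15, 10], [4, 7, 0, 0, 15, 24], [4, 7, 0, 0, 16, 16], [4, 7, 0, 0, 16, 20], [4, 7, 0, 0, 16, 23], [4, 7, 0, 0, 17, 3], [4, 7, 0, 0, 17, 5], [4, 7, 0, 0, 17, 8], [4, 7, 0, 0, 18, 8], [4, 7, 0, 0, 18, 12], [4, 7, 0, 0, 18, 16], [4, 7, 0, 0, 19, 7], [4, 7, 0, 0, 19, 14], [4, 7, 0, 0, 19, 17], [4, 7, 0, 0, 20, 0], [4, 7, 0, 0, 20, 16], [4, 7, 0, 0, 21, 3], [4, 7, 0, 0, 21, 7], [4, 7, 0, 0, 21, 8], [4, 7, 0, 0, 21, 13], [4, 7, 0, 0, 22, 10], [4, 7, 0, 0, 22, 17], [4, 7, 0, 0, 24, 16],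 [4, 7, 0, 1, 0, 9], [4, 7, 0, 1, 0, 14], [4, 7, 0, 1, 1, 0], [4, 7, 0, 1, 1, 3], [4, 7, 0, 1, 1, 13], [4, 7, 0, 1, 1, 16], [4, 7, 0, 1, 1, 17], [4, 7, 0, 1, 3, 1], [4, 7, 0, 1, 3, 9], [4, 7, 0, 1, 8, 24], [4, 7, 0, 1, 9, 17], [4, 7, 0, 1, 11, 4], [4, 7, 0, 1, 11, 5], [4, 7, 0, 1, 11, 20], [4, 7, 0, 1, 11, 21], [4, 7, 0, 1, 11, 24], [4, 7, 0, 1, 12, 0], [4, 7, 0, 1, 12, 4], [4, 7, 0, 1, 12, 8], [4, 7, 0, 1, 12, 16], [4, 7, 0, 1, 12, 18], [4, 7, 0, 1, 12, 23], [4, 7, 0, 1, 14, 0], [4, 7, 0, 1, 15, 8], [4, 7, 0, 1, 15, 13], [4, 7, 0, 1, 15, 15], [4, 7, 0, 1, 15, 18], [4, 7, 0, 1, 17, 4], [4, 7, 0, 1, 17, 11], [4, 7, 0, 1, 17, 19], [4, 7, 0, 1, 18, 12], [4, 7, 0, 1, 18, 14], [4, 7, 0, 1, 19, 0], [4, 7, 0, 1, 19, 1], [4, 7, 0, 1,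 19, 5], [4, 7, 0, 1, 19, 11], [4, 7, 0, 1, 19, 14], [4, 7, 0, 1, 19, 15], [4, 7, 0, 1, 19, 21], [4, 7, 0, 1, 20, 7], [4, 7, 0, 1, 20, 8], [4, 7, 0, 1, 20, 15], [4, 7, 0, 1, 21, 1], [4, 7, 0, 1, 21, 5], [4, 7, 0, 1, 22, 11], [4, 7, 0, 1, 22, 14], [4, 7, 0, 1, 22, 20], [4, 7, 0, 1, 23, 5], [4, 7, 0, 1, 23, 11], [4, 7, 0, 1, 23, 12], [4, 7, 0, 1, 23, 13], [4, 7, 0, 5, 0, 8], [4, 7, 0, 5, 0, 21], [4, 7, 0, 5, 0, 24], [4, 7, 0, 5, 5, 7], [4, 7, 0, 5, 5, 17], [4, 7, 0, 5, 5, 21], [4, 7, 0, 5, 12, 5], [4, 7, 0, 8, 0, 7], [4, 7, 0, 8, 0, 9], [4, 7, 0, 8, 0, 10], [4, 7, 0, 8, 0, 12], [4, 7, 0, 10, 0, 7], [4, 7, 0, 10, 0, 10], [4, 7, 0, 10, 0, 13], [4, 7, 0, 10, 0, 16], [4, 7, 0, 10, 1, 8], [4, 7, 0, 10, 1, 17], [4, 7, 0, 10, 1, 18], [4,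 7, 0, 10, 5, 8], [4, 7, 0, 10, 5, 9], [4, 7, 0, 10, 5, 12], [4, 7, 0, 10, 5, 13], [4, 7, 0, 13, 0, 19], [4, 7, 0, 13, 1, 15], [4, 7, 0, 13, 5, 5], [4, 7, 0, 13, 5, 7], [4, 7, 0, 13, 5, 9], [4, 7, 0, 13, 5, 10], [4, 7, 0, 13, 5, 11], [4, 7, 0, 13, 5, 12], [4, 7, 0, 13, 5, 14], [4, 7, 0, 13, 5, 20], [4, 7, 0, 15, 1, 7], [4, 7, 0, 15, 1, 9], [4, 7, 0, 16, 0, 16], [4, 7, 0, 16, 0, 22], [4, 7, 0, 16, 1, 12], [4, 7, 0, 16, 1, 23], [4, 7, 0, 16, 1, 24], [4, 7, 0, 16, 5, 10], [4, 7, 0, 16, 5, 18], [4, 7, 0, 16, 5, 24], [4, 7, 0, 16, 18, 5], [4, 7, 0, 17, 0, 8], [4, 7, 0, 17, 0, 12], [4, 7, 0, 17, 1, 8], [4, 7, 0, 17, 5, 3], [4, 7, 0, 17, 5, 9], [4, 7, 0, 17, 5, 13], [4, 7, 0, 17, 5, 14], [4, 7, 0, 18, 0, 1], [4, 7, 0, 18, 0, 7], [4,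 7, 0, 18, 1, 12], [4, 7, 0, 18, 1, 14], [4, 7, 0, 18, 1, 20], [4, 7, 0, 19, 1, 1], [4, 7, 0, 19, 1, 9], [4, 7, 0, 19, 1, 14], [4, 7, 0, 19, 1, 18], [4, 7, 0, 19, 1, 23], [4, 7, 0, 19, 5, 3], [4, 7, 0, 19, 5, 15], [4, 7, 0, 19, 5, 16], [4, 7, 0, 19, 5, 19], [4, 7, 0, 19, 9, 1], [4, 7, 0, 19, 9, 5], [4, 7, 0, 21, 0, 7], [4, 7, 0, 21, 0, 8], [4, 7, 0, 21, 0, 12], [4, 7, 0, 21, 0, 18], [4, 7, 0, 21, 0, 19], [4, 7, 0, 21, 0, 21], [4, 7, 0, 21, 0, 22], [4, 7, 0, 21, 5, 8], [4, 7, 0, 21, 5, 11], [4, 7, 0, 21, 5, 14], [4, 7, 0, 21, 5, 17], [4, 7, 0, 21, 5, 18], [4, 7, 0, 21, 12, 5], [4, 7, 0, 22, 1, 1], [4, 7, 0, 23, 5, 4], [4, 7, 0, 23, 5, 7], [4, 7, 0, 24, 17, 0], [4, 7, 1, 0, 5, 3], [4, 7, 1, 0, 5, 13], [4, 7, 1, 0, 5, 16], [4, 7,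 1, 0, 13, 5], [4, 7, 1, 4, 5, 8], [4, 7, 1, 4, 5, 11], [4, 7, 1, 4, 5, 14], [4, 7, 1, 4, 5, 16], [4, 7, 1, 4, 5, 18], [4, 7, 1, 4, 5, 23], [4, 7, 1, 7, 4, 1], [4, 7, 1, 7, 4, 3], [4, 7, 1, 7, 4, 9], [4, 7, 1, 7, 4, 15], [4, 7, 1, 7, 4, 18], [4, 7, 1, 7, 4, 24], [4, 7, 1, 8, 4, 1], [4, 7, 1, 8, 4, 3], [4, 7, 1, 8, 4, 7], [4, 7, 1, 8, 4, 8], [4, 7, 1, 8, 4, 10], [4, 7, 1, 8, 4, 11], [4, 7, 1, 8, 4, 12], [4, 7, 1, 8, 4, 13], [4, 7, 1, 8, 4, 14], [4, 7, 1, 8, 4, 17], [4, 7, 1, 8, 4, 19], [4, 7, 1, 8, 4, 21], [4, 7, 1, 8, 4, 23], [4, 7, 1, 8, 4, 24], [4, 7, 1, 9, 4, 3], [4, 7, 1, 9, 4, 8], [4, 7, 1, 10, 4, 7], [4, 7, 1, 10, 4, 8], [4, 7, 1, 10, 4, 9], [4, 7, 1, 10, 4, 10], [4, 7, 1, 10, 4, 20], [4, 7, 1, 13, 4, 8], [4, 7, 1, 13, 4,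 9], [4, 7, 1, 13, 4, 10], [4, 7, 1, 13, 4, 11], [4, 7, 1, 13, 4, 12], [4, 7, 1, 13, 4, 14], [4, 7, 1, 13, 4, 15], [4, 7, 1, 13, 4, 17], [4, 7, 1, 13, 4, 22], [4, 7, 1, 13, 4, 23], [4, 7, 1, 13, 4, 24], [4, 7, 1, 16, 4, 3], [4, 7, 1, 16, 4, 7], [4, 7, 1, 16, 4, 8], [4, 7, 1, 16, 4, 9], [4, 7, 1, 16, 4, 10], [4, 7, 1, 16, 4, 11], [4, 7, 1, 16, 4, 12], [4, 7, 1, 16, 4, 13], [4, 7, 1, 16, 4, 14], [4, 7, 1, 16, 4, 18], [4, 7, 1, 16, 4, 19], [4, 7, 1, 16, 4, 21], [4, 7, 1, 16, 4, 23], [4, 7, 1, 16, 4, 24], [4, 7, 1, 18, 4, 1], [4, 7, 1, 18, 4, 5], [4, 7, 1, 18, 4, 8], [4, 7, 1, 18, 4, 20], [4, 7, 1, 18, 4, 22], [4, 7, 1, 21, 4, 9], [4, 7, 1, 21, 4, 14], [4, 7, 4, 1, 4, 8], [4, 7, 4, 1, 4, 16], [4, 7, 4, 1, 4, 17], [4, 7, 4, 3, 4, 3],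 [4, 7, 4, 3, 4, 5], [4, 7, 4, 3, 4, 17], [4, 7, 4, 4, 1, 1], [4, 7, 4, 4, 1, 3], [4, 7, 4, 4, 1, 9], [4, 7, 4, 4, 1, 19], [4, 7, 4, 4, 3, 9], [4, 7, 4, 4, 3, 21], [4, 7, 4, 4, 7, 10], [4, 7, 4, 4, 7, 12], [4, 7, 4, 4, 8, 15], [4, 7, 4, 4, 10, 1], [4, 7, 4, 4, 10, 4], [4, 7, 4, 4, 10, 14], [4, 7, 4, 4, 10, 18], [4, 7, 4, 4, 10, 22], [4, 7, 4, 4, 11, 1], [4, 7, 4, 4, 11, 23], [4, 7, 4, 4, 12, 22], [4, 7, 4, 4, 13, 15], [4, 7, 4, 4, 14, 1], [4, 7, 4, 4, 14, 4], [4, 7, 4, 4, 14, 7], [4, 7, 4, 4, 14, 16], [4, 7, 4, 4, 14, 19], [4, 7, 4, 4, 15, 0], [4, 7, 4, 4, 15, 1], [4, 7, 4, 4, 15, 12], [4, 7, 4, 4, 15, 21], [4, 7, 4, 4, 15, 22], [4, 7, 4, 4, 16, 7], [4, 7, 4, 4, 16, 11], [4, 7, 4, 4, 16, 14], [4, 7, 4, 4, 16, 20], [4, 7, 4, 4,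 16, 21], [4, 7, 4, 4, 17, 10], [4, 7, 4, 4, 17, 13], [4, 7, 4, 4, 17, 23], [4, 7, 4, 4, 18, 0], [4, 7, 4, 4, 18, 4], [4, 7, 4, 4, 18, 7], [4, 7, 4, 4, 19, 0], [4, 7, 4, 4, 19, 8], [4, 7, 4, 4, 19, 18], [4, 7, 4, 4, 20, 3], [4, 7, 4, 4, 21, 11], [4, 7, 4, 4, 22, 1], [4, 7, 4, 4, 22, 8], [4, 7, 4, 4, 22, 9], [4, 7, 4, 4, 22, 17], [4, 7, 4, 4, 23, 4], [4, 7, 4, 4, 23, 14], [4, 7, 4, 4, 24, 5], [4, 7, 4, 4, 24, 12], [4, 7, 4, 7, 4, 17], [4, 7, 4, 15, 4, 16], [4, 7, 4, 16, 4, 1], [4, 7, 4, 16, 4, 3], [4, 7, 4, 16, 4, 19], [4, 7, 4, 18, 4, 7], [4, 7, 5, 0, 15, 5], [4, 7, 5, 7, 4, 7], [4, 7, 5, 7, 4, 10], [4, 7, 5, 9, 4, 3], [4, 7, 5, 9, 4, 4], [4, 7, 5, 9, 4, 8], [4, 7, 5, 9, 4, 10], [4, 7, 5, 9, 4, 13], [4, 7, 5, 9, 4, 18], [4, 7,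 5, 9, 4, 19], [4, 7, 5, 9, 4, 20], [4, 7, 5, 9, 4, 21], [4, 7, 5, 12, 4, 18], [4, 7, 5, 13, 4, 3], [4, 7, 5, 13, 4, 7], [4, 7, 5, 13, 4, 19], [4, 7, 5, 13, 4, 20], [4, 7, 5, 13, 4, 21], [4, 7, 5, 13, 4, 22], [4, 7, 5, 13, 4, 23], [4, 7, 5, 14, 4, 8], [4, 7, 5, 16, 4, 13], [4, 7, 5, 16, 4, 24], [4, 7, 5, 20, 4, 10], [4, 7, 5, 20, 4, 18], [4, 7, 5, 21, 4, 12], [4, 7, 5, 22, 4, 14], [4, 7, 5, 22, 4, 18], [4, 7, 7, 5, 4, 7], [4, 7, 7, 5, 4, 16], [4, 7, 9, 0, 1, 8], [4, 7, 9, 0, 1, 13], [4, 7, 11, 0, 1, 21], [4, 7, 11, 4, 4, 4], [4, 7, 11, 4, 4, 15], [4, 7, 12, 0, 1, 15], [4, 7, 17, 0, 1, 7], [4, 7, 17, 0, 1, 15], [4, 7, 18, 0, 8, 5], [4, 8, 0, 0, 0, 3], [4, 8, 0, 0, 0, 7], [4, 8, 0, 0, 0, 9], [4, 8, 0, 0, 0, 14], [4, 8, 0, 0, 0,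 16], [4, 8, 0, 0, 3, 1], [4, 8, 0, 0, 3, 7], [4, 8, 0, 0, 3, 11], [4, 8, 0, 0, 3, 12], [4, 8, 0, 0, 3, 18], [4, 8, 0, 0, 7, 1], [4, 8, 0, 0, 7, 5], [4, 8, 0, 0, 7, 9], [4, 8, 0, 0, 8, 0], [4, 8, 0, 0, 8, 1], [4, 8, 0, 0, 8, 5], [4, 8, 0, 0, 8, 10], [4, 8, 0, 0, 8, 22], [4, 8, 0, 0, 9, 0], [4, 8, 0, 0, 9, 1], [4, 8, 0, 0, 9, 5], [4, 8, 0, 0, 9, 11], [4, 8, 0, 0, 9, 17], [4, 8, 0, 0, 9, 23], [4, 8, 0, 0, 10, 0], [4, 8, 0, 0, 10, 5], [4, 8, 0, 0, 10, 17], [4, 8, 0, 0, 10, 20], [4, 8, 0, 0, 10, 22], [4, 8, 0, 0, 11, 17], [4, 8, 0, 0, 12, 0], [4, 8, 0, 0, 12, 3], [4, 8, 0, 0, 12, 19], [4, 8, 0, 0, 13, 0], [4, 8, 0, 0, 13, 20], [4, 8, 0, 0, 15, 0], [4, 8, 0, 0, 16, 5], [4, 8, 0, 0, 17, 0], [4, 8, 0, 0, 17, 10], [4, 8, 0, 0, 18, 10],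 [4, 8, 0, 0, 18, 11], [4, 8, 0, 0, 18, 15], [4, 8, 0, 0, 21, 3], [4, 8, 0, 0, 22, 3], [4, 8, 0, 0, 22, 9], [4, 8, 0, 1, 3, 9], [4, 8, 0, 1, 10, 21], [4, 8, 0, 1, 11, 0], [4, 8, 0, 1, 12, 15], [4, 8, 0, 1, 12, 18], [4, 8, 0, 1, 15, 23], [4, 8, 0, 1, 17, 1], [4, 8, 0, 1, 18, 0], [4, 8, 0, 1, 19, 4], [4, 8, 0, 1, 19, 11], [4, 8, 0, 1, 19, 12], [4, 8, 0, 1, 20, 8], [4, 8, 0, 1, 21, 9], [4, 8, 0, 1, 21, 11], [4, 8, 0, 1, 22, 9], [4, 8, 0, 1, 22, 12], [4, 8, 0, 1, 22, 15], [4, 8, 0, 1, 23, 5], [4, 8, 0, 1, 24, 11], [4, 8, 0, 5, 0, 18], [4, 8, 0, 7, 5, 15], [4, 8, 0, 7, 5, 21], [4, 8, 0, 8, 0, 8], [4, 8, 0, 8, 1, 11], [4, 8, 0, 9, 0, 7], [4, 8, 0, 9, 0, 16], [4, 8, 0, 9, 1, 1], [4, 8, 0, 9, 5, 19], [4, 8, 0, 9, 5, 20], [4, 8, 0, 10,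 5, 10], [4, 8, 0, 11, 1, 12], [4, 8, 0, 11, 1, 17], [4, 8, 0, 11, 1, 19], [4, 8, 0, 11, 5, 8], [4, 8, 0, 11, 5, 13], [4, 8, 0, 12, 0, 14], [4, 8, 0, 12, 0, 21], [4, 8, 0, 12, 5, 8], [4, 8, 0, 13, 1, 8], [4, 8, 0, 13, 1, 17], [4, 8, 0, 13, 1, 18], [4, 8, 0, 13, 1, 20], [4, 8, 0, 14, 0, 8], [4, 8, 0, 14, 0, 19], [4, 8, 0, 14, 0, 23], [4, 8, 0, 14, 3, 5], [4, 8, 0, 14, 5, 8], [4, 8, 0, 14, 5, 10], [4, 8, 0, 14, 5, 12], [4, 8, 0, 14, 5, 16], [4, 8, 0, 14, 5, 18], [4, 8, 0, 16, 0, 9], [4, 8, 0, 16, 0, 14], [4, 8, 0, 16, 0, 18], [4, 8, 0, 16, 5, 11], [4, 8, 0, 17, 5, 4], [4, 8, 0, 17, 5, 8], [4, 8, 0, 17, 5, 20], [4, 8, 0, 18, 5, 4], [4, 8, 0, 18, 5, 23], [4, 8, 0, 19, 5, 16], [4, 8, 0, 20, 1, 10], [4, 8, 0, 20, 1, 15], [4, 8, 0, 20,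 1, 17], [4, 8, 0, 20, 1, 19], [4, 8, 0, 21, 1, 16], [4, 8, 0, 22, 5, 8], [4, 8, 0, 24, 0, 14], [4, 8, 0, 24, 0, 17], [4, 8, 0, 24, 0, 20], [4, 8, 1, 7, 4, 8], [4, 8, 1, 7, 4, 9], [4, 8, 1, 14, 4, 3], [4, 8, 1, 17, 4, 16], [4, 8, 1, 20, 4, 8], [4, 8, 1, 20, 4, 11], [4, 8, 1, 20, 4, 22], [4, 8, 3, 5, 4, 17], [4, 8, 4, 4, 7, 10], [4, 8, 4, 4, 8, 5], [4, 8, 4, 4, 12, 1], [4, 8, 4, 4, 12, 19], [4, 8, 4, 4, 13, 5], [4, 8, 4, 4, 13, 9], [4, 8, 4, 4, 15, 1], [4, 8, 4, 4, 15, 17], [4, 8, 4, 4, 18, 7], [4, 8, 4, 4, 20, 5], [4, 8, 4, 4, 21, 4], [4, 8, 4, 4, 21, 18], [4, 8, 4, 4, 24, 20], [4, 8, 4, 5, 4, 8], [4, 8, 5, 0, 5, 0], [4, 8, 5, 0, 5, 3], [4, 8, 5, 0, 5, 13], [4, 8, 5, 10, 4, 5], [4, 8, 5, 10, 4, 8], [4, 8, 5, 10, 4, 11], [4, 8,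 5, 10, 4, 19], [4, 8, 5, 12, 4, 22], [4, 8, 5, 13, 4, 3], [4, 8, 5, 13, 4, 7], [4, 8, 5, 13, 4, 9], [4, 8, 5, 13, 4, 14], [4, 8, 5, 13, 4, 17], [4, 8, 5, 13, 4, 22], [4, 8, 5, 16, 4, 13], [4, 8, 5, 18, 4, 3], [4, 8, 18, 0, 0, 8], [4, 8, 19, 4, 4, 3], [4, 8, 21, 0, 0, 9], [4, 9, 7, 5, 4, 9], [4, 9, 14, 0, 1, 18], [4, 9, 20, 4, 4, 14], [4, 9, 23, 4, 4, 14], [4, 10, 14, 0, 1, 12], [4, 10, 14, 0, 1, 15], [4, 10, 23, 5, 4, 3], [4, 10, 23, 5, 4, 21], [4, 11, 23, 5, 4, 16], [4, 12, 5, 0, 0, 14], [4, 13, 1, 7, 4, 4], [4, 13, 1, 11, 4, 3], [4, 13, 1, 17, 4, 1], [4, 13, 1, 17, 4, 3], [4, 13, 1, 17, 4, 4], [4, 13, 1, 17, 4, 7], [4, 13, 1, 17, 4, 9], [4, 13, 1, 17, 4, 11], [4, 13, 1, 17, 4, 12], [4, 13, 1, 17, 4, 13], [4, 13, 1, 17, 4, 22],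 [4, 13, 1, 18, 4, 4], [4, 13, 1, 18, 4, 20], [4, 14, 1, 10, 4, 5], [4, 14, 1, 15, 4, 13], [4, 15, 1, 12, 4, 13], [4, 15, 1, 12, 4, 15], [4, 15, 1, 12, 4, 18], [4, 15, 1, 12, 4, 20], [4, 15, 1, 14, 4, 12], [4, 15, 1, 14, 4, 17], [4, 15, 1, 20, 4, 3], [4, 15, 1, 20, 4, 7], [4, 15, 1, 20, 4, 9], [4, 15, 1, 20, 4, 15], [4, 15, 1, 20, 4, 16], [4, 15, 1, 20, 4, 22], [4, 15, 4, 4, 3, 9], [4, 15, 4, 4, 8, 3], [4, 15, 4, 4, 12, 15], [4, 15, 4, 4, 15, 5], [4, 15, 4, 4, 18, 19], [4, 15, 4, 4, 18, 22], [4, 15, 4, 4, 19, 1], [4, 15, 4, 4, 19, 22], [4, 15, 4, 4, 23, 3], [4, 15, 4, 5, 4, 3], [4, 15, 4, 5, 4, 24], [4, 15, 4, 23, 4, 10], [4, 15, 5, 0, 0, 23], [4, 15, 5, 4, 3, 9], [4, 15, 5, 4, 12, 18], [4, 15, 5, 4, 20, 0], [4, 15, 5, 4, 20,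 17], [4, 15, 5, 4, 24, 7], [4, 15, 5, 13, 4, 12], [4, 15, 5, 13, 4, 16], [4, 15, 5, 13, 4, 20], [4, 15, 5, 21, 4, 17], [4, 15, 5, 21, 4, 18], [4, 17, 0, 1, 0, 8], [4, 17, 0, 1, 0, 9], [4, 17, 0, 1, 0, 10], [4, 17, 0, 1, 1, 0], [4, 17, 0, 1, 7, 1], [4, 17, 0, 1, 8, 14], [4, 17, 0, 1, 10, 1], [4, 17, 0, 1, 10, 4], [4, 17, 0, 1, 11, 1], [4, 17, 0, 1, 11, 3], [4, 17, 0, 1, 12, 1], [4, 17, 0, 1, 13, 1], [4, 17, 0, 1, 13, 3], [4, 17, 0, 1, 13, 5], [4, 17, 0, 1, 15, 1], [4, 17, 0, 1, 15, 19], [4, 17, 0, 1, 15, 22], [4, 17, 0, 1, 20, 0], [4, 17, 0, 1, 20, 13], [4, 17, 0, 7, 0, 1], [4, 17, 0, 7, 0, 7], [4, 17, 0, 7, 0, 24], [4, 17, 0, 7, 1, 0], [4, 17, 0, 7, 1, 8], [4, 17, 0, 7, 1, 19], [4, 17, 0, 7, 1, 21], [4, 17, 0, 7, 5, 3], [4, 17,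 0, 7, 5, 7], [4, 17, 0, 7, 5, 9], [4, 17, 0, 7, 5, 10], [4, 17, 0, 7, 5, 11], [4, 17, 0, 7, 5, 12], [4, 17, 0, 7, 5, 14], [4, 17, 0, 7, 5, 15], [4, 17, 0, 7, 5, 17], [4, 17, 0, 7, 5, 18], [4, 17, 0, 7, 5, 20], [4, 17, 0, 7, 5, 21], [4, 17, 0, 7, 5, 22], [4, 17, 0, 7, 5, 23], [4, 17, 0, 8, 0, 7], [4, 17, 0, 8, 0, 8], [4, 17, 0, 8, 1, 8], [4, 17, 0, 8, 5, 8], [4, 17, 0, 8, 5, 10], [4, 17, 0, 9, 0, 7], [4, 17, 0, 9, 0, 9], [4, 17, 0, 9, 0, 17], [4, 17, 0, 9, 5, 10], [4, 17, 0, 9, 5, 11], [4, 17, 0, 9, 5, 16], [4, 17, 0, 10, 5, 17], [4, 17, 0, 12, 0, 19], [4, 17, 0, 12, 1, 1], [4, 17, 0, 12, 1, 18], [4, 17, 0, 12, 1, 20], [4, 17, 0, 12, 5, 3], [4, 17, 0, 12, 5, 7], [4, 17, 0, 17, 0, 9], [4, 17, 0, 17, 0, 10], [4, 17, 0, 17, 0, 15],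 [4, 17, 0, 17, 0, 16], [4, 17, 0, 17, 0, 18], [4, 17, 0, 17, 0, 19], [4, 17, 0, 17, 0, 20], [4, 17, 0, 17, 0, 21], [4, 17, 0, 17, 0, 23], [4, 17, 0, 17, 1, 24], [4, 17, 0, 18, 0, 9], [4, 17, 0, 18, 0, 14], [4, 17, 0, 18, 0, 16], [4, 17, 0, 18, 0, 17], [4, 17, 0, 18, 0, 24], [4, 17, 0, 18, 1, 1], [4, 17, 0, 18, 5, 8], [4, 17, 0, 18, 5, 14], [4, 17, 0, 18, 5, 18], [4, 17, 0, 18, 5, 24], [4, 17, 0, 20, 0, 8], [4, 17, 0, 20, 0, 9], [4, 17, 0, 20, 0, 10], [4, 17, 0, 20, 0, 14], [4, 17, 0, 20, 0, 18], [4, 17, 0, 20, 1, 0], [4, 17, 0, 20, 1, 18], [4, 17, 0, 20, 5, 21], [4, 17, 0, 21, 0, 15], [4, 17, 0, 21, 1, 7], [4, 17, 0, 21, 5, 0], [4, 17, 0, 21, 5, 3], [4, 17, 0, 21, 5, 7], [4, 17, 0, 21, 5, 8], [4, 17, 0, 21, 5, 9], [4, 17, 0,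 21, 5, 10], [4, 17, 0, 21, 5, 11], [4, 17, 0, 21, 5, 12], [4, 17, 0, 21, 5, 15], [4, 17, 0, 21, 5, 18], [4, 17, 0, 21, 5, 20], [4, 17, 0, 21, 5, 21], [4, 17, 0, 21, 5, 23], [4, 17, 5, 4, 8, 4], [4, 17, 5, 18, 4, 14], [4, 17, 5, 18, 4, 15], [4, 19, 0, 1, 3, 19], [4, 19, 0, 1, 3, 22], [4, 19, 0, 1, 18, 5], [4, 19, 0, 8, 5, 11], [4, 19, 0, 15, 5, 16], [4, 19, 0, 17, 5, 21], [4, 19, 10, 0, 1, 1], [4, 20, 0, 7, 5, 19], [4, 20, 0, 10, 1, 9], [4, 20, 0, 10, 1, 10], [4, 20, 0, 10, 1, 13], [4, 21, 0, 7, 1, 21], [4, 23, 0, 8, 0, 9], [4, 23, 0, 8, 0, 18], [4, 23, 0, 17, 5, 4], [4, 23, 0, 18, 1, 1], [4, 23, 0, 22, 1, 7], [4, 23, 0, 22, 1, 12], [4, 23, 0, 22, 1, 18], [4, 23, 0, 22, 1, 21], [4, 23, 0, 22, 5, 5], [4, 23, 0, 23, 5, 8], [4, 23,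 0, 23, 5, 20], [4, 24, 1, 11, 4, 9], [4, 24, 1, 11, 4, 18], [4, 24, 1, 11, 4, 23], [0, 0, 7, 0, 1, 7, 12], [0, 0, 7, 0, 1, 7, 17], [0, 0, 7, 0, 1, 9, 1], [0, 0, 7, 0, 1, 9, 3], [0, 0, 7, 0, 1, 10, 3], [0, 0, 7, 0, 1, 10, 8], [0, 0, 7, 0, 1, 14, 4], [0, 0, 7, 0, 1, 15, 12], [0, 0, 7, 0, 1, 16, 4], [0, 0, 7, 0, 1, 18, 4], [0, 0, 7, 0, 1, 18, 20], [0, 0, 7, 0, 1, 19, 4], [0, 0, 7, 0, 1, 20, 14], [0, 0, 8, 1, 22, 4, 14], [0, 0, 8, 4, 4, 4, 16], [0, 0, 8, 4, 22, 4, 4], [0, 0, 8, 5, 4, 3, 9], [0, 0, 8, 5, 4, 3, 17], [0, 0, 8, 5, 4, 7, 13], [0, 0, 8, 5, 4, 7, 15], [0, 0, 8, 5, 4, 8, 4], [0, 0, 8, 5, 4, 11, 23], [0, 0, 8, 5, 4, 15, 4], [0, 0, 8, 5, 4, 15, 21], [0, 0, 8, 5, 4, 16, 12], [0, 0, 8, 5, 4, 17, 4], [0, 0, 8, 5, 4, 22, 8], [0,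 0, 9, 21, 0, 1, 7], [0, 0, 10, 4, 4, 7, 0], [0, 0, 13, 1, 18, 4, 8], [0, 0, 21, 5, 7, 4, 23], [0, 5, 3, 1, 11, 4, 18], [0, 5, 3, 1, 15, 4, 4], [0, 5, 3, 1, 15, 4, 8], [0, 5, 3, 1, 20, 4, 9], [0, 5, 3, 1, 21, 4, 3], [0, 5, 3, 1, 21, 4, 7], [0, 5, 3, 1, 21, 4, 8], [0, 5, 3, 1, 21, 4, 14], [0, 5, 8, 0, 0, 9, 4], [0, 5, 8, 0, 0, 13, 3], [0, 5, 8, 0, 0, 13, 4], [0, 5, 8, 0, 0, 14, 4], [0, 5, 8, 0, 7, 5, 20], [0, 5, 8, 0, 16, 5, 0], [0, 5, 8, 0, 16, 5, 15], [0, 5, 8, 0, 16, 5, 19], [0, 5, 8, 0, 16, 5, 20], [0, 5, 8, 0, 16, 5, 21], [0, 5, 8, 0, 16, 5, 23], [0, 5, 8, 0, 21, 0, 16], [0, 5, 9, 5, 4, 18, 0], [0, 5, 10, 5, 4, 14, 5], [0, 5, 14, 0, 1, 7, 14], [0, 5, 14, 0, 1, 8, 4], [0, 5, 14, 0, 1, 13, 4], [0, 5, 14, 0, 1, 16, 10], [0, 5,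 14, 0, 1, 23, 4], [0, 5, 16, 0, 0, 7, 0], [0, 5, 16, 0, 0, 7, 3], [0, 5, 16, 0, 0, 7, 12], [0, 5, 16, 0, 0, 7, 14], [0, 5, 16, 0, 0, 8, 1], [0, 5, 16, 0, 0, 8, 5], [0, 5, 16, 0, 0, 8, 20], [0, 5, 16, 0, 0, 9, 1], [0, 5, 16, 0, 0, 10, 1], [0, 5, 16, 0, 0, 13, 1], [0, 5, 16, 0, 0, 16, 0], [0, 5, 16, 0, 0, 17, 1], [0, 5, 16, 0, 0, 21, 5], [4, 1, 15, 1, 9, 4, 11], [4, 3, 0, 0, 3, 19, 4], [4, 3, 0, 0, 3, 20, 4], [4, 3, 0, 0, 3, 22, 4], [4, 3, 0, 0, 7, 1, 4], [4, 3, 0, 0, 7, 4, 4], [4, 3, 0, 0, 7, 4, 9], [4, 3, 0, 0, 7, 4, 19], [4, 3, 0, 0, 7, 4, 21], [4, 3, 0, 0, 7, 4, 22], [4, 3, 0, 0, 8, 1, 4], [4, 3, 0, 0, 8, 3, 11], [4, 3, 0, 0, 9, 4, 5], [4, 3, 0, 0, 9, 21, 4], [4, 3, 0, 0, 10, 15, 4], [4, 3, 0, 0, 10, 21, 4], [4, 3, 0, 0, 11,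 3, 4], [4, 3, 0, 0, 12, 8, 4], [4, 3, 0, 0, 14, 17, 4], [4, 3, 0, 0, 15, 0, 7], [4, 3, 0, 0, 16, 8, 4], [4, 3, 0, 0, 18, 7, 4], [4, 3, 0, 0, 18, 13, 4], [4, 3, 0, 0, 21, 13, 4], [4, 3, 0, 0, 22, 16, 4], [4, 3, 0, 1, 0, 7, 4], [4, 3, 0, 1, 1, 17, 5], [4, 3, 0, 1, 1, 19, 1], [4, 3, 0, 1, 1, 20, 0], [4, 3, 0, 1, 3, 1, 19], [4, 3, 0, 1, 3, 7, 1], [4, 3, 0, 1, 3, 9, 1], [4, 3, 0, 1, 3, 9, 5], [4, 3, 0, 1, 3, 13, 20], [4, 3, 0, 1, 3, 14, 5], [4, 3, 0, 1, 3, 15, 1], [4, 3, 0, 1, 3, 18, 5], [4, 3, 0, 1, 3, 19, 24], [4, 3, 0, 1, 3, 20, 5], [4, 3, 0, 1, 3, 24, 0], [4, 3, 0, 1, 7, 9, 0], [4, 3, 0, 1, 7, 9, 1], [4, 3, 0, 1, 7, 10, 1], [4, 3, 0, 1, 7, 11, 5], [4, 3, 0, 1, 7, 15, 0], [4, 3, 0, 1, 8, 5, 8], [4, 3, 0, 1, 8, 5, 18], [4, 3, 0,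 1, 8, 5, 22], [4, 3, 0, 1, 8, 8, 1], [4, 3, 0, 1, 8, 16, 1], [4, 3, 0, 1, 8, 20, 1], [4, 3, 0, 1, 8, 22, 5], [4, 3, 0, 1, 8, 23, 0], [4, 3, 0, 1, 9, 17, 1], [4, 3, 0, 1, 9, 19, 1], [4, 3, 0, 1, 9, 23, 5], [4, 3, 0, 1, 10, 5, 14], [4, 3, 0, 1, 11, 1, 3], [4, 3, 0, 1, 11, 1, 8], [4, 3, 0, 1, 11, 1, 10], [4, 3, 0, 1, 11, 1, 12], [4, 3, 0, 1, 11, 1, 18], [4, 3, 0, 1, 11, 1, 19], [4, 3, 0, 1, 11, 19, 1], [4, 3, 0, 1, 12, 5, 5], [4, 3, 0, 1, 12, 8, 0], [4, 3, 0, 1, 13, 0, 1], [4, 3, 0, 1, 13, 0, 12], [4, 3, 0, 1, 13, 0, 16], [4, 3, 0, 1, 16, 0, 20], [4, 3, 0, 1, 16, 0, 23], [4, 3, 0, 1, 16, 17, 1], [4, 3, 0, 1, 16, 21, 5], [4, 3, 0, 1, 17, 0, 0], [4, 3, 0, 1, 17, 0, 9], [4, 3, 0, 1, 17, 0, 10], [4, 3, 0, 1, 17, 0, 13], [4, 3, 0, 1,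 17, 0, 19], [4, 3, 0, 1, 17, 1, 14], [4, 3, 0, 1, 17, 1, 22], [4, 3, 0, 1, 17, 5, 13], [4, 3, 0, 1, 18, 0, 15], [4, 3, 0, 1, 18, 1, 7], [4, 3, 0, 1, 18, 1, 10], [4, 3, 0, 1, 19, 3, 0], [4, 3, 0, 1, 19, 5, 3], [4, 3, 0, 1, 19, 5, 9], [4, 3, 0, 1, 20, 16, 0], [4, 3, 0, 1, 20, 16, 5], [4, 3, 0, 1, 20, 17, 5], [4, 3, 0, 1, 23, 8, 5], [4, 3, 0, 5, 5, 8, 1], [4, 3, 0, 7, 1, 0, 10], [4, 3, 0, 7, 1, 0, 15], [4, 3, 0, 8, 5, 5, 3], [4, 3, 0, 8, 5, 5, 17], [4, 3, 0, 9, 5, 7, 4], [4, 3, 0, 9, 5, 7, 17], [4, 3, 0, 9, 5, 8, 5], [4, 3, 0, 9, 5, 10, 3], [4, 3, 0, 9, 5, 10, 5], [4, 3, 0, 9, 5, 10, 17], [4, 3, 0, 9, 5, 11, 3], [4, 3, 0, 9, 5, 14, 1], [4, 3, 0, 9, 5, 15, 1], [4, 3, 0, 9, 5, 20, 11], [4, 3, 0, 16, 0, 13, 1], [4, 3, 0, 16, 0, 18,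 1], [4, 3, 0, 16, 0, 18, 4], [4, 3, 0, 16, 0, 23, 4], [4, 3, 0, 16, 5, 3, 1], [4, 3, 0, 16, 5, 5, 15], [4, 3, 0, 16, 5, 9, 0], [4, 3, 0, 16, 5, 9, 1], [4, 3, 0, 16, 5, 21, 1], [4, 7, 1, 4, 5, 16, 5], [4, 7, 1, 8, 4, 10, 14], [4, 7, 1, 8, 4, 13, 1], [4, 7, 1, 8, 4, 17, 0], [4, 7, 1, 16, 4, 14, 5], [4, 7, 5, 9, 4, 4, 8]]

/-- level 2 -/
def lv2 : List (List ℕ) := [[], [1], [5], [1, 1], [1, 7], [1, 8], [1, 9], [1, 10], [1, 11], [1, 12], [1, 13], [1, 14], [1, 15], [1, 16], [1, 17], [1, 18], [1, 19], [1, 20], [1, 21], [1, 23], [1, 24], [5, 3], [5, 5], [5, 7], [5, 8], [5, 9], [5, 10], [5, 11], [5, 12], [5, 13], [5, 14], [5, 15], [5, 16], [5, 17], [5, 18], [5, 19], [5, 20], [5, 21], [5, 23], [5, 24], [1, 1, 1], [1, 1, 3], [1, 1, 7],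 [1, 1, 8], [1, 1, 9], [1, 1, 10], [1, 1, 11], [1, 1, 12], [1, 1, 13], [1, 1, 14], [1, 1, 15], [1, 1, 16], [1, 1, 18], [1, 1, 19], [1, 1, 21], [1, 1, 22], [1, 1, 23], [1, 7, 1], [1, 7, 3], [1, 7, 5], [1, 7, 7], [1, 7, 9], [1, 7, 10], [1, 7, 12], [1, 7, 13], [1, 7, 14], [1, 7, 16], [1, 7, 17], [1, 7, 18], [1, 7, 20], [1, 7, 21], [1, 7, 22], [1, 7, 23], [1, 7, 24], [1, 8, 1], [1, 8, 5], [1, 8, 8], [1, 8, 10], [1, 8, 11], [1, 8, 12], [1, 8, 14], [1, 8, 17], [1, 8, 21], [1, 8, 23], [1, 8, 24], [1, 9, 1], [1, 9, 3], [1, 9, 5], [1, 9, 11], [1, 9, 14], [1, 9, 15], [1, 9, 16], [1, 9, 17], [1, 9, 21], [1, 9, 22], [1, 9, 23], [1, 9, 24], [1, 10, 1], [1, 10, 3], [1, 10, 5], [1, 10, 7], [1, 10, 8], [1, 10, 13], [1, 10, 15], [1, 10, 16], [1,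 10, 19], [1, 10, 21], [1, 10, 22], [1, 10, 23], [1, 10, 24], [1, 11, 1], [1, 11, 3], [1, 11, 5], [1, 11, 7], [1, 11, 16], [1, 11, 17], [1, 11, 22], [1, 11, 24], [1, 12, 1], [1, 12, 3], [1, 12, 5], [1, 12, 8], [1, 12, 15], [1, 12, 17], [1, 12, 21], [1, 12, 24], [1, 13, 1], [1, 13, 5], [1, 13, 7], [1, 13, 8], [1, 13, 9], [1, 13, 12], [1, 13, 17], [1, 13, 18], [1, 13, 20], [1, 13, 21], [1, 13, 22], [1, 13, 23], [1, 14, 1], [1, 14, 5], [1, 14, 7], [1, 14, 8], [1, 14, 15], [1, 14, 18], [1, 14, 19], [1, 14, 21], [1, 14, 22], [1, 14, 23], [1, 14, 24], [1, 15, 1], [1, 15, 9], [1, 15, 10], [1, 15, 12], [1, 15, 13], [1, 15, 14], [1, 15, 17], [1, 15, 20], [1, 15, 24], [1, 16, 1], [1, 16, 5], [1, 16, 9], [1, 16, 11], [1, 16, 12], [1, 16,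 14], [1, 16, 16], [1, 16, 17], [1, 17, 1], [1, 17, 3], [1, 17, 5], [1, 17, 8], [1, 17, 9], [1, 17, 10], [1, 17, 12], [1, 17, 19], [1, 17, 22], [1, 17, 24], [1, 18, 1], [1, 18, 5], [1, 18, 7], [1, 18, 8], [1, 18, 13], [1, 18, 14], [1, 18, 15], [1, 18, 19], [1, 18, 21], [1, 18, 23], [1, 18, 24], [1, 19, 1], [1, 19, 7], [1, 19, 10], [1, 19, 11], [1, 19, 12], [1, 19, 21], [1, 19, 23], [1, 20, 5], [1, 20, 8], [1, 20, 9], [1, 20, 10], [1, 20, 14], [1, 21, 3], [1, 21, 5], [1, 21, 7], [1, 21, 11], [1, 21, 14], [1, 21, 23], [1, 23, 5], [1, 23, 13], [1, 23, 16], [1, 23, 18], [1, 23, 19], [1, 23, 22], [1, 24, 1], [1, 24, 8], [1, 24, 11], [1, 24, 14], [1, 24, 15], [1, 24, 21], [5, 3, 1], [5, 3, 5], [5, 3, 17], [5, 3, 21], [5, 3, 22], [5,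 5, 3], [5, 5, 5], [5, 5, 7], [5, 5, 9], [5, 5, 10], [5, 5, 15], [5, 5, 16], [5, 5, 17], [5, 7, 1], [5, 7, 5], [5, 7, 7], [5, 7, 9], [5, 7, 12], [5, 7, 13], [5, 7, 14], [5, 7, 18], [5, 7, 19], [5, 7, 20], [5, 7, 23], [5, 7, 24], [5, 8, 1], [5, 8, 5], [5, 8, 8], [5, 9, 1], [5, 9, 5], [5, 9, 16], [5, 9, 19], [5, 10, 3], [5, 10, 5], [5, 10, 13], [5, 10, 16], [5, 10, 22], [5, 11, 1], [5, 11, 5], [5, 11, 7], [5, 11, 18], [5, 11, 19], [5, 11, 20], [5, 12, 1], [5, 12, 5], [5, 12, 23], [5, 13, 1], [5, 13, 7], [5, 13, 9], [5, 14, 1], [5, 14, 5], [5, 14, 7], [5, 15, 1], [5, 15, 5], [5, 15, 7], [5, 15, 11], [5, 15, 15], [5, 15, 18], [5, 15, 21], [5, 16, 1], [5, 16, 5], [5, 16, 8], [5, 16, 10], [5, 16, 16], [5, 16, 19], [5, 17, 5], [5, 17,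 8], [5, 17, 19], [5, 18, 5], [5, 18, 7], [5, 18, 10], [5, 18, 11], [5, 19, 15], [5, 19, 22], [5, 20, 1], [5, 20, 5], [5, 20, 8], [5, 20, 10], [5, 20, 11], [5, 20, 17], [5, 21, 1], [5, 21, 7], [5, 21, 8], [5, 21, 10], [5, 21, 11], [5, 21, 12], [5, 21, 23], [5, 21, 24], [5, 23, 10], [5, 23, 21], [5, 24, 1], [5, 24, 5], [5, 24, 8], [1, 1, 1, 7], [1, 1, 1, 10], [1, 1, 1, 13], [1, 1, 1, 16], [1, 1, 3, 1], [1, 1, 3, 19], [1, 1, 7, 1], [1, 1, 7, 5], [1, 1, 7, 16], [1, 1, 8, 3], [1, 1, 8, 10], [1, 1, 8, 13], [1, 1, 9, 1], [1, 1, 9, 7], [1, 1, 9, 8], [1, 1, 9, 14], [1, 1, 10, 1], [1, 1, 10, 5], [1, 1, 11, 1], [1, 1, 11, 5], [1, 1, 11, 16], [1, 1, 12, 1], [1, 1, 12, 3], [1, 1, 12, 5], [1, 1, 13, 1], [1, 1, 14, 7], [1, 1, 14, 8], [1, 1,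 15, 1], [1, 1, 15, 5], [1, 1, 15, 7], [1, 1, 16, 8], [1, 1, 18, 1], [1, 1, 18, 22], [1, 1, 19, 5], [1, 1, 19, 11], [1, 1, 19, 12], [1, 1, 21, 5], [1, 1, 21, 15], [1, 1, 21, 16], [1, 1, 21, 24], [1, 1, 22, 1], [1, 1, 23, 1], [1, 1, 23, 3], [1, 7, 1, 1], [1, 7, 1, 7], [1, 7, 1, 8], [1, 7, 1, 9], [1, 7, 1, 10], [1, 7, 1, 11], [1, 7, 1, 12], [1, 7, 1, 13], [1, 7, 1, 14], [1, 7, 1, 15], [1, 7, 1, 16], [1, 7, 1, 17], [1, 7, 1, 18], [1, 7, 1, 19], [1, 7, 1, 20], [1, 7, 1, 21], [1, 7, 1, 22], [1, 7, 1, 23], [1, 7, 1, 24], [1, 7, 3, 5], [1, 7, 3, 7], [1, 7, 5, 3], [1, 7, 5, 7], [1, 7, 5, 8], [1, 7, 5, 9], [1, 7, 5, 10], [1, 7, 5, 11], [1, 7, 5, 12], [1, 7, 5, 13], [1, 7, 5, 14], [1, 7, 5, 15], [1, 7, 5, 16], [1, 7, 5, 19], [1, 7, 5, 20],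 [1, 7, 5, 22], [1, 7, 5, 23], [1, 7, 5, 24], [1, 7, 7, 1], [1, 7, 7, 5], [1, 7, 7, 7], [1, 7, 7, 13], [1, 7, 7, 17], [1, 7, 7, 20], [1, 7, 9, 1], [1, 7, 9, 5], [1, 7, 9, 19], [1, 7, 10, 1], [1, 7, 10, 8], [1, 7, 13, 21], [1, 7, 17, 17], [1, 7, 20, 1], [1, 7, 22, 1], [1, 7, 22, 3], [1, 7, 22, 5], [1, 7, 22, 8], [1, 7, 23, 1], [1, 7, 24, 7], [1, 7, 24, 17], [1, 8, 1, 1], [1, 8, 1, 3], [1, 8, 1, 8], [1, 8, 1, 9], [1, 8, 1, 10], [1, 8, 1, 11], [1, 8, 1, 12], [1, 8, 1, 13], [1, 8, 1, 15], [1, 8, 1, 16], [1, 8, 1, 17], [1, 8, 1, 18], [1, 8, 1, 19], [1, 8, 1, 20], [1, 8, 1, 21], [1, 8, 1, 22], [1, 8, 1, 23], [1, 8, 1, 24], [1, 8, 5, 3], [1, 8, 5, 5], [1, 8, 5, 7], [1, 8, 5, 9], [1, 8, 5, 10], [1, 8, 5, 11], [1, 8, 5, 12], [1, 8, 5,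 13], [1, 8, 5, 14], [1, 8, 5, 16], [1, 8, 5, 17], [1, 8, 5, 21], [1, 8, 5, 22], [1, 8, 5, 23], [1, 8, 5, 24], [1, 8, 8, 1], [1, 8, 8, 3], [1, 8, 8, 5], [1, 8, 8, 16], [1, 8, 8, 19], [1, 8, 10, 5], [1, 8, 12, 7], [1, 8, 14, 1], [1, 8, 17, 5], [1, 8, 23, 1], [1, 8, 23, 5], [1, 8, 24, 1], [1, 8, 24, 5], [1, 8, 24, 9], [1, 9, 1, 1], [1, 9, 1, 3], [1, 9, 1, 7], [1, 9, 1, 8], [1, 9, 1, 9], [1, 9, 1, 10], [1, 9, 1, 12], [1, 9, 1, 13], [1, 9, 1, 15], [1, 9, 1, 16], [1, 9, 1, 18], [1, 9, 1, 19], [1, 9, 1, 20], [1, 9, 1, 24], [1, 9, 5, 3], [1, 9, 5, 7], [1, 9, 5, 8], [1, 9, 5, 10], [1, 9, 5, 12], [1, 9, 5, 13], [1, 9, 5, 14], [1, 9, 5, 18], [1, 9, 5, 19], [1, 9, 5, 20], [1, 9, 5, 22], [1, 9, 5, 23], [1, 9, 5, 24], [1, 9, 11, 1], [1, 9,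 14, 1], [1, 9, 14, 5], [1, 9, 14, 7], [1, 9, 15, 1], [1, 9, 15, 5], [1, 9, 16, 5], [1, 9, 16, 8], [1, 9, 17, 1], [1, 9, 17, 5], [1, 9, 21, 5], [1, 9, 22, 5], [1, 9, 22, 7], [1, 9, 23, 1], [1, 9, 23, 5], [1, 9, 23, 18], [1, 9, 24, 5], [1, 10, 1, 8], [1, 10, 1, 9], [1, 10, 1, 10], [1, 10, 1, 11], [1, 10, 1, 12], [1, 10, 1, 13], [1, 10, 1, 16], [1, 10, 1, 17], [1, 10, 1, 18], [1, 10, 1, 19], [1, 10, 1, 20], [1, 10, 1, 21], [1, 10, 1, 22], [1, 10, 1, 24], [1, 10, 3, 5], [1, 10, 5, 3], [1, 10, 5, 7], [1, 10, 5, 9], [1, 10, 5, 10], [1, 10, 5, 11], [1, 10, 5, 12], [1, 10, 5, 13], [1, 10, 5, 14], [1, 10, 5, 15], [1, 10, 5, 16], [1, 10, 5, 19], [1, 10, 5, 21], [1, 10, 7, 5], [1, 10, 8, 5], [1, 10, 13, 1], [1, 10, 15, 5], [1, 10, 15, 7],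 [1, 10, 23, 5], [1, 10, 24, 5], [1, 11, 1, 8], [1, 11, 1, 9], [1, 11, 1, 10], [1, 11, 1, 15], [1, 11, 1, 18], [1, 11, 1, 22], [1, 11, 1, 23], [1, 11, 1, 24], [1, 11, 7, 5], [1, 11, 16, 5], [1, 11, 17, 5], [1, 11, 22, 8], [1, 12, 1, 8], [1, 12, 1, 9], [1, 12, 1, 11], [1, 12, 1, 15], [1, 12, 1, 17], [1, 12, 1, 18], [1, 12, 1, 20], [1, 12, 1, 22], [1, 12, 8, 5], [1, 12, 15, 1], [1, 12, 21, 5], [1, 13, 1, 8], [1, 13, 1, 9], [1, 13, 1, 10], [1, 13, 1, 11], [1, 13, 1, 12], [1, 13, 1, 13], [1, 13, 1, 14], [1, 13, 1, 16], [1, 13, 1, 17], [1, 13, 1, 18], [1, 13, 1, 19], [1, 13, 5, 8], [1, 13, 5, 11], [1, 13, 5, 14], [1, 13, 5, 15], [1, 13, 5, 17], [1, 13, 5, 21], [1, 13, 5, 23], [1, 13, 5, 24], [1, 13, 7, 1], [1, 13, 12, 7], [1, 13, 20,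 7], [1, 13, 21, 7], [1, 14, 1, 7], [1, 14, 1, 8], [1, 14, 1, 12], [1, 14, 1, 13], [1, 14, 1, 14], [1, 14, 1, 15], [1, 14, 1, 16], [1, 14, 1, 18], [1, 14, 1, 20], [1, 14, 1, 22], [1, 14, 5, 9], [1, 14, 5, 10], [1, 14, 5, 13], [1, 14, 5, 14], [1, 14, 5, 16], [1, 14, 5, 24], [1, 14, 7, 7], [1, 14, 8, 9], [1, 14, 8, 15], [1, 14, 8, 17], [1, 14, 15, 1], [1, 14, 18, 1], [1, 14, 22, 1], [1, 14, 22, 5], [1, 14, 23, 5], [1, 14, 24, 1], [1, 15, 1, 9], [1, 15, 1, 13], [1, 15, 1, 14], [1, 15, 1, 17], [1, 15, 1, 21], [1, 15, 1, 23], [1, 15, 10, 1], [1, 15, 12, 1], [1, 15, 12, 5], [1, 15, 20, 1], [1, 15, 24, 5], [1, 16, 5, 5], [1, 16, 9, 5], [1, 16, 12, 1], [1, 16, 12, 5], [1, 16, 14, 1], [1, 16, 16, 5], [1, 16, 17, 1], [1, 17, 1, 1], [1,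 17, 1, 7], [1, 17, 1, 14], [1, 17, 1, 16], [1, 17, 1, 18], [1, 17, 1, 19], [1, 17, 1, 20], [1, 17, 3, 5], [1, 17, 5, 7], [1, 17, 5, 8], [1, 17, 5, 9], [1, 17, 5, 10], [1, 17, 5, 12], [1, 17, 5, 13], [1, 17, 5, 15], [1, 17, 5, 21], [1, 17, 5, 23], [1, 17, 22, 1], [1, 18, 1, 9], [1, 18, 1, 10], [1, 18, 1, 11], [1, 18, 1, 12], [1, 18, 1, 13], [1, 18, 1, 15], [1, 18, 5, 5], [1, 18, 5, 7], [1, 18, 5, 8], [1, 18, 5, 12], [1, 18, 5, 14], [1, 18, 5, 16], [1, 18, 5, 20], [1, 18, 5, 21], [1, 18, 5, 23], [1, 18, 7, 5], [1, 18, 8, 20], [1, 18, 8, 21], [1, 18, 13, 5], [1, 18, 21, 1], [1, 18, 21, 5], [1, 19, 1, 11], [1, 19, 1, 14], [1, 19, 1, 16], [1, 19, 1, 17], [1, 19, 1, 20], [1, 19, 7, 5], [1, 19, 7, 21], [1, 19, 23, 1], [1, 19, 23, 5],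 [1, 20, 5, 7], [1, 20, 5, 12], [1, 20, 5, 13], [1, 20, 5, 14], [1, 20, 5, 18], [1, 20, 5, 20], [1, 20, 5, 21], [1, 20, 9, 1], [1, 20, 10, 1], [1, 20, 10, 5], [1, 20, 14, 1], [1, 21, 3, 5], [1, 21, 5, 7], [1, 21, 5, 9], [1, 21, 5, 10], [1, 21, 5, 11], [1, 21, 5, 17], [1, 21, 5, 23], [1, 21, 7, 1], [1, 23, 16, 5], [1, 24, 14, 7], [5, 3, 1, 7], [5, 3, 1, 8], [5, 3, 1, 9], [5, 3, 1, 10], [5, 3, 1, 11], [5, 3, 1, 12], [5, 3, 1, 15], [5, 3, 1, 17], [5, 3, 1, 18], [5, 3, 1, 20], [5, 3, 1, 21], [5, 3, 1, 23], [5, 3, 5, 5], [5, 3, 17, 1], [5, 3, 22, 5], [5, 5, 7, 1], [5, 5, 7, 5], [5, 5, 15, 5], [5, 7, 1, 1], [5, 7, 1, 9], [5, 7, 1, 10], [5, 7, 1, 14], [5, 7, 1, 20], [5, 7, 1, 21], [5, 7, 5, 7], [5, 7, 5, 9], [5, 7, 5, 10], [5, 7, 5,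 11], [5, 7, 5, 14], [5, 7, 5, 15], [5, 7, 5, 17], [5, 7, 5, 21], [5, 7, 5, 24], [5, 7, 13, 5], [5, 7, 18, 1], [5, 7, 24, 5], [5, 8, 1, 13], [5, 8, 1, 14], [5, 8, 1, 17], [5, 8, 1, 19], [5, 8, 1, 24], [5, 8, 5, 7], [5, 8, 5, 10], [5, 8, 5, 11], [5, 8, 5, 14], [5, 8, 5, 22], [5, 9, 1, 7], [5, 9, 1, 8], [5, 9, 1, 13], [5, 9, 1, 14], [5, 9, 1, 15], [5, 9, 1, 20], [5, 9, 1, 21], [5, 9, 5, 3], [5, 9, 5, 8], [5, 9, 5, 22], [5, 9, 16, 5], [5, 9, 19, 5], [5, 10, 5, 3], [5, 10, 5, 5], [5, 10, 5, 11], [5, 10, 5, 12], [5, 10, 5, 13], [5, 10, 5, 16], [5, 10, 16, 5], [5, 11, 5, 10], [5, 11, 5, 11], [5, 11, 5, 19], [5, 12, 1, 1], [5, 12, 5, 5], [5, 12, 5, 8], [5, 12, 5, 12], [5, 12, 5, 13], [5, 12, 5, 14], [5, 12, 5, 23], [5, 12, 23, 5], [5,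 13, 1, 10], [5, 13, 1, 16], [5, 13, 7, 1], [5, 13, 7, 5], [5, 14, 1, 9], [5, 14, 1, 10], [5, 14, 1, 12], [5, 14, 5, 3], [5, 14, 5, 23], [5, 15, 1, 1], [5, 15, 1, 10], [5, 15, 1, 11], [5, 15, 1, 15], [5, 15, 1, 16], [5, 15, 11, 1], [5, 15, 15, 5], [5, 15, 21, 5], [5, 16, 1, 1], [5, 16, 1, 15], [5, 16, 1, 23], [5, 16, 5, 5], [5, 16, 5, 9], [5, 16, 5, 10], [5, 16, 5, 12], [5, 16, 5, 15], [5, 16, 5, 20], [5, 16, 5, 21], [5, 17, 5, 9], [5, 17, 5, 11], [5, 17, 5, 23], [5, 17, 8, 1], [5, 20, 5, 18], [5, 20, 11, 5], [5, 20, 17, 1], [5, 21, 1, 3], [5, 21, 1, 7], [5, 21, 1, 12], [5, 21, 11, 1], [1, 1, 3, 1, 7], [1, 1, 3, 1, 9], [1, 1, 3, 1, 10], [1, 1, 3, 19, 1], [1, 1, 3, 19, 5], [1, 1, 7, 1, 8], [1, 1, 7, 1, 18], [1, 1, 7, 1, 19], [1,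 1, 7, 5, 7], [1, 1, 7, 5, 8], [1, 1, 7, 5, 9], [1, 1, 7, 5, 10], [1, 1, 7, 5, 16], [1, 1, 9, 1, 9], [1, 1, 9, 1, 13], [1, 1, 9, 8, 1], [1, 1, 10, 1, 21], [1, 1, 11, 1, 9], [1, 1, 11, 1, 18], [1, 1, 11, 5, 7], [1, 1, 11, 5, 23], [1, 1, 13, 1, 17], [1, 1, 14, 7, 1], [1, 1, 14, 8, 1], [1, 1, 15, 1, 23], [1, 1, 15, 5, 18], [1, 1, 15, 5, 23], [1, 1, 18, 1, 11], [1, 1, 19, 5, 7], [1, 1, 19, 5, 8], [1, 1, 19, 5, 13], [1, 1, 19, 5, 15], [1, 1, 21, 5, 23], [1, 1, 22, 1, 9], [1, 1, 23, 1, 7], [1, 1, 23, 1, 8], [1, 1, 23, 1, 20], [1, 7, 1, 1, 16], [1, 7, 1, 7, 19], [1, 7, 1, 7, 20], [1, 7, 1, 8, 23], [1, 7, 1, 9, 3], [1, 7, 1, 10, 5], [1, 7, 1, 10, 24], [1, 7, 1, 11, 24], [1, 7, 1, 12, 1], [1, 7, 1, 13, 10], [1, 7, 1, 14, 17], [1, 7, 1,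 14, 21], [1, 7, 1, 17, 1], [1, 7, 1, 17, 13], [1, 7, 1, 18, 3], [1, 7, 1, 18, 13], [1, 7, 1, 20, 3], [1, 7, 1, 20, 24], [1, 7, 1, 21, 3], [1, 7, 1, 23, 8], [1, 7, 1, 24, 22], [1, 7, 3, 5, 14], [1, 7, 3, 5, 16], [1, 7, 5, 8, 5], [1, 7, 5, 10, 7], [1, 7, 5, 12, 5], [1, 7, 7, 1, 8], [1, 7, 22, 5, 12], [1, 7, 22, 5, 14], [1, 8, 1, 9, 13], [1, 8, 1, 23, 15], [1, 8, 5, 3, 1], [1, 8, 5, 5, 7], [1, 8, 5, 5, 16], [1, 8, 5, 5, 17], [1, 8, 5, 5, 18], [1, 9, 1, 9, 23], [1, 9, 1, 15, 22], [1, 9, 23, 5, 16], [1, 10, 24, 5, 9], [1, 10, 24, 5, 10], [1, 10, 24, 5, 12], [1, 14, 1, 13, 1], [1, 18, 13, 5, 3], [1, 18, 13, 5, 21]]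

/-- level 3 -/
def lv3 : List (List ℕ) := [[], [3], [7], [8], [3, 7], [3, 8], [7, 7], [7, 10], [7, 13], [7, 15], [7, 16], [7, 17], [7, 18], [7, 19], [7, 20], [7, 21], [7, 24], [8, 8], [8, 16], [8, 17], [8, 19], [8, 20], [8, 21], [8, 22], [3, 7, 7], [3, 7, 15], [3, 7, 16], [3, 7, 21], [3, 8, 19], [3, 8, 20], [7, 7, 9], [7, 7, 12], [7, 7, 15], [7, 7, 20], [7, 7, 23], [7, 13, 7], [7, 13, 10], [7, 13, 16], [7, 16, 9], [7, 16, 10], [7, 16, 11], [7, 18, 13]]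

/-- level 4 -/
def lv4 : List (List ℕ) := [[], [9], [13], [14], [15], [16], [9, 15], [9, 16], [13, 9], [13, 10], [13, 11], [13, 12], [13, 15], [13, 16], [14, 15], [14, 16], [15, 9], [15, 10], [15, 13], [15, 17], [15, 20], [16, 18], [16, 19], [16, 23], [9, 15, 9], [9, 15, 10], [9, 15, 13], [9, 15, 17], [9, 15, 20], [9, 16, 18], [13, 9, 16], [13, 10, 16], [13, 11, 16], [13, 12, 16], [13, 15, 9], [13, 15, 10], [13, 15, 15], [13, 16, 16], [14, 15, 9], [14, 15, 15]]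

/-- level 5 -/
def lv5 : List (List ℕ) := [[], [11], [12], [17], [18], [11, 17], [11, 18], [11, 19], [11, 21], [11, 22], [11, 23], [11, 24], [12, 17], [12, 18], [12, 19], [12, 20], [12, 23], [17, 12], [17, 17], [17, 20], [17, 21], [18, 11], [18, 12], [18, 19], [11, 17, 24], [11, 18, 19], [11, 18, 21], [11, 19, 23], [11, 21, 18], [11, 21, 20], [11, 24, 11], [12, 18, 22]]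

/-- level 6 -/
def lv6 : List (List ℕ) := [[], [21], [22], [21, 19], [21, 20], [21, 21], [21, 23], [21, 24], [22, 20], [22, 24], [21, 20, 22], [21, 20, 23], [21, 21, 19], [21, 21, 20], [21, 24, 20], [22, 20, 23]]

/-- level 7 -/
def lv7 : List (List ℕ) := [[], [19], [20], [23], [24], [19, 23], [19, 24], [20, 23], [20, 24], [23, 19], [24, 20], [19, 23, 19]]

/-- the levels -/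
def levelsC : List (List (List ℕ)) := [lv0, lv1, lv2, lv3, lv4, lv5, lv6, lv7]

end

end Cfsg.Agent.Lib.Helper1.Co1B
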