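import Mathlib
import Cfsg.Agent.Lib.Helper1.Co1B.VL

set_option autoImplicit false
set_option maxRecDepth 100000

/-! The first Conway group on the 98280 pairs of minimal vectors: checks of the data. -/

namespace Cfsg.Agent.Lib.Helper1.Co1B

open Cfsg Cfsg.Agent.Lib.Helper1.LeechEnum

theorem sort_0 : allR sortChk 0 12284 = true := by decide +kernel

theorem sort_1 : allR sortChk 12284 12284 = true := by decide +kernel

theorem sort_2 : allR sortChk 24568 12284 = true := by decide +kernel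

theorem sort_3 : allR sortChk 36852 12284 = true := by decide +kernel

theorem sort_4 : allR sortChk 49136 12284 = true := by decide +kernel

theorem sort_5 : allR sortChk 61420 12284 = true := by decide +kernel

theorem sort_6 : allR sortChk 73704 12284 = true := by decide +kernel

theorem sort_7 : allR sortChk 85988 12291 = true := by decide +kernel

theorem sort_ok : ∀ i < 98279, sortChk i = true := by
  intro i hi
  have h : (0 ≤ i ∧ i < 0 + 12284) ∨ (12284 ≤ i ∧ i < 12284 + 12284) ∨ (24568 ≤ i ∧ i < 24568 + 12284) ∨ (36852 ≤ i ∧ i < 36852 + 12284) ∨ (49136 ≤ i ∧ i < 49136 + 12284) ∨ (61420 ≤ i ∧ i < 61420 + 12284) ∨ (73704 ≤ i ∧ i < 73704 + 12284) ∨ (85988 ≤ i ∧ i < 85988 + 12291) := by omega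
  rcases h with ⟨h1, h2⟩ | ⟨h1, h2⟩ | ⟨h1, h2⟩ | ⟨h1, h2⟩ | ⟨h1, h2⟩ | ⟨h1, h2⟩ | ⟨h1, h2⟩ | ⟨h1, h2⟩
  · exact (allR_iff _ _ _).mp sort_0 i h1 h2
  · exact (allR_iff _ _ _).mp sort_1 i h1 h2
  · exact (allR_iff _ _ _).mp sort_2 i h1 h2
  · exact (allR_iff _ _ _).mp sort_3 i h1 h2
  · exact (allR_iff _ _ _).mp sort_4 i h1 h2
  · exact (allR_iff _ _ _).mp sort_5 i h1 h2
  · exact (allR_iff _ _ _).mp sort_6 i h1 h2
  · exact (allR_iff _ _ _).mp sort_7 i h1 h2

theorem tree_0 : allR treeChk 0 12285 = true := by decide +kernel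

theorem tree_1 : allR treeChk 12285 12285 = true := by decide +kernel

theorem tree_2 : allR treeChk 24570 12285 = true := by decide +kernel

theorem tree_3 : allR treeChk 36855 12285 = true := by decide +kernel

theorem tree_4 : allR treeChk 49140 12285 = true := by decide +kernel

theorem tree_5 : allR treeChk 61425 12285 = true := by decide +kernel

theorem tree_6 : allR treeChk 73710 12285 = true := by decide +kernel

theorem tree_7 : allR treeChk 85995 12285 = true := by decide +kernel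

theorem tree_ok : ∀ i < 98280, treeChk i = true := by
  intro i hi
  have h : (0 ≤ i ∧ i < 0 + 12285) ∨ (12285 ≤ i ∧ i < 12285 + 12285) ∨ (24570 ≤ i ∧ i < 24570 + 12285) ∨ (36855 ≤ i ∧ i < 36855 + 12285) ∨ (49140 ≤ i ∧ i < 49140 + 12285) ∨ (61425 ≤ i ∧ i < 61425 + 12285) ∨ (73710 ≤ i ∧ i < 73710 + 12285) ∨ (85995 ≤ i ∧ i < 85995 + 12285) := by omega
  rcases h with ⟨h1, h2⟩ | ⟨h1, h2⟩ | ⟨h1, h2⟩ | ⟨h1, h2⟩ | ⟨h1, h2⟩ | ⟨h1, h2⟩ | ⟨h1, h2⟩ | ⟨h1, h2⟩
  · exact (allR_iff _ _ _).mp tree_0 i h1 h2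
  · exact (allR_iff _ _ _).mp tree_1 i h1 h2
  · exact (allR_iff _ _ _).mp tree_2 i h1 h2
  · exact (allR_iff _ _ _).mp tree_3 i h1 h2
  · exact (allR_iff _ _ _).mp tree_4 i h1 h2
  · exact (allR_iff _ _ _).mp tree_5 i h1 h2
  · exact (allR_iff _ _ _).mp tree_6 i h1 h2
  · exact (allR_iff _ _ _).mp tree_7 i h1 h2

theorem inv_0 : allR invChk 0 12285 = true := by decide +kernel

theorem inv_1 : allR invChk 12285 12285 = true := by decide +kernel

theorem inv_2 : allR invChk 24570 12285 = true := by decide +kernel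

theorem inv_3 : allR invChk 36855 12285 = true := by decide +kernel

theorem inv_4 : allR invChk 49140 12285 = true := by decide +kernel

theorem inv_5 : allR invChk 61425 12285 = true := by decide +kernel

theorem inv_6 : allR invChk 73710 12285 = true := by decide +kernel

theorem inv_7 : allR invChk 85995 12285 = true := by decide +kernel

theorem inv_ok : ∀ i < 98280, invChk i = true := by
  intro i hi
  have h : (0 ≤ i ∧ i < 0 + 12285) ∨ (12285 ≤ i ∧ i < 12285 + 12285) ∨ (24570 ≤ i ∧ i < 24570 + 12285) ∨ (36855 ≤ i ∧ i < 36855 + 12285) ∨ (49140 ≤ i ∧ i < 49140 + 12285) ∨ (61425 ≤ i ∧ i < 61425 + 12285) ∨ (73710 ≤ i ∧ i < 73710 + 12285) ∨ (85995 ≤ i ∧ i < 85995 + 12285) := by omega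
  rcases h with ⟨h1, h2⟩ | ⟨h1, h2⟩ | ⟨h1, h2⟩ | ⟨h1, h2⟩ | ⟨h1, h2⟩ | ⟨h1, h2⟩ | ⟨h1, h2⟩ | ⟨h1, h2⟩
  · exact (allR_iff _ _ _).mp inv_0 i h1 h2
  · exact (allR_iff _ _ _).mp inv_1 i h1 h2
  · exact (allR_iff _ _ _).mp inv_2 i h1 h2
  · exact (allR_iff _ _ _).mp inv_3 i h1 h2
  · exact (allR_iff _ _ _).mp inv_4 i h1 h2
  · exact (allR_iff _ _ _).mp inv_5 i h1 h2
  · exact (allR_iff _ _ _).mp inv_6 i h1 h2
  · exact (allR_iff _ _ _).mp inv_7 i h1 h2

theorem top_ok : Nat.blt (Nat.mul 2 (vL 98279)) P2 = true := by decide +kernel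

theorem root_ok : Nat.beq (vL 22) (Nat.sub P2 pU) = true := by decide +kernel

end Cfsg.Agent.Lib.Helper1.Co1B
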