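import Mathlib
import Cfsg.Agent.Lib.Helper1.Co1B.KA0
import Cfsg.Agent.Lib.Helper1.Co1B.KA1
import Cfsg.Agent.Lib.Helper1.Co1B.KA2
import Cfsg.Agent.Lib.Helper1.Co1B.KA3
import Cfsg.Agent.Lib.Helper1.Co1B.KS
import Cfsg.Agent.Lib.Helper1.LeechEnum13

set_option autoImplicit false
set_option maxRecDepth 100000
set_option exponentiation.threshold 400

/-! The first Conway group on the 98280 pairs of minimal vectors: the vectors of the list. -/

namespace Cfsg.Agent.Lib.Helper1.Co1B

open Cfsg MulAction Cfsg.Agent.Lib.Helper1 Cfsg.Agent.Lib.Helper1.LeechEnum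
  Cfsg.Agent.Lib.Helper1.LeechConn Cfsg.Agent.Lib.Helper1.LeechAut

/-! ### Packed numbers -/

theorem pkr_add' (n : ℕ) (f g : ℕ → ℕ) : pkr n f + pkr n g = pkr n (fun k => f k + g k) := by
  induction n with
  | zero => rfl
  | succ n ih =>
    rw [pkr_succ, pkr_succ, pkr_succ, ← ih]
    ring

theorem fld_pkr' (n : ℕ) (g : ℕ → ℕ) (hg : ∀ j < n, g j < 65536) (k : ℕ) (hk : k < n) :
    fld k (pkr n g) = g k := by
  unfold pkr
  rw [fld_pk]
  · rw [List.getD_eq_getElem?_getD, List.getElem?_map, List.getElem?_range hk]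
    rfl
  · intro a ha
    rw [List.mem_map] at ha
    obtain ⟨j, hj, rfl⟩ := ha
    exact hg j (List.mem_range.mp hj)

theorem P2_eq : P2 = pkr 24 (fun _ => 512) := by decide +kernel

theorem P2_lt : P2 < 65536 ^ 24 := by decide +kernel

/-- the fields of the packed negative -/
theorem fld_P2_sub (w : ℕ) (hw : w < 65536 ^ 24) (hb : ∀ k < 24, fld k w ≤ 512) (k : ℕ)
    (hk : k < 24) : fld k (P2 - w) = 512 - fld k w := by
  have h1 : pkr 24 (fun k => 512 - fld k w) + w = P2 := by
    have e : pkr 24 (fun k => fld k w) = w := by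
      rw [pkr_flds]
      exact Nat.mod_eq_of_lt hw
    calc pkr 24 (fun k => 512 - fld k w) + w
        = pkr 24 (fun k => 512 - fld k w) + pkr 24 (fun k => fld k w) := by rw [e]
      _ = P2 := ?_
    rw [pkr_add', P2_eq]
    apply pkr_congr
    intro j hj
    have := hb j hj
    omega
  have h2 : P2 - w = pkr 24 (fun k => 512 - fld k w) := by omega
  rw [h2, fld_pkr' 24 _ (fun j _ => by omega) k hk]

/-- the packed negative of a good packed vector -/
theorem good_neg {w : ℕ} (hg : Good w) (hw : w < 65536 ^ 24) :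
    Good (P2 - w) ∧ vec (P2 - w) = -vec w := by
  have hv : vec (P2 - w) = -vec w := by
    funext p
    have hk := gIdx_lt p
    have hb := hg.bounds' hk
    rw [Pi.neg_apply, vec_apply, vec_apply,
      fld_P2_sub w hw (fun k hk' => by have := hg.bounds' hk'; omega) _ hk]
    have : fld (gIdx p) w ≤ 512 := by omega
    push_cast [Nat.cast_sub this]
    ring
  refine ⟨?_, hv⟩
  unfold Good
  rw [hv, norm_neg]
  exact ⟨leechLattice.neg_mem hg.1, hg.2⟩

theorem vec_inj' {v w : ℕ} (hv : v < 65536 ^ 24) (hw : w < 65536 ^ 24) (h : vec v = vec w) :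
    v = w := by
  have hf : ∀ k < 24, fld k v = fld k w := by
    intro k hk
    have := congrFun h (gUnidx k)
    rw [vec_apply, vec_apply, gIdx_gUnidx k hk] at this
    have h3 : (fld k v : ℤ) = (fld k w : ℤ) := by linarith
    exact_mod_cast h3
  have h1 : pkr 24 (fun k => fld k v) = v := by
    rw [pkr_flds]
    exact Nat.mod_eq_of_lt hv
  have h2 : pkr 24 (fun k => fld k w) = w := by
    rw [pkr_flds]
    exact Nat.mod_eq_of_lt hw
  rw [← h1, ← h2]
  exact pkr_congr hf

/-! ### The order of the list -/

theorem vL_step (i : ℕ) (hi : i < 98279) : vL i < vL (i + 1) := by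
  have := sort_ok i hi
  unfold sortChk at this
  rwa [Nat.blt_eq] at this

theorem vL_strict (i j : ℕ) (hij : i < j) (hj : j < 98280) : vL i < vL j := by
  induction j with
  | zero => omega
  | succ j ih =>
    rcases Nat.lt_succ_iff_lt_or_eq.mp hij with h | h
    · exact lt_trans (ih h (by omega)) (vL_step j (by omega))
    · rw [h]
      exact vL_step j (by omega)

theorem vL_inj (i j : ℕ) (hi : i < 98280) (hj : j < 98280) (h : vL i = vL j) : i = j := by
  rcases Nat.lt_trichotomy i j with h1 | h1 | h1
  · exact absurd h (ne_of_lt (vL_strict i j h1 hj))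
  · exact h1
  · exact absurd h.symm (ne_of_lt (vL_strict j i h1 hi))

theorem vL_top : 2 * vL 98279 < P2 := by
  have := top_ok
  rwa [Nat.blt_eq] at this

theorem vL_le_top (i : ℕ) (hi : i < 98280) : vL i ≤ vL 98279 := by
  rcases Nat.lt_or_ge i 98279 with h | h
  · exact le_of_lt (vL_strict i 98279 h (by norm_num))
  · have : i = 98279 := by omega
    rw [this]

theorem two_vL_lt (i : ℕ) (hi : i < 98280) : 2 * vL i < P2 := by
  have := vL_le_top i hi
  have := vL_top
  omega

theorem vL_lt (i : ℕ) (hi : i < 98280) : vL i < 65536 ^ 24 := by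
  have := two_vL_lt i hi
  have := P2_lt
  omega

/-! ### The letters -/

theorem prims_ok : ∀ g ∈ [g0, g1, g2, g3], ∀ pr ∈ g, primOK pr = true := by decide +kernel

theorem tracks_gOf (c : ℕ) : Tracks (applyGen (gOf c)) := by
  apply applyGen_tracks
  unfold gOf
  rcases nthG_mem [g0, g1, g2, g3] c with h | h
  · rw [h]
    intro pr hpr
    exact absurd hpr List.not_mem_nil
  · exact prims_ok _ h

theorem act_ok (c : ℕ) (hc : c < 4) (i : ℕ) (hi : i < 98280) : actChk c i = true := by
  interval_cases c
  · exact act0_ok i hi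
  · exact act1_ok i hi
  · exact act2_ok i hi
  · exact act3_ok i hi

theorem tf_lt (c : ℕ) (hc : c < 4) (i : ℕ) (hi : i < 98280) : tf c i < 196560 := by
  have := act_ok c hc i hi
  unfold actChk at this
  rw [Bool.and_eq_true, Nat.blt_eq] at this
  exact this.2

theorem act_eq (c : ℕ) (hc : c < 4) (i : ℕ) (hi : i < 98280) :
    applyGen (gOf c) (vL i) = vLf (tf c i) := by
  have := act_ok c hc i hi
  unfold actChk at this
  rw [Bool.and_eq_true, nbeq_iff] at this
  exact this.1

theorem qdN_lt (j : ℕ) (hj : j < 196560) : qdN j < 98280 := by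
  unfold qdN
  cases h : Nat.blt j 98280 with
  | true =>
    rw [Nat.blt_eq] at h
    exact h
  | false =>
    have : ¬ j < 98280 := by
      intro h'
      rw [← Nat.blt_eq] at h'
      rw [h'] at h
      exact Bool.noConfusion h
    show 196559 - j < 98280
    omega

theorem qdN_of_lt {j : ℕ} (hj : j < 98280) : qdN j = j := by
  unfold qdN
  have : Nat.blt j 98280 = true := by rw [Nat.blt_eq]; exact hj
  rw [this]
  rfl

theorem qdN_of_ge {j : ℕ} (hj : ¬ j < 98280) : qdN j = 196559 - j := by
  unfold qdN
  have : Nat.blt j 98280 = false := by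
    cases h : Nat.blt j 98280 with
    | true => rw [Nat.blt_eq] at h; exact absurd h hj
    | false => rfl
  rw [this]
  rfl

theorem vLf_of_lt {j : ℕ} (hj : j < 98280) : vLf j = vL j := by
  unfold vLf
  have : Nat.blt j 98280 = true := by rw [Nat.blt_eq]; exact hj
  rw [this]
  rfl

theorem vLf_of_ge {j : ℕ} (hj : ¬ j < 98280) : vLf j = P2 - vL (196559 - j) := by
  unfold vLf
  have : Nat.blt j 98280 = false := by
    cases h : Nat.blt j 98280 with
    | true => rw [Nat.blt_eq] at h; exact absurd h hj
    | false => rfl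
  rw [this]
  rfl

/-- the vector of an index below 196560, in terms of the pair -/
theorem vLf_cases (j : ℕ) : vLf j = vL (qdN j) ∨ vLf j = P2 - vL (qdN j) := by
  by_cases h : j < 98280
  · left
    rw [vLf_of_lt h, qdN_of_lt h]
  · right
    rw [vLf_of_ge h, qdN_of_ge h]

/-! ### The vectors of the list are minimal vectors -/

theorem pU_lt : pU < 65536 ^ 24 := by decide +kernel

theorem vL_root : vL 22 = P2 - pU := by
  have := root_ok
  rwa [nbeq_iff] at this

/-- the property of a packed vector: a minimal vector of the lattice -/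
def Min (v : ℕ) : Prop := Good v ∧ sqNorm (vec v) = 32

theorem min_neg {w : ℕ} (h : Min w) (hw : w < 65536 ^ 24) : Min (P2 - w) := by
  obtain ⟨h1, h2⟩ := good_neg h.1 hw
  exact ⟨h1, by rw [h2, norm_neg]; exact h.2⟩

theorem min_step (c : ℕ) {v : ℕ} (h : Min v) : Min (applyGen (gOf c) v) := by
  obtain ⟨F, hF, hf⟩ := tracks_gOf c
  have h1 := hf v h.1
  refine ⟨hF.good h.1 h1, ?_⟩
  rw [h1, hF.sqNorm h.1.1]
  exact h.2

theorem vL_props_aux : ∀ r i, i < 98280 → rk i = r → Min (vL i) := by
  intro r
  induction r using Nat.strong_induction_on with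
  | _ r ih =>
    intro i hi hr
    have h := tree_ok i hi
    unfold treeChk at h
    rw [Bool.or_eq_true] at h
    rcases h with h | h
    · have hi0 : i = 22 := (nbeq_iff _ _).mp h
      rw [hi0, vL_root]
      exact min_neg ⟨good_pU, by rw [vec_pU]; exact vecU_norm⟩ pU_lt
    · rw [Bool.and_eq_true, Bool.and_eq_true] at h
      have h3 : par i < 98280 := by
        have := h.1.1
        rwa [Nat.blt_eq] at this
      have h2 : rk (par i) < rk i := by
        have := h.1.2
        rwa [Nat.blt_eq] at this
      have h1 := (nbeq_iff _ _).mp h.2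
      have hc : parg i < 4 := Nat.mod_lt _ (by norm_num)
      have hm := ih (rk (par i)) (hr ▸ h2) (par i) h3 rfl
      have hs := min_step (parg i) hm
      rw [act_eq (parg i) hc (par i) h3] at hs
      rcases vLf_cases (tf (parg i) (par i)) with e | e
      · rw [e, h1] at hs
        exact hs
      · rw [e, h1] at hs
        -- the negative of the negative
        have hlt : P2 - vL i < 65536 ^ 24 := by
          have := P2_lt
          omega
        have := min_neg hs hlt
        have e2 : P2 - (P2 - vL i) = vL i := by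
          have := two_vL_lt i hi
          omega
        rwa [e2] at this

theorem vL_props (i : ℕ) (hi : i < 98280) : Min (vL i) := vL_props_aux (rk i) i hi rfl

/-- the vectors of the list are pairwise neither equal nor opposite -/
theorem vL_sep (i j : ℕ) (hi : i < 98280) (hj : j < 98280)
    (h : vec (vL j) = vec (vL i) ∨ vec (vL j) = -vec (vL i)) : i = j := by
  rcases h with h | h
  · exact (vL_inj j i hj hi (vec_inj' (vL_lt j hj) (vL_lt i hi) h)).symm
  · exfalso
    obtain ⟨-, h2⟩ := good_neg (vL_props i hi).1 (vL_lt i hi)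
    rw [← h2] at h
    have hlt : P2 - vL i < 65536 ^ 24 := by
      have := P2_lt
      omega
    have := vec_inj' (vL_lt j hj) hlt h
    have := two_vL_lt i hi
    have := two_vL_lt j hj
    omega

end Cfsg.Agent.Lib.Helper1.Co1B
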