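import Mathlib
import Cfsg.Agent.Lib.Helper1.Co1B.M1
import Cfsg.Agent.Lib.Helper1.ConwayCo1
import Cfsg.Agent.S0399

set_option autoImplicit false
set_option maxRecDepth 100000

/-! The first Conway group on the 98280 pairs of minimal vectors: the action. -/

namespace Cfsg.Agent.Lib.Helper1.Co1B

open Cfsg MulAction Cfsg.Agent.Lib.Helper1 Cfsg.Agent.Lib.Helper1.LeechEnum
  Cfsg.Agent.Lib.Helper1.LeechConn Cfsg.Agent.Lib.Helper1.LeechAut
  Cfsg.Agent.Lib.Helper1.ConwayCo1

/-- the first Conway group -/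
abbrev C1 : Type := Co0 ⧸ Subgroup.center Co0

theorem isCo1_C1 : IsCo1 C1 := Cfsg.Agent.S0399.result

instance : IsSimpleGroup C1 := isCo1_C1.1

theorem card_C1 : Nat.card C1 = 4157776806543360000 := isCo1_C1.2

instance : Finite C1 := Nat.finite_of_card_ne_zero (by rw [card_C1]; norm_num)

/-- the lattice vector of an index -/
noncomputable def xL (q : Fin 98280) : leechLattice := ⟨vec (vL q), (vL_props q q.isLt).1.1⟩

theorem xL_norm (q : Fin 98280) : sqNorm (xL q : GolayPt → ℤ) = 32 := (vL_props q q.isLt).2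

/-- the pairs of minimal vectors, with the action of the group -/
noncomputable def MinP : SubMulAction C1 Pairs where
  carrier := P '' {w : leechLattice | sqNorm (w : GolayPt → ℤ) = 32}
  smul_mem' := by
    rintro g _ ⟨w, hw, rfl⟩
    obtain ⟨g0, rfl⟩ := QuotientGroup.mk_surjective g
    rw [mk_smul_P]
    exact ⟨g0 • w, (smul_norm g0 w).trans hw, rfl⟩

theorem MinP_ncard : (MinP : Set Pairs).ncard = 98280 := image_M

/-- the pair of an index -/
noncomputable def pP (q : Fin 98280) : MinP := ⟨P (xL q), xL q, xL_norm q, rfl⟩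

theorem pP_injective : Function.Injective pP := by
  intro i j h
  have h1 : P (xL i) = P (xL j) := congrArg Subtype.val h
  rw [P_eq_iff] at h1
  apply Fin.ext
  refine (vL_sep j i j.isLt i.isLt ?_).symm
  rcases h1 with h1 | h1
  · left
    exact congrArg Subtype.val h1
  · right
    have := congrArg Subtype.val h1
    rwa [coe_neg'] at this

theorem pP_surjective : Function.Surjective pP := by
  have hfin : (MinP : Set Pairs).Finite :=
    Set.finite_of_ncard_ne_zero (by rw [MinP_ncard]; norm_num)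
  have hsub : Set.range (fun q => ((pP q : MinP) : Pairs)) ⊆ (MinP : Set Pairs) := by
    rintro _ ⟨q, rfl⟩
    exact (pP q).2
  have hinj : Function.Injective (fun q => ((pP q : MinP) : Pairs)) :=
    fun i j h => pP_injective (Subtype.ext h)
  have hcard : (MinP : Set Pairs).ncard ≤ (Set.range (fun q => ((pP q : MinP) : Pairs))).ncard := by
    rw [MinP_ncard, Set.ncard_range_of_injective hinj, Nat.card_eq_fintype_card, Fintype.card_fin]
  have heq := Set.eq_of_subset_of_ncard_le hsub hcard hfin
  intro x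
  have hx : (x : Pairs) ∈ Set.range (fun q => ((pP q : MinP) : Pairs)) := by
    rw [heq]
    exact x.2
  obtain ⟨q, hq⟩ := hx
  exact ⟨q, Subtype.ext hq⟩

/-- the equivalence of the indices with the pairs -/
noncomputable def eqv : Fin 98280 ≃ MinP := Equiv.ofBijective pP ⟨pP_injective, pP_surjective⟩

theorem eqv_apply (i : Fin 98280) : ((eqv i : MinP) : Pairs) = P (xL i) := rfl

/-- the permutation representation on the 98280 pairs -/
noncomputable def phi : C1 →* Equiv.Perm (Fin 98280) :=
  (eqv.symm.permCongrHom.toMonoidHom).comp (MulAction.toPermHom C1 MinP)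

theorem phi_apply (g : C1) (i : Fin 98280) : phi g i = eqv.symm (g • eqv i) := rfl

theorem phi_eq_iff (g0 : Co0) (i j : Fin 98280) :
    phi (QuotientGroup.mk g0) i = j ↔ (g0 • xL i = xL j ∨ g0 • xL i = -xL j) := by
  rw [phi_apply, Equiv.symm_apply_eq]
  constructor
  · intro h
    have h2 : (QuotientGroup.mk g0 : C1) • P (xL i) = P (xL j) := congrArg Subtype.val h
    rw [mk_smul_P, P_eq_iff] at h2
    exact h2
  · intro h
    apply Subtype.ext
    show (QuotientGroup.mk g0 : C1) • P (xL i) = P (xL j)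
    rw [mk_smul_P, P_eq_iff]
    exact h

/-! ### The letters -/

theorem exists_elt (c : ℕ) : ∃ g : Co0, ∀ v (hv : Good v),
    ((g • (⟨vec v, hv.1⟩ : leechLattice) : leechLattice) : GolayPt → ℤ) =
      vec (applyGen (gOf c) v) := by
  obtain ⟨F, ⟨g, hg⟩, hFv⟩ := tracks_gOf c
  exact ⟨g, fun v hv => by rw [hg, hFv v hv]⟩

/-- the letters as automorphisms of the lattice -/
noncomputable def gE (c : ℕ) : Co0 := Classical.choose (exists_elt c)

theorem gE_spec (c v : ℕ) (hv : Good v) :
    ((gE c • (⟨vec v, hv.1⟩ : leechLattice) : leechLattice) : GolayPt → ℤ) =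
      vec (applyGen (gOf c) v) :=
  Classical.choose_spec (exists_elt c) v hv

/-- the letters as elements of the group -/
noncomputable def eL (c : ℕ) : C1 := QuotientGroup.mk (gE c)

/-- the tables of the letters on the pairs -/
noncomputable def tfp (c q : ℕ) : ℕ := qdN (tf c q)

theorem tfp_lt (c : ℕ) (hc : c < 4) (i : ℕ) (hi : i < 98280) : tfp c i < 98280 :=
  qdN_lt _ (tf_lt c hc i hi)

theorem phi_eL (c : ℕ) (hc : c < 4) (i : Fin 98280) : (phi (eL c) i).val = tfp c i.val := by
  have hlt : tfp c i.val < 98280 := tfp_lt c hc i i.isLt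
  have : phi (eL c) i = ⟨tfp c i.val, hlt⟩ := by
    unfold eL
    rw [phi_eq_iff]
    have h1 := gE_spec c (vL i) (vL_props i i.isLt).1
    rw [act_eq c hc i i.isLt] at h1
    rcases vLf_cases (tf c i) with e | e
    · left
      apply Subtype.ext
      rw [e] at h1
      exact h1
    · right
      apply Subtype.ext
      rw [e] at h1
      rw [coe_neg']
      exact h1.trans (good_neg (vL_props _ hlt).1 (vL_lt _ hlt)).2
  rw [this]

theorem inv_facts (i : ℕ) (hi : i < 98280) :
    (∀ c < 3, ti c i < 98280 ∧ tfp c (ti c i) = i ∧ ti c (tfp c i) = i) ∧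
      tfp 3 (tfp 3 i) = i := by
  have h := inv_ok i hi
  unfold invChk at h
  rw [Bool.and_eq_true, allB_iff, nbeq_iff] at h
  refine ⟨fun c hc => ?_, h.2⟩
  have := h.1 c hc
  rw [Bool.and_eq_true, Bool.and_eq_true, Nat.blt_eq, nbeq_iff, nbeq_iff] at this
  exact ⟨this.1.1, this.1.2, this.2⟩

theorem phi_inv_of (g : C1) (l l' : ℕ → ℕ) (hg : ∀ i : Fin 98280, (phi g i).val = l i.val)
    (hlt : ∀ i < 98280, l' i < 98280) (hinv : ∀ i < 98280, l (l' i) = i) (i : Fin 98280) :
    ((phi g)⁻¹ i).val = l' i.val := by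
  have : (phi g)⁻¹ i = ⟨l' i.val, hlt i.val i.isLt⟩ := by
    rw [Equiv.Perm.inv_eq_iff_eq]
    apply Fin.ext
    rw [hg]
    exact (hinv i.val i.isLt).symm
  rw [this]

theorem phi_eL_inv (c : ℕ) (hc : c < 3) (i : Fin 98280) : ((phi (eL c))⁻¹ i).val = ti c i.val :=
  phi_inv_of (eL c) (tfp c) (ti c) (phi_eL c (by omega))
    (fun i hi => ((inv_facts i hi).1 c hc).1) (fun i hi => ((inv_facts i hi).1 c hc).2.1) i

theorem phi_eL3_inv (i : Fin 98280) : ((phi (eL 3))⁻¹ i).val = tfp 3 i.val :=
  phi_inv_of (eL 3) (tfp 3) (tfp 3) (phi_eL 3 (by norm_num))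
    (fun i hi => tfp_lt 3 (by norm_num) i hi) (fun i hi => (inv_facts i hi).2) i

theorem tfp_zero : tfp 0 0 ≠ 0 := by decide +kernel

theorem phi_injective : Function.Injective phi := by
  rw [← MonoidHom.ker_eq_bot_iff]
  rcases (phi.normal_ker).eq_bot_or_eq_top with h | h
  · exact h
  · exfalso
    have hA : eL 0 ∈ phi.ker := by rw [h]; trivial
    rw [MonoidHom.mem_ker] at hA
    have := phi_eL 0 (by norm_num) 0
    rw [hA] at this
    exact tfp_zero this.symm

end Cfsg.Agent.Lib.Helper1.Co1B
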