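import Mathlib
import Cfsg.Agent.Lib.Helper1.Co1B.M2
import Cfsg.Agent.Lib.Helper1.Co1B.CD
import Cfsg.Agent.Lib.Helper1.PMChk

set_option autoImplicit false
set_option maxRecDepth 100000

/-! The first Conway group on the 98280 pairs of minimal vectors: the model of the subgroup
generated by the letters. -/

namespace Cfsg.Agent.Lib.Helper1.Co1B

open Cfsg Cfsg.Agent.Lib.Helper1 Cfsg.Agent.Lib.Helper1.MatCode
open Cfsg.Agent.Lib.Helper6.TC Cfsg.Agent.Lib.Helper6.PM Cfsg.Agent.Lib.Helper2.PMS
open Cfsg.Agent.Lib.Helper5.Chain Cfsg.Agent.Lib.Helper5.Srch Cfsg.Agent.Lib.Helper1.PMChk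

/-- the subgroup generated by the four letters -/
noncomputable def CS : Subgroup C1 := Subgroup.closure {eL 0, eL 1, eL 2, eL 3}

/-- the letters and the inverses of the first three -/
noncomputable def LT : List C1 := [eL 0, eL 1, eL 2, eL 3, (eL 0)⁻¹, (eL 1)⁻¹, (eL 2)⁻¹]

theorem LT_mem : ∀ g ∈ LT, g ∈ CS := by
  intro g hg
  have : g = eL 0 ∨ g = eL 1 ∨ g = eL 2 ∨ g = eL 3 ∨ g = (eL 0)⁻¹ ∨ g = (eL 1)⁻¹ ∨
      g = (eL 2)⁻¹ := by simpa [LT] using hg
  rcases this with rfl | rfl | rfl | rfl | rfl | rfl | rfl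
  · exact Subgroup.subset_closure (by simp)
  · exact Subgroup.subset_closure (by simp)
  · exact Subgroup.subset_closure (by simp)
  · exact Subgroup.subset_closure (by simp)
  · exact CS.inv_mem (Subgroup.subset_closure (by simp))
  · exact CS.inv_mem (Subgroup.subset_closure (by simp))
  · exact CS.inv_mem (Subgroup.subset_closure (by simp))

/-- the right action of the letters -/
noncomputable def px (c q : ℕ) : ℕ :=
  Nat.casesOn (motive := fun _ => ℕ) c (ti 0 q) (fun c =>
    Nat.casesOn (motive := fun _ => ℕ) c (ti 1 q) (fun c =>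
      Nat.casesOn (motive := fun _ => ℕ) c (ti 2 q) (fun c =>
        Nat.casesOn (motive := fun _ => ℕ) c (tfp 3 q) (fun c =>
          Nat.casesOn (motive := fun _ => ℕ) c (tfp 0 q) (fun c =>
            Nat.casesOn (motive := fun _ => ℕ) c (tfp 1 q) (fun _ => tfp 2 q))))))

theorem px_0 (q : ℕ) : px 0 q = ti 0 q := rfl
theorem px_1 (q : ℕ) : px 1 q = ti 1 q := rfl
theorem px_2 (q : ℕ) : px 2 q = ti 2 q := rfl
theorem px_3 (q : ℕ) : px 3 q = tfp 3 q := rfl
theorem px_4 (q : ℕ) : px 4 q = tfp 0 q := rfl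
theorem px_5 (q : ℕ) : px 5 q = tfp 1 q := rfl
theorem px_6 (q : ℕ) : px 6 q = tfp 2 q := rfl

theorem px_lt : ∀ c < 7, ∀ q < 98280, px c q < 98280 := by
  intro c hc q hq
  have h := (inv_facts q hq).1
  interval_cases c
  · exact (h 0 (by norm_num)).1
  · exact (h 1 (by norm_num)).1
  · exact (h 2 (by norm_num)).1
  · exact tfp_lt 3 (by norm_num) q hq
  · exact tfp_lt 0 (by norm_num) q hq
  · exact tfp_lt 1 (by norm_num) q hq
  · exact tfp_lt 2 (by norm_num) q hq

theorem phi_inv_letter (c : ℕ) (hc : c < 7) (x : Fin 98280) :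
    ((phi (LT.getD c 1))⁻¹ x).val = px c x.val := by
  interval_cases c
  · exact phi_eL_inv 0 (by norm_num) x
  · exact phi_eL_inv 1 (by norm_num) x
  · exact phi_eL_inv 2 (by norm_num) x
  · exact phi_eL3_inv x
  · show ((phi (eL 0)⁻¹)⁻¹ x).val = _
    rw [map_inv, inv_inv]
    exact phi_eL 0 (by norm_num) x
  · show ((phi (eL 1)⁻¹)⁻¹ x).val = _
    rw [map_inv, inv_inv]
    exact phi_eL 1 (by norm_num) x
  · show ((phi (eL 2)⁻¹)⁻¹ x).val = _
    rw [map_inv, inv_inv]
    exact phi_eL 2 (by norm_num) x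

theorem phi_inv_word (w : List ℕ) (hw : ∀ c ∈ w, c < 7) (x : Fin 98280) :
    ((phi (wordProd LT w))⁻¹ x).val = wapp px w x.val := by
  induction w generalizing x with
  | nil =>
    rw [wordProd_nil, map_one, inv_one]
    rfl
  | cons c w ih =>
    rw [wordProd_cons, map_mul, mul_inv_rev, Equiv.Perm.mul_apply, wapp_cons]
    have hc : c < 7 := hw c List.mem_cons_self
    have h1 := ih (fun c' hc' => hw c' (List.mem_cons_of_mem _ hc')) ((phi (LT.getD c 1))⁻¹ x)
    rw [phi_inv_letter c hc x] at h1
    exact h1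

/-- the element of a word, in the subgroup -/
noncomputable def eltC (w : List ℕ) : CS := ⟨wordProd LT w, wordProd_mem LT CS LT_mem w⟩

theorem closure_eltC : Subgroup.closure {g : CS | ∃ c < 7, g = eltC [c]} = ⊤ := by
  rw [eq_top_iff]
  rintro ⟨g, hg⟩ -
  have key : ∀ g (hg : g ∈ CS),
      (⟨g, hg⟩ : CS) ∈ Subgroup.closure {g : CS | ∃ c < 7, g = eltC [c]} := by
    intro g hg
    induction hg using Subgroup.closure_induction with
    | mem x hx =>
      apply Subgroup.subset_closure
      have : x = eL 0 ∨ x = eL 1 ∨ x = eL 2 ∨ x = eL 3 := by simpa using hx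
      rcases this with rfl | rfl | rfl | rfl
      · refine ⟨0, by norm_num, ?_⟩
        apply Subtype.ext
        show _ = wordProd LT [0]
        rw [wordProd_cons, wordProd_nil, mul_one]
        rfl
      · refine ⟨1, by norm_num, ?_⟩
        apply Subtype.ext
        show _ = wordProd LT [1]
        rw [wordProd_cons, wordProd_nil, mul_one]
        rfl
      · refine ⟨2, by norm_num, ?_⟩
        apply Subtype.ext
        show _ = wordProd LT [2]
        rw [wordProd_cons, wordProd_nil, mul_one]
        rfl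
      · refine ⟨3, by norm_num, ?_⟩
        apply Subtype.ext
        show _ = wordProd LT [3]
        rw [wordProd_cons, wordProd_nil, mul_one]
        rfl
    | one => exact Subgroup.one_mem _
    | mul x y hx hy ihx ihy => exact Subgroup.mul_mem _ ihx ihy
    | inv x hx ih => exact Subgroup.inv_mem _ ih
  exact key g hg

/-- the model of the subgroup generated by the letters -/
noncomputable def co1C : PModel where
  G := CS
  n := 98280
  nl := 7
  px := px
  elt := eltC
  phi := phi.comp CS.subtype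
  elt_nil := Subtype.ext (wordProd_nil LT)
  elt_append := fun u v => Subtype.ext (wordProd_append LT u v)
  px_lt := px_lt
  phi_inv_val := fun w hw p => phi_inv_word w hw p
  phi_injective := phi_injective.comp CS.subtype_injective
  closure_letters := closure_eltC

end Cfsg.Agent.Lib.Helper1.Co1B
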