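import Mathlib
import Cfsg.Agent.Lib.Helper1.Co1B.M3

set_option autoImplicit false
set_option maxRecDepth 100000

/-! The first Conway group on the 98280 pairs of minimal vectors: checks on ranges of points with
raw recursors, which the kernel evaluates fast. -/

namespace Cfsg.Agent.Lib.Helper1.Co1B

open Cfsg.Agent.Lib.Helper6.TC Cfsg.Agent.Lib.Helper6.PM Cfsg.Agent.Lib.Helper2.PMS
open Cfsg.Agent.Lib.Helper5.Chain Cfsg.Agent.Lib.Helper5.Srch Cfsg.Agent.Lib.Helper1.PMChk

/-- the action of a word on a point, with raw recursors -/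
def wappR (pm : ℕ → ℕ → ℕ) (w : List ℕ) (q : ℕ) : ℕ :=
  List.rec (motive := fun _ => ℕ → ℕ) (fun q => q) (fun c _ ih q => ih (pm c q)) w q

theorem wappR_nil (pm : ℕ → ℕ → ℕ) (q : ℕ) : wappR pm [] q = q := rfl

theorem wappR_cons (pm : ℕ → ℕ → ℕ) (c : ℕ) (w : List ℕ) (q : ℕ) :
    wappR pm (c :: w) q = wappR pm w (pm c q) := rfl

theorem wappR_eq (pm : ℕ → ℕ → ℕ) (w : List ℕ) (q : ℕ) : wappR pm w q = wapp pm w q := by
  induction w generalizing q with
  | nil => rfl
  | cons c w ih => rw [wappR_cons, ih, wapp_cons]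

/-- a check on a range of numbers, with raw recursors -/
def rangeR (f : ℕ → Bool) (lo k : ℕ) : Bool :=
  Nat.rec (motive := fun _ => ℕ → Bool) (fun _ => true)
    (fun _ ih lo => Bool.casesOn (motive := fun _ => Bool) (f lo) false (ih (Nat.succ lo))) k lo

theorem rangeR_zero (f : ℕ → Bool) (lo : ℕ) : rangeR f lo 0 = true := rfl

theorem rangeR_succ (f : ℕ → Bool) (lo k : ℕ) :
    rangeR f lo (k + 1) =
      Bool.casesOn (motive := fun _ => Bool) (f lo) false (rangeR f (Nat.succ lo) k) := rfl

theorem rangeR_spec (f : ℕ → Bool) : ∀ (k lo : ℕ), rangeR f lo k = true →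
    ∀ i, lo ≤ i → i < lo + k → f i = true
  | 0, lo, _, i, h1, h2 => by omega
  | k + 1, lo, h, i, h1, h2 => by
    rw [rangeR_succ] at h
    cases hf : f lo with
    | false => rw [hf] at h; exact Bool.noConfusion h
    | true =>
      rw [hf] at h
      rcases Nat.eq_or_lt_of_le h1 with rfl | h3
      · exact hf
      · exact rangeR_spec f k (Nat.succ lo) h i h3 (by omega)

/-- the check of a level whose words move the base point to the points in their order, with raw
recursors -/
def lvR (pm : ℕ → ℕ → ℕ) (b : ℕ) (L : List (List ℕ)) (i : ℕ) : Bool :=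
  List.rec (motive := fun _ => ℕ → Bool) (fun _ => true)
    (fun w _ ih i => Bool.casesOn (motive := fun _ => Bool) (Nat.beq (wappR pm w b) i) false
      (ih (Nat.succ i))) L i

theorem lvR_nil (pm : ℕ → ℕ → ℕ) (b i : ℕ) : lvR pm b [] i = true := rfl

theorem lvR_cons (pm : ℕ → ℕ → ℕ) (b : ℕ) (w : List ℕ) (L : List (List ℕ)) (i : ℕ) :
    lvR pm b (w :: L) i = Bool.casesOn (motive := fun _ => Bool) (Nat.beq (wappR pm w b) i) false
      (lvR pm b L (Nat.succ i)) := rfl

theorem lvR_spec (pm : ℕ → ℕ → ℕ) (b : ℕ) : ∀ (L : List (List ℕ)) (i : ℕ), lvR pm b L i = true →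
    L.map (fun w => wapp pm w b) = List.range' i L.length
  | [], _, _ => rfl
  | w :: L, i, h => by
    rw [lvR_cons] at h
    cases hf : Nat.beq (wappR pm w b) i with
    | false => rw [hf] at h; exact Bool.noConfusion h
    | true =>
      rw [hf] at h
      have e : wapp pm w b = i := by
        rw [← wappR_eq]
        exact Nat.eq_of_beq_eq_true hf
      rw [List.map_cons, List.length_cons, List.range'_succ, e, lvR_spec pm b L (Nat.succ i) h]

/-- a check on the whole range from its pieces -/
theorem forall_of_pieces (f : ℕ → Bool) (s m n : ℕ) (hn : m * s = n)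
    (h : ∀ j < m, rangeR f (j * s) s = true) : ∀ i < n, f i = true := by
  intro i hi
  rw [← hn] at hi
  have hs : 0 < s := by
    rcases Nat.eq_zero_or_pos s with rfl | h
    · simp at hi
    · exact h
  have hj : i / s < m := Nat.div_lt_of_lt_mul (by rwa [Nat.mul_comm] at hi)
  exact rangeR_spec f s (i / s * s) (h (i / s) hj) i (Nat.div_mul_le_self i s)
    (Nat.lt_div_mul_add hs)

/-- the comparison of a new letter with its word at a point -/
noncomputable def newF (w : List ℕ) (c : ℕ) : ℕ → Bool := fun q => Nat.beq (wappR pm w q) (pm c q)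

/-- the comparison of an old letter with the model at a point -/
noncomputable def oldF (c : ℕ) : ℕ → Bool := fun q => Nat.beq (pm c q) (px c q)

theorem chkNew_of_forall (k c : ℕ) (w : List ℕ) (hw : ds.getD k [] = w) (hc : 7 + k = c)
    (hl : (w.all fun c => Nat.blt c (7 + k)) = true)
    (h : ∀ q < 98280, newF w c q = true) : chkNew 98280 7 ds pm k = true := by
  unfold chkNew
  rw [hw, Bool.and_eq_true]
  refine ⟨hl, chkRange_of_forall _ _ _ fun q _ hq => ?_⟩
  have := h q (by omega)
  unfold newF at this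
  rw [wappR_eq] at this
  rw [wappS_eq, hc]
  exact this

theorem chkOld_of_forall (c : ℕ) (h : ∀ q < 98280, oldF c q = true) :
    chkOld px 98280 pm c = true := by
  unfold chkOld
  exact chkRange_of_forall _ _ _ fun q _ hq => h q (by omega)

theorem map_append_range' (F : List ℕ → ℕ) (L1 L2 : List (List ℕ)) (a n1 n2 : ℕ)
    (h1 : L1.map F = List.range' a n1) (h2 : L2.map F = List.range' (a + n1) n2) :
    (L1 ++ L2).map F = List.range' a (n1 + n2) := by
  rw [List.map_append, h1, h2, List.range'_append_1]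

/-- a level of a chain from the two facts on it -/
theorem isChain_cons_of (px : ℕ → ℕ → ℕ) (b : ℕ) (bs : List ℕ) (L : List (List ℕ))
    (Ls : List (List (List ℕ))) (n : ℕ) (h1 : L.map (fun w => wapp px w b) = List.range' 0 n)
    (h2 : (Ls.all fun Lj => Lj.all fun w => Nat.beq (wappS px w b) b) = true)
    (h' : IsChain px bs Ls) : IsChain px (b :: bs) (L :: Ls) := by
  rw [List.all_eq_true] at h2
  refine ⟨?_, ?_, h'⟩
  · rw [h1]
    exact List.nodup_range'
  · intro Lj hLj w hw
    have h3 := h2 Lj hLj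
    rw [List.all_eq_true] at h3
    rw [← wappS_eq]
    exact Nat.eq_of_beq_eq_true (h3 w hw)

end Cfsg.Agent.Lib.Helper1.Co1B
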