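import Mathlib
import Cfsg.Agent.Lib.Helper1.Co1B.CK

set_option autoImplicit false
set_option maxRecDepth 100000

/-! The first Conway group on the 98280 pairs of minimal vectors: checks of the tables of the new letters, part 0. -/

namespace Cfsg.Agent.Lib.Helper1.Co1B

open Cfsg.Agent.Lib.Helper6.TC Cfsg.Agent.Lib.Helper6.PM Cfsg.Agent.Lib.Helper2.PMS
open Cfsg.Agent.Lib.Helper5.Chain Cfsg.Agent.Lib.Helper5.Srch Cfsg.Agent.Lib.Helper1.PMChk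

theorem new0_0 : rangeR (newF [1, 1, 1, 3, 5, 3, 5, 5, 5, 5, 3, 5, 5, 3, 1, 1, 1, 3, 1, 3, 5, 5, 3, 1, 1, 1, 3, 1] 7) (0 * 8190) 8190 = true := by decide +kernel

theorem new0_1 : rangeR (newF [1, 1, 1, 3, 5, 3, 5, 5, 5, 5, 3, 5, 5, 3, 1, 1, 1, 3, 1, 3, 5, 5, 3, 1, 1, 1, 3, 1] 7) (1 * 8190) 8190 = true := by decide +kernel

theorem new0_2 : rangeR (newF [1, 1, 1, 3, 5, 3, 5, 5, 5, 5, 3, 5, 5, 3, 1, 1, 1, 3, 1, 3, 5, 5, 3, 1, 1, 1, 3, 1] 7) (2 * 8190) 8190 = true := by decide +kernel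

theorem new0_3 : rangeR (newF [1, 1, 1, 3, 5, 3, 5, 5, 5, 5, 3, 5, 5, 3, 1, 1, 1, 3, 1, 3, 5, 5, 3, 1, 1, 1, 3, 1] 7) (3 * 8190) 8190 = true := by decide +kernel

theorem new0_4 : rangeR (newF [1, 1, 1, 3, 5, 3, 5, 5, 5, 5, 3, 5, 5, 3, 1, 1, 1, 3, 1, 3, 5, 5, 3, 1, 1, 1, 3, 1] 7) (4 * 8190) 8190 = true := by decide +kernel

end Cfsg.Agent.Lib.Helper1.Co1B
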