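import Mathlib
import Cfsg.Agent.Lib.Helper1.Co1B.CN1

set_option autoImplicit false
set_option maxRecDepth 100000

/-! The first Conway group on the 98280 pairs of minimal vectors: checks of the tables of the new letters, part 2. -/

namespace Cfsg.Agent.Lib.Helper1.Co1B

open Cfsg.Agent.Lib.Helper6.TC Cfsg.Agent.Lib.Helper6.PM Cfsg.Agent.Lib.Helper2.PMS
open Cfsg.Agent.Lib.Helper5.Chain Cfsg.Agent.Lib.Helper5.Srch Cfsg.Agent.Lib.Helper1.PMChk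

theorem new0_10 : rangeR (newF [1, 1, 1, 3, 5, 3, 5, 5, 5, 5, 3, 5, 5, 3, 1, 1, 1, 3, 1, 3, 5, 5, 3, 1, 1, 1, 3, 1] 7) (10 * 8190) 8190 = true := by decide +kernel

theorem new0_11 : rangeR (newF [1, 1, 1, 3, 5, 3, 5, 5, 5, 5, 3, 5, 5, 3, 1, 1, 1, 3, 1, 3, 5, 5, 3, 1, 1, 1, 3, 1] 7) (11 * 8190) 8190 = true := by decide +kernel

theorem chk_new0 : chkNew 98280 7 ds pm 0 = true := by
  apply chkNew_of_forall 0 7 [1, 1, 1, 3, 5, 3, 5, 5, 5, 5, 3, 5, 5, 3, 1, 1, 1, 3, 1, 3, 5, 5, 3, 1, 1, 1, 3, 1] rfl rfl (by decide)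
  apply forall_of_pieces _ 8190 12 98280 (by norm_num)
  intro j hj
  interval_cases j
  · exact new0_0
  · exact new0_1
  · exact new0_2
  · exact new0_3
  · exact new0_4
  · exact new0_5
  · exact new0_6
  · exact new0_7
  · exact new0_8
  · exact new0_9
  · exact new0_10
  · exact new0_11

theorem new1_0 : rangeR (newF [5, 3, 5, 5, 5, 3, 1, 1, 3, 5, 3, 5, 5, 5, 3, 1, 1, 3, 1, 1, 1, 1, 3, 1, 3, 5, 5, 5] 8) (0 * 8190) 8190 = true := by decide +kernel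

theorem new1_1 : rangeR (newF [5, 3, 5, 5, 5, 3, 1, 1, 3, 5, 3, 5, 5, 5, 3, 1, 1, 3, 1, 1, 1, 1, 3, 1, 3, 5, 5, 5] 8) (1 * 8190) 8190 = true := by decide +kernel

theorem new1_2 : rangeR (newF [5, 3, 5, 5, 5, 3, 1, 1, 3, 5, 3, 5, 5, 5, 3, 1, 1, 3, 1, 1, 1, 1, 3, 1, 3, 5, 5, 5] 8) (2 * 8190) 8190 = true := by decide +kernel

end Cfsg.Agent.Lib.Helper1.Co1B
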