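import Mathlib
import Cfsg.Agent.Lib.Helper1.Co1B.CN3

set_option autoImplicit false
set_option maxRecDepth 100000

/-! The first Conway group on the 98280 pairs of minimal vectors: checks of the tables of the new letters, part 4. -/

namespace Cfsg.Agent.Lib.Helper1.Co1B

open Cfsg.Agent.Lib.Helper6.TC Cfsg.Agent.Lib.Helper6.PM Cfsg.Agent.Lib.Helper2.PMS
open Cfsg.Agent.Lib.Helper5.Chain Cfsg.Agent.Lib.Helper5.Srch Cfsg.Agent.Lib.Helper1.PMChk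

theorem new1_8 : rangeR (newF [5, 3, 5, 5, 5, 3, 1, 1, 3, 5, 3, 5, 5, 5, 3, 1, 1, 3, 1, 1, 1, 1, 3, 1, 3, 5, 5, 5] 8) (8 * 8190) 8190 = true := by decide +kernel

theorem new1_9 : rangeR (newF [5, 3, 5, 5, 5, 3, 1, 1, 3, 5, 3, 5, 5, 5, 3, 1, 1, 3, 1, 1, 1, 1, 3, 1, 3, 5, 5, 5] 8) (9 * 8190) 8190 = true := by decide +kernel

theorem new1_10 : rangeR (newF [5, 3, 5, 5, 5, 3, 1, 1, 3, 5, 3, 5, 5, 5, 3, 1, 1, 3, 1, 1, 1, 1, 3, 1, 3, 5, 5, 5] 8) (10 * 8190) 8190 = true := by decide +kernel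

theorem new1_11 : rangeR (newF [5, 3, 5, 5, 5, 3, 1, 1, 3, 5, 3, 5, 5, 5, 3, 1, 1, 3, 1, 1, 1, 1, 3, 1, 3, 5, 5, 5] 8) (11 * 8190) 8190 = true := by decide +kernel

theorem chk_new1 : chkNew 98280 7 ds pm 1 = true := by
  apply chkNew_of_forall 1 8 [5, 3, 5, 5, 5, 3, 1, 1, 3, 5, 3, 5, 5, 5, 3, 1, 1, 3, 1, 1, 1, 1, 3, 1, 3, 5, 5, 5] rfl rfl (by decide)
  apply forall_of_pieces _ 8190 12 98280 (by norm_num)
  intro j hj
  interval_cases j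
  · exact new1_0
  · exact new1_1
  · exact new1_2
  · exact new1_3
  · exact new1_4
  · exact new1_5
  · exact new1_6
  · exact new1_7
  · exact new1_8
  · exact new1_9
  · exact new1_10
  · exact new1_11

theorem new2_0 : rangeR (newF [4, 4, 3, 5, 5, 4, 5, 4, 3, 5, 3, 4, 4, 3, 0, 0, 3, 0, 1, 1, 8, 8, 3] 9) (0 * 8190) 8190 = true := by decide +kernel

end Cfsg.Agent.Lib.Helper1.Co1B
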