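import Mathlib
import Cfsg.Agent.Lib.Helper1.Co1B.CN5

set_option autoImplicit false
set_option maxRecDepth 100000

/-! The first Conway group on the 98280 pairs of minimal vectors: checks of the tables of the new letters, part 6. -/

namespace Cfsg.Agent.Lib.Helper1.Co1B

open Cfsg.Agent.Lib.Helper6.TC Cfsg.Agent.Lib.Helper6.PM Cfsg.Agent.Lib.Helper2.PMS
open Cfsg.Agent.Lib.Helper5.Chain Cfsg.Agent.Lib.Helper5.Srch Cfsg.Agent.Lib.Helper1.PMChk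

theorem new2_7 : rangeR (newF [4, 4, 3, 5, 5, 4, 5, 4, 3, 5, 3, 4, 4, 3, 0, 0, 3, 0, 1, 1, 8, 8, 3] 9) (7 * 8190) 8190 = true := by decide +kernel

theorem new2_8 : rangeR (newF [4, 4, 3, 5, 5, 4, 5, 4, 3, 5, 3, 4, 4, 3, 0, 0, 3, 0, 1, 1, 8, 8, 3] 9) (8 * 8190) 8190 = true := by decide +kernel

theorem new2_9 : rangeR (newF [4, 4, 3, 5, 5, 4, 5, 4, 3, 5, 3, 4, 4, 3, 0, 0, 3, 0, 1, 1, 8, 8, 3] 9) (9 * 8190) 8190 = true := by decide +kernel

theorem new2_10 : rangeR (newF [4, 4, 3, 5, 5, 4, 5, 4, 3, 5, 3, 4, 4, 3, 0, 0, 3, 0, 1, 1, 8, 8, 3] 9) (10 * 8190) 8190 = true := by decide +kernel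

theorem new2_11 : rangeR (newF [4, 4, 3, 5, 5, 4, 5, 4, 3, 5, 3, 4, 4, 3, 0, 0, 3, 0, 1, 1, 8, 8, 3] 9) (11 * 8190) 8190 = true := by decide +kernel

theorem chk_new2 : chkNew 98280 7 ds pm 2 = true := by
  apply chkNew_of_forall 2 9 [4, 4, 3, 5, 5, 4, 5, 4, 3, 5, 3, 4, 4, 3, 0, 0, 3, 0, 1, 1, 8, 8, 3] rfl rfl (by decide)
  apply forall_of_pieces _ 8190 12 98280 (by norm_num)
  intro j hj
  interval_cases j
  · exact new2_0
  · exact new2_1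
  · exact new2_2
  · exact new2_3
  · exact new2_4
  · exact new2_5
  · exact new2_6
  · exact new2_7
  · exact new2_8
  · exact new2_9
  · exact new2_10
  · exact new2_11

theorem new3_0 : rangeR (newF [3, 7, 7, 5, 5, 4, 3, 4, 4, 3, 0, 0, 3, 1, 3, 0, 1, 0, 1, 1, 3, 0, 0] 10) (0 * 8190) 8190 = true := by decide +kernel

end Cfsg.Agent.Lib.Helper1.Co1B
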