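import Mathlib
import Cfsg.Agent.Lib.Helper1.Co1B.CN6

set_option autoImplicit false
set_option maxRecDepth 100000

/-! The first Conway group on the 98280 pairs of minimal vectors: checks of the tables of the new letters, part 7. -/

namespace Cfsg.Agent.Lib.Helper1.Co1B

open Cfsg.Agent.Lib.Helper6.TC Cfsg.Agent.Lib.Helper6.PM Cfsg.Agent.Lib.Helper2.PMS
open Cfsg.Agent.Lib.Helper5.Chain Cfsg.Agent.Lib.Helper5.Srch Cfsg.Agent.Lib.Helper1.PMChk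

theorem new3_1 : rangeR (newF [3, 7, 7, 5, 5, 4, 3, 4, 4, 3, 0, 0, 3, 1, 3, 0, 1, 0, 1, 1, 3, 0, 0] 10) (1 * 8190) 8190 = true := by decide +kernel

theorem new3_2 : rangeR (newF [3, 7, 7, 5, 5, 4, 3, 4, 4, 3, 0, 0, 3, 1, 3, 0, 1, 0, 1, 1, 3, 0, 0] 10) (2 * 8190) 8190 = true := by decide +kernel

theorem new3_3 : rangeR (newF [3, 7, 7, 5, 5, 4, 3, 4, 4, 3, 0, 0, 3, 1, 3, 0, 1, 0, 1, 1, 3, 0, 0] 10) (3 * 8190) 8190 = true := by decide +kernel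

theorem new3_4 : rangeR (newF [3, 7, 7, 5, 5, 4, 3, 4, 4, 3, 0, 0, 3, 1, 3, 0, 1, 0, 1, 1, 3, 0, 0] 10) (4 * 8190) 8190 = true := by decide +kernel

theorem new3_5 : rangeR (newF [3, 7, 7, 5, 5, 4, 3, 4, 4, 3, 0, 0, 3, 1, 3, 0, 1, 0, 1, 1, 3, 0, 0] 10) (5 * 8190) 8190 = true := by decide +kernel

theorem new3_6 : rangeR (newF [3, 7, 7, 5, 5, 4, 3, 4, 4, 3, 0, 0, 3, 1, 3, 0, 1, 0, 1, 1, 3, 0, 0] 10) (6 * 8190) 8190 = true := by decide +kernel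

end Cfsg.Agent.Lib.Helper1.Co1B
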