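import Mathlib
import Cfsg.Agent.Lib.Helper1.Co1B.CN7

set_option autoImplicit false
set_option maxRecDepth 100000

/-! The first Conway group on the 98280 pairs of minimal vectors: checks of the tables of the new letters, part 8. -/

namespace Cfsg.Agent.Lib.Helper1.Co1B

open Cfsg.Agent.Lib.Helper6.TC Cfsg.Agent.Lib.Helper6.PM Cfsg.Agent.Lib.Helper2.PMS
open Cfsg.Agent.Lib.Helper5.Chain Cfsg.Agent.Lib.Helper5.Srch Cfsg.Agent.Lib.Helper1.PMChk

theorem new3_7 : rangeR (newF [3, 7, 7, 5, 5, 4, 3, 4, 4, 3, 0, 0, 3, 1, 3, 0, 1, 0, 1, 1, 3, 0, 0] 10) (7 * 8190) 8190 = true := by decide +kernel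

theorem new3_8 : rangeR (newF [3, 7, 7, 5, 5, 4, 3, 4, 4, 3, 0, 0, 3, 1, 3, 0, 1, 0, 1, 1, 3, 0, 0] 10) (8 * 8190) 8190 = true := by decide +kernel

theorem new3_9 : rangeR (newF [3, 7, 7, 5, 5, 4, 3, 4, 4, 3, 0, 0, 3, 1, 3, 0, 1, 0, 1, 1, 3, 0, 0] 10) (9 * 8190) 8190 = true := by decide +kernel

theorem new3_10 : rangeR (newF [3, 7, 7, 5, 5, 4, 3, 4, 4, 3, 0, 0, 3, 1, 3, 0, 1, 0, 1, 1, 3, 0, 0] 10) (10 * 8190) 8190 = true := by decide +kernel

theorem new3_11 : rangeR (newF [3, 7, 7, 5, 5, 4, 3, 4, 4, 3, 0, 0, 3, 1, 3, 0, 1, 0, 1, 1, 3, 0, 0] 10) (11 * 8190) 8190 = true := by decide +kernel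

theorem chk_new3 : chkNew 98280 7 ds pm 3 = true := by
  apply chkNew_of_forall 3 10 [3, 7, 7, 5, 5, 4, 3, 4, 4, 3, 0, 0, 3, 1, 3, 0, 1, 0, 1, 1, 3, 0, 0] rfl rfl (by decide)
  apply forall_of_pieces _ 8190 12 98280 (by norm_num)
  intro j hj
  interval_cases j
  · exact new3_0
  · exact new3_1
  · exact new3_2
  · exact new3_3
  · exact new3_4
  · exact new3_5
  · exact new3_6
  · exact new3_7
  · exact new3_8
  · exact new3_9
  · exact new3_10
  · exact new3_11

theorem new4_0 : rangeR (newF [9, 9] 11) (0 * 8190) 8190 = true := by decide +kernel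

theorem new4_1 : rangeR (newF [9, 9] 11) (1 * 8190) 8190 = true := by decide +kernel

theorem new4_2 : rangeR (newF [9, 9] 11) (2 * 8190) 8190 = true := by decide +kernel

theorem new4_3 : rangeR (newF [9, 9] 11) (3 * 8190) 8190 = true := by decide +kernel

theorem new4_4 : rangeR (newF [9, 9] 11) (4 * 8190) 8190 = true := by decide +kernel

theorem new4_5 : rangeR (newF [9, 9] 11) (5 * 8190) 8190 = true := by decide +kernel

theorem new4_6 : rangeR (newF [9, 9] 11) (6 * 8190) 8190 = true := by decide +kernel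

theorem new4_7 : rangeR (newF [9, 9] 11) (7 * 8190) 8190 = true := by decide +kernel

theorem new4_8 : rangeR (newF [9, 9] 11) (8 * 8190) 8190 = true := by decide +kernel

theorem new4_9 : rangeR (newF [9, 9] 11) (9 * 8190) 8190 = true := by decide +kernel

end Cfsg.Agent.Lib.Helper1.Co1B
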