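import Mathlib
import Cfsg.Agent.Lib.Helper1.Co1B.CN8

set_option autoImplicit false
set_option maxRecDepth 100000

/-! The first Conway group on the 98280 pairs of minimal vectors: checks of the tables of the new letters, part 9. -/

namespace Cfsg.Agent.Lib.Helper1.Co1B

open Cfsg.Agent.Lib.Helper6.TC Cfsg.Agent.Lib.Helper6.PM Cfsg.Agent.Lib.Helper2.PMS
open Cfsg.Agent.Lib.Helper5.Chain Cfsg.Agent.Lib.Helper5.Srch Cfsg.Agent.Lib.Helper1.PMChk

theorem new4_10 : rangeR (newF [9, 9] 11) (10 * 8190) 8190 = true := by decide +kernel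

theorem new4_11 : rangeR (newF [9, 9] 11) (11 * 8190) 8190 = true := by decide +kernel

theorem chk_new4 : chkNew 98280 7 ds pm 4 = true := by
  apply chkNew_of_forall 4 11 [9, 9] rfl rfl (by decide)
  apply forall_of_pieces _ 8190 12 98280 (by norm_num)
  intro j hj
  interval_cases j
  · exact new4_0
  · exact new4_1
  · exact new4_2
  · exact new4_3
  · exact new4_4
  · exact new4_5
  · exact new4_6
  · exact new4_7
  · exact new4_8
  · exact new4_9
  · exact new4_10
  · exact new4_11

theorem new5_0 : rangeR (newF [10, 10] 12) (0 * 8190) 8190 = true := by decide +kernel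

theorem new5_1 : rangeR (newF [10, 10] 12) (1 * 8190) 8190 = true := by decide +kernel

theorem new5_2 : rangeR (newF [10, 10] 12) (2 * 8190) 8190 = true := by decide +kernel

theorem new5_3 : rangeR (newF [10, 10] 12) (3 * 8190) 8190 = true := by decide +kernel

theorem new5_4 : rangeR (newF [10, 10] 12) (4 * 8190) 8190 = true := by decide +kernel

theorem new5_5 : rangeR (newF [10, 10] 12) (5 * 8190) 8190 = true := by decide +kernel

theorem new5_6 : rangeR (newF [10, 10] 12) (6 * 8190) 8190 = true := by decide +kernel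

theorem new5_7 : rangeR (newF [10, 10] 12) (7 * 8190) 8190 = true := by decide +kernel

theorem new5_8 : rangeR (newF [10, 10] 12) (8 * 8190) 8190 = true := by decide +kernel

theorem new5_9 : rangeR (newF [10, 10] 12) (9 * 8190) 8190 = true := by decide +kernel

theorem new5_10 : rangeR (newF [10, 10] 12) (10 * 8190) 8190 = true := by decide +kernel

theorem new5_11 : rangeR (newF [10, 10] 12) (11 * 8190) 8190 = true := by decide +kernel

theorem chk_new5 : chkNew 98280 7 ds pm 5 = true := by
  apply chkNew_of_forall 5 12 [10, 10] rfl rfl (by decide)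
  apply forall_of_pieces _ 8190 12 98280 (by norm_num)
  intro j hj
  interval_cases j
  · exact new5_0
  · exact new5_1
  · exact new5_2
  · exact new5_3
  · exact new5_4
  · exact new5_5
  · exact new5_6
  · exact new5_7
  · exact new5_8
  · exact new5_9
  · exact new5_10
  · exact new5_11

theorem new6_0 : rangeR (newF [6, 1, 6, 6, 4, 1, 6, 5, 5, 4, 2, 1, 4, 6, 4, 6, 5, 5, 4, 4, 1, 10, 3, 1, 7, 7, 10, 7] 13) (0 * 8190) 8190 = true := by decide +kernel

theorem new6_1 : rangeR (newF [6, 1, 6, 6, 4, 1, 6, 5, 5, 4, 2, 1, 4, 6, 4, 6, 5, 5, 4, 4, 1, 10, 3, 1, 7, 7, 10, 7] 13) (1 * 8190) 8190 = true := by decide +kernel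

theorem new6_2 : rangeR (newF [6, 1, 6, 6, 4, 1, 6, 5, 5, 4, 2, 1, 4, 6, 4, 6, 5, 5, 4, 4, 1, 10, 3, 1, 7, 7, 10, 7] 13) (2 * 8190) 8190 = true := by decide +kernel

end Cfsg.Agent.Lib.Helper1.Co1B
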