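import Mathlib
import Cfsg.Agent.Lib.Helper1.Co1B.CN10

set_option autoImplicit false
set_option maxRecDepth 100000

/-! The first Conway group on the 98280 pairs of minimal vectors: checks of the tables of the new letters, part 11. -/

namespace Cfsg.Agent.Lib.Helper1.Co1B

open Cfsg.Agent.Lib.Helper6.TC Cfsg.Agent.Lib.Helper6.PM Cfsg.Agent.Lib.Helper2.PMS
open Cfsg.Agent.Lib.Helper5.Chain Cfsg.Agent.Lib.Helper5.Srch Cfsg.Agent.Lib.Helper1.PMChk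

theorem new6_8 : rangeR (newF [6, 1, 6, 6, 4, 1, 6, 5, 5, 4, 2, 1, 4, 6, 4, 6, 5, 5, 4, 4, 1, 10, 3, 1, 7, 7, 10, 7] 13) (8 * 8190) 8190 = true := by decide +kernel

theorem new6_9 : rangeR (newF [6, 1, 6, 6, 4, 1, 6, 5, 5, 4, 2, 1, 4, 6, 4, 6, 5, 5, 4, 4, 1, 10, 3, 1, 7, 7, 10, 7] 13) (9 * 8190) 8190 = true := by decide +kernel

theorem new6_10 : rangeR (newF [6, 1, 6, 6, 4, 1, 6, 5, 5, 4, 2, 1, 4, 6, 4, 6, 5, 5, 4, 4, 1, 10, 3, 1, 7, 7, 10, 7] 13) (10 * 8190) 8190 = true := by decide +kernel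

theorem new6_11 : rangeR (newF [6, 1, 6, 6, 4, 1, 6, 5, 5, 4, 2, 1, 4, 6, 4, 6, 5, 5, 4, 4, 1, 10, 3, 1, 7, 7, 10, 7] 13) (11 * 8190) 8190 = true := by decide +kernel

theorem chk_new6 : chkNew 98280 7 ds pm 6 = true := by
  apply chkNew_of_forall 6 13 [6, 1, 6, 6, 4, 1, 6, 5, 5, 4, 2, 1, 4, 6, 4, 6, 5, 5, 4, 4, 1, 10, 3, 1, 7, 7, 10, 7] rfl rfl (by decide)
  apply forall_of_pieces _ 8190 12 98280 (by norm_num)
  intro j hj
  interval_cases j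
  · exact new6_0
  · exact new6_1
  · exact new6_2
  · exact new6_3
  · exact new6_4
  · exact new6_5
  · exact new6_6
  · exact new6_7
  · exact new6_8
  · exact new6_9
  · exact new6_10
  · exact new6_11

theorem new7_0 : rangeR (newF [8, 9, 8, 8, 5, 3, 9, 5, 0, 0, 1, 1, 2, 0, 2, 0, 5, 6, 0, 1, 1, 2, 5, 0, 2, 2, 5, 2] 14) (0 * 8190) 8190 = true := by decide +kernel

end Cfsg.Agent.Lib.Helper1.Co1B
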