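import Mathlib
import Cfsg.Agent.Lib.Helper1.Co1B.CN13

set_option autoImplicit false
set_option maxRecDepth 100000

/-! The first Conway group on the 98280 pairs of minimal vectors: checks of the tables of the new letters, part 14. -/

namespace Cfsg.Agent.Lib.Helper1.Co1B

open Cfsg.Agent.Lib.Helper6.TC Cfsg.Agent.Lib.Helper6.PM Cfsg.Agent.Lib.Helper2.PMS
open Cfsg.Agent.Lib.Helper5.Chain Cfsg.Agent.Lib.Helper5.Srch Cfsg.Agent.Lib.Helper1.PMChk

theorem new7_11 : rangeR (newF [8, 9, 8, 8, 5, 3, 9, 5, 0, 0, 1, 1, 2, 0, 2, 0, 5, 6, 0, 1, 1, 2, 5, 0, 2, 2, 5, 2] 14) (11 * 8190) 8190 = true := by decide +kernel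

theorem chk_new7 : chkNew 98280 7 ds pm 7 = true := by
  apply chkNew_of_forall 7 14 [8, 9, 8, 8, 5, 3, 9, 5, 0, 0, 1, 1, 2, 0, 2, 0, 5, 6, 0, 1, 1, 2, 5, 0, 2, 2, 5, 2] rfl rfl (by decide)
  apply forall_of_pieces _ 8190 12 98280 (by norm_num)
  intro j hj
  interval_cases j
  · exact new7_0
  · exact new7_1
  · exact new7_2
  · exact new7_3
  · exact new7_4
  · exact new7_5
  · exact new7_6
  · exact new7_7
  · exact new7_8
  · exact new7_9
  · exact new7_10
  · exact new7_11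

theorem new8_0 : rangeR (newF [1, 1, 13, 9, 5, 9, 13, 3, 9, 1, 7] 15) (0 * 8190) 8190 = true := by decide +kernel

theorem new8_1 : rangeR (newF [1, 1, 13, 9, 5, 9, 13, 3, 9, 1, 7] 15) (1 * 8190) 8190 = true := by decide +kernel

theorem new8_2 : rangeR (newF [1, 1, 13, 9, 5, 9, 13, 3, 9, 1, 7] 15) (2 * 8190) 8190 = true := by decide +kernel

theorem new8_3 : rangeR (newF [1, 1, 13, 9, 5, 9, 13, 3, 9, 1, 7] 15) (3 * 8190) 8190 = true := by decide +kernel

theorem new8_4 : rangeR (newF [1, 1, 13, 9, 5, 9, 13, 3, 9, 1, 7] 15) (4 * 8190) 8190 = true := by decide +kernel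

theorem new8_5 : rangeR (newF [1, 1, 13, 9, 5, 9, 13, 3, 9, 1, 7] 15) (5 * 8190) 8190 = true := by decide +kernel

theorem new8_6 : rangeR (newF [1, 1, 13, 9, 5, 9, 13, 3, 9, 1, 7] 15) (6 * 8190) 8190 = true := by decide +kernel

theorem new8_7 : rangeR (newF [1, 1, 13, 9, 5, 9, 13, 3, 9, 1, 7] 15) (7 * 8190) 8190 = true := by decide +kernel

theorem new8_8 : rangeR (newF [1, 1, 13, 9, 5, 9, 13, 3, 9, 1, 7] 15) (8 * 8190) 8190 = true := by decide +kernel

theorem new8_9 : rangeR (newF [1, 1, 13, 9, 5, 9, 13, 3, 9, 1, 7] 15) (9 * 8190) 8190 = true := by decide +kernel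

end Cfsg.Agent.Lib.Helper1.Co1B
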