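import Mathlib
import Cfsg.Agent.Lib.Helper1.Co1B.CN15

set_option autoImplicit false
set_option maxRecDepth 100000

/-! The first Conway group on the 98280 pairs of minimal vectors: checks of the tables of the new letters, part 16. -/

namespace Cfsg.Agent.Lib.Helper1.Co1B

open Cfsg.Agent.Lib.Helper6.TC Cfsg.Agent.Lib.Helper6.PM Cfsg.Agent.Lib.Helper2.PMS
open Cfsg.Agent.Lib.Helper5.Chain Cfsg.Agent.Lib.Helper5.Srch Cfsg.Agent.Lib.Helper1.PMChk

theorem new9_10 : rangeR (newF [8, 5, 10, 3, 14, 10, 1, 10, 14, 5, 5] 16) (10 * 8190) 8190 = true := by decide +kernel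

theorem new9_11 : rangeR (newF [8, 5, 10, 3, 14, 10, 1, 10, 14, 5, 5] 16) (11 * 8190) 8190 = true := by decide +kernel

theorem chk_new9 : chkNew 98280 7 ds pm 9 = true := by
  apply chkNew_of_forall 9 16 [8, 5, 10, 3, 14, 10, 1, 10, 14, 5, 5] rfl rfl (by decide)
  apply forall_of_pieces _ 8190 12 98280 (by norm_num)
  intro j hj
  interval_cases j
  · exact new9_0
  · exact new9_1
  · exact new9_2
  · exact new9_3
  · exact new9_4
  · exact new9_5
  · exact new9_6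
  · exact new9_7
  · exact new9_8
  · exact new9_9
  · exact new9_10
  · exact new9_11

theorem new10_0 : rangeR (newF [0, 5, 14, 1, 4, 13, 3, 4, 3, 1, 14, 4, 4, 1, 1, 13, 5, 5, 16, 8, 3, 16, 16, 13] 17) (0 * 8190) 8190 = true := by decide +kernel

theorem new10_1 : rangeR (newF [0, 5, 14, 1, 4, 13, 3, 4, 3, 1, 14, 4, 4, 1, 1, 13, 5, 5, 16, 8, 3, 16, 16, 13] 17) (1 * 8190) 8190 = true := by decide +kernel

theorem new10_2 : rangeR (newF [0, 5, 14, 1, 4, 13, 3, 4, 3, 1, 14, 4, 4, 1, 1, 13, 5, 5, 16, 8, 3, 16, 16, 13] 17) (2 * 8190) 8190 = true := by decide +kernel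

theorem new10_3 : rangeR (newF [0, 5, 14, 1, 4, 13, 3, 4, 3, 1, 14, 4, 4, 1, 1, 13, 5, 5, 16, 8, 3, 16, 16, 13] 17) (3 * 8190) 8190 = true := by decide +kernel

theorem new10_4 : rangeR (newF [0, 5, 14, 1, 4, 13, 3, 4, 3, 1, 14, 4, 4, 1, 1, 13, 5, 5, 16, 8, 3, 16, 16, 13] 17) (4 * 8190) 8190 = true := by decide +kernel

end Cfsg.Agent.Lib.Helper1.Co1B
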