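import Mathlib
import Cfsg.Agent.Lib.Helper1.Co1B.CN16

set_option autoImplicit false
set_option maxRecDepth 100000

/-! The first Conway group on the 98280 pairs of minimal vectors: checks of the tables of the new letters, part 17. -/

namespace Cfsg.Agent.Lib.Helper1.Co1B

open Cfsg.Agent.Lib.Helper6.TC Cfsg.Agent.Lib.Helper6.PM Cfsg.Agent.Lib.Helper2.PMS
open Cfsg.Agent.Lib.Helper5.Chain Cfsg.Agent.Lib.Helper5.Srch Cfsg.Agent.Lib.Helper1.PMChk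

theorem new10_5 : rangeR (newF [0, 5, 14, 1, 4, 13, 3, 4, 3, 1, 14, 4, 4, 1, 1, 13, 5, 5, 16, 8, 3, 16, 16, 13] 17) (5 * 8190) 8190 = true := by decide +kernel

theorem new10_6 : rangeR (newF [0, 5, 14, 1, 4, 13, 3, 4, 3, 1, 14, 4, 4, 1, 1, 13, 5, 5, 16, 8, 3, 16, 16, 13] 17) (6 * 8190) 8190 = true := by decide +kernel

theorem new10_7 : rangeR (newF [0, 5, 14, 1, 4, 13, 3, 4, 3, 1, 14, 4, 4, 1, 1, 13, 5, 5, 16, 8, 3, 16, 16, 13] 17) (7 * 8190) 8190 = true := by decide +kernel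

theorem new10_8 : rangeR (newF [0, 5, 14, 1, 4, 13, 3, 4, 3, 1, 14, 4, 4, 1, 1, 13, 5, 5, 16, 8, 3, 16, 16, 13] 17) (8 * 8190) 8190 = true := by decide +kernel

theorem new10_9 : rangeR (newF [0, 5, 14, 1, 4, 13, 3, 4, 3, 1, 14, 4, 4, 1, 1, 13, 5, 5, 16, 8, 3, 16, 16, 13] 17) (9 * 8190) 8190 = true := by decide +kernel

theorem new10_10 : rangeR (newF [0, 5, 14, 1, 4, 13, 3, 4, 3, 1, 14, 4, 4, 1, 1, 13, 5, 5, 16, 8, 3, 16, 16, 13] 17) (10 * 8190) 8190 = true := by decide +kernel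

end Cfsg.Agent.Lib.Helper1.Co1B
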