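import Mathlib
import Cfsg.Agent.Lib.Helper1.Co1B.CN19

set_option autoImplicit false
set_option maxRecDepth 100000

/-! The first Conway group on the 98280 pairs of minimal vectors: checks of the tables of the new letters, part 20. -/

namespace Cfsg.Agent.Lib.Helper1.Co1B

open Cfsg.Agent.Lib.Helper6.TC Cfsg.Agent.Lib.Helper6.PM Cfsg.Agent.Lib.Helper2.PMS
open Cfsg.Agent.Lib.Helper5.Chain Cfsg.Agent.Lib.Helper5.Srch Cfsg.Agent.Lib.Helper1.PMChk

theorem new11_11 : rangeR (newF [14, 15, 15, 3, 7, 15, 1, 1, 14, 5, 5, 0, 0, 13, 5, 3, 0, 3, 14, 0, 5, 13, 1, 4] 18) (11 * 8190) 8190 = true := by decide +kernel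

theorem chk_new11 : chkNew 98280 7 ds pm 11 = true := by
  apply chkNew_of_forall 11 18 [14, 15, 15, 3, 7, 15, 1, 1, 14, 5, 5, 0, 0, 13, 5, 3, 0, 3, 14, 0, 5, 13, 1, 4] rfl rfl (by decide)
  apply forall_of_pieces _ 8190 12 98280 (by norm_num)
  intro j hj
  interval_cases j
  · exact new11_0
  · exact new11_1
  · exact new11_2
  · exact new11_3
  · exact new11_4
  · exact new11_5
  · exact new11_6
  · exact new11_7
  · exact new11_8
  · exact new11_9
  · exact new11_10
  · exact new11_11

theorem new12_0 : rangeR (newF [9, 15, 10, 13, 18, 15, 18, 12, 18] 19) (0 * 8190) 8190 = true := by decide +kernel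

theorem new12_1 : rangeR (newF [9, 15, 10, 13, 18, 15, 18, 12, 18] 19) (1 * 8190) 8190 = true := by decide +kernel

theorem new12_2 : rangeR (newF [9, 15, 10, 13, 18, 15, 18, 12, 18] 19) (2 * 8190) 8190 = true := by decide +kernel

theorem new12_3 : rangeR (newF [9, 15, 10, 13, 18, 15, 18, 12, 18] 19) (3 * 8190) 8190 = true := by decide +kernel

theorem new12_4 : rangeR (newF [9, 15, 10, 13, 18, 15, 18, 12, 18] 19) (4 * 8190) 8190 = true := by decide +kernel

theorem new12_5 : rangeR (newF [9, 15, 10, 13, 18, 15, 18, 12, 18] 19) (5 * 8190) 8190 = true := by decide +kernel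

theorem new12_6 : rangeR (newF [9, 15, 10, 13, 18, 15, 18, 12, 18] 19) (6 * 8190) 8190 = true := by decide +kernel

theorem new12_7 : rangeR (newF [9, 15, 10, 13, 18, 15, 18, 12, 18] 19) (7 * 8190) 8190 = true := by decide +kernel

theorem new12_8 : rangeR (newF [9, 15, 10, 13, 18, 15, 18, 12, 18] 19) (8 * 8190) 8190 = true := by decide +kernel

theorem new12_9 : rangeR (newF [9, 15, 10, 13, 18, 15, 18, 12, 18] 19) (9 * 8190) 8190 = true := by decide +kernel

theorem new12_10 : rangeR (newF [9, 15, 10, 13, 18, 15, 18, 12, 18] 19) (10 * 8190) 8190 = true := by decide +kernel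

theorem new12_11 : rangeR (newF [9, 15, 10, 13, 18, 15, 18, 12, 18] 19) (11 * 8190) 8190 = true := by decide +kernel

theorem chk_new12 : chkNew 98280 7 ds pm 12 = true := by
  apply chkNew_of_forall 12 19 [9, 15, 10, 13, 18, 15, 18, 12, 18] rfl rfl (by decide)
  apply forall_of_pieces _ 8190 12 98280 (by norm_num)
  intro j hj
  interval_cases j
  · exact new12_0
  · exact new12_1
  · exact new12_2
  · exact new12_3
  · exact new12_4
  · exact new12_5
  · exact new12_6
  · exact new12_7
  · exact new12_8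
  · exact new12_9
  · exact new12_10
  · exact new12_11

end Cfsg.Agent.Lib.Helper1.Co1B
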