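import Mathlib
import Cfsg.Agent.Lib.Helper1.Co1B.CN20

set_option autoImplicit false
set_option maxRecDepth 100000

/-! The first Conway group on the 98280 pairs of minimal vectors: checks of the tables of the new letters, part 21. -/

namespace Cfsg.Agent.Lib.Helper1.Co1B

open Cfsg.Agent.Lib.Helper6.TC Cfsg.Agent.Lib.Helper6.PM Cfsg.Agent.Lib.Helper2.PMS
open Cfsg.Agent.Lib.Helper5.Chain Cfsg.Agent.Lib.Helper5.Srch Cfsg.Agent.Lib.Helper1.PMChk

theorem new13_0 : rangeR (newF [17, 11, 17, 16, 17, 14, 9, 16, 10] 20) (0 * 8190) 8190 = true := by decide +kernel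

theorem new13_1 : rangeR (newF [17, 11, 17, 16, 17, 14, 9, 16, 10] 20) (1 * 8190) 8190 = true := by decide +kernel

theorem new13_2 : rangeR (newF [17, 11, 17, 16, 17, 14, 9, 16, 10] 20) (2 * 8190) 8190 = true := by decide +kernel

theorem new13_3 : rangeR (newF [17, 11, 17, 16, 17, 14, 9, 16, 10] 20) (3 * 8190) 8190 = true := by decide +kernel

theorem new13_4 : rangeR (newF [17, 11, 17, 16, 17, 14, 9, 16, 10] 20) (4 * 8190) 8190 = true := by decide +kernel

theorem new13_5 : rangeR (newF [17, 11, 17, 16, 17, 14, 9, 16, 10] 20) (5 * 8190) 8190 = true := by decide +kernel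

theorem new13_6 : rangeR (newF [17, 11, 17, 16, 17, 14, 9, 16, 10] 20) (6 * 8190) 8190 = true := by decide +kernel

theorem new13_7 : rangeR (newF [17, 11, 17, 16, 17, 14, 9, 16, 10] 20) (7 * 8190) 8190 = true := by decide +kernel

theorem new13_8 : rangeR (newF [17, 11, 17, 16, 17, 14, 9, 16, 10] 20) (8 * 8190) 8190 = true := by decide +kernel

theorem new13_9 : rangeR (newF [17, 11, 17, 16, 17, 14, 9, 16, 10] 20) (9 * 8190) 8190 = true := by decide +kernel

theorem new13_10 : rangeR (newF [17, 11, 17, 16, 17, 14, 9, 16, 10] 20) (10 * 8190) 8190 = true := by decide +kernel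

theorem new13_11 : rangeR (newF [17, 11, 17, 16, 17, 14, 9, 16, 10] 20) (11 * 8190) 8190 = true := by decide +kernel

theorem chk_new13 : chkNew 98280 7 ds pm 13 = true := by
  apply chkNew_of_forall 13 20 [17, 11, 17, 16, 17, 14, 9, 16, 10] rfl rfl (by decide)
  apply forall_of_pieces _ 8190 12 98280 (by norm_num)
  intro j hj
  interval_cases j
  · exact new13_0
  · exact new13_1
  · exact new13_2
  · exact new13_3
  · exact new13_4
  · exact new13_5
  · exact new13_6
  · exact new13_7
  · exact new13_8
  · exact new13_9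
  · exact new13_10
  · exact new13_11

theorem new14_0 : rangeR (newF [12, 18, 18, 18, 19, 17, 11] 21) (0 * 8190) 8190 = true := by decide +kernel

theorem new14_1 : rangeR (newF [12, 18, 18, 18, 19, 17, 11] 21) (1 * 8190) 8190 = true := by decide +kernel

theorem new14_2 : rangeR (newF [12, 18, 18, 18, 19, 17, 11] 21) (2 * 8190) 8190 = true := by decide +kernel

theorem new14_3 : rangeR (newF [12, 18, 18, 18, 19, 17, 11] 21) (3 * 8190) 8190 = true := by decide +kernel

end Cfsg.Agent.Lib.Helper1.Co1B
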