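import Mathlib
import Cfsg.Agent.Lib.Helper1.Co1B.CN21

set_option autoImplicit false
set_option maxRecDepth 100000

/-! The first Conway group on the 98280 pairs of minimal vectors: checks of the tables of the new letters, part 22. -/

namespace Cfsg.Agent.Lib.Helper1.Co1B

open Cfsg.Agent.Lib.Helper6.TC Cfsg.Agent.Lib.Helper6.PM Cfsg.Agent.Lib.Helper2.PMS
open Cfsg.Agent.Lib.Helper5.Chain Cfsg.Agent.Lib.Helper5.Srch Cfsg.Agent.Lib.Helper1.PMChk

theorem new14_4 : rangeR (newF [12, 18, 18, 18, 19, 17, 11] 21) (4 * 8190) 8190 = true := by decide +kernel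

theorem new14_5 : rangeR (newF [12, 18, 18, 18, 19, 17, 11] 21) (5 * 8190) 8190 = true := by decide +kernel

theorem new14_6 : rangeR (newF [12, 18, 18, 18, 19, 17, 11] 21) (6 * 8190) 8190 = true := by decide +kernel

theorem new14_7 : rangeR (newF [12, 18, 18, 18, 19, 17, 11] 21) (7 * 8190) 8190 = true := by decide +kernel

theorem new14_8 : rangeR (newF [12, 18, 18, 18, 19, 17, 11] 21) (8 * 8190) 8190 = true := by decide +kernel

theorem new14_9 : rangeR (newF [12, 18, 18, 18, 19, 17, 11] 21) (9 * 8190) 8190 = true := by decide +kernel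

theorem new14_10 : rangeR (newF [12, 18, 18, 18, 19, 17, 11] 21) (10 * 8190) 8190 = true := by decide +kernel

theorem new14_11 : rangeR (newF [12, 18, 18, 18, 19, 17, 11] 21) (11 * 8190) 8190 = true := by decide +kernel

theorem chk_new14 : chkNew 98280 7 ds pm 14 = true := by
  apply chkNew_of_forall 14 21 [12, 18, 18, 18, 19, 17, 11] rfl rfl (by decide)
  apply forall_of_pieces _ 8190 12 98280 (by norm_num)
  intro j hj
  interval_cases j
  · exact new14_0
  · exact new14_1
  · exact new14_2
  · exact new14_3
  · exact new14_4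
  · exact new14_5
  · exact new14_6
  · exact new14_7
  · exact new14_8
  · exact new14_9
  · exact new14_10
  · exact new14_11

theorem new15_0 : rangeR (newF [12, 18, 20, 17, 17, 17, 11] 22) (0 * 8190) 8190 = true := by decide +kernel

theorem new15_1 : rangeR (newF [12, 18, 20, 17, 17, 17, 11] 22) (1 * 8190) 8190 = true := by decide +kernel

theorem new15_2 : rangeR (newF [12, 18, 20, 17, 17, 17, 11] 22) (2 * 8190) 8190 = true := by decide +kernel

theorem new15_3 : rangeR (newF [12, 18, 20, 17, 17, 17, 11] 22) (3 * 8190) 8190 = true := by decide +kernel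

theorem new15_4 : rangeR (newF [12, 18, 20, 17, 17, 17, 11] 22) (4 * 8190) 8190 = true := by decide +kernel

theorem new15_5 : rangeR (newF [12, 18, 20, 17, 17, 17, 11] 22) (5 * 8190) 8190 = true := by decide +kernel

theorem new15_6 : rangeR (newF [12, 18, 20, 17, 17, 17, 11] 22) (6 * 8190) 8190 = true := by decide +kernel

theorem new15_7 : rangeR (newF [12, 18, 20, 17, 17, 17, 11] 22) (7 * 8190) 8190 = true := by decide +kernel

theorem new15_8 : rangeR (newF [12, 18, 20, 17, 17, 17, 11] 22) (8 * 8190) 8190 = true := by decide +kernel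

theorem new15_9 : rangeR (newF [12, 18, 20, 17, 17, 17, 11] 22) (9 * 8190) 8190 = true := by decide +kernel

theorem new15_10 : rangeR (newF [12, 18, 20, 17, 17, 17, 11] 22) (10 * 8190) 8190 = true := by decide +kernel

end Cfsg.Agent.Lib.Helper1.Co1B
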