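import Mathlib
import Cfsg.Agent.Lib.Helper1.Co1B.CN22

set_option autoImplicit false
set_option maxRecDepth 100000

/-! The first Conway group on the 98280 pairs of minimal vectors: checks of the tables of the new letters, part 23. -/

namespace Cfsg.Agent.Lib.Helper1.Co1B

open Cfsg.Agent.Lib.Helper6.TC Cfsg.Agent.Lib.Helper6.PM Cfsg.Agent.Lib.Helper2.PMS
open Cfsg.Agent.Lib.Helper5.Chain Cfsg.Agent.Lib.Helper5.Srch Cfsg.Agent.Lib.Helper1.PMChk

theorem new15_11 : rangeR (newF [12, 18, 20, 17, 17, 17, 11] 22) (11 * 8190) 8190 = true := by decide +kernel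

theorem chk_new15 : chkNew 98280 7 ds pm 15 = true := by
  apply chkNew_of_forall 15 22 [12, 18, 20, 17, 17, 17, 11] rfl rfl (by decide)
  apply forall_of_pieces _ 8190 12 98280 (by norm_num)
  intro j hj
  interval_cases j
  · exact new15_0
  · exact new15_1
  · exact new15_2
  · exact new15_3
  · exact new15_4
  · exact new15_5
  · exact new15_6
  · exact new15_7
  · exact new15_8
  · exact new15_9
  · exact new15_10
  · exact new15_11

theorem new16_0 : rangeR (newF [1, 14, 1, 10, 14, 14, 5, 9, 13, 1, 18, 8, 18, 16, 18, 18, 12, 21] 23) (0 * 8190) 8190 = true := by decide +kernel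

theorem new16_1 : rangeR (newF [1, 14, 1, 10, 14, 14, 5, 9, 13, 1, 18, 8, 18, 16, 18, 18, 12, 21] 23) (1 * 8190) 8190 = true := by decide +kernel

theorem new16_2 : rangeR (newF [1, 14, 1, 10, 14, 14, 5, 9, 13, 1, 18, 8, 18, 16, 18, 18, 12, 21] 23) (2 * 8190) 8190 = true := by decide +kernel

theorem new16_3 : rangeR (newF [1, 14, 1, 10, 14, 14, 5, 9, 13, 1, 18, 8, 18, 16, 18, 18, 12, 21] 23) (3 * 8190) 8190 = true := by decide +kernel

theorem new16_4 : rangeR (newF [1, 14, 1, 10, 14, 14, 5, 9, 13, 1, 18, 8, 18, 16, 18, 18, 12, 21] 23) (4 * 8190) 8190 = true := by decide +kernel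

theorem new16_5 : rangeR (newF [1, 14, 1, 10, 14, 14, 5, 9, 13, 1, 18, 8, 18, 16, 18, 18, 12, 21] 23) (5 * 8190) 8190 = true := by decide +kernel

theorem new16_6 : rangeR (newF [1, 14, 1, 10, 14, 14, 5, 9, 13, 1, 18, 8, 18, 16, 18, 18, 12, 21] 23) (6 * 8190) 8190 = true := by decide +kernel

end Cfsg.Agent.Lib.Helper1.Co1B
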