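import Mathlib
import Cfsg.Agent.Lib.Helper1.Co1B.CN25

set_option autoImplicit false
set_option maxRecDepth 100000

/-! The first Conway group on the 98280 pairs of minimal vectors: checks of the tables of the new letters, part 26. -/

namespace Cfsg.Agent.Lib.Helper1.Co1B

open Cfsg.Agent.Lib.Helper6.TC Cfsg.Agent.Lib.Helper6.PM Cfsg.Agent.Lib.Helper2.PMS
open Cfsg.Agent.Lib.Helper5.Chain Cfsg.Agent.Lib.Helper5.Srch Cfsg.Agent.Lib.Helper1.PMChk

theorem new17_11 : rangeR (newF [22, 11, 17, 17, 15, 17, 7, 17, 5, 14, 10, 1, 13, 13, 9, 5, 13, 5] 24) (11 * 8190) 8190 = true := by decide +kernel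

theorem chk_new17 : chkNew 98280 7 ds pm 17 = true := by
  apply chkNew_of_forall 17 24 [22, 11, 17, 17, 15, 17, 7, 17, 5, 14, 10, 1, 13, 13, 9, 5, 13, 5] rfl rfl (by decide)
  apply forall_of_pieces _ 8190 12 98280 (by norm_num)
  intro j hj
  interval_cases j
  · exact new17_0
  · exact new17_1
  · exact new17_2
  · exact new17_3
  · exact new17_4
  · exact new17_5
  · exact new17_6
  · exact new17_7
  · exact new17_8
  · exact new17_9
  · exact new17_10
  · exact new17_11

end Cfsg.Agent.Lib.Helper1.Co1B
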