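import Mathlib
import Cfsg.Agent.Lib.Helper1.Co1B.CN26

set_option autoImplicit false
set_option maxRecDepth 100000

/-! The first Conway group on the 98280 pairs of minimal vectors: checks of the tables of the old letters, part 0. -/

namespace Cfsg.Agent.Lib.Helper1.Co1B

open Cfsg.Agent.Lib.Helper6.TC Cfsg.Agent.Lib.Helper6.PM Cfsg.Agent.Lib.Helper2.PMS
open Cfsg.Agent.Lib.Helper5.Chain Cfsg.Agent.Lib.Helper5.Srch Cfsg.Agent.Lib.Helper1.PMChk

theorem old0_0 : rangeR (oldF 0) (0 * 24570) 24570 = true := by decide +kernel

theorem old0_1 : rangeR (oldF 0) (1 * 24570) 24570 = true := by decide +kernel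

theorem old0_2 : rangeR (oldF 0) (2 * 24570) 24570 = true := by decide +kernel

theorem old0_3 : rangeR (oldF 0) (3 * 24570) 24570 = true := by decide +kernel

theorem chk_old0 : chkOld px 98280 pm 0 = true := by
  apply chkOld_of_forall 0
  apply forall_of_pieces _ 24570 4 98280 (by norm_num)
  intro j hj
  interval_cases j
  · exact old0_0
  · exact old0_1
  · exact old0_2
  · exact old0_3

theorem old1_0 : rangeR (oldF 1) (0 * 24570) 24570 = true := by decide +kernel

theorem old1_1 : rangeR (oldF 1) (1 * 24570) 24570 = true := by decide +kernel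

theorem old1_2 : rangeR (oldF 1) (2 * 24570) 24570 = true := by decide +kernel

theorem old1_3 : rangeR (oldF 1) (3 * 24570) 24570 = true := by decide +kernel

theorem chk_old1 : chkOld px 98280 pm 1 = true := by
  apply chkOld_of_forall 1
  apply forall_of_pieces _ 24570 4 98280 (by norm_num)
  intro j hj
  interval_cases j
  · exact old1_0
  · exact old1_1
  · exact old1_2
  · exact old1_3

theorem old2_0 : rangeR (oldF 2) (0 * 24570) 24570 = true := by decide +kernel

theorem old2_1 : rangeR (oldF 2) (1 * 24570) 24570 = true := by decide +kernel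

theorem old2_2 : rangeR (oldF 2) (2 * 24570) 24570 = true := by decide +kernel

theorem old2_3 : rangeR (oldF 2) (3 * 24570) 24570 = true := by decide +kernel

theorem chk_old2 : chkOld px 98280 pm 2 = true := by
  apply chkOld_of_forall 2
  apply forall_of_pieces _ 24570 4 98280 (by norm_num)
  intro j hj
  interval_cases j
  · exact old2_0
  · exact old2_1
  · exact old2_2
  · exact old2_3

theorem old3_0 : rangeR (oldF 3) (0 * 24570) 24570 = true := by decide +kernel

theorem old3_1 : rangeR (oldF 3) (1 * 24570) 24570 = true := by decide +kernel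

theorem old3_2 : rangeR (oldF 3) (2 * 24570) 24570 = true := by decide +kernel

theorem old3_3 : rangeR (oldF 3) (3 * 24570) 24570 = true := by decide +kernel

theorem chk_old3 : chkOld px 98280 pm 3 = true := by
  apply chkOld_of_forall 3
  apply forall_of_pieces _ 24570 4 98280 (by norm_num)
  intro j hj
  interval_cases j
  · exact old3_0
  · exact old3_1
  · exact old3_2
  · exact old3_3

end Cfsg.Agent.Lib.Helper1.Co1B
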