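import Mathlib
import Cfsg.Agent.Lib.Helper1.Co1B.CO0

set_option autoImplicit false
set_option maxRecDepth 100000

/-! The first Conway group on the 98280 pairs of minimal vectors: checks of the tables of the old letters, part 1. -/

namespace Cfsg.Agent.Lib.Helper1.Co1B

open Cfsg.Agent.Lib.Helper6.TC Cfsg.Agent.Lib.Helper6.PM Cfsg.Agent.Lib.Helper2.PMS
open Cfsg.Agent.Lib.Helper5.Chain Cfsg.Agent.Lib.Helper5.Srch Cfsg.Agent.Lib.Helper1.PMChk

theorem old4_0 : rangeR (oldF 4) (0 * 24570) 24570 = true := by decide +kernel

theorem old4_1 : rangeR (oldF 4) (1 * 24570) 24570 = true := by decide +kernel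

theorem old4_2 : rangeR (oldF 4) (2 * 24570) 24570 = true := by decide +kernel

theorem old4_3 : rangeR (oldF 4) (3 * 24570) 24570 = true := by decide +kernel

theorem chk_old4 : chkOld px 98280 pm 4 = true := by
  apply chkOld_of_forall 4
  apply forall_of_pieces _ 24570 4 98280 (by norm_num)
  intro j hj
  interval_cases j
  · exact old4_0
  · exact old4_1
  · exact old4_2
  · exact old4_3

theorem old5_0 : rangeR (oldF 5) (0 * 24570) 24570 = true := by decide +kernel

theorem old5_1 : rangeR (oldF 5) (1 * 24570) 24570 = true := by decide +kernel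

theorem old5_2 : rangeR (oldF 5) (2 * 24570) 24570 = true := by decide +kernel

theorem old5_3 : rangeR (oldF 5) (3 * 24570) 24570 = true := by decide +kernel

theorem chk_old5 : chkOld px 98280 pm 5 = true := by
  apply chkOld_of_forall 5
  apply forall_of_pieces _ 24570 4 98280 (by norm_num)
  intro j hj
  interval_cases j
  · exact old5_0
  · exact old5_1
  · exact old5_2
  · exact old5_3

theorem old6_0 : rangeR (oldF 6) (0 * 24570) 24570 = true := by decide +kernel

theorem old6_1 : rangeR (oldF 6) (1 * 24570) 24570 = true := by decide +kernel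

theorem old6_2 : rangeR (oldF 6) (2 * 24570) 24570 = true := by decide +kernel

theorem old6_3 : rangeR (oldF 6) (3 * 24570) 24570 = true := by decide +kernel

theorem chk_old6 : chkOld px 98280 pm 6 = true := by
  apply chkOld_of_forall 6
  apply forall_of_pieces _ 24570 4 98280 (by norm_num)
  intro j hj
  interval_cases j
  · exact old6_0
  · exact old6_1
  · exact old6_2
  · exact old6_3

theorem chk_old : chkRange (chkOld px 98280 pm) 0 7 = true := by
  apply chkRange_of_forall
  intro k _ hk
  have hk' : k < 7 := hk
  interval_cases k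
  · exact chk_old0
  · exact chk_old1
  · exact chk_old2
  · exact chk_old3
  · exact chk_old4
  · exact chk_old5
  · exact chk_old6

end Cfsg.Agent.Lib.Helper1.Co1B
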