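import Mathlib
import Cfsg.Agent.Lib.Helper1.Co1B.CO

set_option autoImplicit false
set_option maxRecDepth 100000

/-! The first Conway group on the 98280 pairs of minimal vectors: checks of the levels of the chain. -/

namespace Cfsg.Agent.Lib.Helper1.Co1B

open Cfsg.Agent.Lib.Helper6.TC Cfsg.Agent.Lib.Helper6.PM Cfsg.Agent.Lib.Helper2.PMS
open Cfsg.Agent.Lib.Helper5.Chain Cfsg.Agent.Lib.Helper5.Srch Cfsg.Agent.Lib.Helper1.PMChk

theorem lv0_0_len : lv0_0.length = 12285 := by decide +kernel

theorem lv0_0_ok : lvR pm 2093 lv0_0 (0 * 12285) = true := by decide +kernel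

theorem lv0_0_map : lv0_0.map (fun w => wapp pm w 2093) = List.range' (0 * 12285) 12285 := by
  have h := lvR_spec pm 2093 lv0_0 (0 * 12285) lv0_0_ok
  rwa [lv0_0_len] at h

theorem lv0_1_len : lv0_1.length = 12285 := by decide +kernel

theorem lv0_1_ok : lvR pm 2093 lv0_1 (1 * 12285) = true := by decide +kernel

theorem lv0_1_map : lv0_1.map (fun w => wapp pm w 2093) = List.range' (1 * 12285) 12285 := by
  have h := lvR_spec pm 2093 lv0_1 (1 * 12285) lv0_1_ok
  rwa [lv0_1_len] at h

theorem lv0_2_len : lv0_2.length = 12285 := by decide +kernel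

theorem lv0_2_ok : lvR pm 2093 lv0_2 (2 * 12285) = true := by decide +kernel

theorem lv0_2_map : lv0_2.map (fun w => wapp pm w 2093) = List.range' (2 * 12285) 12285 := by
  have h := lvR_spec pm 2093 lv0_2 (2 * 12285) lv0_2_ok
  rwa [lv0_2_len] at h

theorem lv0_3_len : lv0_3.length = 12285 := by decide +kernel

theorem lv0_3_ok : lvR pm 2093 lv0_3 (3 * 12285) = true := by decide +kernel

theorem lv0_3_map : lv0_3.map (fun w => wapp pm w 2093) = List.range' (3 * 12285) 12285 := by
  have h := lvR_spec pm 2093 lv0_3 (3 * 12285) lv0_3_ok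
  rwa [lv0_3_len] at h

theorem lv0_4_len : lv0_4.length = 12285 := by decide +kernel

theorem lv0_4_ok : lvR pm 2093 lv0_4 (4 * 12285) = true := by decide +kernel

theorem lv0_4_map : lv0_4.map (fun w => wapp pm w 2093) = List.range' (4 * 12285) 12285 := by
  have h := lvR_spec pm 2093 lv0_4 (4 * 12285) lv0_4_ok
  rwa [lv0_4_len] at h

theorem lv0_5_len : lv0_5.length = 12285 := by decide +kernel

theorem lv0_5_ok : lvR pm 2093 lv0_5 (5 * 12285) = true := by decide +kernel

theorem lv0_5_map : lv0_5.map (fun w => wapp pm w 2093) = List.range' (5 * 12285) 12285 := by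
  have h := lvR_spec pm 2093 lv0_5 (5 * 12285) lv0_5_ok
  rwa [lv0_5_len] at h

theorem lv0_6_len : lv0_6.length = 12285 := by decide +kernel

theorem lv0_6_ok : lvR pm 2093 lv0_6 (6 * 12285) = true := by decide +kernel

theorem lv0_6_map : lv0_6.map (fun w => wapp pm w 2093) = List.range' (6 * 12285) 12285 := by
  have h := lvR_spec pm 2093 lv0_6 (6 * 12285) lv0_6_ok
  rwa [lv0_6_len] at h

theorem lv0_7_len : lv0_7.length = 12285 := by decide +kernel

theorem lv0_7_ok : lvR pm 2093 lv0_7 (7 * 12285) = true := by decide +kernel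

theorem lv0_7_map : lv0_7.map (fun w => wapp pm w 2093) = List.range' (7 * 12285) 12285 := by
  have h := lvR_spec pm 2093 lv0_7 (7 * 12285) lv0_7_ok
  rwa [lv0_7_len] at h

theorem lv0_map : lv0.map (fun w => wapp pm w 2093) = List.range' 0 98280 := by
  unfold lv0
  exact map_append_range' _ _ _ 0 85995 12285 (map_append_range' _ _ _ 0 73710 12285 (map_append_range' _ _ _ 0 61425 12285 (map_append_range' _ _ _ 0 49140 12285 (map_append_range' _ _ _ 0 36855 12285 (map_append_range' _ _ _ 0 24570 12285 (map_append_range' _ _ _ 0 12285 12285 (lv0_0_map) lv0_1_map) lv0_2_map) lv0_3_map) lv0_4_map) lv0_5_map) lv0_6_map) lv0_7_map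

theorem lv0_fix : ([lv1, lv2, lv3, lv4, lv5, lv6, lv7].all fun Lj => Lj.all fun w => Nat.beq (wappS pm w 2093) 2093) = true := by
  decide +kernel

theorem chk_lv1 : chkLevel pm 23 lv1 [lv2, lv3, lv4, lv5, lv6, lv7] = true := by decide +kernel

theorem chk_lv2 : chkLevel pm 24 lv2 [lv3, lv4, lv5, lv6, lv7] = true := by decide +kernel

theorem chk_lv3 : chkLevel pm 48 lv3 [lv4, lv5, lv6, lv7] = true := by decide +kernel

theorem chk_lv4 : chkLevel pm 26 lv4 [lv5, lv6, lv7] = true := by decide +kernel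

theorem chk_lv5 : chkLevel pm 9 lv5 [lv6, lv7] = true := by decide +kernel

theorem chk_lv6 : chkLevel pm 47 lv6 [lv7] = true := by decide +kernel

theorem chk_lv7 : chkLevel pm 0 lv7 [] = true := by decide +kernel

theorem chk_let : chkLet 25 levelsC = true := by decide +kernel

theorem levels_prod : (levelsC.map List.length).prod = 4157776806543360000 := by decide +kernel

theorem chain_ok : IsChain pm baseC levelsC :=
  isChain_cons_of pm 2093 _ lv0 _ 98280 lv0_map lv0_fix (
  isChain_cons pm 23 _ lv1 _ chk_lv1 (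
  isChain_cons pm 24 _ lv2 _ chk_lv2 (
  isChain_cons pm 48 _ lv3 _ chk_lv3 (
  isChain_cons pm 26 _ lv4 _ chk_lv4 (
  isChain_cons pm 9 _ lv5 _ chk_lv5 (
  isChain_cons pm 47 _ lv6 _ chk_lv6 (
  isChain_cons pm 0 _ lv7 _ chk_lv7 (
  isChain_nil pm))))))))

end Cfsg.Agent.Lib.Helper1.Co1B
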