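
set_option autoImplicit false

namespace Cfsg.Agent.Lib.Helper1.Co1B

/-- the words of the first level, part 6 -/
noncomputable def lv0_6 : List (List Nat) := [[2, 0, 9, 18, 2, 11], [2, 22, 14, 4, 21], [6, 19, 0, 10], [6, 20, 15, 0], [2, 9, 8, 8, 2], [6, 9, 2, 11, 19], [2, 4, 6, 7, 23, 8], [2, 7, 11, 7, 3], [2, 9, 6, 20, 24], [2, 10, 3, 5, 18], [2, 5, 5, 15, 20], [2, 16, 20, 17], [2, 4, 3, 6, 19, 23], [6, 6, 7, 15], [2, 8, 22, 17], [2, 15, 7, 11], [2, 15, 24, 3], [2, 7, 3, 18, 23], [2, 3, 7, 12, 1], [2, 4, 6, 21, 16], [6, 16, 2, 20, 10], [2, 21, 4, 10, 24], [2, 17, 21, 2, 0], [2, 8, 4, 24, 12], [2, 4, 5, 17, 16], [2, 4, 2, 11, 4], [2, 15, 18, 4, 23], [2, 23, 2, 7, 22], [2, 17, 16, 13, 6], [2, 4, 12, 17], [2, 13, 24, 0, 23], [2, 2, 15, 1, 12], [2, 7, 10, 20, 0], [2, 0, 7, 3, 9], [2, 0, 7, 1, 15], [6, 8, 14, 2, 10], [2, 9, 2, 17, 20], [2, 11, 22, 14, 4], [6, 15, 19, 5, 9], [6, 20, 8, 16], [2, 2, 12, 7, 15], [6, 13, 16, 24], [2, 2, 7, 0, 5], [6, 4, 4, 13, 6], [2, 11, 2, 8, 18], [6, 22, 19, 21], [2, 9, 4, 4, 7], [6, 3, 11, 23], [2, 1, 6, 10, 0, 6], [2, 0, 0, 3, 1], [2, 1, 12, 2, 13], [2, 0, 0, 15, 5], [2, 0, 7, 9, 21], [2, 8, 1, 23, 0], [2, 3, 2, 10, 0], [6, 24, 6, 12, 22], [6, 0, 1, 18], [2, 0, 3, 16, 1], [6, 12, 18, 12], [2, 9, 2, 21, 16], [2, 23, 9, 7, 2], [2, 10, 5, 24, 4], [6, 15, 22, 19], [6, 3, 21, 5], [2, 20, 2, 7, 11], [2, 14, 19, 5, 19], [2, 1, 18, 2, 20], [2, 0, 22, 4, 20], [2, 0, 8, 14, 20, 2], [6, 15, 13, 17], [6, 11, 21], [2, 11, 20, 4], [2, 2, 8, 1, 22], [6, 20, 24, 9], [6, 11, 16, 14], [2, 2, 0, 2, 18], [2, 9, 1, 1, 18], [2, 7, 2, 16, 22], [2, 1, 3, 12, 17, 17], [2, 0, 21, 8, 6], [2, 0, 0, 12, 21], [2, 23, 8, 24, 4], [2, 0, 3, 5, 0], [2, 10, 2, 19, 4], [2, 1, 13, 8, 20, 2], [2, 4, 12, 1, 8], [6, 16, 11, 23], [6, 22, 10, 15], [6, 22, 6, 5, 7], [2, 4, 21, 15, 13], [2, 5, 0, 11, 6], [6, 1, 3, 9, 15], [6, 3, 22, 6, 7], [2, 2, 13, 10, 2], [2, 7, 18, 11, 8], [2, 15, 13, 20], [2, 8, 10], [2, 7, 24, 14, 20], [2, 20, 16], [6, 17, 11, 24, 2], [2, 13, 1, 22, 0], [2, 3, 17, 0], [2, 4, 4, 14, 4], [2, 3, 5, 2, 21, 9], [2, 2, 17, 4, 8], [2, 9, 4, 14, 7], [2, 2, 5, 18, 13], [2, 9, 2, 19, 23], [2, 1, 18, 23, 6, 15], [2, 4, 6, 8, 4], [2, 20, 23, 2, 16], [2, 10, 0, 9, 8], [2, 2, 19, 21, 19, 6], [2, 7, 15, 14, 2], [6, 11, 6, 23, 8], [6, 23, 5, 15], [2, 8, 22, 14, 17, 6], [6, 16, 2, 17, 16], [2, 0, 6, 18, 5, 10], [6, 4, 8, 3], [2, 3, 22, 6, 13], [2, 2, 20, 9, 13], [2, 0, 3, 0, 1], [6, 4, 16, 21], [2, 9, 2, 22, 10], [6, 18, 9, 22], [2, 2, 22, 24, 14], [6, 0, 18, 9], [6, 11, 2, 22, 12], [6, 5, 7, 13, 5], [2, 4, 12, 18], [2, 24, 0, 17, 10], [2, 10, 6, 6, 24], [2, 9, 24, 21, 6], [2, 17, 1, 16, 6], [2, 20, 10, 4], [2, 2, 7, 6, 7, 22], [6, 10, 2, 13, 0], [2, 9, 6, 16, 18], [2, 23, 7, 12], [2, 0, 2, 13, 20, 4], [2, 1, 2, 3, 16], [2, 3, 16, 2, 4], [2, 8, 12, 3, 5], [6, 9, 2, 2, 3], [6, 22, 16, 11], [2, 2, 19, 14, 17], [2, 2, 18, 22, 14], [2, 3, 23, 16, 2], [2, 1, 7, 17, 14, 6], [6, 4, 9, 6, 18], [2, 9, 1, 2], [2, 3, 22, 12, 2], [2, 3, 15, 4, 10], [6, 13, 23, 22], [2, 1, 14, 2, 10], [2, 0, 6, 4, 4, 16], [6, 17, 6, 12, 23], [2, 1, 3, 2, 10], [6, 13, 7, 17], [2, 1, 21, 6, 3, 24], [6, 14, 15, 20], [2, 8, 4, 19, 9], [6, 4, 12, 0], [2, 9, 2, 24, 0], [2, 0, 2, 17, 10, 5], [6, 0, 15, 13, 2], [2, 4, 2, 24, 10], [2, 13, 11, 2, 5], [2, 10, 3, 23], [2, 21, 19, 7], [2, 19, 13, 17], [2, 17, 2, 8, 20], [2, 16, 2, 23, 11], [2, 7, 15, 2, 23], [2, 5, 0, 17], [2, 19, 3, 6, 15], [2, 2, 2, 15, 14], [2, 8, 0, 12, 22], [2, 12, 5, 0], [6, 11, 6, 12, 6], [2, 4, 22, 8, 1], [2, 12, 4, 18, 18], [2, 13, 4, 12, 21], [2, 2, 22, 2, 4], [2, 24, 6, 1], [2, 4, 10, 14, 8], [2, 0, 2, 4, 4, 23], [2, 2, 0, 6, 23], [2, 3, 2, 17, 13], [2, 7, 1, 1], [2, 7, 1, 3, 13], [2, 24, 20, 14], [2, 5, 18, 1, 14], [2, 9, 16, 8, 10], [6, 9, 1, 6, 1], [2, 7, 11, 22, 6], [6, 9, 20, 24], [2, 2, 8, 14], [6, 12, 19], [6, 15, 5, 9], [2, 7, 6, 7], [6, 6, 12, 1, 4], [2, 7, 16, 6, 17], [2, 0, 1, 2, 18, 20], [6, 21, 13, 12], [6, 0, 8, 4, 1], [6, 8, 5, 10, 1], [2, 13, 18, 4, 16], [2, 3, 21, 17, 4], [6, 11, 22, 1], [2, 1, 3, 2, 20], [2, 10, 6, 6, 18], [6, 21, 14, 18], [2, 2, 19, 5], [6, 7, 16, 13], [2, 16, 2, 0, 10], [2, 0, 12, 0, 12], [2, 9, 17, 7], [2, 8, 17, 17, 12], [2, 24, 16, 23], [2, 3, 13, 8, 9], [2, 3, 18, 5, 4], [2, 5, 6, 18, 0], [2, 4, 7, 6, 0], [2, 10, 15, 11, 6], [6, 16, 18, 0], [2, 23, 2, 11, 8], [2, 1, 8, 2, 21, 5], [2, 1, 2, 4, 17], [2, 4, 23, 16, 24], [2, 1, 1, 0, 7], [2, 1, 2, 2, 21], [2, 0, 5, 5, 3], [2, 2, 13, 3, 9], [2, 7, 4, 17, 8], [6, 18, 2, 1, 0], [2, 4, 11, 1, 7], [6, 4, 1, 10], [6, 9, 13, 3], [2, 21, 24, 6], [2, 2, 20, 13, 15], [2, 2, 22, 16], [2, 0, 21, 2, 22, 12], [2, 16, 21, 3, 2], [6, 16, 0, 8], [6, 22, 17, 23], [6, 7, 23, 4, 6], [2, 2, 8, 4, 15], [2, 11, 1, 1, 4], [2, 4, 9, 8, 9], [2, 10, 2, 9, 4], [6, 17, 12, 6, 19], [6, 17, 6, 0, 7], [6, 6, 16, 2, 20], [6, 13, 1, 11], [2, 4, 16, 6, 9, 1], [2, 4, 13, 6, 22], [2, 24, 16, 17, 2], [2, 4, 2, 14, 21], [6, 17, 2, 9, 21], [2, 19, 22], [2, 5, 2, 17], [2, 9], [6, 5, 9, 19, 2], [2, 2, 4, 5, 24], [2, 4, 17, 1, 7], [2, 0, 17, 5, 19], [2, 1, 8, 2, 4, 9], [6, 4, 10, 6, 6], [2, 1, 22, 17, 6], [6, 1, 19, 1, 24], [2, 23, 0, 3, 6], [6, 18, 13], [2, 2, 10, 19, 10], [6, 3, 13, 5], [2, 1, 10, 2, 21, 6], [2, 8, 2, 2, 0], [6, 22, 23, 2, 21], [6, 15, 24], [2, 10, 2, 23, 10], [2, 4, 13, 6, 24], [2, 0, 3, 21, 2, 18], [2, 15, 17, 20], [2, 0, 18, 7, 5, 2], [2, 4, 12, 15, 6], [2, 24, 3, 20], [2, 21, 16, 19], [2, 1, 16, 2, 7], [6, 19, 18, 6], [2, 2, 8, 22, 24], [2, 2, 10, 21, 15], [2, 0, 13, 6, 13, 4], [2, 5, 6, 8, 13, 12], [2, 7, 9, 2, 10], [6, 16, 1, 16], [2, 0, 2, 5, 0, 15], [2, 3, 21, 17, 0], [2, 5, 20, 0, 17], [2, 8, 16, 0], [2, 19, 7, 6, 7], [2, 3, 16, 4, 23], [6, 0, 8, 1], [2, 0, 10, 13, 3], [2, 20, 4], [2, 1, 0, 11, 23], [2, 4, 3, 15, 21], [2, 13, 3, 6, 1], [2, 1, 16, 6, 17, 2], [6, 17, 9, 15], [2, 4, 19, 2, 11], [2, 3, 19, 4, 12], [2, 4, 6, 16, 24], [2, 8, 13, 16, 19], [2, 1, 22, 4, 13], [2, 24, 1], [2, 4, 2, 20], [2, 3, 7, 12, 5], [2, 3, 2, 21, 8], [2, 2, 18, 24, 2], [2, 2, 8, 18, 3], [6, 0, 21, 8], [2, 17, 21, 4, 5], [2, 21, 2, 0, 17], [2, 0, 2, 19, 22, 2], [2, 0, 5, 14], [2, 4, 3, 5, 8], [2, 2, 18, 10, 8], [2, 2, 20, 22, 12], [2, 3, 16, 19, 4], [6, 17, 10, 3], [2, 1, 6, 9, 4, 2], [6, 9, 15, 11, 6], [6, 5, 10, 1], [6, 21, 17, 21], [2, 2, 19, 5, 3], [6, 12, 6, 17, 21], [2, 3, 23, 17, 5], [2, 2, 0, 7, 3], [2, 23, 15, 13], [2, 21, 8, 12], [2, 11, 7, 13], [2, 2, 0, 3, 19], [2, 4, 6, 3, 10], [6, 10, 24, 9], [6, 0, 8, 14], [2, 14, 5, 4, 10], [2, 13, 3, 6, 13], [2, 0, 13, 6, 22, 2], [2, 4, 23, 16, 6, 14], [2, 5, 20, 6, 10, 5], [6, 0, 1, 23, 13], [2, 21, 8, 2], [6, 3, 10, 14], [6, 8, 17, 6], [6, 9, 8, 11], [6, 3, 16, 2, 21], [6, 15, 6, 5, 8], [2, 1, 0, 19, 5, 2], [6, 14, 22, 11], [6, 12, 2, 5, 11], [2, 0, 13, 19, 13, 2], [2, 11, 24, 0, 2], [6, 5, 2, 13, 21], [2, 0, 3, 2], [2, 1, 13, 4, 3], [2, 4, 2, 17, 0], [2, 22, 9, 0], [2, 0, 0, 9, 7, 2], [2, 4, 17, 21, 1], [2, 3, 24, 4, 12], [6, 5, 22, 7, 2], [6, 11, 6, 7, 3], [2, 0, 8, 20, 17, 6], [6, 17, 11, 2, 17], [2, 8, 4, 16, 23], [6, 22, 6, 23, 12], [6, 3, 9, 1, 3], [6, 5, 15], [6, 9, 13, 1], [2, 2, 21, 13, 2, 5], [6, 3, 18, 20], [2, 17, 11, 6, 13], [2, 0, 8, 0, 21], [6, 9, 22, 3], [2, 2, 5, 8, 1], [6, 12, 23, 1], [2, 1, 12, 6, 15, 5], [2, 1, 10, 18, 9, 6], [2, 0, 8, 23, 0], [6, 9, 13, 15], [2, 2, 23, 13, 17], [6, 12, 6, 11, 5], [2, 12, 20, 5], [2, 12, 6, 5], [2, 7, 9, 16, 0], [2, 13, 7, 16, 0], [2, 11, 5, 11, 16], [2, 12, 18, 20, 0], [6, 23, 15, 17, 6], [2, 21, 13, 4], [6, 9, 15], [2, 11, 4, 5, 21], [6, 16, 2], [6, 6, 9, 6, 6], [2, 11, 15, 4], [6, 8, 14, 23], [6, 10, 4, 8], [2, 2, 18, 14], [6, 3, 4, 16], [2, 17, 6, 18, 18], [2, 1, 2, 2, 13, 10], [2, 1, 13, 6, 4], [2, 16, 8, 6, 1], [2, 1, 4, 6, 22, 6], [2, 11, 17, 3], [2, 3, 16, 6, 1], [2, 2, 0, 22], [2, 9, 0, 5], [2, 14, 15, 12], [2, 22, 2, 2, 1], [6, 15, 1, 2, 20], [2, 24, 2, 7, 23], [2, 13, 22, 5], [2, 7, 16, 6, 11, 6], [2, 13, 19, 23, 5], [2, 3, 8, 23, 1], [2, 4, 8, 4, 7], [2, 2, 14, 2, 16], [2, 12, 2, 19, 15], [2, 9, 6, 21, 0], [2, 10, 15, 12, 4], [6, 24, 1, 18, 2], [2, 4, 16, 10, 16], [2, 9, 7, 18, 4], [2, 12, 4, 11, 22], [2, 5, 6, 16, 0], [2, 10, 15, 12, 6], [2, 3, 0, 2, 5, 16], [2, 5, 24, 4, 19], [2, 4, 6, 3, 23], [2, 3, 10, 7], [2, 4, 1, 8, 0], [2, 9, 17, 14, 17], [6, 16, 4, 17, 2], [2, 19, 9, 14], [2, 4, 8, 3, 0], [2, 3, 10, 7, 19], [2, 10, 7, 3], [2, 10, 7], [2, 3, 0, 13, 1], [2, 4, 6, 12, 24], [2, 1, 11, 6, 3], [2, 12, 19, 23, 0], [2, 2, 2, 7, 20], [2, 7, 15, 0, 23], [6, 1, 22, 20], [2, 3, 14, 17, 0], [2, 11, 6, 14, 20], [2, 1, 2, 3, 6, 18], [2, 0, 2, 7, 20, 17], [2, 1, 3, 14, 20], [2, 5, 12, 0, 21], [2, 12, 23, 0, 16], [2, 21, 1, 3], [2, 21, 1], [2, 1, 22, 13, 4], [6, 16, 5, 10, 2], [6, 9, 6, 24, 2], [2, 1, 20, 5, 22], [2, 9, 19], [2, 12, 24], [2, 3, 10, 14, 1], [6, 10, 16, 0], [2, 3, 16, 9], [2, 0, 3, 5, 2, 5], [2, 2, 13, 6, 0, 7], [2, 21, 2, 15], [2, 3, 4, 15, 2, 5], [2, 1, 20, 0, 11], [2, 0, 14, 6, 21, 23], [2, 3, 2, 2, 21], [2, 4, 3, 9, 19], [2, 4, 17, 12, 23], [2, 15, 21, 6, 21], [2, 1, 2, 2, 12], [2, 7, 17, 1, 2], [2, 2, 8, 9, 22], [2, 1, 14, 7, 2, 14], [6, 23, 10], [2, 10, 6, 1, 2], [6, 18, 23, 14], [2, 1, 0, 19, 6, 15], [2, 12, 23, 4, 5], [2, 24, 8, 8, 4], [6, 3, 4, 18], [6, 9, 23, 0], [2, 2, 22, 12, 1], [6, 13, 18, 15], [6, 8, 5, 15, 6], [2, 1, 2, 13, 2, 21], [2, 19, 18, 0, 8], [2, 1, 0, 17, 1], [2, 17, 11, 15, 4], [2, 4, 18, 9, 8], [2, 4, 9, 8, 16], [2, 1, 2, 4, 8], [2, 21, 2, 15, 19], [2, 2, 7, 5, 6], [2, 8, 10, 2, 5], [2, 8, 1, 2, 13], [6, 12, 22, 1], [2, 12, 2, 10, 22], [2, 4, 15, 9, 14], [6, 24, 13, 1], [2, 19, 13, 0], [6, 12, 2, 15], [2, 12, 2, 4, 1], [6, 10, 6, 1, 18], [2, 9, 15, 18], [6, 23, 6, 11, 8], [2, 11, 0, 11, 1], [2, 20, 8, 13], [6, 23, 0, 15], [2, 0, 15, 4, 15, 6], [2, 14, 15], [2, 2, 11, 0, 21], [2, 15, 11, 19], [2, 7, 19, 7], [2, 1, 18, 6, 3], [2, 7, 5, 22], [2, 2, 5, 2, 15], [2, 12, 2, 5, 5], [2, 22, 18, 16, 4], [2, 15, 24, 20, 4], [2, 8, 0, 16, 21], [2, 8, 17, 13, 2], [2, 4, 3, 13, 20], [2, 0, 8, 20, 24], [2, 0, 14, 6, 21, 16], [2, 0, 1, 2, 13, 9], [2, 3, 24, 17, 2], [2, 3, 24, 6, 12, 20], [6, 8, 15, 8], [2, 12, 15, 10, 6], [2, 2, 24, 17, 22], [6, 4, 18, 10, 7], [2, 4, 7, 11, 1], [2, 8, 14, 19, 6], [6, 8, 8, 23], [2, 2, 21, 21, 3], [2, 7, 11, 4], [2, 2, 14, 3, 8], [6, 3, 7, 16], [2, 15, 8, 17, 4], [2, 17, 9, 6, 19], [2, 0, 3, 2, 2, 11], [6, 8, 4, 9], [2, 0, 21, 1], [6, 17, 5, 12], [2, 0, 3, 7, 0], [6, 16, 13, 12], [2, 17, 16, 16, 2], [2, 1, 10, 2, 14], [2, 2, 17, 13, 8], [2, 10, 17, 2, 15], [2, 0, 1, 14, 22], [6, 21, 0, 6, 3], [2, 2, 12, 22], [2, 9, 2, 9, 8], [2, 21, 23, 7, 2], [6, 7, 15, 2, 16], [6, 9, 6], [2, 0, 7, 20, 16], [2, 13, 3, 4], [2, 0, 3, 9, 5], [2, 4, 14, 5, 18], [2, 0, 23, 3, 10], [6, 9, 23, 6], [2, 1, 1, 2, 2, 23], [2, 5, 21, 4, 6], [2, 1, 14, 6, 4], [2, 2, 24, 2, 16], [2, 3, 2, 7, 15], [2, 15, 22, 10], [2, 3, 23, 9, 16], [2, 16, 12], [2, 4, 6, 20, 15], [6, 1, 23, 0], [2, 5, 4, 21, 10], [2, 4, 9, 14, 0], [2, 22, 7, 0, 2], [2, 19, 16], [6, 19, 23, 2, 21], [2, 0, 6, 5, 0, 23], [2, 1, 19, 4, 14, 2], [2, 16, 4, 10], [2, 4, 7, 12, 24], [2, 13, 19, 0], [6, 7, 18, 11, 6], [2, 16, 4], [2, 8, 17, 14, 2], [2, 5, 6, 15, 7], [2, 23, 15, 22, 2], [2, 16, 2, 1, 10], [2, 14, 0, 9], [2, 2, 1, 9, 24], [2, 0, 7, 16, 13], [2, 5, 0, 19], [2, 4, 11, 23, 11], [6, 1, 13, 9], [2, 0, 1, 23, 6, 20], [2, 1, 7, 19, 3, 2], [6, 8, 10, 15], [2, 14, 1, 6, 18], [6, 9, 0], [6, 7, 13, 20], [2, 2, 2, 1, 9], [2, 0, 16, 5, 23], [2, 22, 8, 2, 19], [2, 4, 20, 4, 4], [6, 24, 5, 7], [2, 0, 1, 24, 18], [2, 1, 10, 2, 16, 10], [2, 10, 4], [2, 9, 0, 16, 2], [2, 9, 23, 6, 4], [2, 4, 19, 0, 2, 4], [2, 10, 5, 4, 23], [6, 10, 20, 5], [6, 5, 4, 5, 16], [2, 3, 24, 2, 10], [2, 5, 0, 5, 18], [2, 5, 6, 9, 17, 7], [2, 13, 1, 8, 6], [6, 6, 18, 6, 9], [2, 20, 2, 10, 5], [2, 3, 2, 14, 24], [2, 5, 2, 8, 20], [2, 0, 13, 15, 2], [2, 4, 18, 4, 19], [2, 1, 1, 8, 15], [2, 24, 5, 12], [2, 1, 9, 16, 2, 23], [2, 0, 2, 18, 7], [2, 1, 15, 7, 22], [2, 13, 5, 12, 17], [2, 3, 10, 17, 5], [6, 21, 10, 2], [2, 1, 11, 3, 4], [6, 6, 12, 5], [2, 0, 2, 7, 17], [2, 2, 12, 1, 2], [2, 14, 7, 4, 19], [6, 13, 20, 1], [2, 9, 5, 7, 0], [6, 1, 24, 17], [2, 4, 12, 2, 10], [2, 11, 6, 23], [2, 5, 6, 12], [2, 8, 2, 5, 10], [2, 23, 13, 8], [2, 4, 10, 18, 0], [2, 2, 22, 17, 2], [2, 3, 1, 8, 14], [2, 3, 16, 20, 14], [2, 13, 18, 22], [2, 7, 7, 6, 16], [2, 2, 8, 24, 2], [2, 1, 4, 10, 15], [2, 17, 1, 2, 4], [6, 14, 17, 2], [2, 19, 1, 7], [2, 14, 15, 23, 6], [2, 0, 2, 0, 1, 24], [6, 12, 2, 19, 5], [2, 4, 10, 3, 16], [2, 4, 15, 5, 9], [2, 0, 18, 7, 22], [2, 3, 14, 2, 10, 20], [2, 3, 8, 6, 16], [2, 0, 13, 19, 7, 6], [2, 0, 23, 6, 18, 14], [2, 1, 24, 11, 6, 6], [2, 7, 2, 24, 21], [2, 13, 5], [2, 1, 15, 7, 21], [2, 9, 6, 23, 0], [2, 16, 24, 18, 0], [2, 1, 6, 14, 17], [2, 1, 13, 6, 24], [2, 2, 9, 6, 0, 18], [2, 3, 9, 15, 7], [2, 8, 20, 17, 9], [2, 3, 15, 13], [2, 0, 13, 6, 12, 15], [2, 7, 9, 21], [2, 7, 24, 6, 3], [2, 13, 10, 6, 17], [2, 10, 0, 7, 2], [2, 11, 2, 17, 1], [2, 2, 4, 21, 16], [6, 3, 8], [2, 0, 8, 0, 13], [2, 23, 16, 2], [2, 2, 12, 23, 17], [6, 22, 10, 6], [2, 2, 10, 6, 16, 6], [6, 8, 2, 21, 6], [6, 14, 22, 7], [2, 4, 17, 1], [2, 24, 7, 2, 0], [2, 3, 8, 1, 2, 13], [2, 1, 22, 14, 8], [2, 7, 10, 5, 14], [2, 5, 16, 1, 8], [2, 7, 2, 9, 4], [2, 8, 23, 8, 0], [2, 1, 8, 3, 22], [2, 4, 6, 15, 5], [2, 2, 8, 9, 7], [2, 2, 19, 14, 18], [2, 0, 8, 24, 0], [6, 15, 6, 10, 13], [2, 1, 15, 13, 2, 17], [6, 9, 17, 12], [2, 5, 9, 6, 9], [6, 22, 3, 14], [6, 10, 17, 16], [6, 0, 9, 20], [2, 0, 1, 22, 17], [6, 11, 6, 9, 21], [6, 11, 23, 21], [6, 9, 24, 1], [2, 0, 5, 19, 16], [2, 4, 19, 5, 6], [6, 13, 8, 1], [2, 1, 16, 2, 8, 22], [2, 9, 2, 0], [6, 9, 19, 2, 12], [6, 10, 14, 18], [2, 15, 8, 18, 4], [6, 9, 15, 19], [6, 15, 0, 2, 8], [2, 7, 7, 20, 1], [2, 1, 11, 5, 10], [2, 3, 5, 17, 3], [6, 3, 16, 12, 6], [2, 20, 13, 0, 9], [6, 23, 5, 6, 14], [6, 0, 16, 6], [6, 1, 10, 1, 6], [2, 7, 4, 20], [2, 11, 3, 2, 12], [2, 16, 2, 8, 1], [2, 10, 13, 6, 14], [2, 7, 6, 4, 23], [2, 3, 1, 13, 4], [2, 24, 20, 6, 18], [6, 15, 6, 14], [2, 0, 14, 5, 14], [2, 2, 7, 16, 7, 6], [2, 2, 7, 16, 6], [6, 8, 10, 18, 6], [2, 19, 1, 4, 2], [6, 19, 15, 1], [2, 2, 17, 7, 20], [2, 2, 20, 14], [2, 15, 7, 16, 2], [2, 3, 22, 12, 5], [2, 7, 15, 7, 13], [2, 8, 1, 23, 15], [2, 2, 9, 21, 6], [2, 11, 23, 3], [2, 1, 15, 2, 22], [2, 0, 2, 4, 15, 13], [6, 10, 22, 24], [6, 7, 16, 12], [6, 0, 10, 18, 20], [2, 9, 2, 10, 18], [2, 0, 9, 4, 6, 21], [6, 4, 12, 7], [6, 15, 11, 22], [6, 16, 14, 15], [6, 4, 10, 20], [2, 24, 4, 16, 13], [6, 15, 18, 9], [2, 4, 1, 15, 6, 9], [2, 9, 2, 18, 11], [2, 0, 1, 13, 7], [2, 24, 6, 3, 2], [2, 10, 17, 2, 14], [2, 9, 20, 6, 5], [2, 0, 23, 4, 24], [2, 11, 15, 5], [6, 6, 21, 15], [2, 10, 15, 5, 12], [2, 2, 0, 3, 12], [2, 9, 8, 24], [6, 24, 0, 8, 2], [2, 5, 3, 2, 20], [2, 22, 0, 5], [2, 2, 12, 0, 22], [2, 0, 20, 6, 15, 5], [6, 12, 24, 22, 2], [2, 0, 8, 12, 3], [2, 3, 20, 4, 18], [2, 14, 1, 21, 0], [2, 0, 15, 20, 3], [6, 12, 5, 8], [2, 19, 0, 22], [2, 4, 22, 7, 1, 6], [2, 1, 12, 0, 8], [2, 11, 6, 22, 12], [2, 16, 6, 1], [6, 7, 6, 1, 16], [2, 0, 23, 4, 4], [2, 21, 2, 19, 12], [2, 16, 2, 22, 17], [2, 0, 6, 5, 12, 5], [2, 2, 20, 24, 22], [2, 2, 9, 7], [2, 2, 8, 18, 19], [2, 0, 6, 23, 0, 16], [2, 7, 5, 11], [2, 3, 11, 24, 17], [2, 9, 8, 1], [2, 2, 23, 8, 0, 2], [2, 23, 12, 7], [2, 0, 12, 6, 3, 10], [2, 0, 16, 2, 13, 16], [2, 10, 2, 11, 21], [2, 2, 10, 17, 10], [2, 23, 9, 6, 8], [2, 1, 0, 24, 14, 2], [2, 0, 7, 17, 2], [6, 17, 15, 23], [6, 4, 16, 23], [6, 7, 11, 16], [2, 0, 17, 5, 6, 10], [6, 11, 16, 11], [2, 19, 9, 6, 19], [2, 0, 21, 2, 14, 21], [6, 9, 5, 2, 4], [6, 4, 9, 3], [2, 4, 5, 14, 18], [2, 0, 0, 17, 10], [2, 20, 13, 6, 14], [6, 6, 7, 21], [2, 20, 7], [2, 4, 23, 4, 7], [2, 19, 7, 2, 3], [2, 24, 7, 9], [2, 19, 9, 2, 20], [6, 5, 17, 6, 11], [2, 10, 2, 19, 12], [6, 0, 14, 18, 19], [2, 1, 18, 4, 6, 5], [2, 9, 2, 11, 3], [2, 7, 17, 6, 0], [2, 20, 16, 2, 15], [2, 12, 4, 11, 16], [6, 21, 4, 10], [2, 14, 2, 8], [2, 2, 7, 2, 0], [2, 16, 6, 19, 18], [2, 4, 8, 0], [2, 0, 12, 1, 13], [6, 18, 2, 21, 9], [2, 0, 1, 3, 1], [6, 4, 11, 18], [2, 2, 18, 22, 7], [6, 12, 23, 13], [6, 16, 9, 3], [2, 2, 19, 13, 17], [2, 0, 12, 3, 2, 14], [2, 1, 16, 6, 1], [6, 8, 23, 15], [6, 0, 1, 17], [6, 21, 19, 2, 17], [2, 11, 6, 21, 11], [2, 24, 22, 0, 8], [2, 1, 2, 4, 11], [2, 0, 14, 6, 17, 12], [2, 21, 4, 2, 10], [2, 2, 21, 5, 13], [6, 5, 4, 9], [6, 14, 15, 14], [2, 9, 6, 20, 7], [2, 8, 14, 17], [2, 3, 12, 15, 21], [2, 3, 7, 12, 24], [2, 7, 18, 20, 7], [2, 3, 8, 18, 16], [2, 9, 23, 0, 0], [2, 0, 7, 0, 2, 19], [6, 14, 3, 16], [6, 17, 10, 16], [2, 2, 19, 21, 5], [6, 16, 2, 13, 12], [2, 1, 8, 2, 5, 3], [2, 2, 24, 0, 8], [2, 19, 4], [2, 7, 6, 18], [2, 9, 8, 4, 8], [2, 0, 0, 15, 18], [6, 11, 20, 1], [2, 16, 14, 23, 2], [6, 17, 6, 13, 19], [2, 10, 4, 15, 13], [6, 20, 11, 20], [2, 2, 5, 16, 11], [6, 7, 7, 9], [2, 21, 5, 24, 4], [6, 13, 8, 24], [6, 1, 24, 2, 8], [6, 5, 2, 13, 6], [2, 2, 0, 20, 10], [2, 13, 24, 20], [2, 7, 14, 8, 19], [2, 13, 18, 11], [2, 9, 5, 13, 22], [2, 24, 9, 7], [6, 11, 6, 23, 0], [2, 13, 12, 6, 23], [2, 3, 12, 4, 12], [2, 3, 16, 2, 0], [2, 4, 12, 21, 24], [2, 3, 24, 0, 19], [2, 1, 12, 2, 19], [2, 12, 0, 15], [2, 10, 1, 0, 2], [2, 2, 21, 8, 5], [2, 4, 13, 19, 10], [2, 13, 4, 22, 19], [2, 20, 23, 2, 18], [2, 0, 22, 7, 7], [6, 18, 2, 5], [6, 9, 6, 7, 18], [2, 0, 0, 3, 6], [6, 6, 16, 7], [6, 6, 19, 3], [2, 3, 9, 21, 16], [6, 6, 20, 2, 7], [2, 13, 5, 18, 5], [2, 5, 15, 12, 6], [6, 17, 7, 2, 21], [2, 2, 7, 6, 1], [6, 17, 11, 17], [6, 0, 3, 20], [6, 24, 13, 21], [6, 8, 9, 5, 2], [2, 2, 7, 11, 20], [2, 1, 16, 9, 6, 17], [6, 17, 6, 24], [2, 0, 6, 9, 6, 16], [2, 7, 13, 9, 4], [2, 0, 5, 22, 7], [2, 17, 6, 17], [6, 18, 2, 17], [2, 2, 0, 24, 2], [6, 5, 2, 22, 6], [2, 9, 24, 2, 21], [2, 9, 2, 11, 18], [6, 16, 4, 1], [6, 4, 9], [6, 10, 14, 17], [2, 1, 2, 23, 9, 6], [2, 13, 7, 19], [2, 5, 14, 2], [2, 21, 23, 7], [2, 0, 3, 7, 0, 6], [2, 3, 24, 17], [2, 7, 11, 4, 6], [2, 2, 5, 16, 2, 11], [6, 14, 18, 6, 24], [6, 12, 20, 14], [2, 11, 2, 7, 24], [6, 18, 2, 14, 21], [2, 2, 9, 23, 18, 2], [2, 20, 10, 0], [2, 17, 4], [2, 2, 23, 4, 1], [2, 12, 2, 3, 21], [2, 2, 5, 9], [6, 8, 11], [6, 3, 15, 11], [2, 7, 5, 24, 2], [6, 10, 13, 16], [6, 21, 20, 3], [6, 23, 4, 16], [2, 4, 3, 19, 0, 6], [2, 24, 0, 11, 5], [2, 7, 17, 6, 15], [6, 15, 6, 9, 13], [6, 5, 12, 6, 3], [6, 21, 0, 23], [6, 15, 0, 2, 22], [6, 23, 14, 15, 6], [2, 5, 16, 6, 20], [2, 0, 13, 5, 7], [6, 4, 1, 6, 7], [6, 5, 24, 16, 2], [2, 1, 16, 2, 5], [2, 11, 2, 0, 18], [2, 3, 19, 8, 4], [2, 2, 16, 16, 21], [2, 15, 21, 4], [2, 1, 9, 21, 2, 10], [2, 2, 14, 1, 9], [2, 2, 2, 3, 11], [2, 8, 24, 17, 4], [2, 4, 6, 6, 16, 5], [2, 9, 19, 10], [2, 7, 1, 9, 8], [2, 11, 8, 11], [2, 3, 1, 21, 17], [2, 0, 9, 3, 6], [2, 13, 7, 13], [2, 0, 16, 2, 23, 18], [2, 2, 21, 2, 23], [2, 0, 15, 2, 16], [2, 0, 8, 16, 18], [2, 1, 9, 0, 7, 6], [2, 2, 12, 22, 19], [2, 2, 13, 10, 1], [6, 24, 4, 11], [2, 5, 19, 6, 7], [2, 0, 12, 6, 22, 2], [2, 2, 7, 1, 17], [2, 2, 16, 8, 5], [2, 10, 4, 15, 21], [2, 0, 2, 12, 15, 19], [2, 1, 12, 8, 12], [2, 9, 2, 2, 16], [2, 1, 16, 7, 4], [6, 22, 6, 18, 14], [2, 0, 0, 0, 13], [6, 3, 24], [2, 7, 14, 3, 4], [6, 5, 21, 16], [2, 5, 5, 15, 4], [6, 14, 3, 24], [2, 1, 16, 2, 17, 15], [2, 5, 8, 15, 5], [2, 20, 5, 17], [2, 1, 17, 10, 19], [2, 1, 6, 5, 20], [6, 9, 8, 22], [2, 7, 6, 11], [6, 10, 22, 5], [2, 11, 7, 2, 24], [2, 15, 4, 9, 2], [6, 7, 7, 5], [2, 9, 4, 19, 14], [6, 22, 17, 5], [2, 3, 5, 2, 17], [2, 2, 15, 5, 2], [2, 2, 1, 7, 22], [6, 21, 1, 16], [2, 12, 6, 4], [2, 13, 20, 12, 0], [2, 12, 20, 4], [2, 4, 6, 23, 17, 0], [6, 3, 7, 18], [2, 2, 11, 1, 9], [6, 4, 3, 10, 22], [2, 1, 3, 2, 13, 16], [2, 1, 8, 2, 7, 24], [2, 2, 14, 8, 13], [2, 2, 15, 1, 0], [6, 8, 8, 22], [6, 8, 8, 11], [6, 11, 15, 18], [2, 20, 4, 2], [2, 0, 23, 6, 1, 7], [6, 18, 2, 12, 5], [2, 4, 13, 9], [2, 1, 0, 15], [2, 5, 0, 8], [2, 0, 23, 1, 11], [2, 13, 4, 14, 3], [2, 13, 4, 11], [2, 0, 6, 15, 5, 23], [6, 22, 23, 2, 15], [2, 0, 13, 8, 5], [2, 7, 5, 24, 4], [6, 21, 16, 22], [2, 0, 7, 4, 2], [2, 7, 15, 14, 4], [2, 11, 4, 4, 4], [6, 23, 8, 2, 14], [6, 5, 13, 0, 2], [2, 8, 14, 24], [2, 15, 5, 7], [2, 7, 21, 24, 7], [2, 3, 14, 22, 16], [2, 8, 5, 23, 22], [2, 11, 15, 1], [2, 7, 2, 13, 6], [2, 8, 5, 5], [2, 7, 23, 7], [2, 3, 1, 13, 1], [2, 16, 21, 6, 12], [2, 9, 17, 21], [2, 4, 6, 20, 9], [2, 14, 16, 2, 8], [2, 1, 1, 6, 19, 8], [6, 18, 3, 13], [2, 19, 8, 4, 9], [6, 15, 20, 23], [6, 18, 16, 6, 21], [6, 13, 23, 18], [6, 22, 6, 10, 24], [2, 23, 3, 2, 24], [2, 2, 11, 19, 2, 16], [2, 4, 1, 7, 12], [2, 4, 3, 19], [6, 3, 21, 1], [6, 3, 0, 2, 7], [2, 0, 7, 16, 9], [2, 0, 20, 6, 3, 10], [2, 12, 19, 2, 24], [2, 7, 3, 12, 18, 2], [2, 0, 5, 8, 19], [2, 8, 0, 5, 18], [6, 4, 16, 5], [2, 9, 2, 11, 19], [2, 1, 22, 6, 3], [2, 5, 19, 6, 11], [2, 1, 21, 6, 24], [2, 4, 15, 7, 6], [6, 0, 23, 15, 5], [6, 18, 12, 20], [2, 2, 9, 8, 15], [2, 11, 17, 2, 22], [6, 1, 1, 8], [2, 14, 7, 1, 0], [6, 1, 22], [2, 5, 12, 1, 6], [2, 5, 7, 23, 6], [2, 4, 6, 23, 16, 0], [2, 1, 11, 6, 3, 19], [2, 8, 4, 19, 2], [6, 13, 7, 11], [6, 9, 13, 2, 22], [2, 21, 12, 2, 10], [6, 9, 11, 4, 6], [6, 9, 1, 3], [6, 15, 20, 11], [2, 2, 10, 3, 24], [2, 10, 13, 1, 2], [2, 9, 19, 1, 17], [2, 1, 10, 19, 5], [2, 3, 5, 19, 14], [2, 0, 2, 15, 8, 8], [2, 2, 13, 16, 11], [2, 0, 18, 0, 8], [2, 2, 10, 4, 23], [2, 5, 6, 1, 18], [2, 2, 17, 22, 14], [6, 21, 9, 2, 10], [2, 10, 2, 12, 4], [2, 0, 3, 11, 23, 2], [2, 5, 17, 8, 24], [2, 19, 0, 21, 6], [6, 15, 2, 9, 1], [2, 2, 9, 6, 1, 0], [2, 10, 21, 3, 2], [2, 10, 2, 4], [2, 15, 8, 22, 2], [2, 19, 23, 2, 4], [6, 4, 3, 8, 15], [2, 15, 12, 4, 11], [6, 0, 20, 11], [2, 1, 12, 6, 18], [2, 2, 2, 23, 3], [2, 20, 3, 22, 4], [2, 16, 13, 11, 0], [6, 9, 6, 8, 18], [2, 12, 16, 14], [2, 1, 4, 18, 9], [2, 9, 16, 5], [2, 0, 1, 6, 9, 20], [2, 5, 22, 18, 4], [2, 1, 11, 0, 19, 6], [6, 11, 18, 2, 24], [2, 10, 2, 18, 9], [6, 4, 4, 23], [2, 4, 6, 8, 0], [6, 22, 1, 22, 6], [2, 0, 3, 16, 6, 16], [2, 14, 4, 9, 0], [2, 4, 1, 19, 6], [2, 1, 2, 23, 2, 16], [2, 24, 2, 2, 0], [2, 0, 1, 14, 2], [2, 9, 2, 21, 3], [6, 18, 14, 2, 21], [2, 7, 0, 0], [2, 1, 16, 7, 6, 3], [2, 0, 12, 4, 6, 10], [2, 1, 12, 20, 4, 2], [2, 2, 24, 12, 21], [6, 10, 2, 5, 7], [2, 3, 21, 0, 11, 6], [2, 8, 18, 2, 7], [6, 16, 20, 14], [2, 4, 12, 8, 6], [2, 1, 6, 10, 4], [2, 7, 21, 6, 12], [2, 3, 10, 16, 16], [6, 23, 6, 23, 19], [2, 3, 9, 15, 12], [2, 3, 18, 14, 20], [2, 3, 2, 13, 8], [2, 9, 2, 24, 1], [2, 2, 15, 22, 19], [6, 3, 20, 15], [6, 15, 11, 17], [2, 0, 0, 8, 2, 23], [2, 15, 18, 11, 4], [2, 8, 14, 22, 4], [2, 15, 6, 5, 15], [2, 11, 2, 11, 7], [6, 0, 7, 3], [6, 11, 15, 12], [6, 0, 2, 11], [6, 14, 4, 6, 4], [2, 9, 6, 14, 21], [2, 2, 9, 6, 24], [2, 3, 8, 23, 22], [6, 1, 19, 0, 6], [2, 3, 14, 2, 9], [6, 24, 0, 2, 17], [2, 4, 12, 18, 15], [2, 0, 8, 5, 6, 5], [2, 11, 6, 6, 8], [6, 19, 7, 21, 6], [2, 8, 4, 8], [2, 0, 6, 12, 5, 24], [2, 2, 7, 21, 6], [6, 10, 19, 6], [6, 11, 5, 9], [2, 1, 11, 6, 13, 22], [2, 3, 4, 3, 11], [2, 4, 3, 17, 23], [2, 4, 3, 22], [2, 10, 13, 0, 2], [2, 3, 7, 3, 21], [6, 6, 8, 18], [2, 3, 7, 21], [2, 17, 2, 2, 12], [2, 21, 2, 0, 11], [6, 18, 2], [2, 2, 7, 22, 5], [2, 7, 10, 21, 6], [2, 2, 21, 13, 6, 13], [2, 0, 20, 6, 15], [2, 4, 4, 14, 0], [2, 0, 6, 1, 23], [2, 3, 16, 7, 6], [2, 19, 14, 16, 6], [6, 15, 24, 1], [2, 0, 6, 5, 22], [2, 15, 6, 1, 3], [2, 10, 4, 20, 15], [2, 8, 6, 18, 10], [2, 10, 7, 14, 2], [6, 3, 5, 11, 6], [6, 5, 0, 12, 2], [2, 11, 1, 14, 0], [2, 8, 15, 7, 6], [6, 15, 6, 10, 2], [6, 4, 3, 21, 2], [2, 7, 5, 19, 12], [2, 1, 0, 12, 2, 9], [2, 3, 24, 6, 19], [2, 2, 9, 6, 4], [6, 5, 10, 3], [2, 19, 5, 6, 1], [2, 2, 22, 23, 15], [2, 17, 6, 14, 0], [2, 2, 16, 8, 14], [2, 4, 2, 2, 3, 17], [2, 17, 7, 3], [2, 14, 8, 6], [2, 8, 20, 22], [6, 23, 6, 12, 4], [2, 4, 16, 11, 8], [2, 8, 10, 0, 0], [2, 2, 19, 10, 5], [6, 9, 19, 23, 2], [6, 12, 21, 2, 19], [2, 9, 2, 3, 21], [2, 2, 20, 7, 19], [6, 9, 14, 2, 21], [2, 2, 7, 19, 10], [6, 12, 20, 2], [2, 0, 13, 0, 19], [2, 5, 17, 2, 19], [2, 4, 3, 6, 6], [2, 3, 24, 6, 7, 20], [2, 2, 18, 3, 1], [2, 11, 1, 1, 6], [6, 16, 14, 21], [2, 2, 15, 5, 18], [6, 0, 13, 24], [2, 4, 18, 0, 6], [6, 23, 6, 19, 2], [2, 5, 6, 21, 5], [2, 2, 7, 23, 7], [6, 10, 15, 21, 6], [2, 5, 22, 2, 2], [2, 2, 13, 12, 23], [2, 4, 20, 1], [2, 10, 2, 9, 5], [2, 4, 3, 6, 5], [2, 2, 10, 2, 24], [2, 3, 5, 17, 15], [2, 20, 2, 7, 12], [2, 11, 1], [2, 7, 2, 16], [2, 11, 3, 1], [2, 3, 0, 22, 6], [2, 1, 21, 9, 11], [2, 11, 5, 15, 9], [2, 7, 2, 12, 18], [2, 8, 10, 0, 13], [2, 3, 19, 11, 1], [2, 1, 16, 8, 12], [2, 1, 10, 23, 6, 13], [2, 12, 1, 6, 24], [6, 1, 17, 5], [2, 15, 10, 4, 18], [6, 13, 15, 12], [6, 11, 8, 13], [6, 15, 0, 7], [2, 2, 7, 9, 24], [2, 0, 11, 6, 14, 22], [2, 8, 0, 2, 11], [6, 3, 5, 19], [2, 2, 0, 21, 4], [6, 15, 12], [2, 22, 15, 5, 4], [2, 3, 17, 6], [2, 17, 6], [2, 9, 2, 0, 15], [6, 14, 16, 4, 2], [2, 2, 16, 11, 1], [2, 0, 0, 22, 10], [6, 23, 7, 23], [2, 2, 7, 0, 3], [6, 18, 7, 0], [6, 19, 22, 11], [2, 1, 16, 2, 23], [2, 1, 17, 16, 6, 22], [2, 4, 17, 10, 8], [2, 19, 12, 2], [2, 0, 15, 8, 20], [6, 12, 6, 13], [2, 20, 15, 23], [2, 4, 11, 4, 19], [2, 2, 13, 0, 3], [2, 23, 2, 1, 14], [6, 4, 1, 9], [2, 21, 6, 1, 17], [2, 19, 1, 4, 18], [2, 9, 1, 4], [6, 16, 21, 21], [6, 22, 7, 14], [6, 1, 7, 11, 2], [2, 7, 9, 7, 16], [2, 2, 15, 18, 0], [2, 12, 5, 5], [2, 0, 2, 4, 23, 12], [2, 11, 3, 23, 2], [6, 4, 12, 5], [6, 6, 12, 4], [2, 1, 15, 2, 2], [6, 8, 10, 15, 2], [2, 2, 10, 7, 20], [6, 14, 7, 9], [6, 7, 23, 8], [2, 12, 2, 18, 15], [2, 14, 3, 16, 4], [2, 4, 1, 15, 19], [6, 16, 18, 23, 2], [2, 4, 7, 19], [2, 1, 0, 5, 14], [6, 16, 16, 5], [6, 9, 6, 16, 7], [6, 16, 8, 17], [6, 7, 15, 8], [2, 24, 6, 11, 1], [2, 1, 8, 2, 17, 10], [2, 3, 4, 2, 21, 14], [2, 3, 8, 13, 8], [2, 3, 1, 16, 8], [2, 16, 23, 12], [6, 7, 6, 14, 19], [2, 4, 2, 17, 4], [2, 0, 5, 6, 15], [2, 0, 11, 8, 22], [2, 23, 2, 7], [2, 2, 21, 10, 13], [2, 0, 5, 24, 3], [2, 7, 6, 0, 18], [2, 10, 4, 18, 10], [6, 22, 3, 17], [6, 12, 22, 8], [2, 0, 1, 2, 19, 22], [2, 0, 22, 16, 7], [2, 0, 20, 8, 10], [2, 0, 14, 8, 10], [6, 3, 15, 13, 6], [2, 3, 1, 12, 1], [2, 3, 1, 17, 11], [2, 5, 2, 24, 17], [6, 7, 2, 2, 15], [6, 5, 7, 10, 2], [6, 15, 23, 12], [2, 4, 7, 6, 5], [2, 22, 0, 15, 0], [6, 6, 1, 6, 9], [2, 7, 4, 11], [6, 7, 3, 9], [2, 4, 7, 0, 10], [2, 0, 6, 23, 5, 17], [2, 3, 23, 4, 9], [6, 0, 13, 21, 7], [6, 11, 8, 15], [2, 3, 18, 2, 10, 6], [2, 9, 7, 23, 3], [2, 4, 16, 22, 6], [2, 5, 4, 16, 14], [2, 3, 15, 8, 1], [2, 11, 1, 4], [2, 21, 5, 13], [2, 9, 5, 16, 2], [6, 16, 11, 3], [2, 17, 7, 3, 4], [2, 9, 16, 4, 19], [2, 5, 6, 18, 5], [6, 4, 9, 16, 14], [2, 2, 9, 14, 16], [2, 0, 3, 5, 19], [6, 16, 2, 19, 21], [2, 4, 9, 8, 0], [6, 4, 16, 21, 13], [6, 16, 18, 5], [6, 15, 6, 14, 15], [2, 0, 21, 2, 10, 14], [6, 21, 9, 20, 2], [6, 7, 10, 0, 2], [2, 12, 16, 14, 4], [6, 12, 2, 1, 16], [2, 22, 15, 6, 6], [2, 0, 2, 5, 7, 1], [2, 1, 16, 14, 16], [6, 17, 2, 16, 2], [2, 0, 7, 17, 2, 17], [2, 8, 2, 2, 3], [6, 1, 0, 19], [2, 5, 3, 5, 2, 12], [6, 11, 16, 5], [2, 4, 8, 5, 6], [2, 8, 4, 22], [6, 4, 21, 6, 22], [2, 22, 9, 5], [2, 3, 23, 16, 1], [2, 9, 1, 1], [2, 9, 2, 11, 8], [6, 11, 23, 14], [2, 8, 4, 8, 1], [6, 24, 17, 7], [2, 10, 2, 19, 0], [2, 16, 2, 1, 9], [2, 2, 24, 17, 2], [2, 2, 9, 22, 2], [6, 18, 2, 22, 3], [2, 0, 1, 14, 2, 10], [6, 15, 6, 14, 18], [2, 8, 4, 3, 18], [6, 11, 6, 23], [6, 1, 15, 0], [6, 19, 15, 13], [2, 7, 4, 6, 24], [6, 5, 19, 1, 2], [2, 23, 8, 24, 0], [2, 13, 4, 15, 13], [2, 4, 8, 9, 16], [2, 1, 10, 2, 7, 19], [6, 9, 13, 2, 11], [2, 0, 10, 8, 21, 2], [6, 0, 2, 8, 21], [6, 18, 2, 2, 1], [2, 2, 16, 21, 6, 1], [2, 9, 16, 17, 2], [2, 2, 20, 16], [2, 13, 19, 3, 6], [2, 17, 6, 11], [2, 11, 15, 5, 4], [2, 0, 13, 0, 7], [2, 0, 8, 23, 13, 2], [2, 0, 18, 2, 17], [2, 10, 4, 23, 19], [6, 5, 5, 22], [2, 10, 2, 24, 16], [6, 14, 4, 6, 1], [6, 1, 6, 24, 2], [2, 4, 2, 9, 3], [2, 9, 6, 22, 10], [2, 1, 3, 12, 1], [6, 6, 20, 10], [2, 8, 1, 13, 20], [2, 1, 2, 2, 9], [2, 0, 6, 22, 5, 16], [6, 10, 15, 14, 2], [2, 9, 0, 6, 3], [2, 19, 0, 23, 2], [2, 0, 2, 4, 12, 1], [2, 9, 6, 23], [2, 7, 14, 7], [2, 17, 2, 17, 8], [2, 3, 5, 2, 19, 8], [2, 24, 2, 15, 0], [2, 2, 15, 11, 2], [6, 7, 6, 24], [2, 0, 12, 7, 11], [2, 4, 10, 18], [2, 4, 1, 8, 24], [2, 4, 3, 6, 24], [6, 6, 8, 17], [2, 2, 0, 16, 20], [2, 12, 1, 8], [6, 16, 2, 16, 7], [2, 17, 4, 6, 7], [6, 3, 13, 1], [6, 18, 7, 22], [2, 0, 20, 6, 18, 5], [2, 5, 6, 14, 21], [2, 3, 16, 7, 2, 1], [6, 1, 23], [2, 4, 6, 20, 15, 4], [2, 15, 22, 10, 4], [2, 0, 8, 18, 2], [2, 4, 8, 10], [6, 9, 6, 23, 13], [2, 11, 20, 0], [2, 4, 9, 5, 14], [2, 14, 15, 4], [2, 8, 13, 5, 6], [2, 19, 9, 0], [2, 0, 21, 8, 14], [6, 4, 6, 4, 22], [6, 14, 0, 24, 2], [2, 2, 21, 20, 22], [2, 9, 19, 4], [2, 2, 2, 0, 15], [2, 0, 2, 0, 24, 5], [2, 8, 16, 18, 21], [2, 1, 1, 22, 7], [2, 2, 0, 21, 1], [6, 6, 6, 6, 13], [2, 10, 7, 3, 4], [2, 4, 8, 3], [2, 4, 8, 15, 10], [2, 4, 1, 8], [2, 0, 8, 16, 17], [2, 22, 4, 18], [2, 5, 6, 16], [2, 3, 2, 9, 6], [2, 5, 2, 22, 20], [2, 3, 12, 1, 21], [2, 23, 2, 7, 0], [2, 9, 4, 5], [6, 5, 17, 10], [2, 2, 19, 14, 1], [2, 0, 1, 2, 14, 18], [2, 0, 9, 6, 23, 21], [2, 13, 7, 16], [2, 16, 13, 9], [2, 3, 16, 20, 13], [2, 4, 2, 17], [2, 4, 2, 17, 3], [2, 1, 2, 23, 8], [6, 7, 2, 2, 9], [2, 2, 16, 9, 2, 20], [6, 12, 16, 7], [6, 5, 23, 11], [6, 12, 3, 24], [6, 11, 6, 20, 8], [2, 8, 9, 6], [2, 0, 0, 15, 12], [2, 2, 9, 22, 17], [2, 24, 3, 20, 4], [2, 5, 9, 6, 12], [6, 17, 8, 16], [2, 14, 3, 6, 12], [2, 5, 2, 17, 4], [2, 19, 22, 4], [6, 13, 22, 14], [2, 3, 13, 16, 2, 19], [2, 5, 6, 18], [2, 1, 22, 0, 18], [2, 8, 20, 0, 7], [2, 4, 3, 23, 11], [2, 9, 2, 21, 23], [6, 16, 16], [2, 2, 14, 0, 18], [6, 15, 8, 17], [2, 9, 21, 4, 18], [2, 0, 5, 19, 22], [6, 13, 0, 14], [2, 9, 2, 24], [2, 7, 0, 2, 24], [2, 8, 0, 11], [2, 4, 7, 17, 16], [2, 1, 3, 6, 13, 3], [6, 9, 14, 2, 24], [2, 8, 10, 4], [6, 24, 5, 12], [2, 0, 8, 23, 5], [6, 4, 3, 2, 3], [2, 1, 10, 18, 20], [2, 12, 5, 15, 21], [2, 2, 0, 24, 1], [2, 5, 5, 22, 2], [2, 15, 24, 3, 4], [2, 8, 22, 17, 4], [6, 11, 17, 0], [2, 11, 22, 6, 10], [2, 9, 4, 1, 22], [2, 0, 5, 15, 9], [2, 0, 6, 22, 2, 14], [2, 4, 8, 4, 20], [2, 20, 5, 18], [2, 3, 5, 16, 17], [6, 10, 8, 8, 2], [2, 2, 13, 24, 15], [2, 9, 1, 10, 4], [2, 2, 24, 8], [6, 16, 2, 4, 5], [2, 8, 2, 2, 5], [2, 0, 14, 6, 5, 22], [2, 10, 2, 4, 18], [2, 20, 24, 6, 19], [6, 3, 19, 6, 8], [6, 22, 16, 2, 21], [2, 16, 2, 2, 10], [6, 3, 13], [6, 15, 20, 17, 2], [6, 16, 10, 3], [2, 2, 19, 14], [2, 8, 12, 15, 4], [2, 0, 6, 4, 4, 9], [2, 20, 5, 4, 2], [2, 0, 23, 5, 13], [2, 10, 4, 1], [6, 16, 2, 18, 20], [2, 1, 21, 6, 0, 13], [2, 0, 14, 0, 2, 21], [6, 4, 9, 16], [2, 3, 23, 6, 16, 19], [6, 10, 23, 6, 12], [6, 12, 2, 4, 1], [2, 0, 16, 1, 15], [2, 0, 1, 6, 12, 4], [6, 22, 23, 14], [6, 3, 8, 21], [2, 14, 6, 23, 9], [6, 15, 6, 19, 15], [2, 2, 15, 24], [6, 12, 15, 23], [2, 2, 20, 12, 18], [6, 0, 1, 11, 2], [2, 2, 5, 11, 6, 6], [2, 8, 22, 2, 16], [6, 9, 23, 5], [6, 15, 8, 8, 6], [2, 2, 22, 20, 21, 2], [6, 7, 3, 20, 6], [6, 5, 21], [2, 16, 7, 2, 3], [2, 2, 13, 18, 10], [2, 13, 20, 4], [2, 19, 4, 7, 13], [2, 22, 8, 18, 6], [2, 0, 7, 15, 24], [2, 10, 5, 4, 21], [2, 8, 14, 18, 4], [2, 21, 21, 7, 6], [2, 2, 7, 6, 24, 6], [2, 4, 6, 7, 6], [2, 7, 2, 11, 4], [2, 15, 11, 24, 6], [2, 3, 9, 15, 15], [2, 20, 13, 7], [2, 8, 1, 19, 23], [6, 15, 4, 11, 6], [6, 4, 7, 13, 6], [2, 17, 6, 19, 6], [2, 13, 16, 18], [2, 4, 2, 2, 13, 8], [2, 3, 7, 19, 2], [2, 4, 7, 19, 0], [2, 0, 14, 4, 20], [2, 0, 0, 24, 6, 21], [2, 0, 20, 6, 14, 20], [2, 10, 13, 6, 1], [2, 20, 15, 15, 0], [2, 0, 2, 5, 6, 10], [2, 15, 15, 0, 9], [2, 3, 22, 4, 22], [2, 4, 21, 1, 9], [6, 9, 6, 20, 17], [2, 2, 1, 8, 9], [2, 4, 15, 15, 13], [2, 0, 9, 3, 24], [2, 3, 4, 19, 9], [2, 15, 2, 21, 1], [2, 21, 5, 0], [2, 3, 4, 9, 2, 19], [2, 1, 13, 6, 13, 5], [2, 11, 15, 24, 22], [2, 8, 16, 22, 14], [2, 0, 17, 4, 10], [2, 14, 3, 16], [2, 10, 5, 19], [2, 1, 23, 11, 4], [6, 15, 17, 21, 6], [6, 12, 6, 14], [2, 3, 1, 21, 3], [2, 8, 18, 12, 8], [2, 10, 7, 3, 21], [2, 8, 18, 15, 11], [2, 9, 16, 23, 11], [2, 3, 14, 20, 16], [2, 5, 8, 13, 2], [6, 24, 6, 15], [2, 2, 1, 23, 13], [2, 2, 23, 11, 1], [2, 13, 17, 0], [2, 0, 14, 5, 6, 8], [6, 18, 22, 11], [2, 2, 14, 5, 5], [2, 8, 3, 4, 10], [2, 2, 4, 18, 23], [6, 0, 14, 5, 12], [2, 7, 6, 1, 20], [2, 9, 4, 13, 6], [2, 4, 15, 24, 15], [2, 5, 15, 0, 11], [2, 4, 22, 5, 7], [2, 14, 17, 13, 6], [2, 0, 6, 22, 5, 17], [2, 9, 16, 4, 22], [6, 3, 16, 0, 23], [2, 2, 15], [2, 9, 2, 19, 16], [2, 22, 2, 1, 22], [6, 16, 18, 21], [2, 7, 6, 4, 19], [2, 11, 4, 23, 1], [6, 4, 1, 15], [2, 0, 5, 12, 19], [2, 0, 7, 24, 2, 9], [2, 19, 9, 1, 4], [6, 3, 22, 15], [6, 22, 13], [6, 5, 18, 2, 7], [2, 8, 16, 5, 2], [2, 2, 11, 22, 17], [6, 12, 16, 14], [6, 18, 1], [6, 16, 2, 17], [6, 12, 21, 0], [2, 9, 4, 5, 5], [2, 2, 13, 16, 0], [6, 3, 13, 23], [2, 2, 10, 17, 9], [2, 2, 17, 8, 12], [2, 1, 15, 5, 0, 6], [2, 0, 0, 18, 24], [2, 11, 16, 19, 6], [2, 19, 5, 2], [2, 5, 17, 2, 21], [2, 17, 2, 18, 11], [6, 24, 6, 15, 11], [2, 2, 22, 6, 0], [2, 0, 9, 19, 7], [2, 1, 13, 6, 14, 4], [2, 4, 6, 14, 15], [2, 9, 6, 21, 5], [6, 6, 12], [2, 8, 2, 5, 9], [2, 4, 4, 15, 14], [2, 8, 5, 7, 3], [2, 9, 5, 7, 5], [2, 5, 6, 11, 23], [2, 0, 15, 2, 18], [2, 7, 0, 21, 23], [2, 0, 15, 5, 3], [2, 22, 1, 1, 6], [2, 2, 0, 6, 11, 4], [2, 0, 6, 23, 0, 11], [6, 16, 9, 13], [2, 5, 10, 6, 15], [6, 14, 16, 19, 6], [2, 9, 2, 7, 6], [2, 2, 4, 5, 22], [2, 1, 12, 6, 13, 15], [6, 22, 17], [6, 8, 17, 0], [6, 9, 22, 14], [2, 5, 10, 6, 1, 0], [2, 2, 21, 0, 23], [2, 17, 13, 10, 4], [6, 4, 13, 18, 15], [2, 2, 7, 6, 1, 1], [2, 1, 10, 23, 2, 16], [2, 22, 6, 4, 2], [2, 1, 9, 8, 16], [2, 0, 2, 7, 1, 21], [2, 1, 23, 16, 7], [2, 5, 12, 0, 12], [2, 4, 17, 4, 14], [2, 13, 22, 6, 23], [2, 3, 10, 13, 2], [2, 0, 6, 5, 3, 13], [2, 2, 8, 21, 13], [6, 5, 5, 6, 8], [6, 4, 9, 1], [6, 4, 3, 16], [6, 0, 1, 19, 13], [2, 1, 19, 21, 16, 2], [6, 11, 1, 6, 3], [2, 4, 6, 16, 20], [2, 4, 2, 24], [6, 1, 14, 6, 10], [2, 2, 0, 24], [2, 9, 1], [2, 12, 8, 19], [2, 1, 13, 7, 2], [2, 5, 2, 24, 7], [2, 3, 4, 6, 18], [2, 4, 4, 11, 19], [2, 11, 7, 13, 1], [2, 15, 18, 24], [2, 3, 23, 16], [2, 0, 2, 5, 7], [2, 1, 21, 6, 17, 23], [2, 0, 5, 17, 10], [2, 1, 0, 1, 23], [6, 8, 21, 14], [6, 0, 11, 4, 10], [2, 14, 6, 9, 20], [2, 14, 6, 13], [6, 12, 2, 21, 4], [2, 0, 11, 2, 19, 17], [2, 1, 15, 7, 13], [2, 13, 5, 18], [2, 1, 7, 23, 4], [2, 2, 22, 2, 5], [2, 13, 5, 12], [2, 16, 18, 15, 2], [2, 13, 11, 2], [2, 0, 0, 9, 14, 2], [2, 0, 5, 13], [6, 7, 16, 7], [6, 19, 11, 7], [2, 0, 1, 2, 10, 20], [6, 9, 11, 23], [2, 14, 1, 12, 4], [2, 8, 4, 24, 7], [2, 12, 8, 22, 4], [6, 21, 0, 17], [6, 11, 18, 23], [2, 0, 7, 24, 2], [2, 22, 14, 3, 4], [2, 2, 15, 17], [6, 22, 14, 17], [2, 5, 19, 6, 16], [6, 11, 2, 21, 5], [2, 0, 7, 7, 22], [2, 0, 7, 13, 9], [6, 6, 9, 4], [2, 7, 10, 2, 8], [2, 3, 22, 1, 13], [6, 6, 18, 21], [2, 0, 14, 5, 2], [2, 14, 23, 10], [2, 2, 0, 14, 24], [2, 13, 19, 23], [2, 1, 6, 24, 5, 7], [2, 4, 4, 19, 4], [2, 3, 2, 7, 0], [2, 4, 24, 3, 20], [6, 4, 12, 1, 2], [6, 19, 6, 24, 8], [6, 9, 6, 0, 11], [2, 19, 14, 2, 18], [2, 3, 15, 12], [2, 3, 15, 6, 4, 19], [2, 3, 21, 17, 5], [2, 3, 2, 21, 11], [2, 7, 3, 23, 18], [6, 15, 6, 18, 15], [2, 1, 12, 6, 8, 11], [6, 15, 13, 16, 6], [6, 0, 14, 24], [2, 1, 8, 9, 6, 1], [2, 2, 8, 18, 8], [2, 2, 7, 7, 0], [2, 2, 14, 22], [2, 4, 16, 2, 12], [6, 24, 6, 16], [2, 24, 20, 2, 18], [6, 8, 9, 5], [2, 1, 12, 3, 2, 7], [2, 4, 7, 9, 18], [2, 0, 9, 5, 17], [2, 17, 23, 4], [2, 4, 14, 19, 2, 14], [2, 5, 6, 24, 1], [2, 4, 10, 2, 12, 24], [2, 10, 4, 8, 9], [2, 0, 21, 2, 13], [6, 4, 11, 15, 13], [2, 2, 24, 17, 11], [2, 7, 4, 19, 21], [2, 0, 21, 21, 2, 7], [6, 11, 15, 9], [6, 3, 14, 18], [6, 9, 15, 21], [2, 11, 20, 6], [6, 20, 10, 15], [2, 14, 3, 4, 10], [2, 3, 11, 21, 17, 6], [2, 5, 7, 16, 2], [2, 4, 12, 15, 18], [2, 8, 8, 0, 11], [2, 0, 20, 17, 3], [2, 2, 7, 19, 5], [2, 2, 11, 22, 1], [2, 1, 0, 6, 22], [2, 1, 8, 17, 2], [2, 0, 11, 6, 7, 11], [2, 10, 4, 1, 10], [6, 9, 0, 21], [2, 0, 20, 1, 10], [2, 17, 16, 7, 2], [6, 9, 11, 24], [6, 20, 8, 13], [2, 11, 0, 6, 16], [2, 1, 24, 18, 2, 5], [2, 2, 10, 0, 13], [2, 4, 2, 13, 10], [2, 2, 0, 3, 21], [2, 3, 15, 7], [2, 8, 16, 5], [2, 5, 19, 17, 4], [2, 0, 7, 0, 2, 23], [2, 13, 22, 10, 2], [2, 5, 6, 23], [2, 2, 21, 6, 10, 4], [2, 21, 15, 4], [2, 22, 10, 6, 14], [6, 4, 2, 20], [2, 9, 11, 0, 13], [2, 7, 5, 0], [6, 14, 24, 6, 16], [2, 21, 12, 2, 7], [6, 10, 16, 2, 2], [2, 2, 4, 10], [2, 13, 0, 2, 17], [2, 2, 10, 8], [2, 2, 12, 15], [2, 16, 13, 4], [6, 19, 6, 8], [2, 3, 8, 24, 2], [2, 5, 23, 0, 6], [2, 4, 2, 22], [6, 17, 2, 14, 21], [2, 3, 17, 6, 0], [2, 22, 15, 5], [2, 5, 8, 2, 7], [2, 0, 2, 4, 14, 16], [6, 15, 12, 0], [2, 2, 0, 21], [2, 1, 4, 3, 7], [2, 9, 15, 18, 9], [6, 6, 8, 17, 5], [2, 7, 14, 7, 5], [2, 0, 2, 4, 12], [6, 22, 14, 6, 18], [6, 18, 1, 11], [2, 2, 5, 17, 23], [2, 5, 2, 18, 4], [2, 2, 12, 15, 21], [6, 0, 17, 8], [2, 20, 18, 23, 4], [6, 10, 18, 22, 6], [2, 12, 2, 13, 17], [2, 4, 18, 18, 7], [2, 0, 12, 21, 7], [2, 0, 17, 8, 11], [2, 11, 3, 4], [2, 7, 0, 22, 23], [2, 0, 15, 8, 10], [2, 21, 15, 6, 24], [2, 1, 12, 6], [2, 4, 10, 2, 21], [6, 22, 16, 2, 5], [2, 4, 3, 10, 0], [6, 3, 19, 6, 15], [2, 16, 6, 24, 7], [2, 15, 10, 6, 19], [2, 0, 3, 5, 5], [2, 13, 20, 2, 0], [2, 0, 1, 15], [6, 1, 14, 0], [6, 13, 19, 22], [2, 16, 4, 13, 0], [2, 0, 9, 17, 2], [6, 17, 9, 7], [2, 2, 17, 2, 7, 6], [2, 0, 21, 6, 17, 6], [2, 17, 2, 1], [2, 2, 7, 2, 23], [6, 8, 23, 2], [2, 5, 6, 16, 5], [2, 3, 7, 0, 19], [2, 14, 0, 11], [2, 0, 7, 15, 23], [6, 16, 2, 0, 23], [2, 14, 16, 2, 9], [2, 1, 11, 0, 2, 23], [2, 5, 0, 16, 2], [6, 17, 2, 23], [2, 1, 2, 15, 15], [2, 14, 17, 17, 15], [2, 8, 21, 7, 16], [2, 0, 9, 6, 21, 1], [2, 14, 23, 16], [2, 15, 11, 23, 8], [2, 4, 4, 19, 1], [2, 19, 8, 10], [2, 1, 14, 16, 4], [2, 7, 9, 15, 10], [2, 10, 1, 2, 17], [2, 3, 17, 2, 1], [6, 14, 4, 12], [2, 20, 15, 0, 14], [2, 4, 22, 1, 9], [2, 0, 15, 2, 23], [6, 10, 19, 2], [2, 4, 3, 1], [6, 13, 7, 9, 2], [2, 5, 0, 2, 18], [2, 23, 2, 21, 7], [6, 16, 2, 7, 12], [6, 10, 21, 24], [6, 11, 23, 2, 2], [6, 5, 19, 0], [2, 2, 21, 3], [6, 7, 4, 10], [2, 1, 12, 6, 8], [6, 5, 17, 11], [2, 0, 5, 7, 10], [6, 10, 17], [2, 2, 13, 23, 7], [2, 15, 2, 13], [6, 7, 16], [6, 11, 6, 15, 21], [2, 3, 15, 6, 10, 19], [6, 21, 1, 16, 2], [2, 1, 6, 23, 17, 3], [2, 5, 7, 18, 22], [2, 0, 0, 15, 5, 2], [2, 5, 18, 0, 13], [2, 14, 16, 5, 16], [2, 10, 1, 20, 24], [6, 18, 6, 7, 22], [2, 8, 24, 17, 5], [2, 7, 2, 3, 23], [2, 17, 5, 0], [2, 7, 2, 17, 12], [2, 5, 20, 1, 19], [2, 12, 6, 4, 2], [2, 1, 6, 14, 24], [2, 7, 6, 15, 1, 2], [2, 1, 7, 17, 12], [2, 22, 5], [2, 22, 3, 5], [2, 11, 1, 0], [2, 5, 12, 1], [2, 1, 3, 21, 8], [2, 13, 23, 1, 6], [2, 10, 1, 20], [6, 6, 3, 6], [2, 5, 7, 23], [2, 2, 10, 2, 24, 0], [2, 3, 0, 8, 16], [2, 0, 8, 17, 2, 4], [2, 12, 20, 4, 2], [2, 2, 1, 17, 2, 5], [6, 14, 1, 2, 3], [6, 8, 17, 11], [2, 7, 11, 4, 15], [2, 4, 10, 1, 6], [6, 9, 3, 10], [2, 21, 4, 13, 20], [6, 4, 3, 0], [6, 12, 2, 11, 4], [2, 9, 5, 2, 1], [6, 3, 24, 20], [6, 22, 17, 21], [2, 0, 1, 2, 13, 23], [6, 7, 17, 20], [2, 2, 16, 21, 2], [6, 11, 5, 11, 2], [2, 5, 0, 2, 19, 18], [2, 21, 4, 19, 2], [2, 3, 4, 3, 12], [2, 1, 22, 2, 15], [2, 2, 1, 19, 23], [2, 4, 1, 8, 5], [6, 7, 2, 18], [6, 9, 5, 12], [2, 21, 2, 22, 17], [2, 0, 3, 12, 6, 5], [2, 2, 0, 13, 10], [2, 5, 2, 3, 10], [2, 15, 18, 14], [2, 1, 4, 14, 21], [2, 16, 23, 9, 8], [2, 1, 17, 5, 20], [6, 22, 18, 2, 20], [2, 5, 5, 3, 20], [2, 16, 23, 15], [2, 5, 12, 4], [6, 21, 9, 20, 6], [2, 16, 24, 13, 23], [6, 23, 18, 11, 6], [6, 7, 11, 2, 2], [6, 12, 2, 13, 11], [2, 4, 3, 1, 22], [2, 3, 23, 0, 22], [2, 3, 15, 0, 14], [2, 5, 6, 19, 13], [2, 1, 20, 9, 0], [6, 19, 7, 21, 2], [2, 17, 2, 1, 23], [2, 17, 2, 16, 22], [2, 9, 2, 22, 24], [2, 2, 4, 13, 8], [2, 13, 12, 20, 4], [2, 2, 11, 20, 16], [6, 13, 23], [2, 19, 7, 4, 20], [6, 14, 23, 15], [2, 0, 2, 12, 6, 1], [6, 14, 0, 13], [2, 1, 19, 17, 6], [6, 15, 10, 5], [6, 16, 24, 6, 13], [2, 2, 24, 16, 19], [2, 10, 8, 2, 4], [2, 10, 2, 5, 4], [2, 14, 4, 6, 15], [2, 16, 2, 5, 8], [2, 7, 24, 3, 0], [2, 7, 15, 0, 11], [2, 1, 1, 4, 11], [2, 3, 8, 0, 12], [2, 8, 0, 17, 19], [2, 0, 18, 8, 15], [2, 5, 6, 18, 24], [2, 13, 0, 2, 18], [6, 18, 16, 21], [2, 1, 22, 6, 8], [6, 18, 22, 15], [2, 2, 5, 24], [2, 8, 19, 24, 4], [2, 10, 4, 23, 9], [2, 0, 7, 15, 6, 10], [2, 0, 2, 5, 20], [2, 8, 1, 1], [2, 4, 2, 7, 19], [2, 23, 15, 14], [2, 8, 14, 22, 12], [2, 2, 9, 23, 0], [2, 8, 21, 11, 17], [2, 24, 10, 6, 10], [2, 9, 3, 7, 23], [2, 7, 16, 17], [2, 15, 24, 10], [2, 1, 6, 13, 2, 16], [2, 12, 1, 13, 7], [2, 1, 4, 16, 2], [2, 9, 6, 23, 5], [2, 13, 4, 6, 22], [2, 2, 10, 8, 17], [2, 12, 0, 5], [6, 18, 16, 22], [6, 15, 6, 8, 16], [6, 5, 14, 24], [2, 9, 2, 18, 13], [2, 3, 0, 9, 19, 2], [6, 4, 3, 22, 6], [2, 2, 8, 6, 8], [2, 4, 9, 20, 9], [2, 0, 18, 8, 11], [2, 10, 2, 16, 4], [2, 8, 0, 12], [2, 3, 14, 2, 14], [6, 3, 19, 13, 6], [2, 10, 2, 0, 19], [2, 0, 6, 0, 12, 5], [2, 20, 5, 4], [2, 5, 5, 7, 19], [2, 13, 7, 23], [2, 8, 21, 9, 15], [2, 2, 9, 0, 5], [2, 5, 4, 19, 10], [2, 0, 5, 16, 5, 2], [6, 16, 13, 6], [6, 5, 17, 12], [2, 11, 20, 0, 5], [6, 1, 23, 5], [6, 10, 13, 15], [2, 2, 5, 3, 0], [2, 2, 5, 20, 9], [2, 11, 2, 3, 1], [2, 1, 16, 20, 2], [2, 3, 8, 0, 15], [2, 7, 4, 2, 14], [2, 0, 1, 12, 5], [2, 0, 11, 22, 3], [2, 7, 0, 15, 22], [2, 0, 8, 24, 21], [6, 15, 2, 0, 20], [2, 10, 2, 12, 6], [6, 16, 9, 8], [2, 15, 2, 7], [6, 4, 16, 20], [6, 20, 18, 8], [2, 7, 0, 0, 23], [6, 22, 23, 7], [2, 5, 5, 15, 6], [2, 1, 20, 17, 2], [6, 0, 5, 15, 15], [2, 2, 15, 19, 10], [2, 21, 4, 2, 13], [6, 23, 22, 14], [2, 1, 1, 6, 20, 4], [2, 19, 3, 24, 6], [2, 24, 9, 2, 15], [2, 4, 1, 8, 11], [2, 15, 14, 4, 14], [2, 4, 12, 2, 15], [2, 19, 7, 6, 3], [2, 4, 8, 15, 7], [2, 9, 2, 5, 11], [2, 0, 16, 11, 6, 12], [6, 10, 2, 22, 7], [6, 18, 22], [2, 0, 0, 15, 8], [2, 13, 3, 22, 4], [2, 11, 2, 11, 8], [2, 0, 16, 1, 17], [2, 1, 4, 16, 16, 2], [2, 19, 14, 16, 2], [2, 3, 16, 7, 2], [2, 0, 12, 0, 9], [2, 7, 15, 18, 9], [2, 3, 12, 17, 5], [2, 2, 16, 21, 11, 6], [2, 7, 7, 11, 23], [2, 9, 6, 18, 8], [6, 4, 16, 0, 6], [2, 2, 23, 5, 6], [2, 0, 6, 9, 5, 17], [2, 4, 15, 7, 23], [2, 0, 10, 1, 9], [2, 13, 18, 0], [2, 11, 2, 12, 2], [2, 17, 14, 20], [6, 6, 18, 14], [2, 19, 13, 24], [2, 8, 1, 18], [6, 6, 14, 17], [2, 0, 23, 1, 0], [6, 23, 6, 12], [2, 4, 7, 11, 7], [2, 10, 0, 21, 12], [2, 3, 4, 24, 13], [6, 3, 8, 17, 6], [2, 15, 5, 18, 6], [2, 16, 14, 7, 4], [2, 16, 20, 9, 6], [6, 16, 23, 3], [2, 5, 6, 1, 7], [2, 2, 20, 14, 21], [2, 0, 0, 8, 15], [2, 8, 4, 7, 10], [6, 7, 11, 1], [6, 8, 4, 21], [2, 15, 2, 8, 12], [2, 9, 2, 10, 22], [6, 16, 16, 12], [2, 4, 22, 7, 5], [2, 0, 5, 13, 24], [2, 8, 1, 6, 12], [2, 16, 1, 23, 2], [2, 8, 20, 22, 0], [2, 3, 17, 3, 5], [2, 7, 2, 14, 17], [2, 9, 14, 1, 14], [2, 5, 16, 1, 13], [2, 13, 19, 5], [2, 0, 9, 0, 0, 2], [2, 9, 2, 22, 16], [2, 5, 3, 2, 24], [2, 0, 0, 23, 14], [6, 5, 21, 14], [6, 17, 8, 19], [2, 2, 12, 0], [6, 16, 13, 20], [2, 7, 10, 18, 2], [2, 7, 24, 6, 8], [2, 19, 7, 3], [2, 8, 9, 7, 9], [6, 0, 0, 8], [2, 7, 7, 3, 13], [2, 0, 23, 4, 20], [6, 20, 0, 17], [6, 19, 16, 2, 22], [2, 9, 8, 20], [2, 16, 14, 23], [2, 3, 7, 5, 12], [2, 2, 9, 6], [2, 7, 16, 21], [6, 11, 20, 1, 6], [2, 14, 5, 6, 8], [6, 19, 6, 8, 21], [2, 0, 1, 18, 14], [6, 16, 17, 9], [2, 12, 6, 14, 4], [2, 0, 0, 15, 2, 1], [6, 5, 23, 10], [2, 17, 1, 6, 9], [2, 0, 7, 3, 2, 5], [2, 1, 3, 7, 0, 6], [2, 13, 18, 23, 5], [2, 3, 24, 12, 0], [2, 16, 5, 4], [2, 20, 15, 2, 11], [2, 2, 24, 2, 1], [2, 20, 3, 15, 2], [2, 4, 20, 2, 2], [2, 3, 15, 6, 16], [2, 11, 6, 22, 1], [2, 12, 16, 1, 4], [6, 10, 14, 19], [6, 15, 6, 10, 14], [2, 7, 6, 3], [6, 20, 15, 5], [6, 3, 12, 7], [2, 14, 3, 6, 9], [2, 0, 16, 1, 19], [6, 13, 21, 1, 6], [2, 2, 18, 14, 2, 0], [2, 0, 9, 19, 2], [6, 3, 16, 21], [6, 10, 14, 2, 9], [2, 8, 15, 23, 6], [2, 21, 13, 2, 4], [2, 4, 22, 7, 10], [6, 1, 21, 2], [6, 4, 18, 1, 13], [2, 1, 15, 2, 2, 12], [2, 8, 1, 19, 24], [2, 1, 0, 9, 0], [2, 7, 1, 1, 17], [2, 0, 2, 3, 5, 23], [2, 7, 12, 17, 20], [6, 14, 16, 2, 23], [6, 20, 18, 2, 1], [6, 1, 2, 12, 2], [6, 1, 21, 20], [2, 15, 12, 6, 21], [2, 5, 6, 23, 21], [2, 17, 2, 17, 22], [2, 1, 16, 2, 19, 10], [2, 16, 10, 8, 2], [6, 0, 16, 8], [2, 8, 4, 17], [6, 11, 6, 12, 2], [2, 10, 4, 8, 12], [6, 13, 10, 17], [6, 18, 13, 1], [2, 8, 23, 3, 4], [2, 2, 15, 23, 8], [2, 0, 5, 14, 18], [6, 5, 4, 19, 2], [2, 12, 23, 4], [2, 2, 16, 21, 17], [6, 4, 16, 0], [2, 5, 5, 21, 6, 4], [2, 11, 2, 7], [6, 12, 23, 15], [6, 3, 16, 20], [2, 0, 5, 13, 18], [6, 11, 2, 12, 1], [2, 2, 17, 5, 15], [2, 7, 4, 12, 3], [6, 3, 12, 8, 13], [2, 8, 4, 15, 7], [2, 4, 5, 15, 19], [2, 7, 20, 23, 4], [2, 3, 11, 22, 6, 11], [2, 2, 15, 18, 21], [2, 4, 7, 1, 8], [2, 7, 11, 4, 12], [2, 1, 21, 6, 9], [2, 14, 20, 2, 3], [2, 0, 14, 18, 7], [2, 4, 9, 19, 3], [2, 10, 5, 4], [2, 1, 11, 2, 17, 3], [2, 21, 24, 14, 4], [2, 2, 13, 8, 13], [2, 0, 17, 7, 0], [2, 8, 4, 23, 16], [6, 0, 12, 7], [6, 8, 20, 24], [6, 18, 2, 3, 16], [2, 3, 1, 7, 4], [2, 5, 3, 6, 18], [2, 12, 6, 0, 16], [6, 15, 8, 6, 6], [2, 2, 22, 6, 21, 3], [2, 3, 17, 15, 20], [6, 5, 0, 15], [2, 0, 2, 12, 2], [2, 7, 1, 17, 7], [2, 13, 17, 22], [2, 24, 1, 13], [6, 16, 4, 2, 18], [6, 12, 6, 7, 23], [2, 7, 3, 23, 12], [2, 0, 12, 0, 10], [2, 5, 2, 22, 2], [2, 3, 12, 15, 19], [2, 8, 13, 19, 17], [2, 12, 8, 18], [2, 7, 14, 3, 2], [6, 6, 1, 2, 22], [2, 2, 23, 2, 10], [2, 1, 11, 0, 20], [2, 2, 21, 1, 1], [2, 0, 3, 11, 16], [2, 2, 2, 13, 18], [2, 4, 13, 10, 13], [2, 0, 21, 1, 2, 4], [2, 20, 4, 13], [2, 4, 18, 1, 11], [2, 0, 9, 8, 11], [2, 0, 7, 13, 2, 24], [2, 0, 16, 8, 11], [2, 4, 6, 15, 0], [2, 1, 3, 8, 9, 2], [6, 4, 7, 6, 23], [6, 0, 6, 17], [2, 3, 8, 21, 11], [2, 3, 2, 12, 16], [2, 2, 20, 17, 6], [2, 1, 17, 4, 3], [6, 9, 2, 21, 7], [2, 11, 20, 2], [2, 17, 23, 1, 2], [2, 8, 1, 20, 22], [2, 7, 1, 1, 20], [2, 5, 5, 12], [6, 18, 2, 0], [2, 7, 24, 22], [2, 0, 2, 23, 4, 22], [2, 11, 0, 5, 6], [6, 12, 2, 18, 7], [2, 1, 0, 7, 24], [6, 1, 11, 24], [2, 2, 7, 5, 5], [2, 1, 15, 22, 6, 19], [2, 7, 0, 5, 19], [6, 11, 1, 18], [6, 15, 20, 13], [2, 1, 8, 2, 13, 20], [6, 8, 4, 24], [2, 2, 8, 2, 21, 4], [2, 2, 16, 21, 6], [6, 18, 2, 2], [6, 9, 5], [6, 4, 6, 4, 17], [2, 12, 2, 3, 19], [2, 11, 5, 6, 4], [2, 20, 23, 6, 11], [2, 7, 21, 10, 4], [6, 4, 15, 13], [6, 1, 22, 6, 3], [6, 21, 24, 5], [2, 2, 16, 22, 20], [2, 0, 0, 10, 5], [2, 23, 2, 8, 15], [6, 7, 4, 3], [6, 16, 2, 14, 22], [6, 7, 21, 11, 6], [6, 19, 6, 13, 4], [6, 3, 16, 0, 19], [2, 0, 6, 23, 6, 21], [2, 21, 4, 2, 14], [2, 11, 3, 2, 9], [2, 2, 8, 16, 16], [2, 0, 21, 1, 21], [2, 0, 14, 1, 9], [2, 2, 19, 0, 2, 7], [2, 2, 11, 5, 15], [6, 10, 16, 10], [6, 23, 8, 0], [2, 0, 13, 23, 0, 2], [6, 10, 16, 5], [2, 24, 9, 2, 9], [6, 9, 15, 6, 13], [6, 23, 13, 18, 2], [6, 0, 13], [2, 9, 20, 21, 2], [2, 8, 23, 3, 6], [2, 11, 15, 24, 6], [6, 4, 2, 7, 6], [6, 11, 1, 17], [2, 0, 0, 10, 21], [6, 17, 13, 20], [2, 15, 14, 6, 23], [2, 23, 1], [2, 8, 11, 19, 1], [2, 13, 5, 15], [2, 0, 16, 2, 4, 7], [6, 4, 1, 12], [2, 12, 16, 4, 23], [6, 16, 0, 12], [6, 15, 24, 17], [6, 0, 10, 23, 14], [6, 13, 4, 7], [6, 12, 6, 4, 3], [2, 9, 2, 2], [2, 9, 21, 11, 1], [2, 1, 3, 12], [2, 1, 6, 9, 7], [6, 22, 18, 16], [6, 18, 10, 7], [6, 22, 13, 8], [6, 0, 3, 18, 2], [2, 5, 6, 11, 18], [2, 4, 21, 20, 3], [2, 24, 6, 19], [2, 11, 6, 11], [6, 6, 3, 2, 24], [2, 0, 1, 1, 8], [2, 21, 0, 16, 6], [2, 7, 6, 16, 8], [6, 18, 1, 24], [6, 18, 20, 3], [2, 3, 24, 10, 4], [6, 4, 9, 6, 11], [2, 12, 7, 3, 0], [2, 4, 14, 21, 20], [2, 1, 22, 0, 11], [2, 12, 2, 20, 22], [2, 8, 1, 2, 2], [6, 3, 17, 10], [6, 21, 14, 0], [6, 10, 23, 11], [2, 11, 7, 2], [6, 14, 20, 13], [2, 8, 4, 3, 15], [2, 24, 20, 4], [6, 5, 8, 24], [6, 5, 17, 0], [2, 22, 6, 1, 8], [2, 0, 11, 0, 20, 2], [6, 3, 18, 12, 18], [2, 2, 9, 5, 22], [6, 20, 18, 23], [2, 1, 23, 1, 2, 11], [2, 0, 20, 6, 6, 12], [2, 4, 3, 22, 0], [2, 16, 23, 18], [2, 3, 2, 15], [2, 14, 8, 9], [2, 12, 8, 8, 23], [2, 14, 7], [6, 24, 2, 12, 2], [2, 1, 3, 2, 18, 15], [2, 16, 17, 4, 21], [2, 17, 0, 1, 11], [6, 15, 14, 16], [6, 17, 2, 15, 14], [2, 8, 5, 17, 15], [2, 7, 16, 21, 24], [2, 2, 11, 19, 0], [2, 3, 23, 6, 20, 5], [2, 4, 7, 22, 17], [2, 17, 0, 17, 17], [2, 1, 0, 6, 9], [2, 2, 22, 5, 9], [2, 0, 14, 8, 20], [2, 12, 0, 21], [2, 5, 6, 19, 14], [2, 19, 24, 15], [2, 2, 16, 9, 0], [2, 24, 12, 15], [2, 0, 14, 18, 6, 1], [6, 16, 11, 18], [2, 2, 5, 12, 21], [2, 2, 17, 19, 17], [6, 6, 12, 0, 6], [2, 19, 23, 1, 6], [2, 8, 0, 17, 8], [2, 4, 5, 13, 1], [2, 4, 8, 19, 17], [2, 5, 0, 17, 9], [2, 10, 1, 6], [2, 2, 8, 0, 1], [2, 0, 14, 18, 2], [2, 4, 14, 8, 18], [6, 23, 1, 14], [2, 1, 0, 15, 20], [6, 7, 6, 14, 5], [6, 23, 1, 15], [6, 12, 7, 6, 7], [2, 21, 2, 21, 21], [2, 10, 2, 21, 0], [6, 17, 16, 8], [2, 13, 0, 6], [2, 0, 5, 8, 17], [2, 10, 2, 23, 4], [2, 8, 11, 20], [2, 3, 23, 18, 1], [2, 7, 3, 1, 22], [2, 2, 1, 16, 2], [2, 3, 17, 0, 18], [2, 4, 12, 20, 16], [2, 22, 0, 21], [2, 5, 6, 9, 22], [2, 4, 18, 8, 20], [2, 0, 10, 7, 6, 13], [2, 9, 2, 5], [2, 0, 3, 16, 6], [2, 3, 19, 22, 15], [6, 9, 2, 7, 10], [6, 5, 11, 6, 4], [2, 10, 2, 7, 12], [2, 2, 4, 9, 7], [2, 14, 4, 6, 9], [6, 13, 19, 5, 2], [2, 9, 2, 11, 17], [2, 8, 17, 20], [2, 3, 2, 10, 5], [2, 1, 3, 13, 4], [2, 0, 2, 10, 23, 1], [2, 10, 15, 19], [6, 11, 18, 2, 22], [2, 13, 2, 13, 2], [2, 2, 8, 2, 7, 24], [6, 7, 16, 23], [6, 10, 16, 1], [6, 22, 8, 14], [2, 1, 2, 2, 20, 11], [6, 11, 23, 1], [2, 7, 9, 13, 4], [2, 15, 20, 13, 4], [2, 5, 20, 6, 7], [2, 0, 21, 1, 17], [2, 1, 2, 2, 24, 1], [2, 9, 2, 21, 7], [2, 13, 22, 6, 22], [6, 5, 22, 24], [2, 4, 19, 21, 2], [2, 0, 7, 24, 2, 12], [2, 0, 12, 3, 2], [2, 2, 24, 4, 13], [2, 5, 4, 16, 0], [2, 16, 22, 8, 4], [6, 22, 3, 6, 4], [6, 5, 9, 8], [6, 16, 21, 14], [6, 1, 19, 0, 17], [6, 9, 7, 2, 23], [2, 10, 15, 8, 4], [2, 5, 6, 19, 0], [2, 24, 14, 6, 21], [6, 22, 6, 21, 9], [2, 4, 17, 11, 23], [2, 12, 2, 13, 8], [2, 21, 2, 22, 24], [2, 7, 17, 6, 5], [2, 20, 1, 4], [2, 9, 21, 4, 7], [2, 24, 13, 4, 24], [6, 9, 13, 2, 24], [2, 7, 2, 9, 22], [2, 3, 22, 12, 1], [2, 1, 10, 18, 13], [6, 10, 6, 9, 3], [2, 9, 17, 6, 11], [2, 2, 13, 15, 18], [6, 9, 18, 7], [2, 7, 1, 2, 15], [6, 16, 12, 23], [2, 14, 7, 4, 6], [2, 10, 6, 6, 11], [2, 0, 1, 2, 20, 14], [2, 1, 10, 13, 4], [2, 24, 2, 0, 18], [6, 14, 4, 6], [6, 1, 10, 0, 2], [2, 19, 4, 7], [2, 8, 18, 2, 22], [2, 22, 0, 10, 6], [6, 15, 6, 17, 21], [2, 4, 10, 2, 2], [6, 9, 15, 17], [2, 7, 4, 18], [2, 4, 7, 0, 18], [2, 1, 6, 16, 11, 2], [2, 10, 21, 20, 4], [2, 2, 23, 10, 19], [2, 0, 3, 5, 23], [6, 16, 2, 19], [2, 2, 9, 24, 12], [6, 3, 9, 0, 15], [2, 7, 18, 4, 12], [2, 9, 6, 14, 3], [2, 7, 19, 23, 8], [2, 5, 3, 5, 14], [2, 2, 19, 0, 14], [2, 20, 10, 5], [2, 12, 19, 5], [2, 0, 20, 0, 7], [6, 24, 21, 2, 16], [6, 20, 7, 7], [2, 2, 15, 18, 19], [6, 18, 13, 8], [2, 9, 2, 1, 13], [6, 11, 16, 0], [2, 20, 1, 14, 4], [2, 9, 1, 4, 1], [2, 1, 2, 5, 18, 2], [2, 8, 0, 12, 1], [2, 23, 13, 7, 4], [2, 2, 20, 14, 15], [6, 15, 6, 9, 15], [2, 1, 18, 3, 6, 23], [2, 12, 4, 9, 2], [2, 8, 14, 22], [2, 7, 1, 3, 20], [2, 2, 7, 2, 5], [2, 4, 22, 8, 23], [2, 8, 23, 8, 4], [2, 15, 6, 7, 9], [2, 4, 16, 2, 5, 23], [2, 22, 15, 4], [2, 2, 11, 23, 9], [2, 7, 4, 1, 21], [2, 21, 4, 1], [6, 20, 18, 15], [6, 3, 20, 1], [2, 0, 17, 14, 2], [2, 3, 11, 4, 3], [2, 4, 3, 17, 9], [2, 4, 8, 5], [6, 13, 17, 19, 6], [2, 15, 18, 11], [2, 3, 1, 14], [2, 5, 2, 22, 14], [2, 7, 7, 6, 12], [6, 23, 10, 2], [6, 3, 24, 3, 8], [6, 7, 18, 0, 5], [2, 2, 21, 8], [6, 7, 6, 3], [2, 2, 9, 7, 1], [2, 22, 0], [2, 22, 3, 0], [2, 17, 21, 3, 4], [2, 4, 21, 20, 8], [2, 9, 24, 4], [2, 7, 15, 2, 10], [2, 13, 23, 22, 4], [2, 2, 22, 20, 21], [2, 0, 0, 20, 24], [2, 11, 7, 2, 22], [2, 7, 9, 18, 2], [2, 8, 6, 1, 14], [6, 1, 20, 7], [2, 13, 22, 4], [2, 0, 9, 6, 21, 23], [2, 13, 7, 12], [2, 23, 19, 16], [6, 6, 9, 19], [2, 8, 0, 2, 12], [2, 0, 5, 22, 9], [6, 9, 17, 15], [2, 2, 4, 15, 0], [6, 4, 8, 1], [2, 0, 21, 0, 10], [6, 23, 14, 0], [2, 16, 2, 2, 3], [2, 3, 16, 2, 5], [6, 0, 0, 20], [2, 16, 11], [6, 9, 6, 0, 24], [2, 22, 6, 14, 7], [2, 8, 15, 14, 4], [6, 9, 4, 20], [2, 2, 19, 2, 5, 3], [6, 22, 6, 17, 24], [2, 15, 2, 22], [2, 19, 5, 4], [6, 19, 21, 18], [6, 7, 19], [6, 24, 5, 18], [6, 3, 12, 19], [6, 9, 14, 2], [2, 10, 2, 9, 6], [6, 12, 17, 7], [2, 0, 9, 2, 18], [2, 8, 16, 22, 4], [2, 2, 19, 17, 5], [2, 0, 21, 1, 19], [6, 0, 16, 11, 24], [2, 9, 2, 22, 23], [6, 7, 6, 5, 16], [6, 3, 22], [2, 2, 8, 9, 11], [2, 0, 17, 5, 20], [6, 14, 3, 22], [6, 13, 1, 23], [6, 3, 9, 14], [6, 13, 1, 10, 6], [2, 1, 6, 9, 14, 16], [2, 1, 21, 3, 17], [2, 13, 5, 15, 22], [2, 3, 7, 22, 1], [2, 12, 5, 15, 19], [2, 3, 17, 5], [2, 5, 19, 0, 8], [6, 15, 2, 8, 19], [2, 7, 2, 9, 24], [2, 7, 2, 12, 23], [2, 1, 16, 0, 11], [2, 0, 2, 0, 19, 23], [2, 1, 16, 16, 13], [2, 1, 6, 10], [6, 6, 5, 6, 9], [2, 4, 17, 6, 23], [2, 7, 4, 8, 16], [6, 10, 16, 14], [6, 5, 14, 15], [2, 15, 22, 2, 7], [6, 10, 21], [2, 2, 13, 3, 2, 15], [6, 8, 13, 11, 6], [2, 13, 11, 6, 1], [2, 2, 8, 15, 10], [6, 5, 24, 13], [6, 16, 10, 19], [2, 0, 20, 14, 2, 1], [2, 11, 7, 4, 1], [6, 14, 20, 2, 21], [2, 14, 3, 6, 11], [2, 10, 2, 11, 4], [2, 2, 13, 17, 11], [2, 4, 18, 5, 11], [6, 24, 21, 20], [2, 0, 1, 2, 20, 1], [2, 0, 16, 1, 18], [2, 2, 18, 22, 2, 11], [2, 1, 2, 2, 11, 5], [2, 0, 0, 13, 2], [2, 22, 1, 2], [2, 4, 7, 12, 8], [2, 24, 0, 21], [2, 16, 18, 18, 2], [2, 15, 14, 24], [2, 14, 18, 7], [6, 20, 0, 15], [2, 9, 6, 21, 10], [2, 17, 6, 22], [2, 2, 0, 18, 4], [2, 7, 18, 1, 6], [2, 21, 2, 0, 18], [6, 18, 21, 7], [2, 0, 1, 13, 6, 4], [2, 4, 19, 1, 13, 2], [6, 7, 19, 6, 13], [2, 9, 7, 1, 19], [6, 0, 9, 16, 2], [2, 0, 2, 13, 20, 5], [6, 11, 24, 8, 2], [2, 5, 15, 2, 9], [2, 0, 21, 0, 11, 6], [2, 4, 16, 2, 1], [2, 17, 2, 10, 20], [2, 14, 6, 20, 13], [2, 7, 22, 19, 4], [2, 1, 0, 1, 24], [2, 4, 8, 6, 15], [2, 2, 20, 24, 1], [2, 4, 7, 19, 22], [2, 4, 15, 21, 24], [2, 0, 23, 6, 13, 7], [2, 3, 11, 18, 4], [2, 12, 15, 20, 6], [2, 17, 16, 7, 6], [2, 2, 1, 17, 2, 0], [2, 4, 10, 3, 1], [2, 13, 4, 2, 14], [2, 23, 2, 1, 11], [2, 13, 21, 2, 21], [2, 3, 19, 8, 5], [2, 8, 5], [2, 7, 9, 19, 21], [6, 7, 9, 6, 3], [6, 23, 13, 1], [2, 2, 20, 1, 13], [2, 4, 17, 19, 12], [6, 8, 12, 6, 3], [2, 20, 16, 4, 5], [2, 2, 19, 17, 0], [2, 2, 18, 20, 0], [2, 22, 8, 2, 1], [6, 1, 11, 5, 16], [2, 0, 17, 6, 23, 2], [2, 0, 14, 5, 6, 1], [6, 10, 4, 3, 6], [2, 8, 0], [2, 1, 21, 17, 6, 1], [2, 19, 7, 6, 18], [2, 17, 2, 8, 19], [2, 3, 7, 3], [2, 0, 2, 23, 5, 23], [6, 13, 9, 2, 21], [2, 9, 2, 11, 2, 23], [2, 2, 17, 1, 16], [6, 4, 8, 3, 23], [2, 2, 11, 17, 9], [2, 1, 21, 6, 24, 15], [6, 18, 19, 16], [2, 2, 20, 24, 13], [2, 8, 5, 4, 20], [2, 24, 2, 2, 21], [2, 2, 7, 0, 20], [2, 2, 14, 19, 0], [6, 15, 4, 3], [2, 0, 14, 0, 2], [2, 7, 19, 8], [2, 23, 3, 13], [2, 7, 7, 17, 13], [2, 21, 15, 12, 2], [2, 3, 23, 15, 11], [2, 0, 10, 8, 22, 6], [2, 0, 13, 6, 10], [2, 2, 7, 6, 13, 20], [2, 2, 15, 21, 19], [2, 1, 11, 2, 16, 20], [2, 8, 4, 12, 2], [6, 0, 23, 12, 2], [6, 10, 13, 23], [2, 0, 21, 2, 17, 1], [2, 7, 17, 6, 21], [2, 3, 14, 6, 15, 1], [2, 2, 18, 15, 10], [2, 21, 15, 2, 10], [2, 8, 18, 2, 15], [2, 4, 16, 6, 4], [2, 0, 6, 22, 0, 6], [2, 8, 4, 15, 2], [2, 11, 17, 2, 15], [6, 17, 23, 14, 6], [6, 17, 9, 3, 6], [2, 2, 15, 23, 6, 0], [6, 9, 15, 20, 6], [2, 0, 6, 22, 5, 0], [6, 13, 11, 19, 2], [6, 3, 16, 2, 2], [2, 0, 6, 23, 2], [2, 0, 21, 2, 12], [2, 1, 12, 6, 11, 18], [6, 13, 15, 14, 2], [6, 3, 11, 2, 15], [2, 1, 23, 16, 2, 11], [2, 24, 9, 2, 12], [2, 0, 7, 3, 2, 14], [2, 0, 6, 15, 14, 1], [6, 8, 5, 20, 6], [6, 4, 6, 22, 14], [6, 12, 24, 14, 0], [2, 2, 15, 19, 2], [6, 14, 8, 24], [2, 9, 3, 4, 11], [6, 19, 21, 13], [6, 16, 16, 9], [6, 24, 0, 21], [2, 2, 24, 9, 19], [6, 12, 8, 23], [6, 22, 14, 1], [2, 2, 20, 12, 1], [6, 15, 11, 1], [6, 3, 16, 0], [6, 0, 17, 24, 17], [6, 8, 24, 16], [2, 2, 15, 22], [6, 12, 7, 11], [6, 8, 19, 21, 3], [6, 22, 14, 8], [2, 2, 10, 23, 11], [6, 15, 19, 12], [6, 13, 2, 4, 21], [2, 17, 2, 20, 12], [6, 6, 23, 9, 2], [2, 0, 21, 2, 5, 4], [2, 23, 14, 6, 8], [2, 23, 2, 22, 16], [2, 1, 8, 2, 5], [2, 4, 7, 22, 6], [6, 6, 9, 6, 16], [2, 23, 2, 15], [2, 5, 6, 1, 15], [2, 0, 6, 24, 1, 20], [6, 22, 14, 6, 7], [6, 14, 2, 2, 2], [6, 22, 6, 24, 16], [2, 2, 19, 21, 1], [6, 0, 23, 15, 2], [2, 9, 2, 7], [2, 8, 5, 2, 7], [2, 2, 10, 4, 9], [2, 13, 22, 1, 2], [2, 16, 16, 17, 2], [2, 3, 14, 17, 2], [2, 4, 15, 21, 9], [6, 6, 8, 16, 6], [2, 8, 2, 23, 6], [6, 9, 22, 4, 2], [6, 24, 0, 10, 2], [2, 3, 9, 0, 2, 3], [6, 7, 2, 16, 2], [2, 16, 0, 13, 2], [2, 2, 24, 5, 2], [2, 0, 2, 12, 7, 6], [2, 13, 5, 11, 6], [2, 1, 7, 2, 2, 19], [6, 4, 20, 7, 10], [6, 19, 6, 13, 5], [2, 4, 6, 8, 14], [2, 0, 13, 6, 17, 6], [2, 7, 16, 13, 18], [6, 7, 1, 19, 2], [6, 21, 23, 6, 23], [6, 10, 2, 3], [6, 19, 7, 16, 2], [6, 3, 24, 2, 7], [2, 1, 8, 1, 6, 15], [2, 0, 13, 9, 8, 2], [2, 21, 6, 6], [2, 11, 18, 2, 18], [6, 1, 22, 2, 1], [2, 21, 2, 13, 2], [2, 2, 0, 23, 22], [2, 2, 8, 2, 0, 17], [6, 11, 2, 7, 9], [2, 0, 6, 1, 13, 22], [2, 3, 9, 4, 11], [2, 19, 6, 13, 10], [6, 13, 20, 6, 6], [2, 2, 23, 10, 2, 22], [6, 6, 5, 6, 10], [6, 6, 9, 6, 10], [2, 0, 22, 7, 6, 18], [2, 16, 24, 2, 13], [2, 1, 10, 2, 16, 12], [2, 23, 2, 24], [2, 0, 6, 5, 13], [2, 3, 16, 24, 2, 13], [2, 7, 4, 19, 5], [6, 14, 7, 6, 20], [2, 0, 2, 9, 4, 19], [2, 0, 2, 0, 10, 15], [2, 5, 22, 18], [6, 6, 9, 6, 8], [6, 20, 0, 10, 2], [2, 1, 2, 2, 19, 9], [2, 3, 16, 21, 2], [2, 10, 19, 2, 21], [2, 12, 0, 20, 6], [2, 3, 5, 16, 2, 18], [2, 4, 8, 16, 6], [6, 23, 17, 2, 20], [6, 15, 6, 17, 19], [2, 2, 4, 2, 1, 15], [2, 1, 16, 2, 21], [6, 24, 13, 6, 6], [6, 11, 6, 14, 15], [6, 11, 6, 7], [6, 11, 8, 24], [2, 4, 4, 7, 6, 24], [2, 13, 19, 4, 6], [2, 7, 12, 2, 2, 16], [2, 8, 9, 0, 2], [6, 10, 2, 13, 11], [2, 0, 14, 6, 12, 18], [2, 2, 19, 2, 15], [2, 4, 1, 24, 1], [2, 16, 22, 6, 7], [2, 3, 21, 13, 6, 13], [6, 1, 23, 2, 0], [2, 4, 14, 1, 13], [2, 0, 20, 6, 16, 18], [2, 7, 4, 5], [2, 2, 17, 9, 5], [2, 4, 14, 3], [2, 5, 17, 2, 7], [6, 18, 2, 9, 14], [2, 5, 6, 1, 22], [6, 10, 19, 0], [6, 12, 22, 6, 6], [6, 20, 5, 13], [2, 9, 4, 11], [2, 0, 15, 0, 12], [6, 18, 16, 6, 12], [2, 2, 2, 11, 23, 6], [2, 14, 3, 6, 20], [2, 2, 21, 10, 23], [2, 11, 2, 5, 7], [2, 11, 7, 20, 2], [6, 24, 7, 15], [2, 16, 6, 12, 7], [2, 20, 5, 0, 6], [2, 2, 20, 10, 2], [2, 0, 9, 6, 0], [2, 13, 4, 4], [2, 12, 7, 15, 6], [2, 1, 6, 0, 6, 11], [2, 4, 12, 6, 5, 19], [2, 23, 4, 4], [2, 0, 6, 22, 7, 2], [2, 14, 6, 15, 21], [2, 0, 5, 16, 4], [2, 2, 13, 8, 11], [2, 13, 2, 8, 23], [2, 1, 11, 7, 16], [2, 4, 16, 4, 19], [2, 9, 19, 1, 19], [2, 7, 10, 21, 6, 19], [2, 0, 17, 6, 3, 14], [2, 0, 2, 10, 0, 14], [2, 3, 18, 0], [2, 10, 2, 22, 10], [2, 4, 6, 10, 23], [2, 16, 0, 10, 6], [2, 3, 16, 7, 11], [2, 16, 21, 6, 21], [2, 20, 3, 22], [2, 3, 2, 17, 12], [2, 4, 4, 11, 20], [2, 3, 5, 6, 20], [6, 16, 1, 13], [2, 12, 0, 20, 22], [2, 7, 0, 8, 15], [2, 1, 1, 6, 12, 5], [6, 5, 8, 6, 9], [6, 9, 6, 0, 22], [2, 8, 17, 12], [2, 0, 1, 2, 12, 16], [2, 17, 9, 6, 1], [2, 0, 2, 24, 2, 0], [2, 2, 17, 12, 0], [2, 13, 3, 5, 6], [6, 11, 24, 14], [2, 2, 18, 9, 24], [2, 0, 0, 15, 20], [6, 3, 7, 15, 2], [2, 3, 2, 16, 19], [2, 7, 16, 12, 22], [2, 2, 8, 8, 2], [2, 9, 6, 21, 2], [6, 24, 6, 10, 14], [2, 0, 6, 5, 21, 5], [2, 14, 3, 0], [2, 4, 10, 17, 6], [6, 16, 2, 15, 7], [2, 11, 6, 6, 4], [6, 4, 7, 11], [2, 1, 9, 3, 2, 14], [6, 20, 9, 4, 6], [2, 8, 0, 2, 13], [2, 24, 4, 23, 7], [2, 5, 0, 22, 6], [2, 19, 4, 18, 10], [6, 3, 12, 17], [6, 7, 17], [2, 5, 4, 6, 8, 19], [6, 13, 21, 1], [2, 2, 18, 7, 14], [2, 2, 11, 21], [2, 2, 2, 20, 8, 6], [2, 15, 1, 2, 8], [2, 4, 15, 15, 17], [2, 0, 20, 8, 14], [6, 7, 1, 12, 2], [6, 18, 14, 2], [2, 0, 9, 6, 4, 4], [2, 10, 6, 6, 21], [2, 0, 1, 19, 2, 22], [2, 19, 0, 2, 14], [2, 11, 2, 16, 20], [2, 1, 12, 16, 8, 2], [2, 9, 19, 2, 0], [2, 10, 14, 1, 6], [2, 1, 6, 7, 10, 2], [6, 0, 12, 19, 16], [6, 6, 22, 6, 3], [2, 14, 21, 6, 13], [6, 13, 11, 24, 6], [2, 20, 3, 4, 1], [2, 7, 22, 6, 13], [2, 19, 23, 2], [2, 11, 1, 15, 6], [2, 8, 8, 1, 6, 17], [2, 3, 10, 2], [2, 17, 2, 15, 8], [2, 9, 2, 11, 1], [2, 5, 6, 19, 22], [2, 0, 23, 1, 6, 0], [6, 1, 20, 2, 9], [2, 4, 6, 4, 20], [2, 24, 3, 16, 0], [2, 10, 2], [2, 0, 2, 21, 24, 6], [2, 3, 4, 2, 21, 10], [2, 14, 1, 23], [2, 2, 18, 7, 6, 6], [2, 0, 6, 22, 0, 20], [2, 0, 6, 7, 6, 20], [6, 11, 2, 1, 14], [2, 8, 4, 6, 1, 6], [6, 11, 6, 11, 7], [2, 11, 2, 15], [2, 7, 1, 2, 24], [2, 2, 16, 21, 6, 11], [2, 1, 8, 2, 17, 23], [2, 0, 14, 1, 2, 0], [2, 4, 18, 5], [6, 13, 19, 2, 23], [2, 11, 6, 6, 18], [2, 2, 5, 10, 2, 5], [6, 7, 1, 12], [2, 23, 14, 6, 14], [2, 0, 6, 5, 3, 7], [2, 12, 2, 10, 5], [2, 9, 19, 2, 12], [6, 21, 24, 2], [2, 0, 15, 0, 12, 2], [2, 3, 15, 6, 22, 13], [6, 12, 22, 6, 22], [6, 5, 10, 2, 4], [2, 4, 17, 6, 0], [2, 24, 2, 3, 23], [2, 5, 14, 15, 19], [2, 12, 0, 6, 3], [2, 11, 2, 7, 3], [2, 10, 6, 6, 16], [6, 17, 16, 18], [2, 24, 17, 6, 20], [6, 10, 2, 7, 4], [2, 10, 2, 12], [2, 0, 20, 2, 16, 18], [2, 4, 1, 4, 2, 21], [6, 13, 9, 2, 19], [2, 9, 6, 16, 9], [2, 7, 9, 20], [6, 12, 2, 8, 18], [2, 4, 6, 16, 18], [2, 15, 2, 7, 2], [2, 17, 23, 1], [6, 4, 18, 10, 2], [2, 7, 1, 12, 18], [2, 9, 15, 19, 8], [2, 3, 7, 9, 20], [6, 12, 4, 17, 2], [2, 1, 3, 2, 19, 1], [2, 23, 2, 16, 20], [6, 0, 21, 11, 24], [2, 4, 8, 14, 6, 4], [2, 14, 6, 6, 11], [2, 0, 1, 8, 2, 3], [2, 1, 3, 16, 24], [6, 0, 5, 10, 2], [2, 2, 9, 2, 16], [2, 10, 1, 16, 14], [2, 1, 10, 13, 0], [2, 17, 2, 5, 0], [2, 0, 5, 20, 14], [2, 0, 21, 5, 9], [2, 13, 17, 2, 18], [2, 1, 12, 5, 2], [2, 0, 6, 19, 0, 8], [2, 0, 5, 21, 14, 6], [6, 16, 24, 13], [2, 15, 21, 6, 24], [2, 1, 2, 22, 8, 2], [6, 9, 2, 16, 6], [6, 18, 1, 15], [2, 22, 7, 6, 7], [2, 4, 24, 5], [2, 2, 16, 19, 4], [6, 21, 9, 14], [2, 5, 17, 2, 3], [2, 0, 8, 21, 0], [2, 2, 10, 13, 10], [6, 4, 15, 10], [2, 10, 8, 2, 1], [2, 9, 6, 20, 18], [6, 12, 6, 24, 2], [2, 8, 8, 20], [2, 10, 2, 0, 23], [2, 21, 2, 3, 11], [2, 0, 6, 1, 14], [2, 0, 3, 20, 7], [2, 3, 19, 0, 2, 16], [2, 0, 23, 2, 13], [2, 0, 8, 22, 10], [2, 10, 23, 2, 18], [2, 5, 6, 20, 4], [2, 7, 11, 22, 10], [2, 3, 1, 17, 19], [2, 21, 5, 20], [6, 16, 13, 5, 2], [2, 21, 15, 2, 11], [2, 9, 4, 4, 2], [2, 2, 19, 15, 13], [2, 5, 6, 1, 13], [2, 3, 14, 6, 13], [6, 17, 11, 2, 11], [6, 13, 21, 4], [6, 3, 11, 2, 12], [6, 13, 3, 23], [2, 2, 13, 4, 24], [2, 16, 6, 21, 19], [6, 16, 24, 13, 2], [2, 2, 17, 16, 9], [6, 18, 14, 20], [2, 8, 4, 12, 7], [6, 17, 6, 0, 2], [2, 0, 5, 5, 9, 2], [2, 3, 14, 21, 2, 4], [2, 4, 8, 6, 0], [6, 17, 21, 21, 6], [2, 1, 15, 8, 2, 17], [6, 9, 1, 7, 6], [6, 11, 2, 1, 18], [6, 22, 23, 19, 6], [6, 3, 6, 9, 6], [6, 17, 6, 23, 1], [6, 3, 7, 24, 6], [2, 14, 21, 6, 15], [6, 10, 14, 16, 2], [2, 7, 1, 2, 0], [2, 12, 4, 5, 17], [6, 11, 18, 8, 6], [2, 2, 17, 9, 6], [2, 17, 16, 2, 15], [2, 1, 11, 2, 12, 18], [2, 1, 8, 21, 11, 2], [2, 17, 2, 15, 14], [6, 18, 24, 11, 6], [2, 5, 6, 17, 19], [2, 10, 2, 22, 0], [2, 0, 2, 23, 0, 17], [2, 11, 19, 2, 8], [2, 0, 8, 12, 8], [6, 4, 20, 12, 6], [2, 0, 7, 17, 2, 8], [2, 1, 11, 3, 2, 23], [6, 0, 13, 18, 19], [6, 13, 2, 10, 18], [6, 20, 15, 2, 18], [2, 1, 6, 8, 6, 11], [6, 6, 20, 2, 8], [2, 3, 10, 2, 12, 20], [2, 2, 14, 2, 10, 19], [2, 2, 9, 7, 6, 14], [2, 16, 2, 9, 8], [2, 2, 0, 9, 6, 18], [2, 2, 24, 17, 2, 23], [2, 21, 3, 2, 18], [2, 5, 19, 4, 6], [6, 12, 2, 7, 18], [2, 3, 5, 22, 6, 14], [2, 10, 5, 2, 5], [2, 7, 7, 10, 21], [2, 21, 17, 6, 21], [2, 12, 20, 2, 14], [2, 7, 5, 15, 6], [2, 22, 5, 6, 0], [2, 10, 14, 3, 6], [2, 7, 22, 8, 6], [2, 1, 23, 10, 2, 8], [2, 1, 3, 13, 1], [2, 10, 2, 9, 11], [6, 11, 2, 0, 9], [6, 12, 6, 19, 21], [6, 1, 22, 0], [2, 21, 7, 19, 6], [6, 6, 10, 22], [2, 3, 2, 24], [2, 3, 2, 24, 3], [6, 15, 6, 0, 15], [2, 9, 6, 18, 15], [6, 9, 2, 13, 16], [2, 3, 17, 15, 24], [6, 10, 2, 11, 7], [6, 12, 7, 6, 12], [6, 9, 6, 14, 17], [2, 4, 11, 3, 1], [6, 19, 13, 2, 5], [2, 4, 9, 7, 15], [2, 4, 10, 15, 1], [2, 4, 21, 12, 8], [2, 1, 3, 4, 6, 3], [2, 3, 19, 3, 7], [2, 7, 1, 1, 19], [2, 11, 16, 23, 13], [6, 12, 6, 4, 22], [2, 4, 7, 0, 6], [6, 11, 6, 24], [2, 7, 4, 6], [2, 0, 3, 1, 6], [2, 21, 2, 24, 18], [6, 11, 2, 14, 18], [6, 11, 24, 6], [2, 3, 14, 2, 19], [2, 4, 17, 12], [6, 16, 1, 22], [2, 21, 16, 23, 0], [6, 18, 14, 18, 6], [6, 3, 19, 7], [2, 11, 20, 5, 2], [2, 2, 8, 1, 1], [2, 3, 22, 6, 12], [2, 3, 15, 7, 2, 4], [2, 20, 2, 2, 20], [6, 15, 20, 3], [6, 23, 8, 15, 6], [6, 20, 9, 6], [2, 0, 8, 13, 2, 3], [2, 14, 8, 5, 2], [2, 3, 9, 2, 21, 13], [2, 21, 12, 4, 10], [6, 22, 17, 7], [2, 19, 3, 4, 18], [2, 0, 6, 5, 9, 19], [2, 7, 4, 21, 17], [6, 9, 1, 0], [2, 2, 19, 10, 17], [6, 13, 2, 23, 9], [6, 19, 6, 23, 12], [6, 23, 12, 2, 13], [6, 5, 18, 16, 6], [2, 2, 8, 2, 20], [6, 16, 9, 2, 24], [2, 16, 21, 2, 7], [2, 7, 20, 12, 16], [2, 2, 11, 20, 6, 12], [6, 10, 20, 6], [6, 7, 23, 12, 2], [2, 0, 0, 7, 7, 6], [6, 6, 9, 6], [2, 4, 4, 10, 6], [6, 22, 6, 20], [6, 15, 6, 21, 23], [2, 2, 10, 6, 16], [2, 11, 7, 6, 6], [2, 0, 9, 19, 2, 9], [2, 21, 4, 20, 18], [2, 4, 16, 2, 3, 10], [6, 22, 8, 11, 6], [6, 7, 13, 6], [6, 1, 11, 19], [2, 10, 0, 13, 2], [6, 11, 15, 12, 6], [6, 3, 19, 6, 18], [2, 11, 2, 10, 14], [2, 22, 16, 6, 13], [2, 11, 4, 1, 6], [6, 16, 2, 11, 8], [6, 15, 20, 4], [6, 11, 6, 19, 23], [2, 0, 6, 5, 21, 17], [2, 2, 2, 24, 1, 2], [2, 0, 9, 0, 9], [6, 11, 6, 9, 15], [2, 2, 20, 0, 18], [2, 4, 19, 2, 18], [2, 2, 4, 14, 16], [6, 7, 17, 2, 10], [6, 16, 11, 5, 2], [2, 8, 0, 2, 1], [2, 0, 17, 8, 21], [6, 11, 6, 15, 12], [2, 9, 6, 4, 1], [2, 23, 2, 1, 10], [2, 4, 5, 13, 21], [2, 4, 8, 6, 21], [2, 0, 0, 9, 15], [2, 17, 7, 4, 15], [6, 10, 18, 4], [2, 20, 23, 2, 22], [2, 0, 8, 18, 14], [2, 1, 12, 0, 16], [2, 11, 6, 13], [6, 22, 0, 2, 8], [6, 17, 7, 2, 22], [2, 8, 24, 6, 3], [2, 16, 0, 6, 1], [6, 16, 19, 12, 6], [2, 3, 10, 16, 23], [2, 7, 5, 14, 20], [2, 1, 19, 15, 2], [2, 23, 14, 6], [2, 7, 21, 21, 6], [6, 3, 16, 2, 10], [6, 16, 2, 11, 22], [2, 0, 2, 14, 1, 6], [2, 0, 20, 14, 1, 2], [6, 18, 2, 24], [2, 12, 4, 1], [6, 16, 9, 3, 2], [2, 10, 2, 10, 21], [2, 1, 1, 6, 3, 21], [2, 4, 6, 10, 18], [2, 19, 23, 2, 11], [6, 4, 1, 10, 2], [2, 16, 2, 15, 4], [2, 1, 2, 8, 12], [6, 5, 15, 2, 7], [6, 22, 16, 17, 6], [2, 9, 19, 2, 5], [6, 21, 24, 5, 6], [6, 10, 2, 17, 10], [2, 2, 0, 22, 2, 5], [6, 1, 17, 2, 13], [2, 4, 11, 15, 12], [6, 10, 2, 12, 7], [6, 11, 2, 7, 10], [6, 7, 6, 17, 14], [2, 7, 17, 17, 0], [2, 1, 17, 6, 0, 15], [2, 0, 9, 24, 22], [2, 11, 4, 19, 15], [2, 0, 3, 16, 16], [2, 1, 9, 6, 14, 5], [2, 9, 3, 6, 8], [6, 23, 6, 3, 14], [2, 17, 13, 7], [6, 17, 15, 21, 2], [2, 4, 3, 19, 0], [2, 2, 0, 12, 23], [2, 0, 17, 3, 4], [6, 19, 2, 2, 12], [2, 13, 24, 18, 6], [2, 23, 2, 13, 10], [2, 10, 4, 20, 5], [6, 9, 2, 3, 6], [6, 3, 13, 12], [6, 8, 9, 7], [2, 2, 8], [2, 16, 1, 10, 2], [2, 10, 2, 14, 15], [2, 4, 8, 0, 6], [6, 12, 6, 3, 18], [2, 10, 2, 13, 7], [6, 9, 2, 7, 9], [2, 0, 2, 4, 21], [2, 9, 7, 19, 17], [2, 1, 13, 7, 24, 2], [2, 8, 13, 2, 8], [2, 11, 2, 7, 23], [2, 1, 11, 2, 21, 15], [2, 1, 10, 2, 19, 8], [6, 3, 16, 2, 20], [2, 9, 2, 20, 1], [2, 9, 1, 2, 12], [2, 3, 0, 1, 9, 2], [2, 2, 10, 6, 24, 1], [2, 4, 8, 3, 6, 0], [6, 23, 13, 10], [2, 5, 19, 6, 12], [2, 24, 0, 0, 7], [2, 2, 14, 24, 16], [6, 12, 15, 20], [6, 6, 19, 6, 16], [2, 22, 0, 2, 20], [2, 0, 9, 6, 12, 18], [2, 7, 22, 10], [6, 11, 8, 9, 6], [6, 13, 6, 21, 3], [2, 2, 2, 10, 4], [6, 13, 6, 24], [2, 0, 1, 22, 2, 8], [2, 23, 15, 2, 23], [2, 10, 2, 24, 0], [2, 7, 19, 24, 2], [2, 2, 2, 14, 21, 6], [2, 9, 6, 22, 0], [6, 22, 6, 19, 5], [2, 5, 0, 8, 12], [2, 13, 21, 18, 2], [2, 13, 2, 2, 2], [2, 19, 10, 3, 2], [2, 0, 7, 1, 20], [2, 0, 1, 2, 13, 1], [2, 14, 8, 4, 12], [2, 4, 23, 22], [2, 4, 8, 14, 16], [6, 23, 2, 7, 9], [2, 4, 17, 6, 5], [6, 7, 5, 21, 6], [2, 0, 2, 9, 4, 10], [6, 5, 11, 6, 15], [2, 10, 5, 2, 14], [2, 23, 4, 21, 6], [2, 5, 7, 3, 15], [2, 2, 11, 6, 7, 2], [2, 12, 2, 3, 4], [2, 5, 6, 17, 4], [2, 5, 7, 5, 8], [2, 1, 6, 14, 22], [2, 1, 9, 13, 3], [2, 10, 1, 12], [2, 1, 21, 9, 5], [2, 13, 24, 6, 16], [2, 8, 2, 2, 8], [6, 10, 2, 12, 0], [2, 15, 22, 2], [2, 8, 13, 2, 19], [2, 23, 2, 13], [2, 13, 0, 5, 2], [6, 0, 24, 3], [2, 11, 1, 9, 6], [2, 2, 2, 1, 6, 10], [2, 1, 8, 2, 18, 21], [6, 10, 18, 24], [2, 0, 6, 20, 1, 17], [2, 9, 4, 17, 20], [6, 16, 10, 5], [2, 4, 5, 12, 4], [6, 6, 3, 2, 5], [6, 11, 6, 3, 15], [2, 9, 2, 15, 23], [6, 8, 17, 22], [2, 15, 20, 24, 2], [2, 2, 4, 21, 20], [2, 8, 14, 16, 2], [2, 15, 10, 2, 3], [2, 0, 17, 13, 2, 22], [6, 18, 20, 18], [2, 0, 22, 0], [6, 3, 22, 8], [6, 5, 5, 15], [2, 16, 6, 5, 14], [2, 24, 8, 9, 2], [2, 23, 2, 8, 18], [2, 1, 1, 6, 20, 1], [6, 20, 18, 2, 7], [2, 0, 2, 16, 19, 12], [2, 1, 10, 13, 5], [6, 22, 2, 10, 6], [2, 11, 20, 15, 1], [2, 10, 1, 23, 22], [6, 21, 3, 6], [6, 15, 2, 9], [2, 17, 4, 22, 4], [2, 13, 5, 9, 20], [6, 16, 12, 21, 6], [2, 1, 13, 12, 5], [2, 11, 5, 11, 2], [2, 1, 18, 15, 7], [2, 1, 6, 8, 17], [2, 17, 2, 3, 18], [2, 12, 2, 23, 12], [2, 12, 2, 13, 7], [2, 4, 13, 10, 22], [2, 4, 20, 24, 6], [2, 4, 10, 22, 3], [2, 4, 21, 23, 18], [2, 1, 20, 0, 20], [2, 19, 10, 2, 17], [2, 10, 0, 22, 8], [2, 0, 10, 18, 14], [2, 14, 1, 17, 0], [2, 4, 16, 14], [2, 8, 19, 17, 0], [2, 4, 23, 6], [2, 0, 17, 6, 20, 10], [6, 11, 18, 20, 6], [6, 0, 18, 9, 6], [2, 2, 5, 9, 6], [2, 11, 4, 4], [2, 0, 17, 8, 6, 18], [2, 7, 15, 14], [2, 1, 4, 13, 7], [2, 7, 5, 20], [6, 13, 19, 2, 11], [2, 8, 9, 4, 6], [2, 23, 3, 2, 13], [6, 4, 20, 9], [2, 4, 1, 15, 6, 0], [6, 10, 13, 18], [6, 5, 10, 0], [6, 20, 18, 14], [2, 9, 2, 7, 11], [2, 21, 8, 0, 2], [6, 0, 1, 14], [6, 5, 10, 14, 4], [6, 23, 7, 15], [2, 7, 4, 21], [6, 8, 13, 8, 1], [2, 0, 2, 18, 2], [6, 8, 9, 19, 6], [2, 3, 15, 18, 18], [2, 7, 5, 24], [2, 2, 8, 20, 0], [2, 3, 8, 12, 23], [2, 8, 5, 8, 19], [2, 0, 7, 2, 20], [2, 4, 6, 6, 14], [6, 11, 6, 18, 21], [6, 24, 6, 5, 9], [2, 22, 13, 11, 6], [6, 10, 17, 13], [2, 7, 17, 3, 6], [6, 8, 4, 3], [6, 3, 23, 21, 7], [2, 15, 2, 12, 15], [2, 12, 20, 2, 3], [2, 9, 6, 5, 5], [6, 21, 20, 3, 2], [2, 16, 22, 10], [6, 3, 12, 6, 11], [2, 1, 1, 7, 19], [2, 7, 16, 22], [2, 9, 8, 10], [2, 0, 0, 24, 6], [2, 19, 9, 6, 4], [2, 1, 22, 17, 2, 4], [2, 10, 3, 22, 0], [2, 5, 17, 6, 11], [2, 4, 10, 1, 22], [6, 4, 10, 4], [2, 2, 2, 14, 8], [2, 15, 19, 2, 7], [6, 4, 4, 11], [6, 1, 3, 9, 19], [2, 4, 21, 12, 2], [2, 13, 18, 24, 0], [2, 0, 3, 16, 9], [2, 17, 9, 13, 0], [2, 1, 10, 2, 1, 10], [6, 1, 6, 13, 6], [2, 5, 0, 8, 0], [2, 1, 0, 15, 0], [2, 1, 2, 13, 22], [2, 14, 17, 7], [2, 22, 16, 23], [2, 13, 7, 17], [6, 0, 14, 2, 22], [2, 3, 2, 13, 12, 6], [6, 13, 20, 10], [6, 8, 5, 12], [2, 0, 1, 10, 8], [2, 0, 5, 24, 18], [6, 17, 5, 24], [6, 21, 8, 15], [2, 0, 14, 0, 5, 2], [2, 10, 2, 8, 9], [6, 9, 14, 5, 6], [6, 23, 6, 16], [2, 1, 4, 17, 21], [2, 1, 14, 24, 11, 2], [2, 3, 2, 8, 10], [2, 13, 22, 18], [2, 14, 20, 9], [2, 15, 2, 9, 6], [2, 16, 17, 2, 8], [6, 1, 9, 6, 0], [6, 11, 20, 2], [6, 9, 7, 6, 9], [2, 11, 2, 5, 11], [2, 11, 15, 14, 6], [2, 0, 1, 18], [2, 20, 0, 2, 1], [2, 0, 23, 2, 1], [2, 2, 20, 10, 5], [2, 11, 20, 4, 12], [6, 20, 23, 6, 18], [2, 4, 13, 18, 10], [2, 4, 23, 11, 19], [2, 3, 4, 15], [6, 21, 1, 10, 2], [2, 4, 8, 6, 1, 21], [2, 4, 10, 2], [2, 0, 0, 18, 22], [2, 0, 12, 8, 6, 17], [6, 19, 13, 20], [2, 2, 19, 4], [6, 5, 7, 10], [6, 7, 6, 5, 22], [2, 2, 19, 21, 4], [2, 2, 13, 15, 20], [2, 7, 6, 0, 19], [2, 24, 4, 7, 24], [2, 0, 16, 0, 10], [6, 21, 12, 1], [2, 1, 11, 2, 7, 10], [6, 4, 1, 6, 9], [2, 2, 9, 5, 2], [2, 24, 6, 3, 7], [2, 17, 0, 22, 14], [6, 11, 6, 19, 5], [6, 18, 20, 23], [6, 8, 17, 7], [6, 22, 10], [2, 2, 7, 16, 7], [2, 2, 8, 14, 8], [2, 4, 22, 15, 1], [2, 11, 15, 4, 2], [2, 4, 24, 21, 16], [2, 4, 3, 18, 10], [2, 1, 0, 17, 12], [2, 5, 3, 8, 2, 14], [6, 14, 23, 6, 16], [2, 7, 22, 12, 20], [2, 12, 23, 5], [2, 13, 18, 20], [6, 6, 21, 3], [2, 7, 17, 3, 24], [2, 7, 22, 23], [2, 2, 5, 2, 24, 18], [2, 19, 9, 6, 18], [6, 10, 14, 2], [2, 1, 22, 17, 6, 17], [2, 7, 4, 16, 7], [2, 2, 24, 20, 8, 6], [2, 17, 2, 5, 5], [2, 1, 8, 2, 17, 12], [6, 0, 9, 11, 24], [6, 0, 6, 6, 24], [2, 14, 6, 17], [6, 0, 3, 16, 24], [2, 11, 23, 4, 10], [2, 2, 4, 2, 1, 13], [6, 9, 3, 16], [2, 0, 1, 16, 2], [6, 7, 19, 3], [2, 1, 21, 17, 6, 13], [2, 23, 2, 20, 8], [2, 17, 7, 2, 15], [2, 2, 8, 9, 16], [2, 17, 2, 15, 15], [2, 0, 2, 16, 22, 2], [2, 0, 6, 9, 2, 14], [2, 0, 0, 24, 4], [2, 0, 1, 23, 6, 24], [6, 21, 5, 18], [2, 8, 13, 4, 19], [2, 0, 17, 8, 13], [6, 22, 6, 23, 1], [2, 19, 4, 21, 24], [6, 11, 21, 1], [6, 13, 23, 10], [6, 12, 2, 15, 1], [6, 15, 20, 21, 2], [6, 0, 11, 24, 2], [2, 3, 15, 22, 9], [2, 22, 5, 6, 19], [2, 21, 15, 6, 20], [2, 12, 2, 20, 12], [2, 4, 1, 21, 13], [2, 0, 22, 6, 0], [2, 0, 17, 7, 22], [2, 2, 8, 4, 2], [2, 4, 8, 24, 17], [2, 7, 7, 6, 10], [2, 7, 20, 21], [2, 3, 7, 22, 13], [2, 8, 1, 16, 13], [2, 11, 5, 6, 19], [2, 0, 0, 22, 2, 16], [6, 12, 6, 11], [2, 12, 20], [2, 9, 6, 9, 13], [2, 14, 22, 19, 7], [2, 12, 6], [2, 9, 20, 24], [2, 4, 6, 15, 23, 7], [2, 12, 15, 12], [2, 5, 4, 16, 24], [2, 3, 17, 22, 19], [2, 3, 0, 5, 14], [2, 3, 1, 17, 13], [2, 7, 3, 23, 9], [2, 1, 1, 2, 4, 9], [6, 18, 24, 14, 2], [2, 3, 18, 9, 22], [2, 13, 20, 18], [2, 9, 21, 14], [2, 4, 22, 2, 0], [2, 12, 0, 20, 13], [2, 1, 0, 18], [2, 16, 0, 18, 15], [2, 4, 12, 20, 17], [6, 11, 23, 4], [2, 3, 12, 4, 9], [2, 0, 14, 6, 11, 20], [2, 8, 10, 1, 11], [2, 16, 12, 1], [2, 7, 22, 20, 24], [2, 1, 6, 1, 9, 14], [6, 23, 15, 10, 6], [6, 16, 5, 19], [2, 17, 23, 2], [2, 2, 24, 20, 0], [2, 4, 6, 9, 0], [2, 4, 7, 15, 7], [6, 3, 9, 6], [2, 0, 23, 7, 15], [2, 10, 20, 0], [2, 20, 24, 0], [2, 5, 0, 20, 24], [2, 5, 6, 24, 13], [2, 2, 12, 21], [6, 23, 14, 20], [2, 8, 4, 21, 18], [2, 0, 9, 6, 4, 8], [2, 19, 0, 2, 1], [2, 0, 9, 2, 13], [2, 2, 21, 18, 10], [2, 2, 17, 23, 8], [6, 17, 6, 16, 10], [6, 12, 0, 22], [6, 12, 19, 1], [6, 9, 20, 22], [6, 13, 15, 22], [6, 22, 12, 17], [2, 13, 20, 4, 10], [2, 1, 3, 16, 2], [6, 0, 24, 1, 7], [6, 14, 8, 2], [2, 9, 4, 4, 24], [6, 18, 14, 19, 2], [6, 3, 14, 21, 6], [6, 12, 7, 10, 6], [2, 0, 6, 5, 10, 14], [2, 14, 4, 9, 23], [6, 15, 6, 20], [6, 7, 1, 2, 17], [2, 1, 20, 9, 13, 2], [2, 2, 8, 1, 12], [2, 1, 2, 2, 14, 15], [2, 20, 4, 5, 10], [6, 20, 5, 18], [6, 0, 10, 14, 1], [6, 3, 4, 3, 6], [6, 16, 13, 15], [2, 2, 18, 7, 6], [6, 9, 17, 3], [6, 10, 2, 13, 4], [6, 10, 6, 1, 7], [2, 4, 6, 17, 5, 19], [2, 22, 7, 12], [2, 4, 2, 9, 2], [2, 12, 2, 21, 19], [2, 21, 2, 23, 18], [2, 2, 0, 16, 0], [2, 3, 7, 9, 6], [2, 15, 17, 13, 6], [2, 5, 0, 5, 3], [2, 0, 17, 8, 18], [2, 0, 6, 0, 15], [6, 3, 0, 24], [2, 4, 18, 4, 23], [2, 1, 2, 3, 9], [6, 16, 2, 18, 22], [2, 1, 18, 12, 20, 2], [6, 24, 14, 2, 0], [2, 9, 4, 4], [2, 11, 2, 5, 21], [2, 12, 2, 0, 7], [2, 2, 23, 0, 2, 21], [2, 14, 6, 16], [2, 1, 9, 17, 2, 13], [6, 18, 21], [2, 8, 10, 6, 3], [6, 21, 17, 24], [6, 18, 14, 2, 23], [6, 1, 8, 0], [6, 0, 7, 7, 15], [2, 0, 16, 0, 12], [6, 18, 2, 15, 0], [2, 1, 1, 6, 4, 24], [2, 3, 16, 6, 4, 1], [2, 2, 9, 23, 17], [6, 0, 22, 6, 12], [6, 0, 16, 6, 8], [2, 0, 2, 10, 1, 24], [2, 1, 11, 17, 8], [2, 10, 6, 5, 15], [2, 12, 0, 23, 4], [2, 9, 1, 1, 8], [2, 5, 21, 18, 0], [2, 11, 2, 8, 8], [6, 16, 7, 22], [6, 10, 16, 4], [2, 4, 13, 5, 15], [2, 21, 3, 14, 6], [2, 22, 8, 6, 0], [6, 9, 2, 24, 16], [2, 10, 15, 10], [2, 0, 16, 2, 18, 1], [2, 5, 5, 15], [2, 3, 11, 21, 17], [6, 18, 0, 10], [2, 9, 24, 6], [2, 7, 14, 3], [2, 15, 9, 18], [2, 5, 2, 22], [2, 7, 1, 11, 23], [2, 4, 4, 14, 24], [2, 3, 21, 7, 18], [2, 4, 6, 10, 8], [6, 10, 21, 2, 24], [2, 2, 11, 16, 16], [2, 5, 3, 2, 22], [2, 4, 3, 5, 0], [6, 13, 15, 21, 6], [2, 1, 16, 7], [2, 12, 5, 17, 21], [2, 1, 24, 1, 17], [2, 1, 1, 20, 5], [2, 14, 16, 1, 7], [2, 12, 0, 18, 4], [2, 4, 17, 2, 8], [2, 7, 4, 13], [6, 17, 7, 24], [2, 2, 8, 11], [2, 17, 15, 6, 16], [6, 7, 6, 7, 1], [2, 0, 5, 7, 5], [2, 2, 12, 23, 11], [2, 0, 12, 5, 16], [2, 12, 1, 6, 11], [6, 12, 16], [6, 9, 21, 1], [2, 2, 14, 24, 18], [6, 8, 22, 24, 21], [6, 18, 1, 9], [2, 2, 12, 21, 3], [2, 3, 8, 3, 5, 2], [2, 2, 18, 11], [2, 7, 4, 18, 19], [6, 10, 16, 11], [2, 15, 11, 6, 12], [2, 2, 1, 2, 22, 14], [2, 3, 2, 16, 5], [2, 12, 23, 19], [2, 9, 23], [2, 12, 1, 12, 6], [2, 15, 6, 7, 16], [2, 22, 1, 0], [2, 2, 0, 23, 6], [2, 4, 18, 12], [2, 0, 15, 2, 13], [2, 19, 12, 0], [2, 8, 22, 2, 17], [2, 3, 22, 1, 9], [2, 8, 9, 22, 9], [2, 10, 16, 5], [2, 4, 6, 18, 10], [2, 0, 0, 13, 2, 7], [2, 2, 18, 11, 2], [2, 2, 14, 24, 13], [2, 2, 15, 24, 9], [6, 1, 24, 2, 24], [2, 0, 18, 5, 17], [6, 3, 20, 8], [6, 7, 13, 24], [6, 3, 12, 16], [2, 9, 4, 14], [2, 2, 21, 5], [6, 23, 18, 6, 6], [6, 1, 21, 5, 21], [2, 19, 0, 22, 1], [2, 8, 16, 0, 1], [2, 10, 6, 6, 22], [2, 5, 21, 18, 2, 13], [2, 1, 11, 17, 6, 13], [2, 0, 2, 9, 6, 0], [6, 1, 17], [2, 2, 19, 14, 6, 14], [6, 16, 2, 9, 19], [2, 7, 6, 3, 2], [6, 9, 20, 8], [6, 15, 6, 22, 20], [2, 8, 13, 2, 21, 15], [6, 11, 6, 0, 15], [2, 4, 20, 1, 22], [2, 2, 21, 18, 2, 4], [2, 0, 8, 14, 2], [2, 2, 14, 24, 21], [2, 16, 6, 21, 21], [2, 0, 11, 6, 10, 7], [2, 11, 18, 4, 19], [6, 10, 18, 2], [2, 17, 14, 4, 15], [2, 3, 5, 2, 11], [2, 9, 17, 0, 3], [6, 19, 4, 23], [6, 3, 22, 1], [6, 19, 6, 7, 19], [6, 5, 17, 6, 20], [6, 12, 6, 13, 22], [2, 15, 24, 8], [2, 1, 10, 2, 10, 13], [2, 19, 9, 6, 16], [2, 1, 22, 17, 2, 10], [6, 3, 5, 19, 1], [6, 7, 1, 2, 16], [2, 16, 6, 0, 16], [6, 15, 12, 1], [2, 0, 0, 12, 15], [2, 8, 2, 19, 6], [2, 7, 9, 11], [2, 3, 10, 18, 5], [2, 2, 13, 2, 18], [6, 8, 17, 8, 2], [2, 9, 2, 4, 20], [2, 21, 2, 21, 3], [2, 10, 14, 3, 0], [6, 12, 1, 9, 6], [2, 0, 20, 2, 21, 9], [2, 0, 2, 4, 21, 7], [6, 5, 0, 18], [2, 21, 0, 12, 6], [2, 8, 8, 17], [2, 9, 21, 7, 14], [2, 12, 8, 24], [2, 0, 6, 13, 1, 17], [2, 1, 0, 8, 22], [2, 2, 5, 24, 1], [2, 4, 7, 18], [2, 2, 0, 16, 2, 4], [2, 3, 7, 5, 6, 12], [2, 0, 2, 0, 24], [2, 13, 0, 10, 7], [2, 0, 1, 2, 8, 18], [2, 3, 23, 6, 12], [6, 11, 6, 12, 21], [2, 8, 1, 4, 18], [2, 3, 22, 6, 21], [6, 3, 18, 7, 16], [6, 0, 12, 20], [6, 11, 15], [2, 0, 2, 9, 11, 19], [2, 1, 7, 22, 12], [2, 21, 1, 8], [2, 8, 10, 0, 22], [6, 9, 19, 2, 4], [2, 17, 8, 21, 2], [2, 2, 4, 6, 10, 6], [6, 13, 0, 24], [2, 4, 2, 2, 24, 2], [2, 2, 15, 5, 14], [2, 2, 12, 0, 9], [6, 5, 21, 24, 10], [2, 17, 9, 6, 4], [6, 18, 10, 2, 24], [2, 1, 16, 17, 2], [2, 2, 11, 5, 18], [6, 15, 15, 2, 21], [6, 0, 5, 10], [6, 20, 22, 20], [6, 0, 13, 8, 16], [2, 17, 2, 24, 22], [2, 16, 2, 15, 15], [2, 4, 6, 4, 10], [2, 4, 24, 8, 14], [6, 11, 2, 21], [2, 4, 1, 18, 22], [2, 0, 8, 23, 9], [2, 4, 9, 8, 22], [2, 12, 2, 22, 20], [2, 0, 5, 6, 18], [2, 4, 14, 20, 21], [2, 14, 2, 11, 16], [2, 10, 1, 0], [2, 10, 1, 0, 3], [6, 1, 21, 2, 1], [2, 21, 2, 24, 21], [2, 9, 2, 19, 7], [2, 9, 4, 16, 10], [2, 2, 9, 23, 4], [6, 7, 14, 23], [2, 0, 0, 10], [6, 21, 24], [6, 21, 19, 16], [2, 0, 11, 6, 16, 12], [6, 9, 14, 2, 8], [2, 23, 14, 0, 5], [2, 8, 4, 17, 11], [6, 7, 5, 16, 13], [6, 11, 17, 7], [2, 2, 5, 12], [2, 2, 11, 15, 14], [2, 23, 2, 7, 20], [6, 20, 16, 6, 11], [2, 0, 0, 6, 24], [2, 8, 11, 20, 1], [6, 16, 5, 2], [2, 8, 5, 2, 24], [6, 16, 20, 21], [2, 5, 4, 4, 24], [2, 2, 4, 9, 17], [6, 0, 11, 15, 24], [6, 21, 15, 24], [2, 0, 23, 5, 9], [6, 7, 6, 5, 19], [2, 1, 0, 9, 4], [2, 20, 1, 0], [2, 1, 3, 17, 24], [2, 13, 2, 8, 21], [2, 8, 8, 6, 20], [2, 4, 1, 1, 7], [2, 12, 3, 0], [2, 12, 0], [6, 7, 6, 9, 2], [2, 8, 24, 17], [2, 20, 15, 17], [2, 17, 0, 0], [2, 7, 15, 19, 9], [2, 13, 7, 21], [2, 1, 15, 2, 5], [6, 23, 6, 21, 3], [2, 2, 1, 7, 5], [2, 4, 8, 16, 23], [2, 15, 24, 2, 7], [2, 5, 6, 14, 16], [6, 8, 19, 22, 2], [2, 15, 21], [2, 14, 16, 17, 24], [2, 2, 0, 17, 21], [2, 17, 2, 2, 23], [2, 0, 10, 0, 8], [2, 2, 16, 9, 4], [6, 0, 12, 17, 19], [2, 2, 21, 16, 0], [6, 13, 16, 12], [6, 24, 7, 12], [2, 3, 4, 19, 2, 14], [2, 3, 19, 8], [2, 15, 5, 17], [2, 2, 23, 6, 6], [6, 9, 2, 16, 19], [2, 5, 6, 21], [2, 0, 12, 8, 21], [2, 10, 8, 10, 0], [2, 3, 14, 3, 0], [2, 3, 23, 6, 10, 15], [2, 9, 5, 2, 21], [6, 4, 11, 0], [2, 22, 4, 5, 10], [2, 0, 7, 15, 6], [2, 2, 17, 4, 15], [2, 0, 18, 5, 16], [6, 8, 21, 11], [2, 2, 14, 18, 24], [6, 9, 3, 24], [2, 9, 21, 4, 9], [2, 9, 2, 18, 10], [6, 12, 15, 10], [6, 4, 9, 8], [2, 0, 0, 23], [6, 11, 6, 1, 16], [2, 13, 23, 17, 0], [2, 4, 14, 20, 13], [2, 9, 20, 0, 19], [2, 0, 20, 6, 8], [2, 0, 9, 4, 8, 6], [6, 18, 2, 14], [2, 1, 7, 19, 6], [2, 1, 3, 2, 21, 7], [2, 3, 7, 2, 2, 20], [2, 24, 0, 22, 6], [6, 14, 18, 23, 2], [2, 3, 4, 3, 6], [2, 11, 5, 6, 21], [2, 7, 0, 6, 12], [6, 3, 12, 6, 10], [2, 7, 23, 19, 10], [6, 7, 15, 2, 8], [2, 11, 6, 6, 1], [6, 6, 1, 7, 6], [2, 0, 9, 2, 5], [2, 3, 17, 5, 15, 6], [2, 4, 10, 2, 12], [6, 10, 16, 9, 2], [2, 1, 2, 2, 10, 3], [2, 0, 2, 23, 6, 23], [2, 17, 4, 19, 6], [2, 14, 2, 17, 6], [2, 21, 19, 2, 20], [6, 12, 24, 6, 1], [2, 10, 0, 11, 6], [6, 8, 8, 1, 6], [6, 15, 5, 7], [6, 11, 6, 20, 1], [2, 8, 1, 6, 9], [6, 14, 20, 2, 12], [2, 2, 9, 17, 12], [2, 3, 10, 2, 13], [6, 6, 18, 6, 24], [2, 0, 22, 1, 6, 0], [6, 10, 2, 7, 1], [6, 13, 2, 23, 10], [6, 19, 6, 23], [2, 10, 2, 8, 10], [6, 9, 2, 24, 7], [2, 2, 8, 2, 22], [2, 3, 16, 6, 16], [2, 0, 13, 6, 16], [2, 9, 1, 14, 7], [2, 17, 2, 16, 17], [6, 13, 2, 2, 17], [6, 15, 21, 2, 22], [2, 4, 8, 3, 14], [2, 7, 5, 17, 24, 6], [2, 1, 11, 2, 1, 23], [2, 15, 1, 23, 2], [2, 5, 6, 17, 20], [6, 23, 8, 2, 5], [2, 3, 14, 2, 21], [6, 16, 2, 15, 5], [2, 4, 16, 11, 17], [2, 10, 7, 0, 2], [6, 10, 2, 4, 18], [6, 6, 9, 0, 6], [2, 0, 6, 9, 0, 9], [2, 4, 16, 6, 24, 7], [2, 0, 2, 4, 20], [2, 9, 6, 22, 13], [2, 3, 17, 8, 20], [2, 1, 17, 4, 3, 2], [2, 9, 2, 12, 8], [2, 11, 2, 9, 15], [2, 0, 14, 6, 5], [2, 0, 0, 23, 6, 1], [2, 0, 11, 6, 15, 22], [6, 13, 2, 10, 6], [2, 2, 7, 23, 1], [2, 14, 3, 16, 2], [6, 11, 6, 23, 14], [2, 9, 24, 2], [2, 0, 0, 11, 15], [2, 10, 5, 19, 2], [2, 2, 8, 20, 4], [2, 13, 17, 2, 8], [6, 7, 7, 1], [2, 0, 8, 20, 6, 5], [2, 0, 2, 5, 3], [2, 9, 6, 12], [2, 1, 2, 22, 9], [6, 15, 13, 6, 15], [2, 0, 8, 6, 5], [2, 11, 24, 15, 8], [2, 8, 5, 8, 21], [2, 1, 18, 23, 6, 7], [2, 0, 15, 21, 2, 12], [2, 16, 2, 24, 3], [2, 4, 3, 15, 12], [2, 4, 6, 7, 0], [2, 4, 21, 12, 24], [2, 8, 13, 4, 21], [6, 0, 7, 1, 17], [2, 17, 2, 17, 21], [2, 2, 7, 2, 22, 5], [2, 15, 12, 6, 22], [2, 15, 17, 1, 0], [6, 12, 2, 7], [2, 0, 8, 4, 6, 19], [2, 0, 9, 6, 14], [2, 3, 18, 3, 7], [2, 2, 11, 21, 18, 2], [2, 7, 7, 9], [2, 0, 23, 5, 2], [2, 8, 5, 13, 10], [2, 0, 0, 8, 6, 0], [2, 0, 3, 24, 7], [2, 1, 0, 17, 6], [2, 4, 1, 12, 5], [6, 1, 0, 22, 2], [2, 11, 6, 6, 17], [2, 4, 8, 6, 16], [2, 0, 5, 14, 21], [2, 22, 8, 6, 4], [2, 0, 7, 20, 9, 6], [2, 1, 3, 2, 24, 7], [2, 0, 16, 1, 23], [6, 3, 22, 2, 8], [6, 6, 4, 12], [2, 11, 4, 11, 0], [2, 10, 4, 23, 22], [2, 2, 0, 2, 3, 20], [6, 13, 17, 13], [6, 7, 12, 8, 4], [2, 2, 23, 10, 21], [2, 1, 12, 8, 21, 6], [2, 1, 3, 2, 14, 7], [6, 3, 16, 2, 22], [2, 15, 2, 23, 8], [2, 10, 2, 16, 20], [6, 15, 12, 2], [2, 4, 2, 2, 9, 3], [2, 2, 23, 1, 4], [2, 0, 2, 5, 18, 14], [2, 17], [2, 3, 22, 8, 15], [2, 17, 9], [2, 0, 1, 2, 20, 5], [2, 2, 16, 11, 5], [2, 2, 1, 6, 15], [6, 4, 17, 16, 21], [6, 13, 2, 13, 9], [2, 4, 16, 6, 1], [2, 1, 14, 2, 1, 6], [2, 9, 6, 11, 17], [2, 3, 15, 6, 6], [6, 13, 15, 1, 2], [2, 17, 2, 18, 14], [2, 0, 23, 6, 23, 11], [2, 1, 3, 11, 6, 10], [6, 10, 17, 5, 2], [2, 11, 2, 16, 12], [2, 20, 4, 10, 6], [2, 8, 4, 18, 2], [2, 1, 0, 20, 6, 17], [2, 0, 1, 19, 14, 2], [6, 4, 7, 10], [6, 23, 18, 12, 2], [2, 23, 2, 5, 5], [6, 13, 10, 15, 2], [2, 0, 7, 9, 18], [2, 1, 0, 12, 6], [2, 9, 6, 21, 20], [2, 0, 2, 19, 1, 19], [2, 14, 17, 1, 18], [2, 13, 24, 6, 11], [6, 13, 19, 2, 1], [2, 10, 19, 2, 23], [2, 11, 0, 2, 3], [6, 14, 5, 6], [2, 0, 21, 2], [2, 0, 8, 13, 2, 21], [2, 8, 4, 22, 14], [2, 10, 0, 13, 2, 10], [2, 11, 2, 24, 5], [2, 10, 20, 6, 14], [2, 0, 14, 16, 5, 6], [6, 12, 6, 4, 4], [2, 23, 2, 4], [2, 0, 11, 5, 2, 10], [2, 2, 22, 0], [2, 1, 24, 16, 2, 19], [2, 4, 12, 6, 10, 8], [6, 6, 10, 2, 9], [2, 2, 9, 19, 2, 24], [2, 4, 6, 18, 24, 6], [2, 22, 9, 2, 0], [2, 20, 2, 2], [6, 12, 18, 16], [6, 3, 17, 2, 1], [6, 7, 12, 1, 6], [6, 12, 2, 3, 5], [6, 24, 6, 13, 6], [2, 2, 18, 1, 6, 13], [6, 12, 22, 6, 14], [2, 1, 20, 6, 16, 20], [2, 3, 24, 17, 0], [2, 12, 20, 2, 5], [2, 0, 21, 1, 6, 0], [2, 1, 4, 13, 6, 16], [2, 1, 8, 9, 16], [2, 20, 2, 13, 16], [2, 1, 16, 23, 8], [2, 4, 23, 8, 6], [2, 5, 0, 9, 4], [6, 16, 2, 22, 24], [2, 3, 0, 5, 10, 6], [2, 1, 9, 7, 0, 2], [2, 10, 8, 5, 2], [2, 10, 6, 6, 20], [2, 13, 4, 1], [2, 2, 24, 9], [2, 2, 12, 17, 12], [2, 1, 1, 23, 3, 2], [6, 11, 6, 24, 10], [2, 13, 0, 2, 8], [2, 2, 5, 11, 8], [6, 22, 6, 22], [6, 3, 23, 22], [6, 0, 14, 20], [6, 8, 24, 11], [6, 23, 10, 2, 23], [6, 7, 6, 20, 6], [2, 21, 8, 2, 21], [2, 0, 0, 20], [6, 9, 6, 5, 9], [2, 0, 5, 17, 13], [2, 2, 17, 7, 15], [2, 9, 17, 6, 20], [6, 0, 3, 6, 17], [2, 2, 14, 1, 6], [6, 21, 1, 13, 6], [2, 7, 24, 10], [6, 12, 2, 1, 0], [2, 2, 7, 2, 21, 19], [2, 21, 2, 15, 21], [2, 2, 4, 20, 2], [2, 3, 0, 20, 6, 23], [2, 5, 7, 6, 13], [6, 1, 22, 6, 5], [6, 5, 21, 16, 23], [2, 5, 4, 6, 17], [2, 16, 6, 24], [6, 19, 7, 22], [6, 7, 23, 16], [6, 6, 20, 6, 16], [2, 3, 4, 8], [2, 8, 0, 20, 11], [6, 1, 24, 7], [2, 14, 2, 2, 10], [6, 4, 9, 0], [2, 9, 8, 15], [2, 16, 22, 15], [2, 13, 24, 6, 7], [2, 10, 6, 6], [2, 24, 2, 2, 23], [2, 5, 6, 20, 1], [2, 10, 13, 6, 8], [2, 0, 0, 8, 2], [6, 18, 6, 5, 6], [6, 3, 7, 3], [6, 21, 15, 6, 15], [2, 17, 2, 16, 10], [2, 12, 4, 6], [2, 11, 5, 19, 2], [2, 4, 12, 19, 8, 6], [2, 19, 10, 2, 22], [2, 13, 19, 1, 2], [2, 0, 9, 13, 20], [6, 7, 10, 6, 13], [2, 12, 15, 19, 2], [2, 13, 22, 6, 19], [6, 18, 2, 19, 12], [6, 15, 6, 13, 8], [6, 10, 23, 6, 4], [2, 8, 0, 2, 14], [6, 14, 16, 22], [2, 22, 17, 6, 7], [2, 10, 2, 13, 3], [2, 10, 2, 3, 7], [6, 12, 6, 16, 24], [2, 22, 2, 2, 23], [6, 20, 11, 6], [6, 13, 9, 2, 17], [2, 2, 0, 23, 15], [2, 13, 4, 6, 10], [6, 12, 6], [2, 23, 2, 0], [2, 5, 4, 19, 11], [6, 15, 19, 6, 23], [6, 6, 10, 13], [2, 7, 13, 9], [2, 17, 24, 8], [2, 1, 21, 6, 17, 19], [2, 11, 2, 21, 11], [2, 5, 10, 6, 18], [2, 2, 8, 19, 21], [6, 16, 2, 9], [2, 0, 0, 11, 22], [6, 1, 0, 10, 19], [6, 7, 4, 20], [2, 3, 18, 4, 6], [2, 2, 22, 2, 1, 2], [6, 7, 6, 10], [2, 1, 0, 6, 3], [6, 16, 2, 18, 4], [2, 3, 16, 4, 19], [2, 19, 0, 24], [2, 0, 3, 11, 17], [2, 4, 19, 0, 6], [2, 4, 10, 2, 9], [2, 7, 17, 11, 6], [2, 7, 18, 4, 16], [2, 3, 9, 2, 22, 2], [6, 9, 19, 13], [2, 2, 23, 14, 24], [2, 2, 22, 16, 22], [2, 20, 10, 2, 5], [2, 13, 21, 2, 7], [2, 1, 11, 2, 12, 1], [2, 1, 13, 16, 6, 16], [2, 0, 0, 8, 2, 8], [6, 3, 22, 2, 0], [2, 17, 2, 23, 5], [2, 4, 24, 0, 0], [2, 1, 8, 19, 2, 12], [2, 0, 8, 22, 23, 6], [2, 2, 24, 1, 6], [2, 1, 1, 20, 2], [2, 8, 23, 16, 2], [2, 0, 16, 11, 6], [2, 12, 2, 10, 21], [2, 2, 2, 9, 16], [6, 18, 24, 2, 22], [6, 11, 6, 22], [2, 1, 11, 8, 12, 6], [2, 1, 10, 13, 4, 6], [2, 2, 10, 6, 23, 14], [2, 5, 2, 17, 2], [2, 11, 3, 2, 22], [6, 21, 3, 20], [6, 5, 10, 2, 1], [2, 0, 6, 1, 22, 1], [2, 21, 15, 15, 2], [2, 9, 4, 22, 8], [2, 9, 2, 8, 21], [2, 20, 7, 2], [2, 23, 1, 6], [6, 21, 19, 7], [6, 17, 2, 21, 2], [2, 5, 6, 0, 1, 13], [2, 1, 16, 6, 21, 6], [2, 0, 17, 20], [6, 1, 3, 6, 6], [2, 0, 8, 19, 13], [2, 4, 2, 4, 8], [2, 22, 6, 14, 8], [2, 22, 8, 6, 24], [2, 0, 3, 18, 2, 18], [2, 9, 2, 16, 10], [6, 12, 19, 8], [2, 9, 2, 10, 24], [2, 0, 9, 2, 8], [6, 15, 7, 13], [6, 9, 0, 10], [6, 13, 2, 14], [6, 8, 24, 1, 6], [6, 17, 6, 24, 0], [6, 4, 6, 6, 17], [2, 2, 7, 6, 7], [6, 19, 16, 2, 15], [2, 10, 5, 6, 16], [2, 3, 8, 19, 11], [6, 12, 2, 15, 7], [2, 0, 13, 8, 10, 6], [6, 12, 6, 1, 10], [6, 1, 4, 16], [2, 5, 16, 2, 18], [2, 13, 22, 1], [2, 3, 8, 22, 14], [2, 11, 16, 18], [6, 13, 2, 9, 0], [2, 12, 16, 6, 9], [2, 0, 10, 24, 2, 7], [2, 10, 0, 6, 5], [2, 2, 1, 8, 9, 6], [6, 19, 14, 6, 11], [2, 0, 11, 16, 6], [6, 1, 6, 23], [2, 3, 11, 16, 10, 6], [2, 4, 8, 6, 5], [6, 17, 6, 3, 4], [2, 7, 1, 2, 5], [2, 13, 3, 4, 2], [2, 8, 18, 14, 6], [2, 0, 2, 7, 5, 6], [6, 10, 19, 9], [2, 0, 1, 2, 9], [2, 21, 8, 14, 6], [2, 4, 12, 6, 18], [6, 9, 14, 24], [2, 8, 13, 6, 12], [2, 17, 11, 6, 22], [6, 13, 15], [2, 2, 17, 13, 7], [6, 0, 22, 6, 10], [6, 13, 1, 21, 2], [2, 0, 11, 2, 11], [2, 1, 17, 0, 18], [6, 20, 2, 8, 24], [2, 11, 1, 17, 12], [2, 3, 11, 18, 1], [2, 7, 2, 17], [2, 21, 1, 10, 6], [2, 0, 0, 3, 6, 0], [2, 23, 8, 6, 8], [2, 1, 6, 9, 18, 5], [2, 16, 11, 2, 3], [2, 0, 1, 6, 20, 11], [2, 1, 4, 2, 7, 19], [2, 1, 4, 24], [2, 10, 2, 10, 3], [2, 16, 1, 2, 1], [2, 1, 11, 4, 11, 6], [2, 16, 7, 20], [2, 1, 6, 1, 14, 15], [2, 11, 23, 13], [2, 1, 14, 8, 6], [2, 3, 22, 18, 3], [2, 2, 11, 20, 6, 15], [2, 17, 2, 22, 19], [6, 22, 5, 13, 2], [2, 5, 6, 12, 22], [2, 1, 16, 2, 5, 15], [2, 12, 2, 7, 17], [2, 0, 23, 6, 7, 17], [2, 2, 1, 24, 15], [2, 4, 12, 23, 2], [2, 12, 2, 1, 8], [2, 2, 21, 13, 6], [2, 7, 0, 23, 17], [6, 22, 6, 5, 24], [2, 4, 12, 15, 8], [2, 4, 19, 16], [2, 4, 3, 17, 21], [2, 17, 2, 21, 10], [2, 3, 18, 2, 2], [2, 0, 9, 1, 2], [6, 22, 3, 4], [2, 12, 3, 2, 2], [2, 3, 4, 16, 10], [2, 0, 17, 8, 10], [2, 8, 0, 13, 10], [2, 5, 6, 7, 15], [2, 0, 8, 16, 9], [2, 17, 4, 18, 19], [2, 4, 3, 22, 19], [2, 4, 22, 16], [2, 3, 4, 22, 16], [2, 4, 8, 22, 18], [6, 9, 6, 24, 10], [2, 2, 8, 2, 20, 16], [2, 0, 13, 2, 23, 16], [6, 20, 8, 14, 2], [2, 11, 5, 2, 5], [6, 7, 2, 2, 16], [2, 13, 20, 13], [6, 6, 22, 14], [2, 13, 21, 19], [6, 8, 14, 21, 2], [2, 5, 2, 9, 3], [6, 6, 22, 24], [2, 0, 9, 5, 4], [2, 3, 15, 5, 3], [2, 3, 2, 22, 7], [2, 3, 9, 15, 8], [2, 14, 5, 6, 24], [2, 3, 15, 6, 8, 15], [6, 18, 7, 5, 6], [6, 3, 19, 22, 2], [2, 0, 21, 6, 20], [2, 0, 2, 22, 3, 8], [2, 1, 8, 22, 9], [2, 9, 24, 1], [2, 16, 12, 6, 15], [2, 0, 11, 6, 19, 23], [2, 16, 4, 2], [6, 6, 16, 2, 15], [6, 9, 20], [2, 0, 8, 20, 23, 2], [6, 0, 15, 10, 24], [6, 7, 18, 11], [6, 0, 3, 19, 17], [6, 11, 2, 19, 0], [2, 2, 18, 0, 15], [6, 12, 19, 23], [2, 14, 6, 8, 21], [6, 0, 6, 4, 8], [2, 8, 23, 4, 8], [6, 18, 4], [2, 1, 2, 2, 7, 13], [2, 23, 10, 6, 13], [2, 1, 14, 8, 22], [2, 7, 2, 22, 24], [2, 2, 24, 2, 0], [2, 1, 11, 5, 12], [2, 8, 1, 17, 0], [2, 17, 21, 1], [6, 7, 16, 22, 2], [2, 0, 15, 22, 2], [2, 7, 0, 6], [2, 19, 9, 2, 23], [6, 6, 15, 10], [2, 4, 6, 23, 10], [2, 21, 5, 24], [2, 3, 17, 22, 23], [6, 1, 17, 6], [2, 0, 6, 0, 14, 23], [2, 8, 15, 14, 1], [2, 4, 11, 3, 4], [2, 13, 1], [2, 7, 7, 3, 21], [6, 6, 23, 9], [2, 5, 0, 12, 4], [6, 7, 2, 13, 2], [6, 15, 6, 19, 23], [6, 11, 6, 11, 3], [2, 14, 2, 8, 6], [6, 13, 1, 24], [6, 22, 6, 24], [2, 4, 15, 13, 5], [2, 2, 8, 17, 1], [6, 7, 12, 24], [2, 20, 13, 16, 2], [6, 24, 6, 16, 21], [6, 17, 2, 4, 4], [2, 23, 19, 0], [6, 4, 5, 2, 24], [2, 2, 4, 6, 24], [6, 4, 4, 3, 15], [2, 0, 23, 11, 8], [2, 9, 2, 14], [2, 22, 8, 2, 16], [2, 4, 1, 14, 6, 1], [2, 13, 1, 23, 2], [6, 17, 6, 8], [6, 16, 24, 9], [2, 0, 1, 0, 14], [6, 7, 14, 7], [2, 9, 1, 1, 6], [2, 0, 22, 1, 13], [6, 15, 17], [6, 8, 11, 24, 4], [2, 10, 7, 4, 1], [2, 0, 0, 8, 23], [2, 0, 0, 24, 11], [2, 3, 23, 6, 13], [6, 12, 6, 20, 0], [2, 19, 0, 13], [2, 8, 0, 16, 22], [6, 21, 13, 4], [2, 2, 0, 23, 0], [2, 2, 0, 8, 2], [2, 13, 21, 11, 2], [6, 17, 15, 4, 6], [2, 1, 0, 19, 6], [6, 20, 5, 24], [2, 17, 4, 6], [2, 2, 14], [2, 0, 1, 12, 21], [6, 17, 5, 0], [2, 2, 4, 19, 22], [2, 17, 9, 4, 6], [2, 0, 11, 6, 3, 20], [6, 15, 0, 2, 4], [2, 0, 22, 1, 2], [6, 5, 22, 4], [6, 15, 6, 13, 15], [6, 4, 12, 20], [6, 19, 8, 14], [6, 15, 7, 20], [6, 4, 4, 3, 6], [6, 7, 6, 15, 20], [2, 16, 2, 14, 15], [2, 3, 16, 4, 24], [2, 0, 6, 1, 8, 8], [2, 15, 19, 0], [2, 4, 17, 14, 19], [2, 0, 3, 20, 18], [2, 21, 2, 5, 9], [2, 21, 4, 2, 15], [2, 22, 13, 6, 12], [6, 15, 24, 21], [2, 22, 24, 2, 1], [2, 0, 3, 1, 16], [2, 2, 11, 4, 11], [6, 16, 0], [2, 1, 1, 6, 12, 16], [6, 3, 17, 12, 6], [2, 1, 6, 16, 6, 17], [2, 8, 17, 17, 22], [2, 24, 0, 2, 24], [6, 6, 13, 17], [2, 3, 18, 14, 16], [2, 4, 4, 18, 24], [6, 18, 1, 6, 1], [2, 8, 24, 9], [2, 19], [6, 15, 5, 0], [6, 6, 13, 16], [2, 21, 8, 15], [2, 9, 21], [2, 0, 6, 5, 2, 8], [2, 0, 20, 14, 6, 5], [2, 2, 17, 0, 16], [2, 8, 2, 23, 2], [2, 0, 0, 14, 8], [2, 2, 23], [2, 2, 20, 24, 4], [2, 8, 4, 23, 1], [2, 1, 3, 2, 12], [2, 0, 2, 5, 0, 18], [6, 3, 14, 4], [2, 3, 20, 4, 20], [2, 0, 10, 16, 8], [2, 5, 0, 10, 17], [2, 2, 8, 5, 6], [2, 4, 5, 12, 1], [2, 0, 6, 0, 18, 0], [6, 19, 17, 4, 2], [6, 22, 16, 10], [2, 0, 3, 5, 24], [6, 18, 13, 21], [6, 10, 8, 16], [2, 12, 5, 2, 0], [2, 9, 23, 0, 1], [2, 1, 2, 2, 3], [2, 15, 24, 16, 2], [2, 4, 6, 8, 21], [2, 13, 1, 24, 2], [2, 5, 2, 23], [2, 17, 2, 18, 24], [2, 5, 6, 8], [2, 12, 2, 12, 23], [2, 1, 17, 3, 6], [6, 16, 2, 20, 4], [6, 9, 5, 6], [2, 21, 12, 2, 22], [6, 3, 5, 16], [2, 14, 4, 6, 12], [6, 9, 11, 22], [2, 3, 2, 4, 21], [6, 16, 21, 16], [6, 7, 7, 24, 2], [2, 17, 4, 19, 23], [6, 23, 1, 8], [2, 12, 4, 10], [6, 12, 6, 21, 19], [2, 8, 3, 20], [2, 3, 17, 4, 4], [2, 3, 7, 23, 12], [2, 1, 2, 2, 14], [2, 7, 4, 4, 6], [6, 7, 5, 6, 13], [6, 0, 10, 19, 13], [2, 11, 0, 6, 9], [2, 15, 2, 9, 16], [6, 14, 8, 12], [2, 2, 12, 2, 1], [2, 13, 16, 6, 16], [2, 7, 19, 9, 2], [2, 17, 16, 2], [2, 0, 1, 13, 4], [2, 1, 12, 0, 1, 6], [2, 2, 21, 5, 21], [2, 2, 9, 4], [6, 11, 24, 11], [2, 2, 0, 16, 2, 1], [6, 17, 6, 23, 4], [2, 1, 6, 18, 4, 2], [2, 2, 14, 16, 16], [2, 1, 11, 20, 2], [6, 9, 14, 15], [6, 1, 21, 5], [6, 3, 13, 21], [2, 1, 24, 9, 6, 9], [6, 19, 9, 6, 6], [2, 0, 2, 17, 7, 11], [2, 1, 9, 24, 16], [2, 8, 2, 13, 2], [2, 1, 8, 3, 24], [2, 3, 15, 1, 19], [2, 12, 5, 13, 9], [6, 15, 1, 6, 20], [2, 5, 9, 14], [2, 10, 1, 8, 20], [2, 1, 3, 23, 0, 19], [2, 8, 14, 17, 0], [2, 3, 15, 1, 23], [2, 24, 12, 1], [2, 13, 3, 8, 2], [6, 18, 2, 13, 18], [2, 7, 6, 5, 14], [6, 9, 7, 15], [6, 19, 12, 7], [6, 8, 17, 14], [6, 12, 24, 4], [6, 12, 15], [6, 17, 6, 14, 4], [2, 9, 18, 16, 2], [2, 4, 5, 12, 22], [2, 0, 0, 18, 9], [2, 1, 9, 2, 11], [6, 13, 20, 5], [6, 0, 2, 4, 21], [2, 24, 3, 4, 14], [6, 5, 5, 6, 15], [2, 3, 9, 2, 14], [2, 11, 4, 2, 10], [6, 7, 22, 0], [2, 21, 4, 10], [2, 12, 19, 4, 4], [6, 18, 3, 0], [6, 7, 15, 0], [2, 9, 2, 1, 10, 4], [2, 8, 22, 6, 19], [2, 3, 14, 24, 20], [2, 9, 16, 23, 16], [2, 5, 4, 17], [6, 9, 6, 20, 15], [6, 1, 7, 12], [2, 0, 8, 20, 3], [2, 4, 23, 16, 22], [6, 19, 0, 2, 10], [6, 7, 22, 12], [2, 2, 11, 15, 8], [6, 5, 5, 9], [6, 8, 16, 24, 0], [2, 14, 6, 20, 11], [6, 0, 1, 11], [2, 0, 6, 5, 8, 14], [6, 1, 18, 20], [2, 5, 0, 21], [2, 3, 12, 4, 17], [6, 3, 24, 6, 15], [2, 5, 8, 1, 12], [2, 2, 19, 0, 16], [2, 9, 20, 2], [2, 0, 22, 6, 5, 10], [6, 18, 2, 24, 15], [2, 0, 0, 13, 2, 15], [2, 4, 8, 4, 6], [6, 18, 13, 17], [2, 10, 2, 14, 3], [2, 0, 13, 2, 16, 17], [2, 0, 2, 4, 7], [2, 7, 21, 14, 18], [2, 0, 20, 2, 13, 10], [2, 3, 0, 7, 1], [2, 8, 17, 17, 3], [2, 2, 1, 8, 6], [2, 11, 2, 7, 21], [2, 0, 1, 16, 18], [6, 3, 19, 13, 0], [2, 2, 19, 14, 20], [2, 4, 14, 4, 7, 6], [2, 1, 23, 6, 21, 2], [2, 1, 15, 11, 6, 1], [6, 7, 14, 3, 7], [2, 21, 0, 6], [6, 9, 19, 2, 7], [6, 16, 2, 16, 21], [2, 2, 5, 7, 11], [2, 12, 0, 6, 5], [6, 9, 11, 19], [2, 2, 16, 7, 4], [2, 19, 14, 6, 16], [2, 19, 22, 0, 6], [2, 2, 20, 12, 8], [2, 0, 3, 5, 21], [6, 23, 17, 0], [2, 1, 17, 10, 6, 11], [2, 0, 20, 6, 17], [6, 1, 12, 15, 6], [6, 7, 11, 4], [2, 10, 2, 21, 14], [6, 17, 7, 2, 24], [2, 9, 24, 6, 10], [2, 7, 12, 18, 15], [2, 0, 9, 6, 13, 1], [2, 3, 23, 9], [2, 13, 17, 24], [2, 13, 19, 22], [2, 12, 2, 23, 18], [2, 13, 17, 4, 4], [2, 7, 24, 0, 11], [2, 5, 0, 17, 10], [2, 1, 2, 9, 19, 6], [2, 0, 23, 6, 24, 7], [2, 7, 1, 7, 6], [2, 0, 22, 7, 16], [2, 3, 14, 2, 23], [2, 4, 15, 10, 16], [2, 1, 2, 0, 7], [2, 4, 8, 15, 14], [2, 17, 2, 24, 4], [2, 1, 4, 2, 21, 8], [2, 1, 6, 1, 11, 22], [2, 17, 7, 7], [2, 2, 9, 6, 11], [2, 5, 4, 11, 23], [2, 7, 1, 20, 23], [2, 4, 18, 6, 6], [2, 3, 9, 11, 6], [2, 10, 6, 20, 6], [2, 13, 16, 18, 2], [2, 7, 5, 4, 4], [2, 9, 24, 2, 3], [2, 2, 12, 21, 21], [2, 17, 6, 19], [6, 0, 18, 7, 16], [2, 1, 2, 2, 22, 16], [6, 1, 11, 5], [2, 1, 2, 20, 6], [2, 2, 20, 17], [6, 14, 7, 0], [2, 2, 8, 13, 11], [2, 4, 5, 7, 15], [2, 10, 6, 16, 6], [2, 0, 5, 13, 2, 11], [2, 5, 5, 8, 11], [2, 3, 15, 21, 21], [2, 3, 8, 12, 7], [2, 3, 16, 8, 21], [2, 15, 18, 9], [2, 19, 5, 8], [2, 0, 20, 2, 8, 1], [2, 13, 16, 9, 6], [2, 13, 18, 4, 4], [6, 20, 9, 5], [6, 1, 11, 1, 14], [6, 16, 1, 24], [2, 11, 6, 14, 15], [2, 2, 20, 7, 5], [6, 9, 6, 15], [2, 4, 1, 18, 2], [2, 4, 8, 22, 14], [2, 0, 18, 6, 13], [2, 3, 7, 0, 17], [6, 23, 6, 11, 17], [2, 13, 3, 21, 1], [2, 22, 9, 1], [2, 3, 7, 21, 13], [2, 20, 23, 14], [2, 7, 10, 17, 7], [2, 12, 16, 24, 7], [2, 20, 0, 5, 2], [2, 4, 7, 14, 23], [6, 22, 4, 15], [2, 17, 4, 7, 17], [6, 13, 2, 2, 18], [2, 3, 5, 0, 2, 16], [6, 22, 24, 0], [2, 15, 2, 16, 23], [6, 18, 13, 23], [2, 2, 0, 2, 24], [6, 7, 19, 7], [6, 9, 21, 12], [2, 0, 17, 3, 1], [2, 3, 15, 4, 12], [6, 10, 4, 17], [6, 4, 13, 3], [2, 1, 3, 2, 8, 4], [2, 2, 10, 23, 3], [6, 4, 16, 14, 15], [6, 18, 10, 0], [2, 20, 7, 0, 6], [6, 16, 2, 17, 24], [6, 4, 9, 17], [6, 10, 13, 8], [6, 0, 8, 14, 8], [6, 15, 18, 13, 2], [2, 23, 16, 16], [2, 3, 8, 18], [2, 21, 15, 11], [2, 3, 4, 6, 8], [2, 3, 19, 17], [2, 3, 7, 21, 24], [2, 14, 16, 2, 3], [2, 7, 13, 6, 13], [2, 7, 6, 9, 18], [2, 7, 4, 24], [2, 1, 13, 4, 11, 2], [6, 7, 24, 14, 6], [6, 13, 4, 2, 3], [6, 14, 8, 12, 2], [6, 0, 12, 1, 6], [6, 13, 2, 13, 10], [2, 2, 9, 14, 6], [2, 10, 2, 15, 20], [2, 1, 22, 9, 2], [2, 22, 13, 2, 8], [6, 8, 11, 19, 6], [2, 9, 6, 13], [2, 1, 2, 22, 8], [2, 0, 0, 23, 17, 6], [6, 3, 0, 2, 8], [6, 16, 18, 22, 6], [6, 14, 5], [2, 13, 20, 18, 2], [2, 1, 11, 2, 19], [2, 5, 24, 8, 6], [2, 10, 2, 4, 12], [2, 0, 6, 5, 19, 13], [2, 23, 2, 14], [2, 5, 9, 15, 6], [2, 17, 0, 1], [6, 12, 22, 19, 2], [2, 0, 6, 8, 18, 2], [2, 11, 2, 19, 15], [2, 0, 11, 22, 2, 24], [2, 4, 10, 0, 12, 2], [2, 9, 2, 14, 18], [6, 4, 16, 24, 6], [2, 4, 18, 5, 3], [2, 0, 11, 6, 14, 6], [2, 17, 2, 12], [2, 17, 2, 12, 20], [6, 24, 17, 0, 6], [2, 1, 0, 6, 9, 2], [2, 5, 17, 6, 10], [2, 9, 6, 19, 0], [2, 4, 16, 7, 22], [2, 19, 6, 9, 22], [6, 13, 17, 13, 2], [2, 10, 2, 23, 1], [2, 0, 2, 9, 4, 16], [2, 4, 17, 6, 18], [2, 0, 23, 6, 4], [2, 0, 11, 2, 14, 3], [2, 0, 22, 2, 5], [2, 23, 14, 6, 13], [6, 15, 6, 23, 21], [6, 11, 6, 21, 10], [2, 1, 1, 8, 6], [2, 9, 2, 10, 23], [2, 0, 17, 8, 21, 2], [2, 15, 18, 15, 6], [6, 18, 24, 21], [6, 18, 2, 8, 17], [2, 8, 22, 23, 6], [2, 11, 17, 2, 17], [2, 9, 4, 15, 19], [2, 11, 6, 13, 2], [2, 2, 4, 22, 18], [2, 1, 9, 2, 8], [2, 7, 7, 12, 6], [6, 22, 5, 6, 11], [6, 14, 4, 6, 20], [2, 4, 20, 7, 6], [2, 0, 13, 4, 16], [6, 18, 6, 14, 3], [2, 20, 7, 0], [2, 1, 13, 19, 5], [2, 10, 7, 5, 5], [2, 17, 2, 24, 10], [6, 10, 24, 6], [2, 2, 19, 2, 22], [2, 0, 9, 13, 16], [6, 23, 10, 3, 6], [2, 24, 10, 2, 16], [6, 4, 4, 10], [2, 0, 3, 11, 21], [6, 20, 1, 10, 6], [6, 7, 6, 5, 23], [6, 10, 23, 6, 18], [6, 5, 9, 11], [2, 7, 4, 23, 6], [2, 2, 8, 24, 0], [2, 21, 0, 5], [2, 0, 5, 24, 17], [6, 12, 22, 2, 5], [2, 1, 7, 16, 6], [2, 3, 8, 20, 6, 7], [2, 11, 5, 5, 2], [6, 12, 6, 4, 14], [2, 13, 17, 2], [2, 12, 23, 4, 7], [6, 15, 0, 22], [2, 0, 21, 2, 23, 1], [6, 15, 6, 15, 5], [2, 16, 2, 22, 7], [2, 2, 8, 20, 1], [2, 10, 2, 16, 14], [6, 12, 6, 23, 17], [6, 5, 17, 6], [2, 9, 20, 16, 13], [6, 18, 21, 6], [2, 12, 4, 4], [6, 20, 0, 16], [2, 4, 4, 9, 17], [2, 16, 2, 24, 10], [2, 3, 2, 2, 8], [2, 16, 4, 24, 9], [2, 4, 7], [6, 10, 13, 22, 6], [2, 21, 15, 2, 23], [2, 9, 24, 2, 19], [2, 11, 2, 17, 21], [2, 0, 1, 2, 12, 7], [2, 8, 13, 6, 0], [2, 22, 7, 5, 2], [2, 2, 13, 9, 8], [6, 18, 3, 2, 13], [2, 0, 10, 20, 6, 24], [2, 5, 19, 6, 8], [2, 2, 13, 24, 2], [2, 0, 23, 6, 1, 2], [6, 3, 5, 6, 11], [2, 11, 2, 14, 0], [6, 9, 21, 5], [2, 2, 7, 5, 5, 2], [6, 9, 5, 2], [2, 10, 2, 20, 15], [6, 5, 15, 15, 6], [2, 1, 0, 7, 24, 2], [6, 19, 2, 3, 19], [2, 9, 6, 21, 16], [2, 16, 20, 11, 1], [2, 3, 10, 2, 19], [2, 1, 24, 4, 6, 9], [6, 6, 18, 6, 17], [2, 0, 14, 6, 14], [2, 17, 2, 10, 22], [2, 17, 2, 1, 3], [2, 0, 6, 1, 8], [2, 1, 15, 1, 6], [2, 1, 4, 21, 2, 16], [2, 0, 2, 11, 17, 6], [2, 1, 10, 2, 22, 4], [2, 1, 12, 2, 1], [6, 16, 16, 1, 2], [2, 17, 0, 14, 23], [2, 4, 21, 1, 7], [2, 4, 12, 2, 18], [2, 10, 2, 5, 24], [2, 0, 8, 4, 2, 21], [6, 23, 6, 15, 12], [2, 7, 22, 11], [2, 5, 8, 6, 15], [2, 4, 2, 10, 23], [2, 3, 10, 14, 21], [6, 22, 7, 15, 0], [2, 21, 19, 2, 15], [6, 23, 12, 7, 2], [6, 1, 7, 19, 6], [2, 9, 4, 15, 11], [2, 11, 17, 2, 19], [6, 5, 7, 21], [6, 5, 18, 20], [2, 2, 1, 6, 10], [6, 13, 17, 13, 6], [2, 1, 8, 18, 2, 5], [2, 9, 0, 6, 6], [6, 10, 7, 12], [2, 5, 13, 11, 2], [2, 7, 6, 15, 17], [6, 19, 8, 22], [2, 8, 4, 21, 21], [6, 8, 1, 2, 12], [2, 8, 3, 6, 7], [2, 10, 2, 15, 18], [2, 0, 6, 0, 8], [2, 23, 14, 6, 12], [2, 13, 21, 2, 11], [2, 15, 6, 13, 2], [2, 9, 2, 1, 9], [2, 0, 1, 18, 6, 17], [2, 17, 11, 2, 21], [2, 23, 2, 17], [2, 2, 4, 13, 22], [6, 19, 6, 14, 23], [6, 15, 13, 6, 19], [2, 9, 6, 11, 24], [6, 1, 11, 4], [2, 8, 4, 6], [2, 17, 2, 0, 5], [2, 19, 2, 4, 2], [2, 10, 5, 2, 21], [6, 5, 11, 6, 17], [6, 14, 4, 6, 11], [2, 3, 19, 8, 4, 6], [2, 1, 8, 9, 24], [2, 4, 17, 6, 11, 3], [2, 4, 17, 6, 0, 8], [2, 8, 14, 6, 14], [2, 5, 3, 16, 19], [6, 1, 14, 6, 1], [2, 1, 22, 23, 10], [2, 7, 5, 11, 0], [2, 3, 8, 17, 5], [2, 10, 2, 18, 14], [2, 0, 13, 2, 13, 23], [6, 8, 1, 17, 2], [2, 8, 10, 20, 22], [6, 18, 2, 3, 15], [2, 1, 12, 6, 24, 12], [2, 1, 2, 2, 3, 9], [2, 10, 20, 4, 17], [6, 16, 2, 14, 17], [2, 2, 18, 12, 5], [2, 0, 0, 3, 16], [6, 16, 5, 21], [2, 5, 7, 2, 18], [2, 20, 1, 24], [6, 16, 6, 9, 23], [2, 7, 1, 19, 7], [6, 18, 3, 2, 0], [2, 16, 23, 15, 2], [2, 1, 2, 2, 17, 0], [2, 14, 23, 16, 2], [2, 10, 13, 24, 2], [2, 0, 7, 15, 6, 16], [2, 19, 8, 6, 7], [6, 9, 8, 9], [2, 2, 17, 19, 2, 3], [2, 17, 2, 11], [2, 13, 5, 5, 6], [2, 3, 8, 23, 6], [2, 2, 21, 6, 6, 0], [2, 0, 14, 4, 8, 6], [2, 12, 8, 24, 2], [6, 19, 1, 19], [6, 10, 2, 9, 14], [2, 16, 2, 11, 17], [2, 5, 6, 21, 12], [2, 3, 20, 4, 10], [2, 0, 13, 6, 4, 8], [2, 3, 1, 10, 2], [2, 0, 7, 10, 23], [2, 4, 2, 19, 6], [2, 0, 21, 2, 8, 20], [2, 12, 2, 0, 0], [2, 0, 17, 20, 5, 6], [2, 8, 10, 4, 6], [2, 3, 16, 7, 2, 10], [6, 10, 7, 14], [6, 4, 4, 1, 18], [2, 19, 4, 14, 22], [2, 21, 19, 14, 6], [6, 9, 13, 2, 15], [6, 12, 4, 6, 7], [2, 10, 3, 23, 6], [2, 4, 10, 2, 5, 9], [2, 0, 6, 5, 24, 3], [2, 1, 12, 6, 14, 3], [2, 2, 22, 11, 21], [6, 14, 5, 6, 12], [2, 9, 2, 17, 17], [2, 19, 13, 17, 6], [2, 2, 15, 4, 18], [6, 3, 11, 2, 9], [2, 4, 5, 5, 9], [6, 7, 14, 21, 8], [2, 10, 15, 8, 6], [6, 16, 6, 1, 2], [6, 18, 6, 11, 2], [2, 0, 23, 6, 5], [2, 23, 4, 12, 6], [6, 10, 2, 8, 18], [2, 22, 9, 2, 12], [2, 3, 5, 6, 19, 21], [6, 12, 4, 17], [2, 0, 17, 6, 10, 5], [6, 6, 23, 6, 15], [6, 22, 6, 7, 4], [2, 0, 7, 16, 24], [2, 1, 6, 7, 18, 2], [2, 4, 23, 15, 11], [2, 12, 0, 12, 24], [2, 4, 1, 15, 17], [2, 1, 14, 16, 13, 6], [6, 13, 12, 2, 20], [2, 7, 2, 22, 6, 21], [2, 0, 9, 6, 5], [6, 23, 2, 2, 22], [2, 9, 3, 6, 12], [2, 4, 13, 6, 19], [2, 0, 23, 4], [2, 4, 16, 2, 4], [6, 17, 2, 5, 5], [2, 16, 10, 2, 17], [2, 1, 1, 7, 21], [2, 9, 6, 17, 9], [2, 1, 2, 10, 18], [2, 8, 3, 17], [2, 13, 9, 8, 12], [2, 10, 2, 22, 11], [2, 4, 6, 21, 2], [2, 4, 2, 2, 7], [2, 16, 10, 20], [6, 12, 6, 12, 17], [2, 4, 4, 7, 16], [2, 5, 4, 19, 17], [2, 19, 3, 7, 19], [6, 15, 13, 6, 17], [2, 22, 3, 22], [2, 1, 4, 16, 20], [2, 8, 10, 22, 17], [2, 0, 17, 4, 16], [2, 1, 3, 4, 15], [2, 10, 5, 7, 14], [2, 4, 3, 6, 14], [2, 2, 8, 11, 6], [2, 4, 3, 6, 0, 24], [2, 21, 2, 9, 18], [2, 12, 0, 7, 24], [6, 1, 8, 5, 6], [2, 0, 8, 23, 11], [2, 3, 17, 0, 22], [2, 2, 23, 2, 23], [2, 7, 4, 13, 6], [2, 3, 7, 13, 0], [2, 12, 4, 14], [2, 4, 19, 22, 5], [2, 0, 15, 7, 3], [2, 0, 22, 17, 7], [2, 4, 12, 8, 5], [2, 5, 6, 24, 14], [2, 24, 2, 2, 11], [2, 10, 19, 2, 20], [2, 0, 12, 6, 4, 19], [2, 23, 4, 17], [2, 10, 19, 2, 11], [6, 16, 8, 15], [6, 0, 15, 20, 18], [2, 9, 16, 0, 1], [2, 5, 16, 10, 2], [6, 0, 13, 7], [6, 0, 15, 13], [2, 24, 4, 4], [2, 3, 4, 23, 5], [6, 4, 21, 4, 10], [2, 20, 13, 2, 15], [2, 17, 2, 2, 17], [2, 4, 21, 0, 6, 3], [2, 11, 0, 2, 13], [6, 12, 19, 10, 6], [6, 23, 18, 11], [2, 17, 21, 8, 2], [6, 24, 13, 19], [2, 2, 8, 19, 10], [6, 9, 22, 23], [2, 17, 2, 11, 19], [6, 1, 16, 6, 10], [2, 7, 1, 11, 6], [2, 1, 3, 14, 0], [2, 9, 17, 24, 6], [6, 3, 21, 10, 4], [2, 21, 6], [2, 22, 3, 2], [2, 20, 15, 17, 2], [2, 0, 15, 8, 19], [2, 7, 4, 2, 11], [2, 22, 2], [2, 16, 0, 10], [2, 4, 18, 23, 7], [2, 0, 12, 19, 8], [2, 1, 9, 21, 2, 19], [6, 17, 2, 23, 2], [2, 10, 0, 5, 11], [2, 15, 10, 2, 18], [2, 0, 0, 24, 8], [6, 7, 10, 0], [2, 3, 14, 4, 18], [2, 19, 3, 4, 23], [2, 13, 0, 2, 16], [6, 9, 7, 18, 6], [6, 23, 6, 14, 18], [6, 13, 3, 9, 2], [2, 15, 14, 18], [6, 1, 21, 20, 2], [6, 4, 9, 6, 19], [6, 1, 22, 6, 4], [2, 2, 24, 20, 5], [6, 19, 2, 2, 20], [6, 0, 21, 24, 7], [6, 0, 3, 14, 19], [6, 0, 21, 16], [2, 0, 14, 6, 4], [2, 7, 7, 12], [2, 5, 5, 13, 12], [2, 8, 22, 13], [6, 20, 11, 4, 2], [2, 0, 7, 0, 6, 4], [2, 1, 6, 20, 15], [2, 1, 23, 18, 9], [2, 0, 1, 7, 19, 6], [2, 7, 14, 8, 1], [2, 1, 11, 5, 20], [2, 10, 1, 18, 7], [6, 0, 20, 11, 6], [2, 1, 12, 7, 9], [2, 7, 2, 14, 21], [2, 7, 9, 13, 0], [2, 13, 20, 1], [2, 2, 0, 20, 0], [2, 15, 18, 20, 0], [2, 0, 9, 0, 6, 20], [6, 11, 18, 0, 6], [2, 15, 18, 15], [2, 5, 2, 19, 1], [2, 1, 2, 22, 16], [2, 0, 14, 2, 10, 6], [2, 2, 5, 21, 14], [2, 7, 19, 6, 22], [6, 7, 7, 16], [2, 2, 18, 15, 24], [6, 16, 9, 11], [2, 9, 1, 4, 20], [6, 12, 18, 2, 8], [2, 2, 0, 17, 23], [2, 1, 1, 8], [2, 15, 23], [6, 9, 2, 16, 21], [6, 11, 6, 20, 18], [6, 18, 13, 23, 6], [2, 17, 2, 2, 3], [6, 3, 11, 17, 0], [2, 7, 16, 6, 7], [6, 22, 16], [2, 9, 4, 21, 0], [6, 8, 20, 0], [2, 9, 2, 1, 15], [6, 14, 15, 2, 22], [6, 13, 18, 2, 11], [6, 3, 15], [6, 11, 6, 18, 9], [6, 19, 17], [6, 18, 11], [2, 2, 21, 1, 23], [6, 12, 2, 21, 10], [2, 0, 3, 12, 6, 17], [2, 0, 22, 6, 5], [2, 3, 16, 24], [6, 23, 6, 23, 22], [2, 3, 8, 13, 19], [2, 3, 11, 7, 3], [2, 1, 1, 3, 10], [6, 10, 2, 1, 18], [2, 0, 6, 1, 3, 10], [2, 1, 2, 2, 15, 4], [2, 2, 1, 21, 18], [2, 12, 2, 21, 24], [2, 10, 16, 2, 0], [2, 20, 15, 0, 23], [2, 3, 21, 0, 11], [2, 5, 20, 6, 11, 5], [6, 9, 8, 5], [6, 0, 10, 5, 3], [6, 1, 7, 10], [2, 2, 14, 8, 4], [2, 0, 20, 15, 7], [2, 4, 19, 5, 15], [2, 2, 15, 18, 2], [6, 16, 2, 18, 0], [2, 22, 8, 18], [2, 8, 1, 12], [2, 1, 16, 5, 8], [2, 4, 21, 12, 4], [2, 8, 9, 14, 22], [2, 17, 8, 19], [6, 18, 4, 5, 2], [6, 6, 3, 2, 3], [2, 2, 8, 18, 1], [2, 12, 24, 2, 15], [2, 2, 13, 9, 18], [2, 13, 17, 4, 19], [2, 2, 4, 8, 20], [6, 7, 21], [6, 9, 2, 2, 13], [6, 3, 11, 2, 13], [2, 2, 10, 22, 5], [6, 1, 0, 22], [6, 0, 3, 13, 9], [2, 2, 9, 4, 9], [6, 18, 23, 0], [6, 8, 5, 18, 7], [2, 0, 12, 6, 4, 8], [2, 1, 12, 6, 5, 11], [6, 3, 19, 5, 2], [2, 2, 12, 6, 17], [2, 0, 7, 16, 14], [2, 1, 1, 6, 6, 8], [2, 0, 16, 2, 11, 19], [2, 16, 5, 17, 2], [2, 1, 16, 0, 2], [2, 0, 6, 5, 0, 3], [2, 3, 13, 10, 13], [2, 5, 5, 9], [2, 5, 4, 12, 8], [2, 9, 4, 3, 2], [2, 4, 18, 8, 24], [2, 9, 5, 0, 22], [2, 8, 13, 0], [2, 10, 13, 12, 2], [2, 0, 6, 3, 6, 21], [6, 17, 4, 2, 16], [2, 20, 16, 6, 16], [2, 0, 6, 20, 6, 21], [2, 4, 3, 23, 0], [6, 13, 9, 22], [2, 0, 5, 7, 21], [2, 7, 17, 6, 11], [2, 5, 4, 6, 22, 10], [2, 9, 19, 2, 19], [2, 2, 8, 17, 17], [6, 9, 22, 16, 6], [6, 0, 9, 0, 15], [6, 5, 3, 9], [2, 17, 7, 4, 20], [2, 22, 0, 21, 2], [2, 12, 0, 23, 2], [6, 24, 6, 3], [2, 2, 23, 11, 4], [2, 4, 8, 15, 10, 2], [2, 0, 23, 3, 7], [6, 15, 6, 6], [6, 22, 5, 17], [6, 5, 11, 6, 12], [2, 1, 13, 6, 20, 8], [2, 0, 2, 0, 7, 14], [2, 1, 7, 4, 22], [2, 20, 2, 10], [2, 5, 21, 24, 15], [2, 4, 16, 4, 21], [2, 0, 21, 6, 5], [6, 22, 6, 19, 21], [2, 3, 1, 24, 6], [2, 21, 2, 15, 1], [6, 10, 18, 16], [6, 1, 11, 19, 2], [2, 4, 5, 10, 13], [2, 14, 0, 9, 1], [6, 10, 20], [2, 3, 4, 15, 2], [6, 13, 4, 8], [2, 14, 2, 11, 2], [6, 17, 11, 7], [2, 7, 9, 4, 9], [2, 0, 0, 7, 7], [6, 22, 8, 11], [6, 6, 3, 2, 15], [2, 9, 23, 2, 3], [2, 0, 11, 4, 16], [2, 17, 9, 5, 22], [2, 4, 14, 4, 7], [2, 7, 2, 9, 18], [2, 3, 17, 5, 24], [2, 1, 19, 17, 9], [6, 10, 6, 9, 8], [2, 14, 20, 2, 15], [2, 15, 17, 0], [2, 24, 15, 0], [2, 0, 3, 13, 11], [2, 24, 0, 11], [2, 0, 14, 15, 7], [2, 0, 7, 15, 8], [2, 0, 17, 6, 9, 22], [2, 2, 15, 21, 2, 7], [2, 2, 10, 3, 13], [6, 3, 5, 20, 15], [2, 2, 15, 9, 16], [6, 5, 15, 1], [6, 3, 15, 6, 16], [6, 7, 12, 3], [2, 0, 9, 23, 5, 2], [2, 13, 21, 2, 20], [2, 20, 4, 9, 0], [6, 22, 2, 3], [2, 8, 4, 17, 7], [6, 8, 13, 21], [2, 2, 8, 11, 17], [2, 14, 0, 1, 3], [2, 22, 24, 2, 7], [2, 1, 11, 6, 18, 21], [6, 1, 18, 10], [2, 11, 6, 5, 14], [2, 3, 6, 6, 13], [6, 18, 1, 9, 6], [2, 2, 20, 14, 0], [2, 9, 8, 13], [2, 2, 0, 19, 13], [2, 3, 8, 3, 5], [2, 12, 16, 5], [2, 8, 21, 5, 14], [6, 9, 2, 20, 15], [2, 0, 0, 20, 2], [2, 3, 17, 0, 23], [2, 0, 13, 8], [6, 24, 0, 2, 16], [2, 19, 22, 8, 2], [2, 17, 2, 21, 0], [6, 4, 9, 6], [2, 15, 11, 6, 22], [2, 24, 18, 2, 21], [2, 11, 2, 24, 21], [2, 21, 8, 2, 17], [2, 4, 6, 23, 2], [2, 23, 14, 6, 24], [6, 14, 1, 2], [2, 1, 12, 6, 8, 3], [2, 0, 0, 0, 17, 2], [2, 10, 15, 6, 17], [2, 17, 9, 2, 4], [6, 19, 6, 15, 23], [2, 20, 10, 6, 6], [2, 3, 21, 18, 6], [2, 0, 2, 4, 24, 11], [2, 4, 6, 8, 23], [2, 2, 0, 12], [6, 16, 2, 16, 14], [2, 11, 2, 16, 9], [6, 17, 6, 8, 18], [2, 0, 0, 19, 4], [6, 19, 14, 2, 2], [2, 1, 20, 17, 8, 6], [2, 17, 2, 10, 23], [2, 1, 3, 6, 1, 12], [2, 17, 2, 11, 20], [2, 1, 3, 20, 3, 6], [6, 9, 6, 18, 9], [6, 1, 16], [2, 3, 2, 13, 6, 10], [2, 1, 17, 13, 1, 6], [2, 10, 5, 6, 0], [6, 1, 12, 16], [6, 19, 5, 2, 20], [6, 1, 19], [2, 1, 16, 14, 6], [2, 2, 1, 15], [2, 20, 13, 6, 13], [2, 1, 12, 5, 2, 11], [6, 5, 16, 16, 2], [6, 0, 2, 8, 2], [2, 10, 2, 7, 13], [2, 4, 3, 6, 20], [2, 9, 6, 14, 20], [2, 2, 0, 16, 24], [2, 7, 24, 6, 16], [2, 3, 1, 13], [2, 7, 17, 14, 15], [2, 15, 18, 10], [2, 11, 6, 6, 10], [2, 0, 0, 17, 11], [2, 14, 4, 8, 19], [6, 22, 15, 0], [2, 21, 16, 6, 15], [2, 3, 19, 23, 6, 14], [2, 3, 9, 2, 24], [2, 15, 10, 6, 16], [2, 21, 8, 2, 16], [6, 3, 20, 4], [2, 4, 5, 20, 15], [2, 0, 0, 3, 20], [2, 7, 11, 5, 6], [2, 17, 13, 10, 6], [2, 3, 23, 8, 6], [6, 5, 12, 2], [2, 17, 2, 10, 4], [6, 17, 2, 2, 17], [2, 0, 9, 6, 1], [2, 4, 2, 16, 24], [2, 13, 24, 6, 15], [6, 16, 2, 11, 15], [2, 23, 2, 15, 12], [2, 15, 1, 6, 18], [2, 0, 8, 22, 3, 2], [2, 23, 2, 20, 0], [2, 15, 1, 6, 17], [2, 0, 7, 15, 2], [2, 19, 6, 10, 21], [6, 4, 14, 2, 24], [2, 2, 12, 3, 6], [2, 12, 2, 4, 16], [2, 4, 17, 6, 1], [6, 4, 8, 5, 2], [6, 10, 7, 12, 6], [2, 1, 10, 13, 1], [6, 22, 12, 16, 6], [6, 6, 5, 6, 12], [2, 8, 17, 2, 7], [2, 1, 9, 24, 18], [2, 0, 10, 16, 2, 14], [2, 5, 13, 11], [2, 4, 10, 17, 4], [2, 9, 1, 0, 11], [2, 1, 4, 1, 17, 6], [6, 10, 17, 6, 4], [2, 8, 18, 2, 17], [2, 4, 12, 17, 5], [6, 1, 24, 2, 14], [6, 8, 15, 10], [2, 2, 8, 10], [6, 17, 9, 23], [2, 0, 3, 11, 6, 20], [6, 20, 5, 2, 14], [2, 16, 8, 6, 5], [2, 20, 1, 1], [2, 0, 12, 6, 11, 5], [2, 15, 8, 18], [2, 14, 22, 3], [2, 3, 15, 8, 18], [2, 0, 2, 23, 6, 18], [2, 23, 3, 2, 15], [6, 22, 6, 17], [2, 0, 11, 21, 6, 19], [6, 5, 12, 6, 16], [2, 17, 0, 2, 0], [2, 9, 2, 17, 16], [2, 24, 4, 11], [2, 24, 11, 6, 21], [2, 0, 0, 3, 6, 20], [2, 17, 2, 17, 23], [2, 5, 6, 11, 24], [2, 1, 11, 17, 2], [2, 13, 7, 20, 6], [2, 5, 10, 20, 2], [6, 22, 4, 21], [2, 1, 24, 4, 6, 12], [2, 0, 20, 6, 19, 12], [2, 10, 20, 6, 4], [2, 8, 5, 6], [2, 3, 7, 21, 6], [2, 2, 8, 5, 11], [2, 4, 3, 7, 10], [2, 5, 0, 8, 21], [2, 23, 2, 7, 7], [2, 23, 2, 9, 24], [2, 5, 8, 18, 2, 18], [2, 3, 17, 4, 1], [2, 15, 1, 6, 19], [2, 23, 1, 8, 2], [6, 9, 3, 14], [6, 5, 7, 20], [2, 0, 2, 23, 6, 10], [2, 11, 7, 2, 23], [2, 22, 24, 14, 6], [2, 4, 1, 6, 13], [2, 3, 1, 11, 15, 2], [2, 3, 24, 9, 6], [2, 5, 0, 2, 13], [2, 2, 11, 3, 24], [6, 11, 23, 2, 21], [6, 14, 1, 2, 8], [2, 0, 21, 2, 24, 22], [6, 21, 23, 7], [2, 13, 24, 22, 6], [6, 15, 8, 19], [6, 14, 20, 23], [2, 3, 20, 15, 2], [6, 5, 15, 2, 24], [2, 4, 16, 2, 18], [2, 8, 20, 6, 7], [6, 7, 6, 3, 16], [2, 12, 16, 14, 2], [2, 5, 6, 8, 15], [2, 1, 4, 22, 2, 13], [2, 2, 16, 11, 6], [2, 12, 7, 14, 2], [2, 5, 6, 22, 5], [2, 22, 9, 2, 13], [6, 6, 6, 11], [2, 3, 17, 2, 11, 15], [2, 13, 4, 7, 7], [2, 0, 9], [2, 0, 9, 3], [2, 11, 0, 14, 6], [6, 12, 2, 19, 23], [2, 9, 2, 0, 0], [2, 5, 15, 20, 6], [2, 8, 3, 6, 12], [2, 16, 0, 2, 7], [6, 19, 2, 13, 7], [2, 9, 3, 7, 12], [2, 17, 2, 22, 4], [2, 0, 2, 23, 17, 6], [6, 4, 6, 6, 16], [2, 1, 24, 5, 3], [2, 0, 2, 4, 17], [2, 1, 24, 5, 24], [2, 10, 20, 5], [2, 20, 24, 5], [6, 19, 6, 8, 13], [6, 9, 2, 21], [2, 9, 6, 9, 18], [2, 3, 2, 17, 11], [2, 0, 2, 4, 17, 19], [2, 13, 15, 24], [2, 10, 20, 5, 20], [2, 7, 2, 4, 2], [2, 1, 1, 2, 5, 18], [2, 3, 7, 3, 11], [2, 7, 19, 13, 1], [2, 3, 15, 8, 10], [2, 3, 8, 12, 18], [2, 17, 23, 8], [2, 2, 16, 0, 15], [6, 12, 2, 4, 4], [6, 0, 15, 21, 6], [2, 0, 1, 6, 0, 23], [2, 0, 20, 6, 7], [2, 2, 1, 15, 13], [2, 4, 9, 13, 2, 7], [2, 1, 0, 6, 10], [6, 1, 11, 16], [2, 0, 12, 24, 1], [2, 2, 7, 2, 8, 10], [2, 1, 14, 0, 3], [2, 4, 3, 7, 20], [2, 1, 11, 0, 19], [2, 9, 15, 2, 10], [2, 21, 6, 3], [6, 22, 20, 4], [6, 6, 1, 2, 10], [6, 18, 2, 7, 1], [2, 13, 20, 12, 6], [2, 3, 23, 9, 6], [2, 9, 18, 13, 6], [2, 3, 12, 7, 2, 22], [2, 2, 10, 13, 20], [6, 15, 8, 4], [2, 23, 14, 2], [2, 3, 9, 16, 19, 6], [2, 0, 23, 5], [2, 2, 8, 2, 2], [2, 10, 7, 6, 21], [2, 2, 11, 21, 18], [6, 16, 13, 3], [2, 8, 4, 20, 7], [2, 1, 2, 2, 10, 20], [6, 6, 4, 20, 6], [2, 0, 1, 2, 13, 4], [6, 12, 23, 11, 6], [6, 24, 17], [6, 15, 15, 6], [6, 18, 15, 11], [2, 0, 20, 14, 0], [6, 5, 6, 3], [2, 17, 2, 23, 21], [2, 16, 2, 5, 16], [2, 5, 6, 23, 14], [2, 3, 16, 17, 0], [2, 1, 2, 2, 8, 5], [2, 8, 0, 19, 14], [2, 4, 13, 21, 14], [2, 0, 7, 7, 23], [2, 10, 21, 20, 6], [2, 4, 7, 15, 8], [2, 4, 3, 23, 10], [2, 3, 7, 3, 6], [2, 11, 4, 13, 24], [2, 1, 1, 0, 3], [6, 1, 12, 8], [6, 7, 6, 13, 10], [6, 15, 6, 24, 7], [2, 4, 23, 11, 1], [6, 7, 12, 16], [6, 10, 23, 7], [2, 2, 20, 13, 3], [2, 14, 6, 12], [2, 0, 1, 18, 10], [6, 17, 4, 2, 22], [2, 10, 2, 5, 16], [2, 0, 2, 20, 6, 15], [6, 3, 11, 21, 2], [2, 3, 10, 14, 5], [6, 5, 18, 0, 2], [2, 3, 8, 9], [2, 7, 7, 5, 13], [2, 15, 15, 22], [2, 1, 0, 7, 20, 2], [6, 18, 2, 1, 20], [2, 0, 10, 20, 6, 15], [6, 19, 0, 17], [2, 9, 2, 11, 16], [2, 5, 0, 22, 2], [6, 5, 24, 18], [6, 21, 19, 18], [6, 5, 11, 6, 13], [6, 5, 5, 2, 7], [2, 20, 2, 24, 16], [2, 5, 9, 15, 18], [2, 7, 4, 10, 2], [2, 1, 16, 22, 7], [2, 7, 2, 9], [2, 1, 3, 13, 0], [6, 5, 15, 8, 2], [2, 9, 23, 21, 5], [2, 1, 21, 9, 1], [2, 7, 2, 22, 9], [2, 13, 5, 3, 16], [2, 1, 13, 12, 1], [2, 1, 21, 4, 14], [2, 0, 2, 19, 5, 22], [6, 18, 2, 2, 20], [6, 18, 18, 8], [2, 23, 12, 4, 18], [6, 1, 2, 8], [6, 19, 13, 0], [2, 21, 4, 22], [2, 0, 14, 1, 0], [2, 0, 2, 3, 22, 6], [2, 21, 6, 6, 15], [2, 4, 4, 1, 8], [2, 4, 17, 1, 0], [2, 16, 11, 16], [2, 17, 3, 9], [2, 0, 21, 4, 24], [2, 8, 19, 15, 19], [2, 16, 14, 7, 6], [2, 2, 13, 18, 2, 15], [6, 18, 2, 8, 14], [2, 17, 9, 6, 21], [2, 2, 16, 10, 3], [6, 4, 17, 15, 6], [2, 2, 12, 7, 16], [2, 19, 13, 6, 10], [2, 9, 4, 9], [2, 0, 22, 6, 10, 6], [6, 10, 24, 2], [2, 23, 2, 1], [6, 15], [2, 1, 1, 6, 3, 11], [2, 0, 20, 2, 3, 12], [2, 12, 19, 6, 6], [2, 3, 7, 3, 12], [2, 0, 13, 2, 20, 14], [2, 17, 14, 15], [2, 11, 3, 22], [2, 15, 18], [2, 0, 11, 6, 14, 2], [6, 16, 11, 1], [2, 24, 4, 13, 21], [2, 21, 4, 10, 18], [2, 17, 2, 20], [2, 3, 17, 2, 20], [6, 11, 2, 17], [2, 10, 23, 4, 24], [2, 0, 12, 16, 2, 24], [6, 22, 5, 3], [2, 8, 20, 3, 0], [2, 9, 16, 16, 0], [2, 1, 3, 6, 10], [6, 5, 22, 1], [2, 11, 3, 6, 21], [2, 16, 1, 1, 0], [6, 1, 23, 21, 3], [2, 7, 4, 2, 22], [2, 20, 0, 13, 22], [2, 0, 15, 5, 6, 23], [2, 0, 6, 1, 19, 5], [2, 2, 20, 6, 16], [6, 5, 20, 10], [6, 1, 2, 19, 15], [6, 15, 4, 6, 14], [2, 21, 16, 21], [6, 3, 8, 0], [2, 21, 19, 15], [2, 5, 5, 8, 17], [2, 8, 5, 5, 5], [2, 3, 7, 16, 14], [2, 2, 9, 6, 14], [2, 5, 23, 6], [2, 2, 9, 1], [2, 2, 15, 14], [2, 0, 8, 18, 4, 6], [2, 9, 2, 20, 22], [6, 17, 16], [2, 22, 17, 4, 11], [6, 5, 19, 23, 8], [6, 18, 22, 7], [2, 21, 4, 4], [6, 19, 3], [2, 17, 16, 2, 7], [2, 13, 24, 6], [2, 0, 21, 2, 18, 4], [2, 14, 3, 6], [2, 0, 18, 4, 6, 13], [2, 11, 2, 17, 8], [2, 23, 2, 14, 16], [2, 15, 21, 6, 13], [2, 9, 5, 13, 6], [6, 23, 17, 2], [2, 3, 23, 6, 7], [6, 18, 2, 1, 16], [6, 5, 7, 21, 6], [6, 23, 2, 3, 10], [2, 12, 16, 6, 18], [2, 4, 17, 6, 3, 11], [2, 0, 8, 2, 18, 6], [6, 5, 11, 6, 24], [2, 2, 14, 8, 2, 24], [2, 0, 2, 7, 14, 7], [2, 5, 16, 13], [6, 15, 6, 12, 8], [2, 15, 8, 6, 5], [6, 15, 15, 2], [2, 2, 13, 21, 17], [2, 11, 20, 23, 6], [2, 9, 17, 20, 6], [6, 8, 20, 16, 2], [2, 17, 12, 1, 6], [6, 6, 18, 6, 19], [2, 2, 17, 12, 21, 2], [6, 11, 2, 24, 7], [2, 4, 22, 8, 15], [2, 4, 2, 14, 19, 6], [2, 21, 2, 24, 3], [2, 4, 6, 4, 19], [2, 2, 12, 1, 13], [6, 4, 6, 4, 24], [2, 4, 3, 17, 12], [2, 8, 21, 0, 3], [2, 3, 8, 11, 6], [6, 19, 0, 2, 7], [2, 4, 5, 17, 6], [2, 21, 12, 2, 11], [6, 23, 12, 7], [6, 19, 6, 21, 5], [2, 3, 20, 15, 0, 2], [2, 0, 2, 14, 24, 22], [2, 5, 13, 15], [6, 18, 12, 6, 9], [2, 1, 8, 9, 17], [2, 1, 11, 5, 11], [2, 1, 11, 4, 24], [2, 0, 0, 13, 2, 9], [6, 5, 18, 19], [2, 2, 13, 24], [6, 8, 4, 17], [2, 22, 8, 6, 3], [2, 13, 23, 17, 6], [2, 11, 2, 12, 0], [2, 7, 6], [2, 7, 17, 4, 2], [6, 10, 16, 8], [6, 0, 3, 20, 8], [2, 2, 4, 20, 10], [2, 19, 6, 9, 21], [2, 14, 0, 2, 23], [2, 5, 19, 9, 2], [6, 19, 14, 6], [6, 14, 7, 6], [6, 5, 11, 6, 0], [6, 15, 24, 5, 6], [2, 1, 19, 9, 24], [2, 13, 24, 6, 10], [6, 23, 6, 22, 2], [2, 2, 10, 6, 22, 4], [2, 1, 3, 2, 9, 21], [2, 1, 3, 9, 8, 6], [6, 22, 6, 11, 22], [2, 21, 2, 0, 1], [2, 14, 0, 5, 11], [2, 11, 2, 9, 20], [2, 3, 5, 19, 6, 12], [2, 0, 6, 24, 1, 24], [6, 4, 8, 4], [6, 16, 2, 16, 23], [2, 11, 20, 4, 11], [2, 4, 17, 0, 24], [6, 18, 20, 24], [2, 1, 15, 21, 23, 2], [2, 16, 1, 2, 7], [2, 1, 16, 14, 2], [2, 1, 9, 19, 12], [2, 0, 13, 12, 6, 19], [2, 13, 5, 0], [2, 10, 1, 8, 8], [2, 22, 5, 9], [6, 13, 2, 10, 3], [2, 8, 3, 6, 19], [2, 2, 8, 2, 19, 5], [2, 0, 16, 2, 7], [2, 19, 24, 13, 2], [2, 3, 10, 7, 2], [2, 22, 7, 2, 3], [2, 7, 18, 14], [6, 12, 2, 11, 22], [2, 13, 22, 19, 2], [6, 14, 17, 2, 2], [2, 7, 3, 14], [2, 0, 2, 4, 24, 20], [2, 7, 3, 21, 9], [2, 7, 7, 18], [2, 3, 24, 7, 15], [2, 3, 9, 0, 2, 9], [2, 0, 20, 21, 2, 3], [2, 7, 3, 2, 13, 5], [2, 1, 3, 2, 7, 16], [2, 3, 23, 6, 19], [2, 23, 2, 1, 7], [2, 1, 7, 2, 2, 22], [2, 2, 18, 8], [2, 20, 5, 21, 2], [2, 21, 2, 13, 0], [2, 11, 2, 20], [2, 1, 4, 6, 19], [2, 4, 1, 6, 13, 10], [6, 15, 17, 12], [6, 20, 7, 11], [2, 2, 10, 14, 8], [2, 11, 16, 11, 6], [6, 7, 23, 6, 16], [2, 0, 8, 17, 2, 24], [6, 8, 0, 23, 2], [2, 0, 2, 4, 20, 6], [6, 6, 18, 13, 2], [6, 14, 1, 0, 2], [2, 1, 2, 5, 23], [6, 14, 17, 2, 0], [2, 23, 10, 16, 6], [2, 22, 17, 22, 2], [2, 17, 1, 2], [6, 10, 24, 0, 2], [2, 13, 0, 21, 23], [2, 3, 15, 1, 22], [2, 12, 5, 12, 20], [2, 3, 15, 21, 21, 6], [2, 1, 13, 6, 8], [2, 17, 13, 6, 16], [2, 1, 15, 4, 19], [2, 1, 6, 22, 12], [2, 1, 16, 9, 17], [2, 7, 3, 9, 6], [2, 24, 13, 1, 24], [2, 9, 24, 11, 2], [2, 1, 12, 5, 14], [2, 10, 1, 9, 19], [2, 13, 1, 12, 5], [2, 8, 24, 5, 14], [2, 7, 19, 13, 0], [2, 3, 0, 9, 18], [2, 9, 23, 2, 15], [2, 8, 5, 2, 14], [2, 1, 8, 23, 7, 2], [2, 16, 24, 2, 14], [2, 1, 14, 0, 6], [2, 13, 21, 2, 17], [2, 16, 0, 1, 14], [6, 13, 16, 8], [2, 2, 15, 13, 21], [2, 4, 8, 4, 2], [6, 16, 16, 10], [2, 16, 0, 1], [2, 2, 8, 12], [2, 4, 9, 24, 6], [6, 16, 17], [2, 1, 7, 19, 2], [2, 0, 12, 5, 2, 19], [2, 5, 6, 12, 0], [2, 11, 15, 2, 11], [2, 9, 6, 12, 19], [2, 3, 15, 23, 19], [2, 9, 6, 13, 11], [2, 7, 10, 19], [2, 7, 19, 24, 5], [2, 17, 7, 16, 5], [6, 8, 23, 21, 6], [2, 11, 8, 2, 8], [2, 3, 23, 15, 10], [2, 8, 17, 11, 22], [2, 1, 10, 5, 17], [2, 3, 8, 17, 3], [2, 7, 16, 16, 8], [2, 0, 6, 5, 0, 20], [6, 10, 6, 20, 2], [6, 13, 19, 23, 6], [2, 0, 2, 9, 23, 7], [2, 1, 7, 4, 21], [6, 5, 7, 16, 6], [2, 1, 11, 3], [2, 4, 16, 4, 22], [2, 11, 5, 12], [2, 1, 17, 23, 13, 6], [6, 11, 6, 1, 23], [2, 1, 2, 16, 2], [6, 9, 16, 12], [2, 15, 7, 2, 18], [6, 8, 16, 21], [6, 9, 3, 20], [2, 1, 14, 2, 16], [2, 20, 13, 6, 8], [2, 19, 4, 17, 13], [2, 0, 1, 10, 7], [6, 8, 23, 19], [6, 13, 1, 19], [6, 13, 3, 22], [2, 2, 9, 18, 13], [2, 19, 5, 6, 4], [6, 18, 6, 3, 14], [2, 1, 7, 16, 17], [2, 0, 22, 4, 23], [2, 1, 18, 2, 23], [2, 13, 5, 8], [2, 11, 3, 1, 24], [2, 1, 9, 18, 3], [6, 15, 2, 8, 23], [2, 3, 24, 9, 6, 12], [2, 3, 10, 17, 6, 0], [2, 20, 13, 11, 6], [2, 0, 1, 15, 9], [2, 8, 2, 2, 10], [2, 0, 0, 8, 18], [2, 0, 5, 9, 21], [2, 0, 0, 19, 22], [6, 13, 7, 10, 6], [6, 15, 6, 17, 22], [6, 19, 17, 6], [6, 17, 8, 13], [2, 1, 13, 19, 18, 6], [2, 10, 2, 23, 0], [2, 1, 6, 0, 14, 17], [2, 13, 7, 5, 9], [2, 24, 2, 7, 20], [2, 7, 18, 0, 18], [2, 4, 17, 5, 2], [2, 4, 15, 7, 4], [2, 0, 12, 5, 14, 2], [2, 2, 13, 18], [6, 3, 15, 6], [6, 22, 8, 24], [2, 14, 3, 4, 2], [2, 0, 13, 8, 0, 2], [2, 4, 6, 4, 17], [6, 12, 4, 16], [2, 7, 15, 2, 20], [2, 0, 11, 8, 21], [2, 7, 15, 0, 18], [2, 1, 1, 4, 18], [2, 16, 2, 11, 22], [2, 7, 4, 2], [2, 4, 11, 8], [2, 3, 9, 8, 0], [2, 12, 6, 11, 0], [6, 19, 5, 10], [2, 4, 13, 3], [2, 8, 22, 18, 6], [2, 8, 18, 2, 21], [6, 0, 3, 12], [2, 0, 3, 12, 1], [2, 2, 1, 6, 7], [2, 24, 2, 14, 8], [2, 1, 23, 10, 22], [2, 1, 2, 1, 16], [2, 4, 2, 21, 0], [2, 2, 21, 2, 2], [2, 1, 11, 4, 21], [2, 5, 7, 24, 10], [2, 20, 3, 2, 15], [2, 24, 4, 10], [6, 5, 18], [2, 4, 16, 1], [6, 18, 10, 2], [2, 17, 7, 10, 6], [6, 15, 24, 10], [2, 2, 9, 1, 21], [6, 3, 24, 20, 7], [2, 2, 20, 17, 17], [2, 16, 6, 20, 1], [6, 16, 13, 11], [2, 12, 15, 14, 6], [2, 2, 11, 20, 6, 11], [2, 3, 8, 23, 2], [2, 24, 3, 6, 15], [2, 0, 14, 4, 8, 2], [2, 1, 16, 14, 21, 6], [6, 20, 0, 2, 3], [2, 2, 5, 23, 6, 18], [6, 21, 5, 17], [6, 8, 14, 22, 6], [6, 12, 2, 13], [2, 4, 16, 6, 19], [2, 4, 6, 14, 18], [2, 2, 1, 17, 2, 8], [2, 2, 21, 6], [2, 0, 8, 22, 2, 18], [2, 0, 7, 2, 3], [2, 10, 8, 2, 17], [2, 1, 13, 2, 8, 11], [2, 9, 5, 5, 2], [2, 7, 11, 24, 13], [2, 24, 2, 3, 1], [2, 2, 0, 3, 5], [2, 15, 8, 19], [2, 7, 19, 8, 12], [2, 13, 11, 6, 7], [6, 10, 7, 6, 19], [2, 4, 6, 4, 18], [2, 11, 4, 18, 15], [2, 21, 2, 18, 19], [2, 0, 11, 8, 24], [2, 19, 15, 19, 0], [6, 5, 22, 2, 4], [6, 6, 9, 6, 9], [6, 22, 6, 23, 14], [2, 1, 13, 16, 6, 22], [2, 2, 12, 15, 2, 5], [2, 0, 6, 5, 8, 23], [2, 0, 6, 1, 1, 10], [2, 5, 19, 6, 24, 22], [6, 0, 2, 12], [2, 1, 6, 10, 7, 2], [6, 12, 21, 2, 10], [2, 2, 10, 8, 2, 5], [2, 2, 17, 10], [6, 15, 15, 2, 9], [2, 9, 3, 4, 14], [2, 7, 6, 22, 20], [6, 7, 1, 22], [2, 12, 23, 19, 6], [2, 4, 19, 0, 2], [2, 9, 23, 6], [2, 0, 16, 2, 12], [2, 20, 6, 19, 2], [2, 21, 2, 11, 4], [2, 1, 1, 14, 2, 19], [2, 10], [2, 13, 11, 6, 4], [2, 16, 8, 6, 7], [2, 10, 16, 5, 6], [2, 23, 8, 17], [2, 0, 2, 5, 8, 13], [2, 19, 3, 23], [2, 4, 20, 4], [2, 19, 23], [2, 17, 5, 7, 2], [2, 1, 3, 10, 2], [2, 1, 6, 0, 9, 2], [6, 9, 11, 6, 6], [6, 10, 2, 12, 3], [2, 0, 15, 4, 8, 2], [2, 11, 2, 18, 5], [6, 1, 11, 1], [2, 2, 8, 2, 0, 12], [2, 12, 2, 16, 7], [2, 21, 2, 3, 7], [2, 7, 21, 4, 12], [2, 14, 20, 2, 23], [2, 9, 18, 0, 16], [2, 4, 11, 23, 10], [2, 2, 22, 5, 10], [6, 5, 10, 2, 21], [2, 13, 5, 2, 4], [2, 0, 17, 6, 18, 3], [2, 4, 13, 18, 19], [2, 0, 14, 6, 1], [6, 16, 12, 21, 5], [6, 12, 4, 18], [2, 4, 1, 21, 16], [6, 9, 6, 8, 3], [2, 15, 6, 3, 19], [6, 1, 22, 16, 12], [6, 5, 11, 4], [6, 21, 3, 5], [6, 1, 15, 21, 13], [6, 15, 1, 23], [6, 18, 6, 0, 16], [6, 8, 15, 2, 10], [2, 1, 17, 1, 2], [2, 0, 5, 13, 2, 20], [2, 7, 17, 2], [2, 23, 2, 0, 20], [2, 4, 16, 19, 4], [2, 8, 20, 17], [2, 7, 17, 21, 16], [6, 23, 12, 6, 18], [6, 9, 0, 0], [6, 23, 0, 17], [2, 1, 7, 1, 15], [2, 3, 1, 7, 1], [2, 10, 17, 1, 24], [2, 3, 7, 22, 16], [2, 1, 13, 2, 12, 19], [2, 10, 8, 6, 5], [6, 14, 20, 2, 11], [2, 5, 3, 12, 2], [2, 4, 7, 6, 24], [2, 3, 15, 7, 2, 18], [2, 2, 23, 19], [2, 0, 0, 12], [2, 2, 24, 6, 6], [2, 11, 1, 7, 2], [6, 13, 9, 20], [6, 21, 2, 14], [2, 2, 2, 1, 12], [2, 4, 8, 0, 8], [6, 8, 13, 24], [6, 7, 4, 11], [2, 1, 3, 2, 16], [2, 13, 5, 5, 2], [2, 8, 23, 13, 2], [2, 12, 19, 2, 13], [2, 22, 2, 19, 24], [2, 12, 2, 16, 24], [2, 1, 0, 16, 17], [2, 2, 2, 19, 10], [2, 0, 9, 1, 19], [2, 10, 2, 24, 5], [2, 3, 11, 0, 2, 16], [2, 0, 3, 12, 6, 18], [2, 22, 10, 13], [6, 9, 6, 11, 4], [2, 20, 13, 22], [2, 1, 4, 9, 15], [2, 12, 23, 13], [6, 11, 1, 2, 19], [2, 8, 22, 23, 15], [2, 1, 10, 5, 16], [2, 22, 13, 21], [2, 16, 1, 21], [2, 16, 14, 15], [2, 4, 11, 15, 4], [2, 7, 10, 2, 15], [2, 5, 6, 14, 22], [2, 8, 16, 19, 2], [2, 4, 1, 17, 5], [2, 1, 0, 7, 17], [2, 2, 15, 1, 9], [2, 16, 18, 4, 17], [2, 2, 1, 15, 20], [6, 6, 6, 6, 3], [2, 2, 18, 12, 6, 9], [2, 10, 13, 20, 6], [6, 12, 24, 6, 17], [6, 4, 16, 2, 8], [2, 13, 21, 0, 2], [6, 1, 21, 4, 6], [2, 1, 11, 6, 12], [2, 15, 22, 0], [2, 21, 17, 6, 16], [2, 3, 14, 19, 6, 14], [6, 18, 9, 23, 2], [2, 5, 12, 2, 15], [6, 9, 22, 11, 2], [2, 0, 10, 0, 20, 2], [2, 0, 9, 6, 19], [2, 16], [2, 10, 2, 18, 20], [6, 17, 2, 5, 23], [2, 0, 2, 4, 20, 7], [2, 8, 24, 22], [2, 2, 23, 15, 2], [2, 15, 13, 18], [6, 0, 8, 2], [2, 7, 16, 12], [2, 2, 12, 7, 6, 12], [2, 0, 3, 19, 6, 22], [6, 4, 5, 2, 7], [2, 4, 7, 15, 12], [2, 12, 2, 10, 23], [2, 2, 5, 11, 1], [2, 2, 4, 6, 7], [2, 0, 23, 0, 0], [6, 7, 10, 6, 15], [2, 1, 8, 2, 14], [6, 3, 13, 23, 6], [2, 0, 6, 8, 0, 8], [2, 11, 2, 7, 13], [2, 2, 10, 6, 5, 13], [2, 5, 0, 9, 2], [6, 16, 4, 19], [6, 11, 6, 23, 22], [2, 1, 15, 17, 2, 8], [2, 10, 6, 6, 10], [6, 7, 5, 9], [2, 21, 16, 6, 8], [6, 5, 4, 19], [2, 1, 16, 6, 0], [2, 9, 4, 13, 18], [6, 22, 6, 7, 2], [2, 11, 5, 6, 5], [2, 0, 8, 17, 2, 21], [2, 1, 17, 14, 3, 6], [2, 3, 15, 6, 11, 24], [2, 1, 13, 6, 10, 24], [2, 1, 20, 6, 16], [2, 19, 16, 0], [2, 4, 1, 2, 2, 18], [2, 12, 2, 4, 20], [2, 0, 2, 16, 9, 8], [2, 1, 1, 15, 0, 3], [6, 18, 6, 21, 7], [2, 10, 5, 5], [2, 10, 1, 23, 15], [2, 5, 12, 0, 7], [6, 0, 22, 6, 11], [2, 10, 5, 2, 3], [6, 13, 9, 19, 2], [2, 16, 12, 0], [2, 2, 17, 6, 18], [2, 1, 17, 7, 15], [2, 2, 0, 17, 1], [2, 13, 20, 15, 5], [2, 8, 14, 6, 22], [2, 8, 17, 15, 5], [2, 1, 11, 5, 9], [2, 7, 3, 16, 1], [2, 1, 14, 6], [2, 13, 0, 7, 6], [2, 3, 0, 17, 14], [2, 20, 2, 8, 22], [2, 22, 5, 6, 5], [6, 11, 6, 12], [6, 16, 2, 10, 20], [6, 21, 24, 16], [2, 3, 19, 23, 2, 22], [2, 19, 0, 11, 1], [2, 0, 0, 3], [6, 0, 12, 20, 22], [2, 4, 7, 3, 2, 10], [6, 1, 22, 5], [2, 4, 5, 23, 15], [6, 11, 24, 13], [6, 5, 12, 24, 4], [2, 10, 20, 2, 1], [6, 10, 5, 7], [2, 12, 0, 15, 2], [2, 17, 2, 15, 12], [2, 21, 14, 24, 6], [2, 13, 23, 13, 6], [2, 0, 8, 21, 19], [2, 1, 20, 11, 6, 8], [2, 0, 13, 19], [2, 20, 4, 7, 9], [2, 0, 3, 16, 10], [2, 7, 19, 22, 6, 18], [6, 20, 11, 6, 15], [6, 15, 13, 2, 20], [2, 3, 17, 1, 24], [2, 9, 6, 11, 20], [6, 16, 6, 9], [6, 6, 22, 13], [2, 8, 13, 20, 21], [2, 7, 10, 2, 13, 7], [2, 7, 9, 17], [2, 13, 3], [2, 11, 23, 5, 22], [2, 3, 13, 15, 18], [2, 9, 8, 20, 9], [2, 5, 11, 4, 15], [6, 9, 6, 0], [2, 1, 8, 6, 6], [2, 0, 7, 18, 5], [2, 0, 3, 13, 7], [2, 0, 12, 7], [2, 8, 0, 16, 17], [2, 0, 17, 3, 19], [2, 4, 9, 15, 7], [6, 17, 15, 4, 2], [2, 5, 8, 16, 6, 13], [2, 10, 2, 13, 24], [2, 21, 13, 2, 1], [2, 0, 2, 17, 11, 5], [6, 10, 2, 4, 9], [2, 20, 0, 2, 4], [2, 4, 24, 6, 5], [2, 2, 12, 22, 0], [2, 1, 13, 11, 6, 8], [2, 1, 6, 24, 5, 8], [6, 12, 6, 18, 10], [2, 3, 8, 8, 11], [2, 4, 18, 6, 5], [2, 1, 8, 5, 6], [2, 3, 18, 9, 3], [2, 9, 14, 22, 18], [6, 20, 23, 2, 16], [6, 8, 21, 11, 6], [6, 9, 20, 9, 6], [2, 0, 17, 6, 9], [2, 4, 16, 14, 2, 24], [6, 7, 6, 15, 14], [2, 16, 2, 18, 22], [2, 1, 0, 23, 12], [2, 2, 14, 19, 6], [2, 2, 16, 9, 2, 5], [2, 0, 20, 13, 6, 19], [2, 0, 3, 10, 14], [2, 1, 13, 17, 6, 14], [6, 18, 19, 6], [2, 0, 8, 14, 3], [2, 0, 8, 14], [2, 17, 2, 9, 18], [2, 0, 23, 6, 23], [2, 0, 23, 6, 19], [6, 1, 13, 3], [2, 16, 2, 7], [6, 7, 17, 6], [6, 8, 23, 5], [2, 1, 0, 10, 24], [6, 10, 0, 10, 6], [2, 16, 4, 13, 20], [2, 4, 3, 23, 12], [2, 4, 19, 7, 10], [6, 10, 8, 4], [2, 1, 20, 0, 17], [2, 2, 18, 3, 4], [2, 16, 2, 21, 18], [6, 12, 2, 13, 16], [2, 0, 13, 6, 9], [2, 9, 6, 4, 4], [2, 1, 1, 24, 1], [6, 17, 12, 2, 9], [2, 0, 23, 2, 4], [2, 17, 15, 19], [2, 16, 9, 13], [2, 0, 2, 9, 5, 5], [2, 7, 21, 14, 3], [2, 0, 21, 1, 0], [2, 12, 16, 19, 21], [6, 4, 10, 0, 12], [2, 3, 23, 13, 23], [2, 7, 11, 24], [2, 4, 13, 6, 3], [2, 3, 16, 11, 2, 0], [6, 6, 14, 2, 0], [2, 5, 5, 9, 2, 3], [2, 1, 10, 2, 13, 12], [6, 14, 0, 23, 2], [2, 3, 9, 2, 0], [6, 9, 24, 2, 1], [2, 2, 4, 11, 21], [2, 12, 16, 14, 6], [2, 9, 16, 5, 6], [2, 4, 10, 2, 5, 21], [6, 16, 23, 8], [2, 0, 9, 6, 6], [2, 7, 20, 4, 22], [2, 2, 4, 11, 24], [6, 14, 19, 13], [2, 14, 21, 6, 17], [2, 16, 22, 23, 6], [2, 20, 1, 6], [6, 23, 13, 4], [6, 17, 2, 5, 6], [2, 2, 5, 23, 13], [2, 11, 8, 11, 6], [2, 0, 0, 16, 20], [6, 11, 6, 13, 17], [6, 13, 23, 13], [2, 8, 10, 6], [2, 20, 16, 6], [2, 9, 20, 4, 1], [2, 0, 1, 0, 11], [2, 0, 0, 16, 22], [6, 13, 7, 24, 2], [2, 0, 11, 6, 9, 4], [2, 21, 2, 0, 7], [6, 21, 0, 6, 16], [2, 2, 8, 24, 7], [6, 13, 4, 24, 2], [6, 17, 10, 8], [2, 7, 23, 4, 11], [6, 20, 14, 18], [6, 17, 6, 16, 20], [6, 8, 8, 13], [2, 2, 13, 10], [2, 2, 10, 4, 15], [6, 17, 1], [2, 12, 15, 4, 4], [6, 12, 18, 24], [2, 0, 9, 6, 6, 23], [2, 3, 23, 6, 11, 8], [2, 8, 4, 5], [2, 2, 12, 5, 22], [6, 7, 17, 12], [2, 2, 12, 5, 24], [2, 15, 2, 10], [2, 7, 4, 15, 1], [2, 1, 11, 6, 5, 21], [2, 2, 14, 8, 11], [6, 18, 1, 10], [6, 17, 11, 24], [2, 9, 2, 9, 21], [6, 7, 1, 15], [2, 9, 2, 9, 20], [2, 11, 0, 2, 10], [6, 3, 5, 6, 13], [2, 1, 18, 5, 6, 4], [6, 23, 6, 8, 17], [2, 8, 2, 16, 5, 18], [2, 15, 8, 17], [6, 17, 2, 17, 17], [2, 24, 7, 24], [2, 9, 16, 2, 1], [6, 22, 3, 0], [6, 3, 15, 2, 2], [2, 7, 11], [2, 3, 19, 22, 14], [2, 3, 15, 8, 17], [2, 9, 14, 20, 24], [2, 3, 2, 21, 7], [2, 21, 14, 18], [2, 4, 6, 6, 12], [6, 1, 3, 6, 8], [6, 19, 12, 6, 10], [2, 4, 23, 0, 2], [6, 18, 16, 2], [2, 0, 2, 0, 0, 15], [6, 1, 12, 24], [2, 4, 7, 22, 1], [2, 2, 1, 10, 22], [2, 16, 2, 22, 24], [2, 0, 7, 3], [2, 2, 4, 6, 13], [6, 14, 2, 2], [2, 0, 16, 8, 10], [2, 0, 10, 16, 7], [6, 6, 0, 13, 9], [2, 0, 6, 1, 22, 8], [2, 2, 14, 18, 24, 6], [2, 0, 7, 1, 16], [6, 19, 1, 11], [2, 3, 15, 0, 9], [2, 0, 11, 24, 16], [2, 0, 3, 17, 17], [2, 0, 3, 21, 18], [2, 8, 1, 2, 24], [2, 22, 6, 15], [6, 4, 2, 9, 17], [2, 4, 1, 2, 9], [2, 12, 2, 11, 22], [2, 4, 21, 7], [2, 0, 9, 19, 6, 4], [2, 0, 2, 5, 6, 16], [2, 23, 15, 2, 20], [2, 1, 6, 24, 5, 10], [2, 3, 16, 4, 2], [2, 9, 3, 20, 14], [2, 5, 2, 20, 7], [2, 3, 14, 5, 9], [2, 23, 16, 13], [6, 6, 18, 8], [2, 5, 3, 12, 0, 2], [2, 7, 17, 2, 15], [2, 9, 16, 18], [2, 15, 20, 17, 14], [2, 4, 3, 6, 8, 15], [2, 1, 2, 12, 20], [6, 15, 20, 6, 16], [2, 5, 8, 6, 3], [2, 11, 18, 2, 7], [6, 12, 24, 6, 16], [2, 0, 10, 3, 24, 2], [6, 4, 3, 6, 0], [2, 12, 0, 13, 23], [2, 0, 1, 8, 6, 11], [2, 21, 6, 10, 5], [6, 15, 8, 1], [2, 4, 22, 3, 5], [6, 9, 5, 2, 7], [2, 1, 13, 2, 23, 19], [6, 12, 6, 13, 24], [2, 4, 2, 10, 3], [6, 23, 6, 9], [2, 11, 17, 19], [2, 24, 7, 3], [2, 13, 3, 23], [2, 23, 0, 6, 7], [2, 3, 19, 1, 22], [2, 15, 24, 20], [2, 0, 12, 24, 0], [2, 22, 18, 16], [2, 21, 3, 18], [2, 1, 4, 23, 8], [2, 19, 0, 5, 2], [6, 5, 6, 6, 3], [2, 9, 1, 13, 6], [2, 0, 3, 14, 24], [2, 2, 2, 13, 12], [2, 17, 23, 4, 11], [2, 0, 16, 11, 2], [2, 15, 6, 16, 20], [2, 5, 6, 9, 24, 14], [2, 0, 9, 2, 10, 6], [6, 10, 16, 10, 6], [2, 2, 19, 14, 6], [6, 15, 19, 14], [6, 4, 10, 21, 6], [6, 23, 13, 18], [2, 19, 4, 10, 14], [6, 0, 17, 12], [6, 22, 6, 1, 8], [2, 0, 13, 23, 0], [6, 15, 20, 17], [2, 0, 16, 0, 3], [2, 2, 2, 0, 7], [2, 2, 14, 8, 14], [2, 2, 22, 0, 10], [2, 12, 1, 6, 15], [2, 2, 5, 2, 15, 0], [6, 11, 5, 13, 2], [2, 24, 2, 24, 3], [2, 1, 3, 23, 16], [2, 0, 8, 2, 17, 16], [2, 11, 22, 16, 1], [2, 7, 19, 7, 0], [2, 12, 5, 20], [6, 0, 22, 2, 13], [2, 3, 18, 1, 1], [6, 6, 1, 17], [2, 12, 1, 1], [2, 12, 5, 24], [2, 1, 4, 9, 5], [2, 3, 0, 16], [2, 2, 14, 6, 6], [2, 14, 15, 2, 3], [2, 1, 8, 3, 19], [2, 7, 1, 15, 1], [2, 11, 5, 3], [2, 5, 4, 24, 1], [6, 6, 1, 15, 22], [2, 1, 23, 7, 21], [6, 10, 6, 23, 3], [2, 9, 15, 18, 0], [2, 8, 17, 8, 5], [2, 10, 16, 1, 12], [6, 18, 6, 19, 21], [2, 1, 14, 17, 24], [2, 12, 2, 1, 4], [6, 8, 1, 10, 2], [2, 3, 15, 6, 23], [6, 4, 9, 6, 20], [2, 17, 6, 23, 17], [2, 2, 9, 24, 15], [2, 19, 13, 4, 2], [2, 7, 6, 15], [2, 2, 15, 13, 10], [6, 3, 13, 6], [2, 3, 9, 2, 23], [2, 4, 12, 19, 1], [2, 21, 4, 14], [2, 0, 5, 10, 23], [2, 0, 21, 2, 0, 12], [2, 0, 5, 22, 12], [2, 16, 24, 2, 21], [2, 5, 4, 6, 6, 15], [2, 10, 13, 6, 4], [2, 2, 7, 2, 13], [2, 7, 0, 21, 14], [2, 7, 19, 14, 0], [2, 2, 24, 1, 2], [2, 2, 2, 21, 13], [2, 0, 3, 14, 20], [2, 14, 2, 15, 19], [2, 5, 18, 6, 0, 7], [2, 13, 10, 6, 24], [2, 3, 20, 8, 19], [6, 15, 14, 2], [2, 8, 1, 12, 7], [2, 11, 7, 5, 3], [2, 17, 23, 9], [2, 0, 9, 5, 0], [2, 0, 1, 6, 9, 22], [2, 1, 3, 5, 16], [2, 7, 0, 15, 0], [2, 13, 11, 5], [2, 1, 3, 1, 2, 16], [2, 2, 17, 7, 2], [2, 2, 18, 20, 2, 1], [6, 3, 11, 18, 2], [6, 3, 10, 2], [2, 2, 17, 19, 1], [6, 21, 18, 4, 12], [2, 0, 14, 7, 19], [2, 3, 4, 23, 2], [6, 1, 3], [6, 7, 24, 2, 12], [2, 0, 3, 19, 6, 21], [2, 17, 3, 10, 6], [2, 7, 1, 11, 2], [6, 4, 6, 4, 21], [2, 9, 17, 24, 2], [2, 10, 13, 4, 1], [6, 24, 6, 18], [2, 7, 9, 19, 2], [2, 8, 0, 23, 21], [2, 1, 0, 18, 11], [2, 2, 8, 2, 8], [6, 16, 23, 6, 22], [2, 0, 12, 6, 19], [2, 23, 9, 15], [2, 22, 2, 4, 2], [2, 1, 23, 11, 1], [2, 1, 2, 16, 18], [2, 1, 1, 21, 7], [2, 13, 20, 0, 2], [2, 17, 11, 15], [6, 3, 0, 15], [2, 7, 1, 18, 7], [2, 3, 15, 14, 16], [2, 12, 6, 3], [2, 0, 11, 0, 19], [6, 8, 20, 6, 19], [2, 1, 21, 16, 6], [2, 5, 0, 10, 16], [2, 1, 12, 4, 6], [2, 5, 0, 7, 3], [2, 3, 20, 4, 11], [2, 4, 20, 12, 19], [2, 0, 18, 21, 7], [2, 0, 2, 9, 8, 6], [2, 23, 2, 7, 21], [2, 9, 2, 9, 0], [2, 1, 11, 1, 20, 6], [2, 4, 5, 15, 24], [2, 13, 17, 6, 24], [6, 0, 3, 21, 9], [2, 13, 24, 4, 1], [2, 2, 14, 3, 0], [2, 9, 2, 11, 4], [6, 0, 15, 19], [2, 17, 24, 6, 22], [2, 2, 17, 9, 1], [2, 2, 11, 7, 3], [2, 7, 4, 1], [2, 17, 0, 5, 23], [2, 1, 24, 7, 10, 2], [2, 22, 7, 12, 6], [2, 0, 3, 2, 5, 7], [6, 1, 23, 2, 5], [2, 0, 18, 4, 14], [2, 15, 20, 17, 6], [2, 3, 12, 1, 22], [2, 3, 1, 17, 10], [2, 8, 3, 22, 11], [2, 9, 6, 18, 13], [2, 17, 3, 7], [2, 24, 8, 8], [2, 7, 12, 7, 3], [2, 8, 14, 1, 13], [2, 13, 12, 24, 15], [2, 1, 13, 18, 5], [2, 4, 13, 6, 23], [6, 10, 2, 8, 19], [2, 8, 6, 6, 6], [6, 11, 16, 2, 19], [2, 2, 2, 15, 21], [6, 1, 16, 6, 18], [2, 17, 9, 0, 20], [2, 0, 23, 8, 20], [6, 1, 9, 14, 8], [2, 0, 0, 16, 2, 1], [2, 22, 4, 23], [2, 10, 0, 10], [2, 10, 0, 10, 3], [2, 2, 23, 2, 15], [2, 4, 11, 7, 20], [6, 21, 12, 4], [2, 21, 2, 9, 3], [2, 7, 3, 2, 14, 21], [2, 4, 7, 18, 23], [2, 4, 9, 20, 17], [2, 12, 0, 14, 15], [2, 2, 23, 2, 19], [2, 2, 2, 9, 8], [2, 4, 3, 22, 13], [2, 2, 7, 2, 24, 1], [2, 8, 6, 4, 10], [2, 1, 0, 18, 3], [2, 3, 20, 0, 9], [2, 1, 3, 6, 13, 8], [2, 4, 22, 15, 13], [2, 3, 5, 6, 7, 11], [6, 6, 23, 6, 7], [6, 19, 6, 0, 10], [2, 3, 13, 24, 2], [2, 7, 21, 8, 3], [2, 4, 4, 1, 12], [2, 7, 16, 5, 15], [6, 23, 10, 0], [2, 2, 0, 24, 20], [6, 23, 0, 18], [6, 15, 19, 6, 16], [2, 8, 18, 13, 8], [2, 1, 15, 2, 23], [2, 14, 21, 15], [6, 24, 6, 0, 16], [6, 18, 0], [6, 12, 6, 24], [2, 3, 16, 6, 7], [2, 7, 17, 11, 2], [2, 3, 5, 16, 2], [2, 16, 6, 0, 17], [2, 8, 3, 4, 19], [2, 2, 5, 11, 22], [6, 11, 18, 8, 1], [2, 2, 22, 15], [2, 2, 23, 8], [2, 1, 13, 11, 21, 6], [2, 2, 10, 21], [2, 0, 5, 11], [6, 18, 9, 5], [2, 1, 3, 22, 24, 6], [2, 14, 1, 4, 9], [2, 11, 17, 2, 7], [2, 13, 0, 3, 2], [2, 11, 2, 19, 7], [2, 21, 2], [2, 7, 11, 20, 0], [2, 0, 3, 17, 8], [2, 0, 11, 8], [2, 3, 23, 13, 0], [2, 4, 14, 20, 23], [2, 9, 4, 6, 13], [2, 21, 2, 8, 14], [2, 1, 3, 14, 2], [2, 15, 0, 2, 23], [2, 3, 20, 18, 5], [2, 3, 18, 14, 19], [2, 8, 15, 7, 19], [2, 15, 8, 8], [2, 8, 19, 16, 20], [6, 22, 18, 5, 6], [2, 8, 19, 16, 24], [2, 20, 1, 8], [2, 8, 10, 21, 15], [2, 0, 22, 6, 5, 21], [2, 9, 1, 14, 18], [2, 4, 6, 22, 14], [6, 9, 2, 12, 5], [6, 19, 6, 3, 10], [2, 5, 20, 0, 8], [2, 2, 24, 5, 14], [2, 0, 17, 19, 8], [6, 11, 2, 23], [2, 2, 2, 16, 12], [2, 15, 12, 6, 18], [2, 4, 2, 19, 2], [6, 10, 2, 1, 12], [2, 0, 9, 23, 1, 2], [2, 10, 8, 6, 1], [2, 9, 2, 13, 17, 5], [6, 17, 10, 13], [6, 12, 6, 4, 17], [2, 21, 4, 15, 0], [2, 2, 11, 23], [2, 2, 7, 16, 8], [6, 7, 15, 2, 20], [6, 7, 22, 7, 6], [2, 0, 23, 6, 1], [6, 4, 17, 3], [2, 1, 24, 9, 6, 22], [2, 16, 1, 2, 18], [2, 9, 18, 6, 11], [2, 3, 16, 9, 0], [6, 9, 8, 6, 17], [2, 5, 18, 22, 16], [2, 20, 5, 16, 13], [2, 21, 1, 7, 7], [6, 18, 12, 18, 6], [6, 21, 18], [2, 4, 24, 1, 0], [6, 7, 16, 11], [6, 10, 2, 19, 7], [2, 24, 22, 3, 6], [2, 2, 17, 4, 2, 17], [6, 16, 10, 1], [2, 2, 11, 8, 6, 8], [6, 16, 8, 4], [2, 4, 7, 0, 2], [2, 2, 17, 9, 2], [2, 8, 11, 22, 6], [2, 10, 1, 0, 9], [2, 11, 4, 19], [2, 2, 1, 17, 21], [2, 7, 20, 10, 0], [2, 4, 10, 15, 19], [2, 4, 9, 3, 11], [6, 11, 24, 15, 2], [6, 9, 13, 2, 4], [6, 9, 13, 8], [2, 4, 5, 24, 17], [6, 22, 24, 2], [2, 0, 2, 15, 5, 22], [2, 12, 24, 0], [2, 9, 19, 0], [2, 0, 22, 2, 22], [2, 3, 11, 17, 1], [2, 14, 16, 5, 15], [2, 5, 7, 15, 15], [2, 0, 2, 1, 4, 11], [6, 0, 5, 3], [2, 2, 15, 8, 6], [6, 14, 24, 3], [2, 9, 2, 3, 7], [6, 22, 1, 7, 2], [6, 1, 2, 20], [2, 2, 14, 7, 22], [2, 2, 16, 18, 22], [2, 2, 9, 17], [2, 2, 9, 18, 0], [6, 7, 12, 5], [2, 3, 10, 17, 6, 21], [2, 4, 17, 6, 19], [2, 0, 2, 10, 22, 5], [6, 9, 22, 6, 9], [2, 1, 22, 13], [2, 0, 2, 0, 7, 19], [2, 5, 22, 17], [2, 21, 1, 12], [2, 20, 5, 17, 21], [2, 24, 1, 10, 2], [2, 10, 2, 4, 3], [2, 0, 11, 6, 10, 5], [6, 13, 5, 14], [2, 5, 6, 7, 0, 19], [2, 15, 4, 8, 13], [6, 13, 19, 10, 5], [6, 13, 9, 8], [2, 0, 0, 19, 2, 19], [6, 0, 12, 5], [6, 3, 5, 9], [6, 22, 23, 10], [6, 0, 9, 18], [6, 13, 3, 24], [6, 0, 21, 7, 14], [2, 1, 3, 2, 21, 15], [2, 0, 2, 0, 20], [2, 1, 10, 23, 5], [2, 7, 2, 12, 19], [2, 1, 20, 2, 3], [2, 4, 16, 4, 24], [2, 8, 24, 5, 11], [2, 5, 10, 4, 7], [2, 0, 2, 9, 11, 22], [6, 10, 2, 4, 23], [6, 16, 9, 2, 2], [2, 1, 13, 2, 7, 17], [2, 21, 8, 19], [2, 1, 9, 16, 2, 13], [2, 14, 15, 23], [2, 7, 5, 6, 21], [2, 15, 10, 20], [6, 5, 13, 12, 6], [6, 13, 6, 18], [2, 16, 21, 12], [2, 3, 20, 15, 9], [2, 5, 4, 19, 9], [2, 7, 7, 17, 21], [2, 14, 16, 17, 11], [2, 19, 1, 7, 2], [2, 0, 21, 2, 11, 3], [2, 9, 2, 11, 21], [2, 13, 5, 10, 2], [2, 0, 5, 16, 17], [6, 1, 10, 18, 6], [6, 23, 5, 14], [6, 10, 16, 12], [2, 9, 22, 4, 4], [2, 24, 18, 2, 20], [6, 13, 24], [6, 3, 15, 0, 18], [6, 24, 4, 3], [2, 2, 18, 19, 22], [2, 10, 14, 2, 5], [2, 24, 1, 4, 17], [2, 3, 5, 19, 6, 3], [6, 12, 2, 23, 5], [6, 21, 9, 6, 19], [2, 19, 2, 2, 5], [2, 0, 7, 7, 18, 4], [2, 0, 2, 12, 5, 8], [2, 10, 7, 0], [2, 10, 7, 3, 0], [2, 1, 24, 1, 14], [6, 9, 2, 20, 5], [2, 3, 0, 16, 22], [2, 11, 5, 10, 3], [2, 8, 21, 14, 2], [2, 13, 19, 12, 1], [2, 10, 20, 2, 4], [2, 1, 24, 6, 16], [2, 0, 2, 13, 23, 21], [2, 0, 2, 13, 17, 22], [2, 1, 16, 21, 9], [2, 2, 2, 4, 18], [2, 1, 11, 4, 10], [2, 3, 10, 7, 0], [2, 11, 1, 0, 15], [2, 13, 0, 21], [6, 9, 2, 22, 5], [2, 4, 12, 19, 4], [2, 9, 16, 11, 1], [2, 14, 8, 4, 4], [2, 3, 17, 1, 2], [2, 5, 8, 10], [2, 0, 2, 0, 15, 13], [2, 7, 10, 20, 6], [6, 12, 2, 5], [6, 22, 6, 18, 9], [2, 11, 6, 21, 0], [2, 2, 21, 14, 4], [6, 1, 15, 21, 5], [2, 2, 2, 13, 1], [6, 0, 23, 13], [2, 0, 1, 23, 3], [6, 18, 2, 10, 22], [2, 2, 11, 8, 11], [2, 4, 5, 16, 18], [2, 7, 23, 6, 23], [2, 0, 6, 11, 0, 23], [6, 13, 7, 14], [6, 7, 6, 9, 0], [2, 1, 12, 6, 20], [2, 9, 2, 18], [2, 2, 1, 2, 14, 23], [2, 13, 24, 1, 19], [2, 9, 7, 18], [2, 8, 5, 10, 18], [2, 3, 15, 24, 21], [2, 3, 2, 14, 7], [2, 13, 0, 1], [2, 1, 16, 2, 1, 6], [2, 10, 15, 12], [2, 2, 19, 6, 24], [2, 13, 20, 5], [6, 10, 6, 1, 23], [2, 5, 0, 12, 0], [2, 12, 2, 9, 4], [2, 19, 9, 2, 3], [2, 13, 18, 22, 2], [2, 2, 15, 2, 15], [2, 0, 13, 4, 14], [2, 0, 22, 2, 12], [2, 1, 14, 6, 7], [2, 0, 2, 17, 2], [2, 11, 5, 19, 9], [2, 1, 8, 9, 8], [2, 0, 2, 12, 15, 21], [2, 22, 7, 10, 2], [6, 10, 19, 11], [2, 2, 13, 12, 19], [2, 7, 10, 7, 2], [2, 2, 21, 0, 13], [6, 0, 19, 15], [2, 19, 4, 10, 23], [6, 15, 6, 16], [2, 0, 1, 8, 17], [6, 11, 23, 10], [6, 18, 18, 20], [2, 1, 2, 2, 18, 24], [6, 0, 8, 12], [2, 13, 3, 6, 12], [2, 1, 11, 18, 1, 6], [6, 17, 12, 6, 21], [2, 7, 16, 0, 13], [2, 1, 18, 2, 5], [2, 1, 16, 16, 12], [2, 1, 18, 4, 2], [2, 11, 1, 20, 13], [2, 1, 6, 24, 9], [6, 9, 13, 6, 4], [6, 14, 7, 6, 24], [2, 9, 2, 19, 13], [6, 13, 0, 20], [6, 3, 5, 19, 13], [2, 0, 1, 13, 16], [6, 18, 9, 1], [2, 2, 8, 18, 21], [6, 0, 13, 15, 7], [2, 0, 17, 6, 22, 2], [6, 17, 6, 19, 8], [6, 0, 23, 11, 7], [2, 17, 6, 17, 10], [6, 5, 21, 8], [2, 1, 6, 8, 18], [2, 14, 15, 12, 0], [2, 7, 2, 5, 9], [2, 10, 1, 10, 15], [2, 2, 0, 22, 0], [2, 5, 16, 1, 10], [2, 1, 15, 24, 16], [2, 2, 10, 2, 14], [6, 0, 22, 10], [6, 17, 4], [6, 0, 10], [6, 23, 8, 2, 9], [2, 12, 8, 22, 6], [2, 3, 23, 0, 16], [2, 8, 21, 16, 0], [2, 2, 16, 23, 4], [2, 4, 3, 21], [2, 0, 21, 14, 8], [2, 24, 0], [2, 5, 6, 17, 17, 22], [2, 5, 0, 22, 12], [2, 2, 0, 19, 0], [2, 1, 10, 6, 18], [6, 24, 6, 17], [2, 0, 8, 15, 10], [6, 6, 3, 2, 1], [6, 18, 2, 18, 4], [6, 13, 18, 9, 2], [6, 19, 12, 19], [6, 5, 22, 13], [2, 21, 4, 8, 8], [6, 6, 4, 20, 2], [2, 11, 17, 3, 0], [2, 9, 0, 1, 12], [2, 1, 13, 20, 24], [6, 10, 6, 22, 3], [2, 5, 11, 0, 13], [2, 22, 0, 24, 2], [2, 1, 13, 6], [2, 1, 8, 12, 1, 6], [6, 19, 21, 20], [2, 23, 2, 22, 7], [2, 2, 10, 6, 5, 20], [6, 7, 21, 6], [2, 2, 5, 9, 16], [2, 2, 20, 0], [6, 5, 13, 10], [6, 20, 9, 6, 3], [2, 4, 19, 2], [2, 3, 14, 3, 6], [2, 0, 6, 20, 5, 16], [2, 14, 3, 6, 24], [2, 11, 0, 6, 10], [2, 1, 21, 6, 20], [6, 12, 20, 14, 6], [2, 2, 21, 16, 5], [2, 2, 19, 13, 6], [2, 15, 23, 2, 7], [2, 2, 9, 23, 18], [2, 0, 0, 15], [2, 15, 2, 17, 2], [2, 3, 23, 16, 2, 1], [2, 21, 16, 6, 19], [2, 0, 5, 18, 22], [6, 19, 6, 7, 18], [2, 0, 6, 0, 12, 16], [2, 8, 22, 8, 6], [2, 2, 0, 24, 13], [2, 9, 20, 6], [2, 7, 5, 11, 1], [2, 4, 3, 4], [2, 8, 11, 24], [2, 17, 1, 4, 2], [2, 2, 1, 13, 5], [6, 15, 4, 17], [6, 16, 7, 23], [2, 24, 3, 6, 8], [2, 5, 19, 9, 6], [2, 0, 2, 21, 0, 15], [6, 1, 18, 12, 20], [2, 5, 10, 6, 4], [2, 4, 24, 14, 2], [2, 17, 0, 11, 3], [2, 7, 4, 17, 5], [2, 0, 6, 16, 5, 2], [2, 2, 2, 9, 17], [6, 13, 10, 5], [2, 3, 18, 2, 19], [2, 7, 10, 14, 0], [2, 20, 4, 9, 20], [2, 10, 0, 12, 21], [2, 0, 20, 6, 16, 21], [2, 8, 1, 6, 16, 0], [2, 2, 9, 21, 12], [2, 2, 8, 17, 21], [2, 2, 10, 19, 0], [6, 9, 2, 14, 3], [2, 11, 19, 11], [2, 3, 16, 14], [2, 8, 11, 15], [2, 11, 15], [6, 17, 0, 12], [2, 5, 17, 1, 15], [2, 4, 6, 9, 20], [2, 2, 9, 22, 12], [2, 19, 4, 1], [2, 2, 9, 21, 18], [6, 18, 2, 17, 1], [2, 8, 0, 2, 24], [2, 0, 5, 7, 7], [2, 10, 16, 4, 7], [6, 16, 24, 10], [2, 2, 23, 17], [2, 2, 14, 4, 15], [6, 1, 22, 1], [6, 6, 18, 15, 2], [6, 16, 2, 0], [2, 0, 13, 2, 24, 10], [6, 13, 10, 14, 2], [2, 3, 17, 3, 9], [6, 17, 2], [2, 8, 3, 9], [2, 21, 13], [2, 9, 14, 21], [6, 11, 23, 2, 4], [2, 5, 23, 13, 6], [2, 1, 8, 2, 10, 4], [6, 0, 5, 8, 16], [2, 4, 14, 1, 2], [2, 0, 2, 2, 21], [2, 0, 14, 0, 15], [6, 10, 4, 9], [2, 0, 21, 1, 2, 5], [6, 15, 10, 6, 6], [6, 15, 5, 20, 6], [2, 1, 16, 8, 16], [6, 4, 12, 16, 2], [2, 8, 9, 0, 8], [2, 10, 7, 5, 9], [2, 0, 22, 2, 9], [6, 5, 17, 4, 2], [2, 1, 7, 18, 24], [2, 12, 5, 21, 15], [2, 20, 5, 11], [2, 22, 7, 5], [2, 8, 14, 19, 5], [2, 1, 13, 16, 20], [6, 23, 5, 6, 19], [2, 2, 0, 2, 18, 22], [6, 3, 10, 16, 22], [6, 5, 21, 24], [6, 8, 17, 23], [6, 3, 21], [2, 5, 0, 8, 5], [6, 14, 3, 21], [6, 16, 1, 23, 2], [6, 12, 6, 17, 13], [2, 3, 16, 22, 5], [2, 8, 10, 1], [2, 20, 16, 1], [2, 3, 23, 7, 7], [2, 15, 13, 20, 1], [2, 20, 18, 14], [2, 7, 4, 15, 2], [2, 2, 20, 3, 6], [2, 4, 13, 6, 4, 13], [2, 3, 23, 6, 10], [2, 0, 18, 0, 16], [2, 1, 8, 2, 21], [6, 5, 4, 3], [6, 15, 5, 10], [6, 3, 12, 15], [2, 14, 5, 19, 6], [2, 0, 8, 4, 8, 2], [2, 3, 5, 3, 2], [2, 12, 23, 16, 0], [2, 3, 1, 14, 6], [2, 4, 24, 1, 13], [6, 9, 15, 1], [2, 7, 20, 15, 0], [2, 0, 13, 2, 4, 21], [6, 11, 5, 20, 5], [2, 0, 20, 8, 11], [2, 8, 0, 9, 14], [2, 10, 13, 0], [2, 4, 18, 1, 13], [2, 4, 24, 7, 15], [2, 0, 6, 1, 14, 23], [6, 5, 18, 2, 10], [2, 0, 21, 5, 22], [6, 15, 13, 21], [6, 23, 17, 6], [6, 0, 5, 24], [2, 8, 4, 20, 9], [6, 13, 5, 21], [2, 11, 2, 0, 15], [6, 22, 6, 22, 14], [2, 0, 11, 6, 8, 0], [2, 20, 23, 14, 6], [6, 15, 14, 0], [2, 13, 24, 12, 2], [2, 16, 0, 5, 3], [6, 12, 7, 24], [6, 13, 12, 22], [2, 4, 16, 2, 5], [2, 7, 17, 3, 2], [2, 13, 21, 20, 6], [2, 0, 17, 5, 15], [2, 13, 20, 21, 2], [6, 15, 8, 24], [6, 3, 10, 0], [2, 2, 0, 9, 19, 6], [2, 12, 2, 5], [2, 2, 7, 5, 6, 1], [2, 20, 16, 2], [2, 1, 21, 0, 23], [2, 8, 10, 2], [2, 20, 1, 2, 21], [6, 19, 5, 24], [2, 20, 1, 2], [6, 10, 17, 2, 17], [6, 20, 17, 4], [6, 1, 16, 10], [2, 0, 15, 8, 5], [2, 20, 0, 18], [2, 4, 10, 14, 5], [2, 0, 3, 9], [6, 9, 2, 4, 21], [6, 12, 2, 19, 22], [6, 19, 2, 18, 14], [2, 5, 3, 8, 6], [2, 8, 12, 18], [6, 24, 1, 6, 14], [2, 7, 23, 1, 3], [2, 17, 16, 8], [2, 7, 1, 17, 17], [2, 5, 12, 2], [2, 3, 10, 7, 1], [2, 13, 18, 5, 7], [2, 12, 8, 12], [2, 16, 9, 20], [2, 7, 16, 7, 10], [2, 14, 15, 14], [2, 8, 2, 5, 20], [2, 0, 20, 2, 9, 14], [2, 10, 5, 14], [6, 1, 4, 17], [2, 7, 7, 22, 3], [2, 7, 12, 3, 5], [2, 4, 2, 7, 12], [2, 1, 14, 16, 2], [6, 9, 2, 21, 24], [2, 3, 12, 8, 15], [2, 10, 7, 1], [2, 15, 0, 2, 9], [2, 1, 19, 13, 2, 12], [2, 7, 9, 15, 5], [2, 5, 12, 2, 21], [2, 1, 6, 20, 5, 12], [6, 12, 2, 19], [2, 3, 4, 9, 2, 13], [2, 8, 24, 4, 24], [2, 16, 4, 1], [6, 4, 5, 9], [2, 0, 8, 5, 11], [2, 0, 8, 13, 19], [2, 3, 20, 4, 13], [2, 0, 6, 1, 12, 3], [2, 3, 4, 10, 19], [2, 4, 8, 3, 16], [2, 16, 4, 17, 10], [2, 0, 7, 0, 6, 10], [2, 22, 4, 9], [2, 15, 13, 20, 2], [2, 1, 4, 12, 6, 7], [6, 4, 7, 6, 20], [2, 0, 6, 5, 23], [2, 11, 23, 2, 21], [2, 8, 4, 23, 3], [2, 2, 10, 23, 4], [2, 2, 5, 9, 1], [2, 2, 21, 4, 8], [2, 20, 0, 5], [2, 13, 3, 6, 0], [2, 16, 6, 0], [2, 2, 10, 24, 20], [6, 0, 13, 15], [2, 2, 21, 2, 4, 2], [2, 2, 15, 9, 14], [2, 7, 18, 18, 2], [2, 13, 23, 18, 2], [2, 7, 5, 7, 2], [2, 0, 0, 0, 23, 6], [2, 0, 0, 0, 22], [6, 5, 7, 13], [2, 2, 11, 20, 3], [6, 21, 2, 9], [6, 17, 21, 19], [2, 3, 2, 4, 18], [6, 21, 18, 6, 6], [2, 1, 3, 2, 19, 4], [2, 16, 14, 0, 8], [2, 12, 4, 24], [2, 7, 0, 9, 8], [2, 4, 11, 23, 17], [2, 0, 5, 20, 5], [2, 12, 4, 9], [6, 16, 2, 1], [6, 6, 5, 4, 19], [6, 19, 4, 22], [6, 1, 15, 14], [2, 12, 3, 2, 9], [2, 4, 3, 21, 12], [2, 1, 7, 3, 2], [2, 13, 4, 2, 5], [2, 23, 0, 9, 2], [2, 3, 1, 2, 22], [6, 0, 24, 10], [2, 0, 1, 21, 18], [2, 0, 6, 1, 1, 18], [2, 17, 4, 1], [2, 11, 0, 6, 23], [2, 0, 2, 8, 19, 2], [2, 1, 16, 2], [2, 4, 6, 6, 16], [2, 8, 15, 12, 16], [2, 10, 20, 15, 5], [2, 3, 10, 8, 19], [2, 9, 16, 12], [2, 17, 21, 16], [2, 7, 11, 21], [2, 0, 1, 6, 15, 19], [2, 1, 2, 2, 16, 19], [6, 10, 22], [2, 2, 16, 8], [6, 4, 14, 8], [6, 24, 12, 20], [2, 2, 16, 8, 21], [6, 0, 6, 4, 17], [2, 17, 2, 24, 5], [6, 21, 13, 22, 2], [2, 5, 8, 15], [2, 12, 5, 19, 13], [2, 7, 22, 9, 5], [2, 7, 2, 16, 21], [6, 22, 16, 6], [2, 20, 5, 3, 0], [2, 0, 3, 2, 0], [6, 17, 15, 2], [2, 11, 3, 0, 8], [2, 1, 10, 19], [6, 0, 15, 6, 20], [2, 0, 16, 6, 19], [2, 0, 1, 3, 2, 2], [6, 19, 14, 6, 22], [2, 4, 17, 6, 8], [2, 7, 4, 16, 17], [2, 7, 6, 11, 1], [2, 2, 17, 24, 8], [2, 8, 13, 2, 7], [2, 2, 11, 4, 10], [2, 8, 18, 2, 18], [2, 1, 3, 2, 9], [2, 10, 2, 4, 1], [2, 24, 10, 8], [2, 9, 16], [2, 4, 2, 16, 18], [6, 1, 9, 6, 20], [2, 3, 2, 21, 3], [6, 17, 2, 1, 10], [2, 0, 12, 7, 2, 24], [2, 20, 23, 7, 6], [2, 12, 19, 4, 6], [2, 15, 20, 2, 22], [2, 12, 24, 4, 7], [6, 7, 5, 19], [6, 15, 19, 13], [2, 8, 4, 22, 24], [6, 19, 8, 23], [2, 5, 4, 6, 8, 11], [6, 7, 19, 6, 15], [6, 8, 14, 24], [2, 9, 21, 4, 11], [2, 9, 4, 4, 16], [6, 5, 12, 0, 6], [2, 15, 17, 14], [2, 3, 21, 19, 16], [2, 3, 7, 12], [2, 3, 7, 17, 10], [2, 1, 1, 7], [2, 2, 14, 0, 0], [2, 21, 8, 2, 0], [2, 2, 18, 14, 23], [6, 3, 5, 7, 7], [2, 15, 19, 4, 3], [2, 0, 14, 5, 6, 10], [6, 4, 16, 2, 10], [2, 0, 7, 14, 19], [2, 2, 1, 7, 19], [2, 21, 0, 9], [2, 2, 23, 11, 5], [2, 1, 0, 20, 17], [2, 0, 8, 17, 15], [6, 9, 2, 24, 0], [2, 2, 20, 14, 1], [2, 0, 16, 19, 8], [6, 23, 1, 18], [2, 21, 2, 20, 16], [2, 0, 7, 20, 10], [2, 1, 11, 6, 13, 17], [6, 19, 17, 2, 16], [2, 1, 18, 4, 6], [2, 9, 4, 3, 24], [2, 0, 0, 19, 8], [2, 8, 6, 19, 16], [6, 18, 2, 11], [2, 3, 7, 23, 19], [2, 22, 1, 20], [2, 7, 23, 5, 22], [2, 1, 1, 6, 3, 6], [2, 7, 7, 11], [2, 3, 13, 21, 6, 17], [2, 3, 17, 2, 4], [2, 17, 2, 4], [6, 15, 24, 16], [2, 0, 7, 20, 6, 3], [2, 8, 2, 2, 14], [6, 5, 5, 21, 2], [2, 12, 6, 4, 1], [6, 4, 15, 1, 10], [2, 14, 6, 15], [6, 16, 2, 12, 24], [6, 1, 0, 23], [2, 13, 22, 6, 18], [2, 3, 14, 6, 3, 18], [2, 0, 1, 2, 12, 15], [6, 8, 15, 2, 0], [2, 0, 22, 6, 0, 15], [6, 7, 6, 20], [2, 15, 8, 0, 18], [2, 0, 21, 1, 6, 1], [2, 0, 8, 22, 2, 7], [6, 15, 0, 2, 0], [2, 4, 11, 4, 21], [6, 9, 2, 7], [2, 3, 15, 22, 16], [2, 7, 9, 17, 20], [2, 15, 13, 24], [2, 0, 23, 6, 23, 10], [2, 1, 12, 0, 17], [2, 4, 7, 21], [2, 2, 8, 6, 15], [6, 0, 5, 6, 14], [2, 5, 19, 6], [2, 5, 6, 1, 3], [2, 2, 20, 4, 5], [6, 9, 24, 2, 7], [2, 2, 23, 1, 1], [2, 0, 16, 0, 24], [2, 16, 0, 5, 5], [2, 1, 21, 21, 6, 21], [6, 4, 18, 11, 6], [6, 14, 19, 12, 6], [6, 8, 8], [6, 12, 3, 2, 13], [2, 0, 15, 1, 8], [2, 17, 6, 24, 15], [6, 3, 19, 3], [2, 12, 2, 5, 9], [2, 2, 5, 2, 4, 17], [2, 1, 3, 6, 9], [2, 0, 20, 7, 21], [2, 2, 2, 14, 2, 11], [2, 3, 24, 15, 0], [2, 2, 1, 23, 12], [6, 7, 11, 5], [2, 1, 17, 20, 2, 11], [2, 12, 2, 4, 14], [2, 4, 18, 7, 6], [2, 1, 3, 20, 11], [2, 0, 2, 3, 8, 18], [2, 1, 15, 0, 6], [2, 9, 5, 5, 15], [2, 3, 0, 13, 5], [2, 19, 11, 3, 6], [2, 1, 16, 2, 1, 4], [2, 1, 2, 22, 16, 6], [6, 7, 13], [2, 1, 2, 2, 19], [6, 24, 12, 21], [6, 5, 10, 5], [6, 9, 7, 21], [2, 12, 23, 1, 6], [2, 19, 10, 18, 6], [6, 13, 3, 9], [2, 2, 8, 18, 16], [2, 15, 2, 9], [6, 5, 21, 13], [2, 2, 8, 6, 0], [2, 9, 2, 10, 8], [2, 0, 2, 1, 7, 9], [2, 1, 13, 17, 5], [2, 9, 2, 2, 13], [2, 0, 14, 7, 6], [2, 3, 17, 5, 15], [2, 4, 16, 4, 9], [2, 1, 20, 9, 11], [2, 0, 2, 1, 14, 17], [2, 0, 6, 1, 17, 10], [2, 4, 14, 22, 11], [2, 4, 16, 20, 22], [2, 0, 3, 16], [2, 3, 8, 6, 12], [2, 4, 1, 16, 13], [2, 16, 0, 13, 8], [2, 19, 3, 6, 3], [2, 9, 2, 11, 22], [2, 2, 20, 17, 23], [6, 4, 11, 6], [2, 2, 1, 24, 5], [2, 7, 4, 3, 22], [2, 19, 7, 4, 19], [2, 0, 9, 2, 4], [2, 0, 1, 12, 2, 5], [6, 11, 6, 24, 11], [2, 5, 8, 23, 6], [2, 17, 6, 11, 20], [6, 3, 15, 7], [6, 17, 23, 15], [6, 5, 7, 5], [2, 2, 20, 18], [2, 0, 11, 6, 23, 10], [2, 2, 21, 4, 6], [2, 8, 3, 8, 0], [2, 2, 10, 22, 1], [2, 2, 17, 9, 4], [6, 16, 2, 7, 0], [2, 8, 19, 18], [2, 19, 11, 24], [2, 3, 2, 13, 16], [2, 14, 1, 18], [2, 8, 19, 23, 21], [2, 19, 23, 9], [2, 19, 7, 2, 8], [2, 12, 0, 22, 18], [2, 10, 1, 1, 0], [2, 7, 4, 4], [2, 1, 11, 6, 21, 20], [2, 2, 5, 22, 2, 9], [2, 15, 11, 6, 20], [2, 3, 24, 6, 21], [6, 8, 22, 0], [2, 0, 21, 2, 23, 3], [6, 21, 10, 1], [2, 2, 9, 22, 19], [6, 8, 15, 0], [6, 5, 18, 2], [6, 17, 4, 2], [2, 0, 8, 5, 6, 22], [6, 21, 18, 7], [2, 2, 13, 18, 2], [2, 2, 9, 22, 3], [6, 18, 13, 15], [6, 17, 4, 7], [6, 12, 2, 11, 1], [2, 4, 6, 14, 17], [2, 4, 22, 2, 5], [2, 12, 1, 22, 3], [6, 13, 19, 17, 6], [2, 3, 16, 19], [2, 7, 17, 7, 1], [2, 2, 5, 11, 6], [6, 14, 17, 8, 2], [2, 0, 23, 6, 3], [6, 24, 6, 15, 13], [6, 20, 18, 4], [2, 11, 24, 6, 6], [2, 0, 3, 7, 20], [2, 22, 0, 6, 5], [2, 4, 18, 12, 23], [2, 5, 24, 16, 6], [2, 13, 21, 0, 7], [2, 4, 22, 12, 17], [6, 14, 0, 1, 22], [2, 4, 17, 17, 14], [2, 21, 0, 18, 18], [2, 0, 8, 5, 13], [6, 13, 11, 2, 3], [6, 11, 1, 6, 20], [2, 9, 1, 7, 22], [6, 15, 8, 6], [2, 8, 22, 12, 1], [2, 0, 5, 14, 0], [2, 9, 7, 3, 9], [2, 5, 2, 3, 12], [2, 10, 5, 4, 2], [6, 11, 6, 3, 21], [6, 0, 10, 23], [2, 0, 0, 10, 20], [2, 0, 1, 20, 17], [6, 7, 15, 7], [2, 0, 13, 0, 21], [6, 13, 7, 10], [6, 19, 12, 19, 2], [2, 1, 3, 2, 23], [6, 13, 7, 7], [6, 10, 13, 4], [2, 2, 4, 5, 9], [2, 1, 10, 19, 2], [2, 16, 13, 4, 3], [6, 16, 21, 13], [2, 2, 10, 6, 17, 8], [2, 10, 2, 7, 15], [2, 4, 6, 10, 17], [2, 24, 10, 6, 9], [2, 8, 18, 15, 14], [2, 15, 6, 11, 6], [6, 9, 14, 2, 15], [2, 17, 2, 5, 3], [6, 3, 8, 17], [2, 0, 8, 13, 2, 5], [6, 3, 22, 13], [2, 13, 18, 0, 2], [2, 2, 14, 7, 18], [2, 14, 0, 6, 14], [2, 19, 11, 3], [2, 7, 3, 22, 3], [6, 6, 8, 19], [2, 1, 6, 10, 0, 18], [6, 1, 22, 2, 18], [2, 0, 2, 9, 17, 17], [2, 1, 21, 13, 16], [6, 7, 6, 7, 4], [2, 1, 12, 24, 3], [6, 6, 1, 10], [2, 14, 16, 5], [2, 0, 22, 6, 18, 22], [2, 24, 1, 0], [2, 11, 4, 22, 4], [2, 21, 1, 17], [2, 11, 5, 22], [2, 7, 21, 23, 1], [2, 5, 11, 7, 7], [2, 0, 15, 6, 18, 3], [6, 5, 21, 13, 2], [2, 19, 10, 18], [2, 8, 22, 23], [2, 1, 0, 23, 4], [2, 4, 8, 6, 3, 22], [2, 19, 4, 17], [6, 21, 7, 15], [6, 5, 8, 17, 15], [6, 1, 24, 18, 2], [6, 3, 10, 14, 17], [2, 2, 15, 5, 4], [2, 0, 7, 3, 2, 9], [2, 12, 23, 1], [2, 21, 12], [2, 22, 10, 1], [6, 23, 6, 1, 10], [2, 1, 3, 2, 17, 16], [6, 17, 6, 17, 22], [6, 21, 0, 6, 17], [2, 2, 13, 11, 21], [6, 11, 23, 14, 6], [6, 0, 1, 20, 3], [6, 0, 3, 18], [2, 7, 20, 4, 18], [6, 7, 17, 2, 12], [6, 3, 20, 0, 6], [6, 13, 2, 2, 20], [2, 0, 11, 22, 8], [2, 21, 2, 5, 4], [6, 12, 1, 9], [2, 4, 14, 23, 8], [6, 14, 4, 10], [2, 4, 4, 18, 6], [2, 8, 0, 9, 8], [2, 0, 11, 8, 20], [2, 2, 18, 6, 8], [2, 13, 4, 24, 17], [2, 7, 3, 0, 17], [2, 5, 0, 17, 12], [2, 8, 24, 17, 2], [2, 23, 4, 10, 6], [6, 17, 4, 12], [2, 17, 6, 24, 9], [2, 24, 4, 19], [6, 5, 13, 16], [2, 15, 2, 23, 0], [2, 0, 12, 2, 10], [2, 20, 16, 4, 6], [2, 17, 2, 10, 1], [2, 3, 5, 11, 2, 3], [2, 0, 12, 7, 6, 5], [2, 0, 5, 15, 17], [2, 13, 24, 20, 6], [2, 2, 9, 7, 18], [6, 17, 7], [2, 2, 24], [2, 17, 15, 6, 13], [6, 0, 15, 23], [6, 9, 21, 4], [2, 2, 17, 1, 13], [2, 13, 18, 11, 6], [6, 18, 11, 7], [6, 24, 14, 4], [2, 0, 1, 14, 2, 9], [6, 1, 3, 6, 12], [6, 11, 16, 2, 23], [6, 5, 19, 2, 2], [2, 10, 15, 0, 9], [6, 8, 13, 9, 6], [2, 0, 7, 19, 15], [6, 15, 1, 19], [2, 12, 0, 21, 21], [2, 15, 7, 6, 21], [2, 7, 4, 4, 13], [2, 4, 19, 1, 9], [2, 9, 5, 0], [2, 12, 0, 12, 19], [6, 1, 1, 14], [2, 24, 6, 23, 16], [2, 11, 1, 9, 2], [2, 17, 1, 8, 2], [2, 0, 6, 0, 20, 17], [6, 6, 16, 23, 2], [2, 8, 22, 14, 21], [2, 2, 1, 2, 9], [2, 8, 21, 18], [2, 20], [2, 20, 3], [2, 0, 22, 6, 4, 19], [2, 3, 2, 17, 22], [6, 6, 18, 9], [2, 1, 15, 2, 19], [2, 2, 0, 13, 24], [2, 7, 15, 8, 19], [2, 8, 15, 22], [2, 19, 4, 6, 24], [2, 1, 17, 17, 21, 6], [2, 3, 15, 7, 19], [2, 13, 16, 21], [2, 4, 17, 22, 0], [2, 8, 2, 16, 2], [2, 19, 0, 0], [2, 19, 3, 19], [2, 5, 7, 2, 12], [2, 8, 3, 22, 15], [2, 8, 23, 14], [2, 23, 13, 15], [6, 24, 15, 6, 22], [2, 5, 5, 21, 3], [2, 0, 13, 2, 19, 7], [2, 0, 13, 6, 13], [2, 10, 2, 21, 9], [6, 7, 6, 13, 21], [2, 4, 16, 22, 5], [2, 22, 4, 19], [2, 4, 7, 21, 24], [2, 15, 6, 3], [2, 8, 6, 15, 1], [2, 4, 12, 24, 10], [2, 0, 5, 20, 14, 6], [2, 22, 0, 17, 20], [2, 4, 7, 24, 22], [2, 4, 16, 5], [2, 14, 4, 8, 6], [2, 1, 0, 8, 21], [6, 1, 16, 6, 16], [6, 4, 3, 2, 2], [6, 10, 2, 8, 12], [2, 3, 24, 10, 6], [2, 2, 16, 19, 17], [6, 7, 21, 7], [2, 9, 8, 4, 4], [2, 2, 21, 24, 22], [2, 0, 5, 5, 21], [2, 10, 4, 15], [2, 23, 9, 6, 3], [2, 21, 13, 0, 1], [2, 0, 5, 18, 21], [2, 2, 8, 17, 22], [2, 7, 1, 1, 6], [2, 2, 12, 21, 18], [6, 6, 10, 2, 24], [2, 5, 16, 6, 22, 9], [2, 8, 1, 17, 6], [2, 10, 8, 6, 3], [2, 2, 8, 16, 23], [6, 21, 9, 24], [2, 2, 24, 8, 6], [6, 13, 9, 16], [2, 0, 9, 0, 1], [6, 12, 17, 22], [2, 5, 6, 10, 0, 13], [2, 19, 16, 7, 6], [2, 21, 0, 12], [2, 13, 23, 0, 12], [2, 22, 2, 11], [2, 0, 7, 23, 13], [2, 11, 20, 0, 20], [2, 0, 20, 8, 19], [2, 12, 2, 16, 20], [2, 3, 4, 22, 13], [2, 4, 10, 21, 14], [2, 4, 14, 16], [2, 13, 7, 21, 2], [2, 0, 23, 10, 8], [2, 8, 8, 17, 2], [2, 13, 7, 22, 6], [2, 20, 3, 22, 2], [6, 3, 17, 15, 10], [2, 0, 0, 23, 10], [6, 9, 17, 21], [6, 3, 22, 0, 2], [6, 21, 9, 20], [2, 0, 11, 6, 17], [2, 23, 0, 2, 10], [2, 5, 20, 6, 14], [2, 0, 9, 6, 21, 24], [2, 8, 20, 21], [2, 3, 1, 24], [2, 3, 19, 8, 23], [2, 19, 5, 6, 20], [6, 4, 8, 1, 23], [6, 16, 0, 17], [6, 10, 22, 3], [2, 0, 21, 7, 6], [2, 2, 23, 18, 18], [2, 0, 0, 22, 14], [2, 17, 2, 2, 20], [2, 3, 17, 1, 20], [2, 3, 20, 1, 19], [2, 3, 15, 23, 7], [2, 4, 6, 16, 8], [2, 0, 11, 2, 23, 22], [6, 12, 4, 2], [2, 12, 5, 7, 14], [2, 21, 1, 16], [2, 7, 2, 18], [2, 7, 2, 17, 17], [2, 5, 7, 21, 20], [6, 24, 4, 11, 6], [2, 4, 17, 4, 19], [2, 8, 19, 8, 5], [2, 1, 13, 8, 20], [6, 9, 2, 16, 5], [2, 9, 11, 5], [2, 0, 2, 1, 11, 18], [2, 1, 10, 23, 2, 17], [6, 1, 23, 9, 2], [2, 10, 17, 16], [2, 1, 23, 11, 5], [2, 2, 20, 24, 0], [2, 9, 6, 11, 18], [6, 21, 0, 8], [2, 16, 20, 4, 10], [2, 0, 22, 1, 18], [2, 0, 15, 2, 18, 2], [6, 18, 13, 16], [2, 3, 22, 6, 23], [6, 11, 6, 12, 23], [2, 9, 2, 17, 23], [2, 17, 16, 9], [2, 0, 9, 6, 20], [6, 5, 17, 6, 21], [6, 12, 3, 18, 6], [2, 11, 2, 0, 20], [6, 22, 12, 16], [6, 10, 16, 9], [2, 2, 14, 16, 7], [2, 2, 14, 8, 1], [2, 2, 12, 3], [6, 4, 8, 17], [2, 1, 9, 24, 18, 2], [6, 11, 6, 21, 4], [2, 2, 15, 8], [2, 4, 5, 17], [6, 7, 22, 7], [6, 0, 1, 24], [6, 20, 9, 7], [2, 4, 5, 4, 14], [6, 9, 13, 8, 2], [6, 12, 0, 16, 6], [2, 3, 18, 21, 3], [2, 14, 17, 13], [6, 3, 14, 0], [2, 8, 20, 16], [2, 8, 5, 16], [2, 10, 8, 18], [2, 4, 6, 6, 24], [2, 15, 8, 5, 6], [2, 4, 11, 17, 1], [2, 4, 3, 16], [2, 10, 5, 0, 0], [2, 0, 20, 5, 11], [2, 13, 4, 12, 19], [2, 4, 9, 16, 21], [2, 12, 2, 1, 1], [2, 2, 24, 1, 7], [6, 1, 8, 10, 8], [2, 3, 12, 4, 16], [6, 20, 7, 7, 2], [2, 5, 22, 0, 15], [2, 1, 20, 11, 6], [2, 23, 4, 6, 1], [2, 1, 8, 2, 11, 4], [2, 8, 5, 8, 9], [2, 3, 10, 14, 22], [2, 4, 2, 18, 9], [6, 23, 6, 19, 21], [2, 1, 2, 16, 17], [2, 0, 13, 6, 7], [2, 0, 8, 4, 2, 22], [2, 1, 1, 6, 7], [2, 2, 21, 1, 20], [6, 18, 12, 18], [2, 2, 24, 17, 4], [2, 9, 2, 20, 8], [2, 2, 23, 5, 8], [6, 0, 5, 3, 2], [2, 3, 16, 4, 6], [6, 6, 3, 2, 4], [6, 23, 4, 7], [2, 1, 23, 6, 21], [6, 15, 10, 6], [6, 7, 18, 13, 6], [6, 15, 5, 20], [2, 0, 3, 5, 6], [2, 20, 5, 11, 2], [2, 1, 8, 2, 11, 1], [6, 0, 5, 15, 6], [6, 16, 18, 2], [2, 2, 21, 2, 19], [2, 0, 13, 5, 13], [6, 11, 18, 2, 20], [2, 10, 15, 22], [2, 5, 5, 3, 5], [2, 4, 18, 5, 6], [2, 3, 7, 7, 5], [2, 2, 1, 4, 3], [2, 10, 15, 23], [2, 1, 19, 2, 14, 2], [2, 3, 4, 20, 9], [2, 4, 1, 16, 24], [6, 4, 4, 19], [2, 3, 14, 20, 6, 24], [2, 14, 7, 14, 2], [2, 2, 20, 17, 13], [2, 22, 4, 1], [6, 13, 18, 20], [2, 10, 4, 2, 18], [2, 2, 8, 10, 16], [6, 13, 4, 14], [6, 7, 6, 6, 16], [2, 2, 21, 13, 2], [2, 2, 17, 16, 22], [2, 7, 4, 8, 10], [2, 2, 18, 19, 21], [6, 3, 18, 16, 22], [6, 7, 4, 8], [6, 16, 21, 9], [2, 14, 3, 6, 14], [2, 16, 2, 8, 11], [2, 2, 1, 10, 23], [2, 3, 7, 20, 0], [2, 0, 7, 3, 21], [2, 0, 3, 15, 19], [6, 13, 10, 4], [2, 4, 16, 5, 9], [6, 7, 6, 24, 2], [6, 23, 17, 0, 2], [2, 9, 0], [2, 9, 19, 1], [2, 4, 16, 4], [2, 19, 22, 0], [6, 15, 10, 2], [2, 3, 15, 13, 1], [6, 3, 8, 16, 2], [2, 1, 10, 2, 23, 4], [6, 18, 20, 10], [6, 8, 1, 17], [6, 7, 21, 14], [2, 5, 0, 19, 1], [2, 2, 18, 9, 13], [6, 22, 2, 15], [2, 0, 18, 9, 6, 17], [2, 17, 16, 4, 11], [6, 12, 18, 7], [2, 2, 14, 8, 19], [2, 1, 12, 0, 16, 2], [6, 24, 18, 19], [2, 1, 23, 11, 5, 6], [6, 18, 2, 11, 15], [2, 8, 12, 2, 7], [2, 9, 2, 2, 24], [2, 20, 5, 8], [2, 12, 24, 1], [2, 0, 3, 5, 2], [2, 1, 15, 15, 20], [2, 7, 20, 2, 23], [6, 6, 5, 6, 13], [6, 12, 2, 1, 17], [2, 4, 1, 14], [6, 14, 1, 6], [2, 4, 8, 14], [2, 4, 1, 8, 24, 2], [2, 4, 21, 20, 17], [2, 4, 10, 18, 2], [2, 0, 1, 2, 5, 21], [2, 12, 0, 21, 2], [2, 2, 17, 19, 10], [6, 9, 1, 9], [6, 13, 21, 17], [6, 11, 6, 1, 9], [2, 0, 0, 18, 23], [2, 9, 2, 0, 1], [2, 1, 12, 6, 15], [2, 24, 14, 6, 10], [2, 16, 12, 1, 2], [2, 8, 4, 8, 13], [6, 18, 22, 8], [2, 3, 12, 2, 0, 11], [6, 10, 4, 16], [2, 1, 3, 2, 12, 17], [2, 13, 16, 6, 24], [2, 10, 23, 14, 2], [2, 9, 5, 0, 24], [2, 13, 3, 4, 12], [6, 19, 5, 16], [2, 1, 0, 2, 1, 23], [2, 7, 18, 3, 13], [2, 8, 12, 3], [2, 3, 24, 11], [2, 0, 12, 6, 12, 5], [6, 12, 16, 6], [6, 12, 6, 21, 18], [2, 0, 1, 6, 9, 14], [2, 1, 1, 6, 14, 3], [2, 14, 2, 3], [6, 7, 6, 19, 11], [2, 2, 17, 21, 20, 2], [2, 17, 2, 15, 11], [2, 9, 24, 2, 11], [2, 2, 8, 15, 2, 13], [6, 17, 2, 4, 22], [2, 2, 9, 24, 9], [2, 10, 2, 9], [2, 4, 3, 6], [2, 9, 6, 16, 12], [2, 3, 12, 8, 14], [2, 0, 9, 6, 5, 19], [2, 11, 1, 1], [2, 5, 5, 13], [2, 8, 11, 17], [2, 17, 11, 2, 12], [2, 2, 23, 21, 5], [2, 8, 4, 3, 7], [2, 2, 10, 13, 11], [2, 1, 12, 6, 1], [6, 9, 15, 6, 14], [2, 0, 0, 8, 2, 21], [6, 14, 8, 17], [2, 1, 2, 0, 19, 2], [2, 1, 0, 22, 6], [2, 21, 12, 2, 20], [2, 11, 6, 0], [6, 11, 6, 24, 7], [2, 10, 4, 20, 4], [6, 0, 5, 17], [2, 2, 4, 14, 19], [6, 22, 16, 2], [6, 4, 11, 20], [2, 17, 0, 5, 15], [6, 10, 13, 21], [6, 19, 6, 4, 7], [2, 0, 20, 6, 18], [2, 16, 2, 20, 7], [2, 11, 20, 0, 1], [6, 12, 2, 24, 7], [6, 12, 7, 24, 2], [6, 0, 21, 2, 3], [2, 8, 3, 15], [2, 0, 2, 3, 5, 22], [2, 2, 0, 9, 19], [2, 3, 21, 3, 9], [2, 13, 21, 20], [2, 0, 6, 1, 10, 17], [2, 0, 3, 15, 7], [2, 3, 4, 11, 7], [6, 1, 23, 1], [2, 2, 0, 16, 2, 10], [2, 12, 2, 18, 18], [2, 5, 6, 17, 21], [6, 22, 13, 1], [2, 11, 2, 7, 1], [2, 0, 7, 17, 13], [2, 0, 8, 23, 10], [2, 7, 0, 7, 15], [2, 8, 3, 6, 20], [6, 1, 9, 6, 5], [6, 12, 5, 6, 8], [2, 2, 22, 16, 0], [2, 0, 2, 4, 15, 15], [2, 8, 9, 24, 17], [2, 1, 2, 9, 24], [2, 7, 3, 22, 16], [6, 0, 6, 17, 2], [2, 0, 21, 2, 3, 23], [2, 3, 11, 18, 2], [2, 9, 4, 16, 16], [2, 0, 6, 23, 6, 3], [2, 7, 6, 3, 1], [2, 2, 4, 15, 23], [6, 20, 15], [6, 21, 19, 2, 13], [6, 15, 4, 11], [2, 17, 21, 2], [2, 5, 4, 4, 23], [2, 0, 16, 0, 11], [6, 4, 7, 13], [6, 19, 14, 0], [2, 16, 24, 15, 2], [2, 9, 6, 7, 3], [2, 15, 10, 23], [2, 3, 15, 19, 24], [2, 7, 3, 15, 21], [2, 7, 10, 20], [2, 7, 3, 9], [2, 7, 9, 17, 8], [6, 18, 2, 0, 1], [2, 0, 14, 6, 24], [2, 3, 1, 3, 0], [2, 24, 0, 9, 13], [2, 4, 21, 15, 14], [2, 8, 24, 11, 0], [2, 7, 1, 20, 6], [2, 2, 7, 4, 5], [2, 2, 2, 2, 15, 2], [6, 1, 17, 2], [2, 7, 0, 2], [2, 4, 9, 23, 16], [2, 4, 18, 15, 8], [6, 12, 6, 19, 16], [2, 5, 7, 1, 19], [2, 9, 18, 13], [2, 22, 24, 14], [2, 8, 1, 19, 18], [2, 8, 1, 23], [2, 3, 2, 10], [6, 21, 23, 7, 2], [2, 11, 6, 18, 24], [2, 0, 8, 9, 23], [2, 4, 8, 12, 24], [6, 7, 6, 14], [2, 1, 21, 6, 14, 20], [6, 13, 10, 16], [6, 7, 18, 13], [2, 4, 5, 8, 13], [6, 1, 3, 17, 2], [6, 9, 16, 24], [6, 8, 9], [2, 2, 4, 24], [6, 19, 7, 12], [2, 0, 14, 0, 7], [2, 0, 1, 12], [2, 21, 15, 6, 0], [2, 5, 20, 2, 13], [2, 0, 1, 3, 12], [2, 0, 3, 5], [6, 13, 7, 7, 2], [2, 5, 23, 4, 2], [2, 2, 18, 7, 21], [6, 4, 13, 11, 18], [6, 4, 1, 4, 15], [2, 11, 15, 0, 6], [2, 8, 11, 21, 14], [2, 14, 5, 24], [2, 3, 7, 18, 21], [2, 13, 1, 22], [2, 3, 17], [2, 0, 7, 2, 10], [6, 20, 24, 13, 2], [2, 8, 5, 4, 16], [2, 7, 4, 24, 22], [2, 2, 18, 21, 13], [2, 0, 6, 22, 5, 20], [2, 10, 2, 19, 9], [6, 5, 12, 0, 2], [6, 24, 6, 4, 16], [6, 23, 0, 24], [6, 24, 21, 12, 2], [2, 13, 0, 14, 6], [6, 7, 6, 11, 8], [6, 9, 16, 20, 2], [2, 23, 2, 5, 24], [2, 1, 2, 2, 18], [2, 13, 17, 0, 6], [2, 2, 19, 15, 7], [6, 9, 5, 6, 15], [2, 0, 0, 0, 11], [2, 0, 3, 1, 0], [6, 3, 4, 12], [2, 0, 6, 15, 1, 12], [6, 1, 18, 21], [2, 14, 5, 0, 8], [2, 5, 3, 6, 24], [2, 12, 15, 5, 2], [2, 1, 2, 24, 15], [2, 1, 18, 6, 24], [2, 15, 13, 15, 12], [2, 8, 13, 0, 6], [2, 2, 10, 22, 1, 6], [6, 10, 23, 6, 22], [2, 9, 4, 3], [2, 1, 17, 0, 2, 0], [2, 2, 16, 22, 24], [2, 0, 5, 16, 18], [2, 24, 4, 4, 11], [2, 2, 10, 6, 22, 16], [2, 0, 6, 8, 22, 6], [6, 12, 2, 14, 2], [2, 9, 1, 2, 4], [6, 13, 4, 20, 6], [2, 0, 1, 0, 9], [2, 2, 12, 23, 5], [2, 2, 14, 22, 23], [2, 0, 1, 14, 2, 23], [6, 17, 2, 4, 18], [6, 8, 2, 23, 2], [2, 7, 19, 6, 3], [2, 5, 0, 2, 17, 16], [6, 9, 24, 14], [6, 3, 13, 22], [6, 4, 12], [2, 3, 15, 6, 21], [2, 16, 1, 2, 10], [2, 4, 2, 10, 2], [2, 3, 18, 5], [2, 10, 16, 0, 6], [2, 3, 0, 16, 23], [2, 12, 3, 5], [2, 12, 5], [2, 0, 3, 6, 10, 2], [2, 1, 22, 9, 15], [2, 9, 17, 7, 0], [2, 7, 2, 22, 8], [2, 12, 5, 20, 23], [2, 11, 5, 13, 7], [2, 3, 0, 16, 19], [2, 0, 2, 20, 0, 13], [2, 1, 19, 21, 14, 2], [2, 2, 19, 5, 14], [2, 2, 8, 14, 4], [2, 2, 19, 10], [2, 19, 12, 2, 1], [6, 0, 1, 13], [2, 0, 1, 22, 15], [2, 11, 2, 7, 20], [2, 3, 6, 7, 6], [2, 4, 24, 5, 11], [2, 7, 14, 17, 2], [6, 8, 10, 18, 22], [6, 9, 0, 16], [2, 14, 20, 6, 20], [6, 19, 11, 22], [2, 7, 10, 24, 2], [2, 4, 10, 2, 4, 5], [6, 9, 0, 14], [6, 7, 3, 19], [2, 7, 4, 1, 14], [2, 4, 7, 6], [2, 0, 5, 10, 14], [6, 16, 18], [2, 13, 21, 2, 18], [2, 1, 17, 5, 6, 5], [2, 20, 23, 3], [2, 2, 19, 5, 0], [2, 8, 18, 10], [2, 13, 0, 12, 6], [2, 2, 1, 9, 18], [2, 4, 3, 22, 1], [6, 11, 20, 5], [6, 18, 2, 1], [6, 3, 7, 13], [2, 19, 4, 11, 15], [2, 2, 7, 22], [6, 3, 9, 0], [6, 5, 7, 17, 22], [6, 8, 12, 15], [2, 0, 0, 1, 10, 2], [2, 4, 1, 3, 15], [2, 7, 0, 23, 8], [2, 4, 19, 12, 7], [2, 0, 0, 16, 2, 24], [2, 13, 7, 18], [2, 8, 13, 7, 7], [2, 0, 20, 8, 6], [2, 9, 3, 6, 23], [2, 7, 17, 6, 23], [2, 0, 11, 6, 3, 21], [2, 5, 6, 18, 1], [2, 0, 0, 9, 8], [2, 10, 6, 18, 6], [6, 3, 14, 1, 18], [6, 1, 12, 18, 0], [6, 12, 24, 13], [2, 12, 3, 4, 6], [6, 7, 6, 15, 24], [2, 22, 15, 6, 20], [2, 3, 16, 4, 20], [2, 21, 2, 18, 12], [6, 1, 12, 17], [2, 17, 11, 18, 0], [2, 3, 14, 18, 0], [6, 9, 15, 6, 0], [2, 8, 2, 2], [6, 21, 9, 2, 11], [6, 15, 24, 4], [6, 11, 6, 17, 22], [2, 0, 5, 23, 14], [2, 0, 0, 24, 13], [2, 0, 9, 2, 21], [6, 3, 10, 2, 13], [2, 8, 22, 6, 22], [2, 1, 24, 18, 2], [2, 3, 15, 7, 1], [2, 1, 8, 8, 6, 13], [2, 3, 21, 17], [2, 2, 7, 11, 6], [2, 8, 16], [2, 0, 6, 0, 12], [2, 7, 13, 7, 5], [2, 0, 12, 0, 18], [2, 7, 7, 21, 12], [2, 20, 4, 4], [2, 2, 9, 0], [2, 16, 14, 19], [2, 7, 21, 6, 10], [2, 9, 2, 17, 0], [2, 3, 17, 0, 5], [6, 0, 13, 1], [2, 2, 14, 7, 17], [2, 17, 0, 5], [2, 0, 0, 11, 20], [6, 1, 10, 6], [6, 22, 6, 20, 13], [2, 1, 0, 7, 15, 6], [2, 0, 5, 14, 4], [2, 11, 5, 2, 2], [2, 2, 18, 6, 15], [2, 15, 11, 2, 19], [2, 2, 21, 3, 1], [2, 0, 8, 9, 3], [2, 1, 6, 9, 18, 2], [6, 18, 2, 13], [2, 0, 3, 5, 20], [2, 2, 24, 12], [2, 2, 18, 15, 11], [6, 9, 20, 13], [2, 0, 1, 18, 7], [6, 21, 13, 20], [6, 15, 1, 0, 2], [2, 0, 7, 3, 2, 3], [2, 1, 13, 22, 7, 2], [2, 1, 7, 2, 12, 2], [2, 17, 6, 12, 7], [2, 3, 17, 4, 6], [2, 0, 0, 12, 16], [2, 0, 1, 23, 18], [2, 8, 9, 6, 1], [2, 2, 14, 19, 6, 10], [2, 0, 10, 3, 20, 6], [6, 1, 0, 2, 9], [2, 0, 8, 15, 20], [2, 5, 6, 3, 13, 8], [2, 1, 0, 13, 16], [2, 5, 5, 7, 0], [6, 1, 23, 19, 7], [2, 17, 2, 2, 5], [2, 0, 7, 15, 6, 15], [2, 9, 2, 23, 22], [6, 1, 10, 0], [2, 8, 5, 0, 6], [6, 10, 8, 8], [6, 5, 15, 4], [2, 20, 5, 18, 6], [6, 7, 6, 24, 1], [2, 2, 7, 22, 16], [2, 0, 5, 24, 5], [6, 14, 18, 21], [6, 7, 21, 8], [2, 23, 4, 18], [2, 19, 22, 4, 9], [2, 5, 6, 16, 1], [2, 4, 6, 17, 9, 0], [2, 0, 8, 23], [2, 8, 0, 16, 11], [2, 0, 3, 10, 23], [2, 7, 23, 16, 0], [6, 9, 15, 4], [2, 12, 0, 13, 21], [6, 16, 2, 4], [2, 1, 17, 14, 3, 2], [2, 11, 15, 4, 4], [2, 2, 8, 8, 21], [2, 4, 5, 24, 18], [6, 21, 10, 7], [6, 12, 3, 23], [6, 5, 24, 16], [6, 11, 6, 15, 22], [2, 11, 5, 6, 23], [2, 0, 22, 6, 4, 5], [2, 9, 6, 21], [6, 6, 12, 1], [2, 5, 0, 6, 13], [2, 16, 16, 17], [2, 3, 24, 21, 15], [2, 8, 1, 10, 14], [2, 0, 2, 23, 5, 22], [2, 12, 19, 23], [2, 8, 8, 24], [2, 9, 17, 12], [2, 9, 1, 22], [2, 3, 14, 17], [2, 0, 12, 0, 11], [2, 0, 1, 6, 14, 17], [2, 3, 15, 6, 14], [2, 1, 13, 6, 13], [2, 0, 2, 23, 8, 12], [2, 1, 3, 8, 9], [2, 0, 2, 9, 18, 18], [2, 1, 19, 9, 14], [2, 0, 22, 2, 19], [2, 1, 2, 1, 12], [6, 17, 6, 14, 20], [2, 0, 16, 1, 2, 17], [6, 17, 6, 19, 23], [2, 0, 12, 1, 9], [2, 0, 6, 18, 6, 3], [6, 9, 13, 19], [2, 15, 4, 1, 18], [6, 7, 7, 12], [6, 22, 6, 13, 17], [6, 12, 24, 20], [2, 2, 4, 20, 5], [2, 2, 7, 5, 13], [6, 9, 23], [2, 2, 18, 0, 17], [6, 13, 15, 19], [6, 6, 14, 2, 10], [2, 1, 6, 8, 11, 22], [2, 5, 8, 13, 8], [2, 7, 1, 1, 0], [2, 22, 5, 8], [2, 9, 1, 1, 9], [2, 10, 1, 8, 5], [2, 1, 14, 8, 21], [2, 2, 7, 20, 2], [2, 1, 1, 6, 5, 13], [2, 3, 10, 7, 2, 15], [2, 5, 22, 7, 24, 6], [2, 8, 9, 3], [2, 13, 18, 2, 2], [2, 3, 14, 3, 20], [2, 2, 22, 2], [2, 19, 13], [6, 21, 3, 2, 3], [2, 11, 17, 13, 9], [2, 1, 4, 18, 12], [2, 11, 24, 13, 17], [2, 13, 18, 23], [2, 3, 14, 19, 9], [2, 8, 20, 16, 13], [2, 4, 6, 22, 3], [6, 10, 8, 6, 7], [2, 17, 0, 2, 7], [2, 12, 2, 7, 16], [2, 4, 10, 7, 2], [6, 8, 8, 6, 6], [2, 17, 4, 8, 21], [2, 4, 19, 21, 8], [2, 4, 11, 2, 23], [2, 2, 19, 2, 13, 10], [2, 17, 4, 11], [2, 4, 22, 3, 7], [2, 7, 11, 4, 4], [2, 4, 17, 11, 22], [2, 0, 5, 13, 1], [2, 2, 15, 17, 1], [2, 0, 9, 1, 2, 21], [2, 3, 9, 16, 2, 19], [2, 0, 13, 5, 21], [2, 0, 21, 1, 4], [6, 1, 15, 22], [2, 0, 3, 7], [2, 12, 2, 2], [2, 0, 23, 17, 7], [2, 1, 2, 13, 2, 11], [2, 0, 15, 8, 2], [2, 1, 0, 16, 11], [2, 4, 22, 7], [2, 2, 12, 6, 10, 23], [2, 2, 12, 22, 4], [2, 0, 9, 3, 1, 2], [2, 0, 20, 8, 13, 2], [2, 0, 5, 16, 6, 8], [6, 9, 6, 4], [2, 5, 7, 21, 5], [2, 3, 14, 21, 16], [2, 2, 9, 0, 15], [2, 2, 15, 0, 13], [2, 3, 20, 16, 22], [2, 1, 23, 4, 15], [2, 13, 11, 2, 1], [2, 3, 17, 3], [2, 3, 17, 16, 19], [2, 13, 19], [2, 0, 9, 6, 22, 14], [2, 7, 20, 22], [6, 14, 16, 2, 15], [2, 4, 3, 6, 3], [2, 10, 2, 9, 3], [6, 19, 2, 1, 9], [2, 4, 21, 4, 17], [2, 7, 2, 15, 13], [2, 10, 17, 0, 13], [2, 5, 0, 19, 4], [2, 9, 19, 0, 8], [2, 5, 7, 17, 15], [2, 0, 2, 8, 9, 21], [2, 1, 12, 0, 2, 0], [2, 2, 11, 18, 3], [2, 8, 6, 12, 3], [6, 9], [2, 2, 18, 16, 9], [2, 2, 4, 16, 23], [6, 12, 0, 19], [2, 1, 8, 18, 2, 9], [2, 2, 13, 17, 7], [6, 0, 21, 15], [2, 2, 7, 5], [2, 0, 0, 13, 6, 6], [2, 10, 4, 4], [2, 19, 13, 0, 2], [2, 1, 2, 0, 6, 9], [6, 17, 6, 10, 18], [2, 3, 17, 5, 9], [2, 1, 11, 5, 7], [2, 1, 18, 19, 14], [2, 1, 6, 24, 10], [2, 12, 8, 18, 1], [2, 11, 20, 2, 1], [2, 1, 13, 6, 18], [2, 17, 6, 10, 2], [2, 0, 6, 0, 17], [2, 3, 7, 19, 21], [2, 3, 2, 8, 17], [2, 9, 5, 7], [2, 3, 7, 18, 23], [2, 3, 2, 23, 19], [2, 4, 9, 8, 6], [2, 5, 6, 12, 4], [2, 15, 20, 16], [2, 23, 8, 20], [6, 12, 24, 0], [2, 5, 7, 2, 8], [2, 7, 17, 15], [6, 20, 11, 6, 22], [2, 14, 2, 2, 13], [2, 10, 2, 19, 24], [2, 4, 23, 11, 6], [6, 21, 0, 22], [6, 3, 8, 4], [2, 7, 19, 2, 18], [6, 3, 9, 24], [6, 18, 18, 12], [2, 4, 5, 5, 12], [2, 4, 18, 14, 6, 18], [2, 5, 6, 5, 3], [2, 1, 0, 16, 16], [2, 4, 17, 1, 4], [2, 24, 7, 2], [2, 0, 3, 10, 24], [2, 10, 13, 4, 5], [2, 0, 8, 24], [6, 6, 20, 6, 7], [2, 3, 23, 6, 20], [2, 4, 15, 1, 10], [2, 14, 6, 9, 16], [2, 2, 8, 1, 15], [2, 9, 1, 2, 16], [2, 2, 9, 21], [6, 16, 21, 3], [2, 2, 0, 24, 1, 6], [2, 12, 0, 12, 0], [6, 8, 21, 8], [2, 0, 1, 15, 22], [2, 2, 10, 6, 23], [2, 1, 3, 12, 6], [2, 9, 2, 23, 14], [2, 9, 2], [2, 0, 3, 16, 6, 1], [2, 4, 3, 15, 14], [2, 1, 11, 0, 12], [2, 1, 0, 6, 19], [2, 1, 15, 22, 6, 3], [2, 3, 9, 4, 23], [2, 20, 1, 16, 2], [2, 0, 20, 6, 22, 14], [2, 3, 4, 23, 6], [2, 2, 17, 22, 0], [2, 2, 9, 14, 21], [2, 2, 8, 15, 18], [6, 15, 6, 14, 4], [2, 1, 14, 2], [6, 1, 1, 6, 22], [6, 16, 2, 16], [2, 12, 19, 2, 5], [2, 19, 9, 6, 21], [6, 9, 23, 15], [6, 13, 15, 13], [6, 4, 10, 18], [6, 3, 14, 24, 22], [6, 10, 19, 7], [6, 3, 14, 19], [2, 1, 12, 6, 1, 24], [2, 4, 1, 20, 6], [2, 8, 0, 24, 6], [2, 1, 0, 11, 19], [2, 0, 8, 11, 3], [2, 22, 0, 9, 7], [2, 11, 6, 13, 9], [6, 10, 17, 1], [2, 5, 7, 22, 2], [2, 4, 13, 16, 8, 6], [6, 10, 16, 24], [2, 15, 4, 18, 14], [2, 2, 12, 2, 10], [2, 0, 0, 7, 11], [2, 22, 4, 5], [6, 18, 1, 1], [6, 16, 2, 9, 22], [2, 0, 12, 6, 16, 13], [2, 5, 4, 8], [2, 12, 8, 23], [2, 14, 1, 21], [2, 1, 24, 14, 2], [2, 3, 18, 7, 11], [2, 3, 18, 8, 23], [2, 10, 0, 2, 13], [2, 8, 11, 23], [6, 16, 11, 0], [2, 3, 12, 17], [2, 0, 2, 16, 5, 7], [2, 13, 7, 9, 17], [6, 15, 2, 15, 2], [6, 0, 21, 2, 17], [2, 10, 2, 24, 21], [6, 15, 19, 23], [2, 2, 9, 7, 4], [6, 22, 19, 14], [2, 1, 3, 2, 22, 15], [2, 8, 4, 17, 1], [2, 0, 11, 6, 16, 10], [2, 4, 13, 24, 2, 14], [2, 5, 7, 6, 20], [2, 0, 16, 23, 3], [2, 19, 0, 20], [2, 4, 8, 17, 3], [6, 16, 2, 5, 19], [6, 7, 16, 1], [2, 1, 19, 10, 18, 2], [2, 22, 5, 10, 2], [2, 1, 23, 16, 17, 2], [6, 4, 16, 22], [6, 17, 12, 3], [6, 0, 11, 5, 11], [2, 1, 20, 12, 2, 9], [2, 7, 4, 19, 18], [2, 2, 0, 17, 10, 6], [2, 0, 2, 18, 2, 17], [2, 7, 17, 6], [6, 3, 4, 6, 10], [2, 3, 10, 20, 13], [2, 8, 20, 17, 12], [2, 7, 12, 5, 7], [2, 2, 7, 2], [2, 4, 24, 9, 3], [2, 4, 8], [2, 4, 12, 24, 7], [6, 1, 3, 7, 6], [6, 15, 13, 7], [2, 9, 19, 4, 3], [6, 5, 5, 19], [6, 23, 21, 12], [6, 23, 5, 21], [6, 15, 14, 20], [2, 1, 12, 6, 1, 3], [2, 4, 11, 17, 12], [6, 6, 4, 2, 18], [2, 8, 0, 1], [2, 0, 14, 6, 22, 24], [2, 3, 12, 23, 8], [2, 3, 17, 14, 8], [2, 22, 3, 16], [2, 15, 24, 17, 2], [6, 16, 8, 2, 5], [6, 3, 19, 5], [2, 2, 16, 18, 19], [6, 1, 21, 1, 11], [2, 2, 14, 5, 18], [2, 2, 17, 21, 20], [6, 7, 23, 0], [2, 1, 8, 20, 2, 20], [2, 9, 2, 21, 10], [6, 11, 17, 22], [2, 19, 4, 4], [6, 7, 19, 1], [6, 9, 11, 20], [2, 15, 4, 15], [6, 8, 19, 21], [2, 1, 2, 2, 11], [6, 9, 19, 2, 16], [6, 13, 5, 7], [2, 2, 10, 19, 8], [6, 13, 10, 22], [2, 2, 19, 11, 20], [6, 17, 8, 10], [6, 13, 4, 16], [2, 4, 8, 0, 2, 15], [2, 20, 14, 23, 2], [2, 16, 8, 2], [2, 3, 16, 2], [2, 16, 11, 1], [2, 15, 14, 24, 1], [2, 8, 8, 5, 11], [2, 5, 9, 14, 22], [2, 0, 2, 13, 20], [2, 7, 5, 15, 5], [2, 10, 5, 0, 7], [2, 13, 0, 20, 24], [2, 0, 2, 8, 5, 14], [2, 2, 24, 6, 10], [6, 18, 2, 5, 4], [2, 1, 13, 6, 18, 9], [2, 14, 8, 17, 2], [2, 7, 6, 12], [2, 13, 22, 4, 1], [6, 0, 7, 7, 10], [6, 16, 2, 10, 13], [2, 24, 0, 21, 1], [2, 10, 6, 6, 13], [2, 11, 2, 23, 7], [6, 18, 2, 21, 12], [6, 18, 22, 24], [2, 16, 6, 7, 12], [2, 2, 15, 7, 20], [6, 7, 15, 2, 11], [6, 19, 7, 15], [2, 14, 8, 1, 2], [6, 14, 0, 22, 6], [2, 22, 8, 8, 2], [6, 24, 18, 5], [6, 4, 9, 4], [2, 4, 5, 16], [6, 6, 22, 6, 12], [6, 12, 8, 14], [2, 2, 1, 8, 2, 18], [2, 4, 9, 0, 6, 12], [2, 1, 3, 2, 18, 21], [2, 20, 10], [2, 12, 19], [2, 11, 15, 2, 2], [6, 22, 15, 6, 10], [2, 2, 5, 9, 4], [6, 8, 11, 4], [6, 9, 16, 2], [6, 7, 16, 21, 2], [6, 21, 20, 12], [6, 7, 18, 0], [2, 2, 21, 8, 1], [2, 5, 6, 11, 1, 18], [2, 2, 4, 14, 22], [6, 24, 13, 8, 2], [6, 7, 7, 14, 2], [2, 0, 0, 12, 22, 2], [6, 12, 4, 3], [2, 5, 6, 8, 22], [6, 11, 4, 10, 2], [2, 5, 16, 6, 20, 4], [6, 17, 0, 2], [2, 0, 0, 17, 2, 18], [2, 0, 13, 6, 10, 1], [2, 11, 19, 12, 2], [2, 11, 6, 6, 22], [6, 3, 19, 5, 15], [6, 4, 1, 11], [2, 15, 21, 4, 4], [2, 16, 21, 2, 12], [2, 3, 12, 1, 16], [2, 19, 13, 3], [2, 16, 18, 8], [2, 8, 14, 18, 22], [2, 1, 24, 4, 18], [2, 1, 0, 19, 0], [2, 9, 7, 2, 13], [2, 2, 9, 11, 15], [2, 13, 24, 4, 22], [6, 22, 14, 22], [2, 5, 6, 1, 19, 7], [2, 0, 6, 22, 1, 24], [2, 15, 2, 24, 13], [2, 0, 1, 15, 1], [6, 10, 0, 7], [2, 4, 23, 1, 2], [2, 2, 7, 19], [6, 3, 24, 4], [6, 3, 4, 7, 23], [2, 17, 6, 9], [2, 2, 15, 20, 15], [6, 21, 18, 10], [2, 9, 2, 13, 24], [6, 17, 15, 19], [6, 15, 10], [2, 9, 0, 6], [2, 7, 17, 6, 18], [6, 1, 7, 7, 6], [2, 5, 6, 21, 2], [2, 4, 5, 6, 15], [2, 12, 0, 11, 7], [2, 2, 5, 2, 20, 17], [2, 3, 9, 16, 19], [2, 13, 24, 22], [2, 1, 7, 1, 10], [2, 9, 13, 18, 6], [2, 13, 20, 12], [2, 3, 24, 9], [2, 4, 6, 23, 17], [2, 0, 7, 7, 21], [2, 4, 15, 24, 10], [2, 3, 9, 4, 3], [6, 11, 2, 5, 10], [2, 1, 3, 6, 20, 3], [6, 1, 3, 13], [2, 2, 15, 1], [6, 21, 5, 12], [2, 3, 17, 4, 22], [2, 5, 0, 24, 20], [6, 1, 12, 7], [6, 9, 6, 15, 19], [2, 3, 0, 22, 9, 6], [2, 4, 13, 9, 4], [2, 1, 0, 15, 4], [2, 3, 15, 21, 7], [2, 8, 20, 23, 12], [2, 3, 8, 12, 21], [2, 5, 4, 10, 17], [6, 17, 2, 3, 15], [2, 8, 0, 2, 18], [2, 2, 16, 21, 10], [6, 22, 17, 1], [6, 15, 17, 21], [2, 2, 16, 23, 18], [2, 3, 13, 20, 6], [6, 8, 4, 21, 1], [2, 24, 7, 11, 6], [2, 2, 10, 24, 16], [6, 0, 13, 8], [6, 7, 11, 7], [2, 5, 7, 6, 12], [2, 9, 4, 16, 23], [2, 16, 2, 0, 6], [2, 12, 8, 18, 2], [2, 11, 20, 2, 2], [2, 11, 16, 11], [2, 3, 20, 18, 16], [2, 1, 23, 5, 18], [2, 0, 7, 0, 2, 12], [2, 23, 10, 16], [6, 9, 2, 17, 22], [2, 22, 7, 2, 15], [6, 10, 2, 4, 24], [2, 21, 0, 22, 19], [2, 2, 2, 23, 16], [2, 2, 13, 20, 5], [2, 5, 6, 7, 22], [2, 3, 4, 14, 18], [2, 5, 6, 14, 17], [2, 5, 6, 17, 23], [2, 3, 16, 16, 9, 6], [2, 3, 11, 0, 13], [2, 2, 2, 20, 8], [2, 2, 24, 4, 15], [2, 1, 11, 24, 2, 3], [2, 9, 15, 13, 19], [2, 14, 7, 1], [6, 1, 22, 4], [2, 0, 13, 6, 18, 7], [2, 2, 0, 15, 18], [2, 4, 6, 23, 16], [2, 9, 14, 15, 6], [2, 24, 8, 2, 7], [2, 4, 3, 8, 9], [2, 1, 12, 0, 9, 6], [2, 13, 24, 0, 2], [2, 5, 0, 14, 6], [6, 4, 10, 21, 10], [6, 9, 19, 15], [6, 10, 13, 22], [2, 24, 14, 6, 12], [6, 9, 1, 16], [6, 7, 7, 20], [6, 22, 24, 7], [6, 22, 6, 22, 13], [6, 15, 18, 5], [2, 5, 10, 21, 2, 18], [2, 0, 6, 5, 22, 15], [6, 11, 6, 1, 21], [6, 3, 8, 16], [2, 10, 2, 4, 4], [2, 7, 1, 2, 13, 16], [2, 4, 16, 4, 6], [6, 23, 14, 16], [2, 2, 23, 21, 11], [2, 2, 18, 20, 3], [2, 1, 12, 6, 18, 4], [2, 1, 18, 6, 21], [2, 21, 17, 8], [2, 16, 13, 11], [6, 19, 2, 18, 8], [2, 3, 13, 15, 21], [2, 4, 6, 8], [6, 16, 22, 6, 17], [2, 10, 2, 17, 12], [2, 14, 4, 9], [6, 1, 22, 6, 8], [2, 1, 22, 9, 6, 14], [2, 24, 2, 2], [2, 0, 1, 14, 2, 4], [2, 5, 6, 11, 22], [2, 23, 8, 20, 2], [2, 7, 0], [6, 16, 2, 15, 8], [2, 21, 12, 2, 16], [2, 9, 2, 21, 11, 22], [2, 0, 0, 3, 17], [6, 1, 13, 3, 2], [6, 16, 2, 20, 13], [2, 3, 9, 2, 13], [2, 21, 4, 11], [2, 9, 2, 23, 10], [6, 0, 11, 21, 1], [6, 9, 20, 9], [2, 2, 18, 16, 24], [6, 6, 14, 2, 13], [6, 5, 9, 23], [6, 9, 11, 16, 24], [2, 2, 14, 22, 16], [2, 12, 2, 21, 21], [6, 8, 24, 1], [2, 0, 13, 8, 10], [2, 11, 6, 22, 14], [2, 3, 16, 8, 17, 6], [6, 5, 17, 6, 19], [2, 1, 1, 16, 7, 6], [2, 3, 1, 23, 21], [6, 11, 6, 20, 17], [2, 1, 16, 2, 13, 7], [2, 16, 7, 2, 20], [2, 8, 4, 8, 4], [2, 9, 2, 11, 24], [6, 5, 4, 17, 15], [6, 24, 22, 8], [2, 0, 5, 8, 24], [6, 4, 6, 6, 24], [2, 7, 7, 15, 13], [2, 13, 10, 8, 22], [2, 3, 1, 18], [2, 16, 2, 2, 2], [2, 13, 21, 9, 6], [6, 18, 2, 4], [2, 4, 21, 16], [2, 10, 2, 7, 9], [6, 9, 2, 17, 12], [6, 12, 6, 15, 11], [2, 4, 4, 14], [6, 9, 2, 7, 11], [2, 3, 17, 0, 0], [2, 21, 7, 3], [2, 7, 14, 3, 23], [2, 12, 2, 19, 7], [2, 7, 12, 8, 0], [2, 4, 7, 21, 18], [2, 4, 7, 18, 20], [2, 11, 5, 23, 6], [6, 8, 17, 1, 2], [2, 0, 2, 15, 15, 8], [2, 11, 1, 14], [6, 14, 6, 1, 2], [2, 1, 10, 13, 6, 0], [2, 2, 9, 6, 4, 4], [2, 15, 11, 4, 15], [6, 13, 3, 6, 20], [2, 8, 6, 13], [2, 17, 6, 14], [2, 4, 13, 2, 24], [6, 17, 7, 6, 15], [2, 10, 21, 10, 5], [2, 8, 10, 0], [2, 10, 5, 0, 3], [2, 9, 20, 13, 2], [2, 1, 21, 6, 4, 22], [2, 23, 12, 15, 2], [2, 0, 5, 18, 19], [2, 0, 21, 2, 20, 12], [2, 14, 6, 15, 11], [2, 0, 5, 9, 3], [2, 2, 4, 17, 10], [2, 3, 5, 6, 0, 10], [2, 1, 8, 2, 12], [2, 21, 0, 6, 11], [2, 7, 4, 16, 22], [2, 24, 7, 5, 6], [6, 7, 24, 18], [2, 2, 7, 19, 11], [6, 3, 11, 7], [2, 17, 2, 8, 11], [2, 0, 15, 21, 2, 11], [2, 2, 17, 6, 12, 2], [2, 0, 8, 9, 20], [2, 0, 6, 1, 14, 19], [2, 1, 13, 18, 0], [6, 21, 4, 13], [2, 2, 2, 7, 23], [2, 4, 4, 7, 2, 16], [6, 24, 1, 15], [2, 4, 18, 24, 12], [2, 0, 7, 7, 19], [2, 4, 17, 3], [2, 11, 18, 6, 10], [6, 9, 4, 16], [2, 2, 19, 12, 6, 24], [2, 0, 21, 2, 10, 1], [6, 5, 3, 15], [6, 0, 9, 14, 15], [6, 15, 12, 4], [2, 0, 0, 10, 19], [2, 2, 13, 23, 13], [2, 17, 6, 4], [2, 0, 21, 2, 18, 3], [6, 10, 19, 4, 6], [6, 13, 12, 21], [2, 2, 8, 21, 12], [2, 1, 9, 2, 16], [6, 1, 2, 24], [6, 18, 7], [2, 9, 18, 15, 2], [2, 9, 2, 23, 12], [2, 2, 7, 1, 23, 2], [2, 5, 15, 13], [2, 7, 2, 16, 13], [2, 3, 17, 5, 21], [2, 1, 9, 19, 2, 19], [6, 4, 1, 9, 4], [2, 15, 10, 6, 24], [6, 4, 11, 5], [2, 9, 4, 1], [6, 0, 1, 15, 13], [2, 4, 3, 5, 7], [2, 0, 20, 6, 5, 8], [2, 9, 1, 1, 20], [2, 3, 11, 1, 10], [2, 3, 22, 5, 16], [2, 15, 22, 5, 6], [2, 15, 7, 6, 22], [2, 4, 23, 9], [2, 2, 21, 2, 24], [2, 3, 21, 0, 7], [2, 11, 6, 21, 2], [2, 1, 15, 2, 13], [2, 8, 1, 17, 14], [2, 7, 22, 10, 7], [2, 3, 16, 16, 10], [2, 10, 19, 15], [2, 3, 1, 10], [2, 17, 2, 11, 6], [2, 2, 8, 6, 23], [2, 3, 17, 0, 21], [2, 10, 0, 12, 8], [2, 13, 0, 2, 1], [2, 14, 7, 10, 6], [2, 8, 21, 5, 23], [2, 2, 10, 0, 21], [2, 3, 19, 8, 21], [2, 23, 2, 7, 4], [2, 16, 5, 6], [2, 24, 10, 4, 24], [6, 24, 4, 16], [2, 9, 1, 4, 14], [6, 13, 0, 12], [2, 14, 6, 4, 19], [2, 1, 16, 2, 23, 14], [2, 2, 1, 4, 18], [2, 3, 7, 15], [6, 0, 6, 24], [6, 18, 4, 8, 2], [2, 1, 11, 6, 10], [2, 4, 7, 16, 12], [2, 4, 20, 24, 12], [2, 22, 0, 15], [6, 0, 17, 10, 2], [6, 18, 3, 7], [6, 14, 16, 19], [2, 2, 12, 0, 13], [2, 1, 2, 2, 22, 11], [2, 2, 8, 10, 22], [6, 22, 23, 18], [6, 18, 19], [6, 14, 7, 3], [6, 15, 20, 1], [2, 7, 6, 11, 5], [2, 0, 6, 11, 0, 16], [2, 2, 14, 0, 19], [6, 10, 22, 16], [6, 0, 24, 16, 10], [6, 9, 11, 23, 2], [2, 4, 9, 8], [2, 4, 9, 3, 8], [2, 4, 1, 18], [6, 8, 11, 2, 5], [6, 16, 2, 17, 23], [6, 15, 0, 2, 14], [2, 11, 17, 2, 16], [2, 2, 12, 23, 10], [2, 0, 3, 18, 2, 10], [6, 22, 6, 22, 12], [2, 1, 21, 6, 8, 18], [2, 10, 4, 13], [2, 4, 9, 6, 23, 2], [2, 12, 24, 2, 0], [6, 0, 15, 22, 1], [2, 5, 16, 18, 6], [2, 0, 8, 21, 0, 2], [2, 19, 0, 1], [6, 4, 20, 16, 13], [2, 0, 18, 2, 14], [2, 10, 2, 19], [2, 1, 15, 17, 15, 6], [6, 9, 0, 0, 2], [2, 14, 5, 21], [2, 7, 23, 16, 6], [2, 0, 20, 6, 22, 18], [2, 9, 8, 16, 6], [2, 23, 19, 6], [2, 16, 2, 24, 7], [6, 1, 15], [2, 4, 11, 8, 20], [2, 3, 23, 10, 2], [2, 4, 6, 22, 10], [2, 23, 8, 24], [2, 7, 17, 2, 2], [2, 5, 4, 8, 21], [6, 9, 17, 3, 6], [2, 15, 1, 6, 14], [6, 15, 10, 24, 6], [6, 16, 13, 5], [2, 23, 9, 6, 10], [2, 17, 2, 0, 6], [2, 7, 1, 2, 14], [2, 2, 20, 16, 4], [2, 22, 14, 2, 16], [2, 2, 17, 13], [2, 8, 12, 3, 2], [2, 2, 13, 17], [2, 9, 2, 19, 3], [2, 9, 0, 6, 15], [2, 2, 17, 4, 7], [6, 18, 14], [6, 24, 14, 2, 5], [2, 12, 4, 14, 2], [2, 1, 6, 9, 14, 6], [6, 0, 5, 13], [6, 7, 14, 23, 2], [6, 9, 17, 17, 6], [2, 24, 2, 15], [6, 10, 4, 2, 13], [6, 7, 6, 24, 4], [2, 1, 17, 22, 13], [2, 4, 10, 18, 4], [6, 5, 21, 11, 6], [2, 10, 20, 6, 1], [2, 8, 6, 17, 15], [6, 15, 18, 3], [2, 4, 16, 5, 2], [6, 12, 2, 20, 7], [6, 0, 6, 17, 6], [6, 22, 23, 7, 2], [6, 1, 23, 4], [2, 9, 6, 14, 19], [2, 3, 9, 8, 23], [2, 3, 7, 3, 19], [2, 11, 19, 8], [2, 22, 0, 0, 6], [2, 11, 20], [6, 11, 21, 0], [2, 19, 3, 24], [2, 7, 22, 16, 17], [2, 19, 9], [2, 3, 7, 19], [2, 4, 6, 17, 24, 8], [2, 0, 7, 16, 24, 2], [2, 2, 19, 7, 13], [2, 23, 4, 12], [2, 2, 8, 19, 22], [6, 15, 2, 8, 13], [2, 13, 5, 20, 1], [2, 1, 18, 2, 13], [2, 0, 22, 4, 13], [2, 4, 1, 8, 4], [2, 12, 23, 0, 9], [2, 3, 0, 16, 12], [2, 5, 6, 16, 4], [6, 21, 15, 8], [2, 14, 4, 8], [2, 5, 3, 2, 13], [2, 1, 7, 7, 6, 6], [6, 17, 6, 5, 5], [2, 2, 21, 0, 18], [2, 12, 4, 5, 20], [2, 7, 6, 12, 17], [2, 12, 4, 4, 2], [2, 2, 9, 14], [6, 24, 5, 23], [6, 8, 11, 19], [6, 20, 16, 12], [6, 5, 24, 20], [6, 8, 19, 12], [6, 16, 2, 8, 23], [6, 14, 8, 18], [2, 13, 17, 4, 8], [6, 5, 14, 7], [2, 1, 13, 12, 8, 2], [2, 1, 13, 2, 5], [2, 3, 18, 23, 15], [2, 5, 4, 12, 18], [2, 3, 7, 18, 20], [2, 11, 16, 24, 6], [6, 16, 16, 4], [2, 0, 5, 8, 1], [2, 0, 18, 7], [6, 1, 10, 13], [2, 11, 4, 3, 17], [2, 8, 19, 0, 7], [2, 9, 2, 24, 4], [2, 10, 5, 24], [2, 2, 13, 0, 15], [2, 1, 4, 13, 16], [2, 7, 12, 6, 18], [6, 4, 9, 18, 6], [6, 4, 10, 13], [6, 0, 5, 17, 16], [2, 2, 20, 24, 14], [2, 5, 20, 6, 10], [6, 11, 21, 24], [6, 9, 8, 15], [6, 11, 17], [6, 3, 10, 20], [6, 6, 4, 6, 18], [6, 3, 8, 1], [2, 1, 14, 7, 2], [6, 17, 15, 24], [2, 2, 17, 7, 13], [2, 0, 21, 0, 6], [6, 22, 6, 3], [6, 20, 10, 0, 2], [6, 1, 13, 5, 6], [2, 10, 13, 6, 13], [6, 7, 16, 14], [2, 11, 0, 6, 6], [2, 0, 11, 6, 17, 23], [2, 23, 2, 4, 12], [6, 3, 13, 4], [6, 18, 2, 15, 5], [6, 5, 18, 3, 20], [6, 12, 24, 1], [6, 18, 4, 12], [2, 19, 9, 6, 24], [6, 13, 11, 18], [6, 3, 14, 8], [2, 2, 17, 21, 8], [6, 18, 2, 22, 15], [6, 16, 8, 2, 3], [6, 4, 21, 9, 6], [6, 8, 9, 8], [6, 4, 3, 11, 6], [6, 9, 6, 15, 23], [2, 21, 2, 18, 18], [2, 4, 8, 9], [2, 4, 5, 11, 6], [2, 7, 9, 15, 0], [2, 4, 9, 22, 8], [2, 19, 4, 24, 1], [2, 1, 8, 2, 3, 0], [2, 2, 15, 24, 4], [6, 24, 15, 22], [2, 13, 7, 24, 2], [2, 1, 1, 6, 12, 22], [2, 5, 6, 1, 3, 6], [2, 0, 0, 22, 2], [2, 3, 9, 11, 18], [2, 0, 14, 16, 7, 2], [2, 21, 2, 21, 23], [2, 4, 14, 7, 6, 17], [6, 5, 21, 4], [6, 1, 20, 2, 11], [2, 11, 4, 19, 24], [6, 17, 15, 5], [2, 0, 9, 7, 17], [2, 4, 2, 2, 22, 7], [6, 16, 6, 12], [2, 9, 21, 14, 23], [6, 7, 11, 0], [2, 10, 8, 2, 16], [2, 1, 4, 2, 14], [2, 0, 2, 13, 24, 1], [2, 20, 15, 15], [2, 9, 6, 8, 17], [2, 3, 13, 15, 19], [2, 5, 2, 24, 14], [2, 5, 4, 17, 24], [2, 4, 6, 13, 3], [2, 5, 2, 8, 24], [2, 1, 15, 2, 15], [2, 3, 8, 22], [2, 3, 17, 11, 23], [2, 4, 18, 4, 24], [2, 21, 5], [2, 19, 2, 2, 11], [6, 13, 4, 14, 6], [2, 5, 5, 19, 12], [2, 7, 5, 7, 19], [2, 13, 17], [2, 5, 6, 14, 23], [2, 4, 1, 22], [6, 4, 2, 24], [6, 1, 19, 15, 9], [2, 3, 21, 0, 18], [2, 7, 0, 15, 8], [2, 4, 7, 12, 7], [2, 5, 6, 18, 20], [2, 8, 5, 21, 14], [2, 14, 7, 14], [2, 11, 5, 5], [2, 3, 4, 2, 23, 15], [2, 23, 2, 7, 13], [6, 0, 16, 11], [6, 10, 13, 5], [2, 2, 15, 4], [6, 24, 6, 15, 23], [2, 1, 19, 3, 2], [2, 1, 0, 21, 13], [2, 17, 4, 21], [2, 4, 20, 21, 12], [6, 1, 15, 18, 8], [2, 3, 8, 0, 17], [2, 13, 2, 5, 2], [6, 15, 4, 18], [6, 20, 18, 7], [6, 22, 13, 4], [2, 1, 3, 2, 8, 1], [2, 0, 0, 15, 2, 17], [2, 7, 6, 9, 2], [6, 4, 10, 19], [6, 9, 16, 0], [6, 0, 5, 18, 6], [6, 12, 21], [2, 15, 2, 8], [2, 2, 13, 16], [6, 3, 24, 3], [6, 9, 13, 22], [6, 12, 16, 10], [6, 9, 16, 4, 6], [6, 14, 1, 14], [6, 1, 22, 8, 6], [2, 16, 9, 4, 7], [6, 10, 13, 17, 2], [2, 1, 13, 4, 2], [6, 19, 2, 3, 11], [2, 2, 22, 6], [2, 3, 15, 9, 24], [2, 8, 22, 6, 3], [2, 2, 0, 1, 21], [2, 8, 19, 7, 20], [6, 3, 0, 7], [2, 17, 2, 13, 10], [6, 9, 24, 9, 2], [2, 5, 6, 17, 24], [2, 3, 6, 6, 21], [2, 0, 6, 9, 6, 18], [6, 3, 4, 16, 2], [2, 3, 1, 13, 4, 2], [6, 0, 14, 7, 17], [6, 0, 15, 22, 2], [6, 0, 22, 16], [6, 8, 17], [2, 4, 7, 5, 14], [2, 5, 10, 6, 1], [2, 17, 0, 23, 9], [2, 9, 16, 24, 0], [2, 12, 16, 20, 0], [6, 16, 18, 5, 6], [2, 13, 5, 2, 1], [6, 9, 15, 17, 6], [6, 3, 19, 0], [2, 0, 11, 6, 15, 21], [2, 0, 18, 2, 7], [6, 13, 19], [2, 21, 1, 2, 1], [6, 9, 14, 2, 9], [6, 1, 24, 16, 5], [2, 2, 20, 18, 18], [2, 15, 2, 1, 21], [2, 8, 4, 20, 21], [6, 1, 0, 18, 14], [2, 2, 10, 20, 16], [2, 0, 10, 16, 5, 2], [2, 23, 4, 9, 2], [2, 0, 5, 13, 4], [2, 4, 15, 7, 15], [2, 2, 14, 1, 12], [6, 10, 4, 8, 2], [6, 8, 9, 21], [6, 12, 24, 8], [6, 8, 10, 18], [6, 3, 17, 7], [6, 5, 20, 3], [2, 24, 4, 9], [2, 0, 6, 12, 0, 16], [2, 8, 0, 19, 12], [2, 2, 15, 17, 4], [2, 1, 0, 21], [2, 0, 14, 6, 20], [2, 2, 22, 6, 15, 20], [2, 3, 8, 13, 11], [2, 0, 7, 2, 14], [2, 8, 9, 21, 1], [2, 11, 22, 14], [2, 3, 2, 7], [2, 14, 8, 12], [2, 0, 1, 6, 11, 15], [2, 1, 10, 2, 21, 14], [2, 12, 0, 19, 2], [2, 15, 5, 8, 6], [6, 12, 15, 13], [2, 13, 20, 21, 6], [6, 3, 24, 5], [2, 2, 7, 7], [2, 2, 10, 22, 24], [2, 17, 2, 4, 20], [2, 17, 2, 24, 0], [2, 0, 2, 0, 1, 16], [2, 9, 17, 23], [2, 0, 8, 4, 6, 13], [2, 3, 24, 17, 11], [2, 21, 24, 3], [2, 21, 24], [2, 0, 0, 24, 6, 19], [2, 1, 13, 6, 1, 0], [2, 0, 0, 10, 5, 6], [2, 3, 8, 8, 0], [6, 15, 2, 2, 7], [2, 0, 8, 17, 21], [2, 2, 2, 11, 3], [2, 8, 0, 14, 7], [6, 7, 5, 10, 6], [2, 4, 14, 6, 12], [2, 12, 6, 0, 18], [2, 2, 2, 5, 19], [2, 11, 20, 6, 4], [2, 0, 10, 23, 3], [6, 15, 1, 9], [2, 1, 23, 16, 6, 14], [2, 24, 10, 6, 15], [2, 8, 5, 15, 18], [2, 8, 18, 11, 21], [2, 4, 2, 1, 15], [2, 3, 22, 3, 7], [2, 10, 5, 9], [2, 1, 22, 4, 14], [2, 7, 24, 6, 10], [2, 22, 8, 6, 5], [2, 10, 14, 2, 0], [6, 15, 0, 17], [6, 3, 18, 7], [2, 2, 10, 18, 19], [2, 2, 22, 8, 12], [2, 4, 11, 5, 8], [6, 11, 6, 7, 13], [2, 10, 2, 5, 14], [2, 5, 6, 23, 4], [2, 24, 0, 2, 1], [2, 22, 10, 15], [6, 12, 6, 3, 7], [2, 4, 2, 11], [2, 4, 4, 24, 9], [2, 7, 5], [2, 9, 19, 2, 11], [6, 18, 16, 6, 7], [2, 0, 2, 18, 2, 23], [6, 10, 13, 24], [6, 13, 19, 2, 17], [6, 12, 15, 24], [2, 2, 12, 15, 4], [6, 4, 21, 12], [2, 10, 2, 4, 11], [2, 2, 11, 7, 0], [6, 4, 16, 18], [6, 19, 15, 0], [2, 2, 20, 21, 12], [6, 13, 11, 17], [6, 8, 17, 13], [2, 23, 2, 11, 7], [2, 0, 15, 22, 4, 2], [2, 16, 21, 3], [2, 7, 5, 20, 23], [2, 16, 12, 21], [2, 3, 8, 12, 19], [6, 13, 6, 20], [2, 23, 14, 8], [2, 2, 5, 9, 6, 23], [2, 1, 12, 6, 4], [6, 9, 2, 12, 0], [2, 12, 2, 15, 23], [2, 4, 3, 10], [2, 3, 5, 6, 5, 7], [2, 0, 3, 19, 17], [2, 19, 0, 3, 8], [2, 4, 13, 10], [2, 13, 20, 2], [6, 14, 1, 1], [6, 1, 14], [6, 19, 9, 5], [2, 16, 4, 13], [6, 10, 24, 1], [2, 2, 0, 3, 0], [2, 21, 2, 8, 24], [6, 7, 14, 8, 6], [2, 16, 1, 2, 17], [6, 18, 6, 7], [2, 1, 18, 5, 17], [2, 1, 6, 14, 21], [2, 5, 16, 9, 18], [2, 10, 1, 20, 21], [2, 11, 7, 1, 18], [2, 0, 2, 15, 8, 14], [2, 0, 15, 4, 10], [2, 8, 22, 17, 0], [2, 11, 5, 22, 23], [2, 9, 1, 0, 18], [2, 7, 2, 23, 16], [2, 4, 3, 1, 4], [2, 22, 1, 6, 15], [2, 2, 13, 24, 2, 12], [2, 16, 20, 23, 2], [6, 18, 6, 11, 6], [6, 3, 15, 12], [2, 8, 21, 21, 2], [6, 5, 19], [6, 0, 7, 15], [2, 8, 6, 18, 19], [2, 1, 12, 6, 8, 4], [6, 0, 8, 10, 16], [2, 19, 4, 4, 14], [6, 10, 17, 4], [6, 17, 9, 22], [2, 15, 2, 13, 4], [6, 7, 16, 4], [2, 9, 2, 15, 17], [2, 0, 6, 15, 6, 21], [2, 11, 17, 23, 2], [6, 22, 19, 7], [2, 4, 5, 13, 20], [2, 20, 9, 2], [2, 21, 4, 16, 12], [6, 4, 3], [2, 1, 13, 2, 24, 2], [2, 20, 0, 22, 0], [6, 9, 23, 9], [2, 7, 19, 14, 2], [2, 9, 14, 16, 2], [2, 3, 22, 2, 3], [6, 9, 13, 6, 1], [2, 16, 17, 20, 2], [2, 1, 8, 2, 7, 9], [2, 0, 2, 13, 11, 3], [2, 5, 21, 18, 5], [2, 12, 5, 7, 24], [2, 13, 3, 5, 12], [2, 11, 7, 18, 1], [2, 12, 5, 7, 10], [2, 4, 5, 2, 15], [2, 12, 1, 2, 18], [2, 10, 1, 3], [2, 5, 12, 0, 17], [2, 0, 22, 4, 2], [2, 13, 2, 8, 11], [2, 1, 20, 9], [2, 0, 2, 9, 19, 16], [2, 1, 10, 23, 2], [2, 1, 20, 0, 6, 9], [2, 5, 6, 17, 12], [2, 4, 8, 19, 16], [2, 4, 16, 16, 11], [2, 3, 12, 4, 10], [6, 13, 23, 4], [2, 0, 20, 7, 19], [2, 8, 4, 2, 12], [2, 17, 14, 23, 2], [2, 2, 1, 23, 3], [6, 1, 7, 18], [2, 8, 0, 8, 23], [2, 0, 17, 6, 21, 9], [2, 0, 22, 7, 23], [6, 15, 6, 1], [2, 17, 7, 16, 2], [2, 13, 20, 23, 2], [6, 9, 14, 6, 10], [2, 7, 24, 3], [2, 1, 1, 3, 13], [2, 3, 15, 21, 19], [2, 0, 16, 4, 17], [2, 12, 8, 21, 9], [2, 1, 2, 24, 10], [2, 17, 16, 23, 2], [6, 16, 2, 10, 14], [6, 23, 18, 7], [6, 4, 8, 5, 24], [2, 2, 8, 5, 5], [2, 2, 5, 24, 4], [2, 4, 7, 5, 8], [2, 2, 19, 13, 24], [6, 15, 0, 2, 7], [2, 16, 6, 19, 13], [2, 12, 4, 5], [2, 2, 15, 20, 9], [2, 11, 2, 7, 19], [6, 22, 14, 20], [2, 5, 0, 2, 4, 15], [2, 24, 2, 2, 18], [2, 0, 2, 22, 17, 2], [2, 10, 16, 13], [2, 14, 5, 12, 3], [2, 7, 14, 18], [2, 9, 7, 2, 9], [2, 13, 24, 5], [2, 3, 14, 2, 14, 4], [2, 1, 13, 2, 11], [6, 12, 2, 18, 22], [2, 21, 0, 14, 2], [2, 15, 6, 0, 22], [2, 4, 17, 11, 1], [2, 2, 12, 0, 21], [2, 2, 11, 1, 21], [2, 2, 5, 3], [6, 15, 24, 15], [2, 3, 20, 15, 6], [2, 21, 8, 1, 6], [2, 3, 7, 24, 20], [2, 7, 2, 11, 1], [2, 3, 17, 19, 8], [2, 1, 24, 4, 20], [2, 8, 22, 14, 17], [2, 4, 4, 17, 24], [2, 0, 2, 5, 17, 19], [2, 0, 1, 6, 0, 22], [2, 4, 21, 1, 17], [2, 0, 3, 9, 11], [2, 8, 0, 16, 18], [2, 3, 4, 21, 10], [2, 0, 9, 23, 7], [2, 4, 9, 22, 16], [2, 16, 2, 1, 20], [6, 11, 5, 13, 1], [2, 0, 12, 7, 17], [2, 4, 22, 1, 18], [2, 1, 3, 6, 12, 24], [2, 12, 24, 2, 5], [6, 16, 18, 21, 6], [2, 3, 24, 2, 13], [2, 4, 16, 2, 20], [2, 8, 24, 12], [2, 2, 1, 4, 22], [2, 5, 12, 4, 14], [2, 9, 6, 9, 11], [2, 3, 7, 22, 20], [2, 0, 1, 3, 1, 2], [2, 0, 9, 6, 5, 3], [6, 12, 23, 13, 2], [6, 18, 22, 4], [2, 4, 23, 10, 2], [6, 11, 21, 5], [6, 22, 23, 2, 22], [6, 23, 17, 14], [2, 7, 5, 7, 6], [2, 21, 0, 15, 2], [2, 7, 1, 2, 7], [2, 19, 13, 6, 6], [2, 3, 8, 8, 13], [2, 14, 17, 9], [2, 13, 18], [2, 14, 18, 10], [2, 13, 22, 20], [2, 3, 11, 24, 10], [6, 0, 21, 2, 9], [2, 21, 2, 15, 23], [2, 2, 14, 8, 5], [6, 6, 0, 24, 9], [6, 11, 22, 2], [2, 4, 18, 6, 0, 0], [2, 0, 17, 2, 9], [2, 16, 20, 21, 6], [2, 4, 13, 5, 23], [2, 2, 7, 16], [2, 19, 4, 10, 20], [6, 24, 12, 19], [6, 8, 14, 23, 2], [6, 21, 10, 5], [2, 14, 2, 11], [2, 4, 1, 2, 17], [6, 8, 1, 18, 2], [6, 9, 18, 16, 6], [6, 21, 7, 19], [2, 2, 17, 3, 23], [6, 5, 11, 1], [2, 19, 11, 6, 10], [2, 2, 12], [2, 0, 1, 14], [2, 1, 10, 2, 22, 15], [2, 0, 0, 8, 17], [2, 0, 14, 5, 17], [2, 4, 23, 0, 13], [2, 0, 21, 2, 3, 12], [2, 0, 1, 7, 21], [2, 1, 11, 2, 20, 10], [6, 18, 2, 17, 21], [6, 7, 6, 5, 20], [2, 2, 22, 5, 7], [2, 4, 21, 12, 20], [6, 1, 18, 23], [2, 0, 14, 6, 8, 18], [2, 7, 6, 3, 4], [2, 4, 1, 12, 0], [6, 15, 9, 5], [2, 20, 2, 2, 13], [2, 19, 4, 20, 5], [2, 9, 2, 10, 20], [2, 2, 18, 14, 2], [2, 3, 14, 6, 12], [2, 0, 8, 6, 0], [6, 15, 14, 4, 2], [2, 5, 6, 13, 3], [2, 1, 21, 6, 1, 14], [2, 8, 1, 20], [2, 12, 1, 14], [2, 3, 9, 16, 22], [6, 9, 2, 18, 10], [2, 5, 7, 1, 22], [2, 19, 0, 2, 0], [2, 3, 9, 2, 20, 0], [6, 18, 7, 20, 6], [6, 9, 24, 13, 2], [2, 21, 1, 6, 8], [2, 0, 7, 5, 6], [2, 2, 7, 0], [2, 11, 0, 21, 2], [2, 3, 17, 6, 3], [6, 18, 18, 10], [2, 2, 19, 7, 9], [6, 9, 19, 22], [2, 0, 0, 19, 7], [2, 19, 11, 6, 8], [6, 8, 24, 15, 6], [2, 12, 0, 0, 11], [2, 20, 4, 2, 1], [6, 4, 16], [2, 1, 21, 6, 24, 1], [2, 9, 2, 20, 17], [2, 8, 6, 15, 7], [6, 13, 24, 20], [6, 22, 13, 10], [2, 0, 2, 19, 2, 3], [2, 1, 0, 16, 18], [2, 12, 4, 15, 19], [2, 4, 7, 20, 5], [2, 4, 18, 15, 14], [2, 7, 12, 3, 0], [6, 7, 18, 6], [2, 0, 6, 1, 19, 13], [6, 16, 16, 24], [6, 9, 23, 16], [2, 14, 6, 5, 13], [2, 0, 2, 5, 17, 2], [2, 2, 20, 18, 6], [2, 3, 19, 15], [2, 10, 13, 12], [2, 7, 16, 11, 7], [2, 21, 2, 7, 7], [2, 0, 3, 17, 7], [2, 0, 13, 3, 7], [2, 0, 17, 7], [6, 6, 6, 15, 18], [2, 8, 8, 4, 9], [2, 4, 8, 12, 21], [2, 1, 7, 13, 11, 6], [2, 7, 5, 14], [2, 8, 1, 24, 21], [2, 7, 15, 18, 14], [2, 2, 22, 6, 13], [2, 0, 3, 2, 1], [2, 14, 16, 10], [2, 2, 9, 0, 21], [2, 3, 12, 23, 14], [2, 12, 3, 6], [2, 1, 18, 6, 19], [2, 4, 4, 18, 5], [2, 0, 23, 4, 12, 6], [2, 12, 15, 12, 19], [2, 24, 7, 16], [2, 13, 16, 24, 5], [2, 1, 6, 15, 5, 9], [2, 7, 0, 14, 2], [2, 4, 6, 15], [2, 2, 21, 6, 3], [2, 10, 2, 19, 14], [2, 10, 23, 14], [2, 19, 16, 1], [2, 3, 13, 11, 20], [2, 0, 1, 6, 23, 11], [6, 4, 2, 21], [2, 4, 18, 14, 15], [2, 0, 10, 7, 19], [2, 0, 3, 8, 12, 2], [2, 7, 4, 10, 5], [6, 7, 6, 16, 10], [2, 1, 10, 7, 20, 6], [2, 5, 6, 12, 1], [6, 9, 5, 4], [6, 17, 2, 24, 14], [6, 14, 16, 2], [2, 17, 0, 1, 6], [2, 3, 21, 4, 10], [6, 0, 12, 4, 12], [6, 16, 4, 3], [2, 9, 2, 22, 20], [2, 15, 14, 4, 15], [2, 4, 16, 16], [2, 1, 0, 8, 8], [2, 5, 6, 5, 9], [2, 2, 1, 9, 20], [2, 4, 6, 9, 0, 22], [2, 0, 12, 7, 6, 10], [2, 1, 18, 13, 2, 24], [6, 15, 8, 12], [2, 13, 24, 4, 6], [6, 11, 24, 15, 6], [2, 1, 21, 23, 6, 23], [6, 4, 10, 3, 7], [2, 8, 5, 4, 18], [2, 2, 14, 0, 11], [2, 23, 9, 6, 7], [2, 9, 11, 1, 2], [6, 21, 0, 15], [6, 23, 8], [2, 0, 9, 0, 13, 6], [2, 21, 4, 16, 23], [2, 2, 7, 4, 6], [2, 3, 14, 6, 8, 14], [2, 3, 0, 10, 2], [6, 0, 13, 4], [2, 0, 8, 13, 2, 12], [2, 2, 20, 9, 2], [2, 16, 24, 2, 10], [2, 2, 0, 2, 3], [6, 23, 17, 7], [2, 0, 5, 21, 14], [2, 2, 11, 17, 12], [2, 17, 2, 5, 11], [6, 1, 18, 0, 24], [2, 0, 18, 1, 22], [6, 19, 9, 24], [6, 8, 11, 21], [2, 2, 14, 0, 1], [2, 11, 7, 4, 12], [6, 22, 6, 23, 15], [2, 2, 21, 18, 11], [6, 4, 9, 21], [6, 15, 10, 24], [2, 0, 6, 7, 2, 11], [6, 12, 6, 11, 15], [2, 3, 9, 1, 9], [2, 15, 20, 17], [2, 3, 14, 7, 7], [2, 14, 3, 15, 2], [6, 20, 6, 15], [2, 7, 9, 18, 0], [2, 24, 6, 22], [2, 10, 6, 15, 2], [2, 0, 12, 8, 19], [2, 4, 1, 9, 22], [2, 16, 2, 3, 20], [2, 12, 7, 3], [2, 8, 16, 23, 12], [6, 1, 4, 13], [2, 0, 1, 6, 14, 16], [2, 3, 5, 15, 2], [2, 2, 12, 2, 18], [6, 21, 14], [6, 4, 10, 20, 17], [2, 11, 7, 2, 4], [2, 19, 23, 9, 2], [6, 19, 11, 8], [2, 9, 11, 6], [2, 2, 14, 17, 12], [6, 5, 17], [6, 22, 18, 11], [6, 20, 0, 16, 2], [2, 8, 20, 4, 9], [6, 15, 22, 3], [2, 2, 13, 20, 13], [2, 4, 21, 0, 6, 22], [2, 3, 16, 5, 6], [2, 24, 1, 4, 12], [6, 14, 22, 23], [6, 15, 24, 22], [2, 0, 23, 16, 6, 19], [2, 0, 10, 4, 10], [6, 24, 13, 6], [2, 1, 21, 9, 0], [2, 10, 1, 14, 1], [2, 2, 0, 8, 5], [2, 1, 16, 7, 23], [2, 0, 0, 10, 2], [2, 0, 0, 11, 21], [2, 7, 4, 1, 19], [2, 22, 15, 4, 11], [6, 11, 6, 16, 7], [2, 8, 2, 5, 7], [2, 1, 16, 4, 7], [2, 3, 1, 11, 20], [2, 3, 4, 4, 12], [2, 1, 2, 14, 8], [2, 3, 1, 13, 24], [2, 2, 8, 1, 0], [2, 16, 23, 17, 6], [2, 21, 15, 24], [2, 3, 11, 19, 17], [2, 2, 0, 13], [2, 4, 6, 6, 3], [2, 3, 8, 14, 5], [2, 4, 6, 10, 20], [2, 8, 20, 2, 8], [2, 10, 2, 21], [6, 14, 17, 24], [6, 8, 13, 9], [6, 0, 11, 20], [2, 1, 15, 7, 2, 16], [2, 24, 7, 5], [2, 23, 0, 1], [2, 1, 19, 10, 7], [2, 22, 17, 2, 3], [2, 1, 13, 12, 0], [2, 16, 4, 5, 6], [6, 12, 22, 6], [6, 8, 24, 9, 6], [6, 1, 8, 5], [2, 5, 7, 6, 8], [2, 9, 2, 18, 12], [2, 17, 15, 6, 11], [2, 7, 4, 18, 23], [2, 2, 19, 16, 11], [2, 2, 9, 13, 16], [6, 18, 14, 20, 6], [6, 21, 17], [2, 2, 8, 9, 23], [2, 23, 4, 8], [2, 0, 7, 6, 6, 6], [2, 2, 19, 13, 8], [6, 19, 13, 2, 0], [2, 5, 5, 9, 2], [2, 9, 8, 13, 2], [2, 4, 7, 0, 20], [2, 12, 2, 10, 0], [6, 15, 6, 15, 11], [2, 11, 0, 8, 2], [2, 11, 7, 17, 1], [2, 5, 4, 16], [2, 3, 14, 19, 11], [6, 21, 3, 2, 9], [2, 5, 5, 7, 6], [2, 0, 23, 2, 12], [2, 4, 20, 8, 16], [2, 0, 12, 6, 8, 0], [2, 21, 16, 22, 6], [2, 5, 6, 19], [2, 0, 6, 14, 5, 12], [6, 10, 2, 16, 24], [2, 3, 2, 8, 23], [2, 0, 6, 0, 23], [2, 1, 8, 5, 4, 6], [2, 4, 20, 4, 2], [2, 2, 23, 13], [6, 3, 1, 1, 16], [2, 4, 21, 12, 5], [2, 2, 7, 2, 21, 5], [6, 0, 5, 17, 21], [2, 19, 5, 4, 15], [2, 0, 1, 15, 15], [2, 3, 9, 2, 20, 15], [2, 14, 6, 13, 15], [6, 16, 13, 6, 8], [2, 1, 6, 18, 23, 6], [6, 8, 6, 17, 6], [6, 7, 10, 14], [6, 13, 19, 2, 20], [2, 2, 5, 16, 8, 6], [2, 0, 6, 5, 12], [6, 9, 6, 18, 10], [2, 13, 3, 0, 14], [2, 13, 1, 2], [2, 7, 0, 18, 8], [2, 9, 2, 14, 7], [2, 17, 21, 2, 16], [2, 12, 0, 17, 6], [2, 2, 16, 22], [6, 16, 2, 19, 4], [2, 2, 8, 18, 14], [2, 4, 5, 10, 18], [6, 4, 3, 10, 18], [6, 8, 19, 23], [6, 5, 4, 14], [2, 1, 4, 6, 10], [2, 1, 10, 2, 14, 16], [6, 11, 16], [2, 7, 6, 24, 21], [2, 0, 0, 21, 24], [2, 0, 6, 15, 6, 9], [2, 13, 24, 0], [2, 4, 20, 14, 15], [2, 8, 4, 2, 21], [2, 0, 14, 6, 12, 22], [6, 0, 16, 2, 5], [2, 13, 18, 21, 5], [2, 12, 24, 11], [2, 3, 7, 21, 1], [2, 5, 3, 23, 6], [2, 8, 0, 5, 12], [2, 2, 13, 8], [6, 11, 18, 7], [2, 17, 6, 1], [2, 1, 10, 21, 6], [2, 1, 7, 23, 6], [2, 24, 5, 4, 2], [2, 3, 18, 15, 18], [2, 10, 16, 22, 23], [2, 19, 10, 20], [2, 17, 16, 21, 6], [6, 23, 10, 2, 4], [2, 13, 4, 9, 21], [2, 1, 2, 0, 13], [6, 15, 18, 2], [6, 7, 6, 3, 4], [6, 0, 0, 12], [2, 22], [2, 22, 3], [2, 1, 4, 11, 16], [2, 5, 12, 1, 1], [2, 17, 9, 19], [2, 5, 8, 6, 13], [2, 2, 12, 15, 1], [2, 8, 0, 1, 15], [6, 1, 10, 21, 23], [2, 16, 2, 1, 11], [2, 5, 5, 6, 11], [2, 1, 3, 16, 14], [2, 4, 16, 4, 20], [2, 9, 19, 1, 20], [2, 9, 2, 16, 22], [6, 15, 20, 18], [2, 2, 12, 21, 19], [2, 2, 4, 15], [6, 0, 15, 15, 10], [2, 2, 24, 10], [6, 23, 14], [6, 11, 6, 23, 15], [2, 7, 14, 7, 1], [2, 3, 17, 24, 5], [2, 5, 20, 11], [2, 0, 2, 24, 7, 9], [2, 11, 7, 24, 2], [2, 0, 5, 5, 19], [2, 2, 5, 12, 23], [2, 2, 19, 12, 24], [6, 7, 19, 4], [2, 15, 4, 9, 14], [2, 2, 11, 24, 20], [2, 1, 12, 6, 12], [2, 1, 16, 7, 6], [2, 4, 5, 20, 17], [6, 17, 21, 23], [6, 8, 23, 0], [2, 0, 0, 18, 7], [6, 23, 5, 12], [2, 2, 7, 21, 0], [6, 11, 6, 3, 7], [6, 10, 17, 2, 10], [6, 3, 22, 4], [2, 0, 8, 9, 15], [2, 4, 7, 0, 5], [2, 4, 22, 7, 24], [2, 0, 16, 7, 17], [6, 6, 0, 11], [2, 0, 6, 17, 1, 7], [2, 12, 4, 22, 23], [6, 0, 7, 4, 8], [2, 4, 9, 1, 18], [2, 21, 14, 6, 0], [6, 10, 21, 4], [2, 1, 9, 21, 6, 13], [2, 0, 14, 6, 11], [2, 13, 11, 6, 1, 4], [6, 5, 12, 22], [2, 3, 1, 4, 17], [6, 0, 8, 18, 21], [2, 11, 0, 6, 19], [6, 15, 18, 16], [2, 3, 23, 2, 8, 2], [2, 11, 2, 22, 7], [6, 17, 11, 2, 13], [2, 19, 4, 1, 22], [2, 2, 20, 23, 22], [2, 2, 4, 9], [2, 4, 7, 20, 6], [2, 7, 16, 10, 2], [2, 9, 5, 17, 2], [2, 0, 11, 6, 24, 8], [2, 15, 15, 11, 2], [2, 11, 5, 8, 18], [2, 3, 16, 2, 3], [2, 1, 7, 9, 3], [2, 1, 6, 24, 15, 10], [6, 0, 12, 0], [2, 0, 0, 18, 19], [2, 8, 15, 6, 11], [2, 0, 6, 23, 2, 3], [6, 15, 20, 12], [2, 0, 21, 2, 12, 3], [2, 22, 7, 6, 20], [2, 3, 14, 16, 6], [6, 15, 9, 2], [6, 17, 2, 5, 0], [2, 7, 2, 10, 6], [2, 3, 15, 6, 21, 3], [6, 15, 1, 24], [2, 14, 0, 7, 12], [2, 4, 17, 8, 24], [2, 1, 16, 5, 6], [2, 23, 10, 5], [2, 3, 16, 14, 22], [2, 19, 12, 5], [2, 4, 2, 16, 6, 10], [2, 3, 17, 1, 8], [2, 24, 2, 4, 8], [6, 1, 7, 16, 2], [2, 2, 1, 17, 2], [2, 2, 4, 10, 1], [2, 12, 2, 15, 10], [2, 4, 2, 13, 6, 3], [2, 12, 20, 2, 0], [2, 14, 24, 7], [2, 3, 14, 24, 7], [6, 23, 0, 7], [2, 19, 17, 3, 6], [2, 9, 4, 9, 23], [2, 2, 19, 17], [2, 2, 18, 20], [2, 5, 20, 6, 24, 17], [2, 10, 4, 3, 14], [2, 0, 21, 2, 22, 14], [6, 16, 2, 19, 9], [2, 24, 0, 15, 2], [2, 8], [2, 12, 15, 19, 6], [2, 0, 3, 2, 4, 23], [2, 0, 3, 10, 1, 2], [2, 3, 4, 19, 7], [2, 11, 6, 8, 9], [2, 4, 15, 7, 22], [2, 9, 1, 22, 2], [2, 2, 13, 18, 7], [6, 12, 15, 12], [6, 18, 5, 24], [6, 6, 14, 2, 12], [6, 12, 3, 21], [2, 2, 14, 19], [2, 22, 4, 1, 10], [2, 0, 7, 3, 2], [6, 10, 0, 10], [2, 22, 6, 15, 2], [6, 3, 21, 6, 6], [2, 11, 2, 5, 19], [6, 18, 4, 13], [2, 1, 16, 2, 10, 16], [2, 2, 10, 6, 12, 0], [2, 24, 7, 4, 6], [2, 4, 8, 3, 9], [2, 5, 6, 5, 15], [2, 21, 2, 20, 17], [6, 1, 23, 1, 6], [6, 3, 6, 24, 2], [6, 22, 14, 1, 2], [6, 13, 11, 23, 6], [6, 24, 18, 8, 6], [6, 16, 2, 22, 18], [2, 2, 15, 23, 6], [2, 9, 2, 12, 17], [2, 0, 6, 22, 5], [2, 0, 6, 23, 0, 17], [2, 0, 6, 11, 21, 2], [6, 21, 14, 22, 6], [6, 9, 7, 6, 23], [2, 19, 0, 2, 15], [6, 6, 22, 2, 21], [6, 16, 2, 23, 17], [6, 14, 8, 24, 6], [2, 22, 14, 2, 21], [6, 15, 7, 18, 2], [2, 1, 0, 2, 14], [2, 0, 6, 4, 13, 19], [6, 22, 14, 0, 5], [2, 2, 15, 23, 5], [6, 21, 14, 22], [2, 9, 3, 4, 21], [2, 2, 15, 18, 24], [2, 2, 19, 11], [6, 0, 12, 15], [2, 2, 17, 9, 22], [2, 2, 4, 5, 16], [6, 15, 7, 18], [6, 0, 18, 22], [6, 3, 16], [2, 0, 3, 1, 14], [2, 20, 13, 2, 21], [2, 2, 15, 22, 4], [2, 2, 23, 10, 7], [2, 2, 14, 0, 3], [2, 15, 2, 16], [6, 15, 21, 11], [2, 0, 6, 19, 6], [6, 7, 12, 5, 2], [2, 2, 14, 7, 22, 2], [2, 1, 9, 1, 10, 6], [6, 16, 9, 2, 23], [2, 1, 24, 16, 2, 17], [2, 0, 21, 2, 5, 20], [2, 0, 6, 5, 9, 17], [6, 9, 1, 9, 2], [2, 3, 10, 2, 1], [2, 23, 2, 15, 4], [6, 5, 18, 4, 6], [2, 4, 24, 1, 6], [2, 10, 19, 2, 19], [2, 0, 6, 5, 19, 12], [2, 10, 8, 6, 14], [6, 18, 10, 5], [2, 0, 1, 14, 2, 15], [2, 9, 2, 7, 4], [2, 2, 10, 6, 17, 11], [6, 5, 5, 9, 13], [6, 12, 2, 17, 8], [2, 1, 4, 2, 7], [6, 16, 13, 11, 2], [2, 22, 17, 8], [2, 1, 6, 7, 6, 7], [2, 0, 6, 5, 12, 21], [2, 0, 10, 2, 7, 2], [2, 8, 2, 16, 6], [2, 0, 13, 24, 6, 14], [2, 0, 21, 2, 5, 23], [2, 1, 1, 9, 0, 2], [2, 2, 11, 17, 7], [2, 12, 15, 12, 2], [2, 10, 2, 10, 19], [6, 12, 2, 3], [2, 16, 21, 6, 18], [6, 6, 19, 6, 7], [6, 12, 6, 12, 24], [2, 9, 6, 9, 14], [2, 1, 4, 7, 11], [6, 18, 24, 2, 24], [2, 8, 13, 6, 0, 24], [2, 0, 13, 8, 2, 5], [2, 11, 2, 21, 21], [2, 9, 2, 10, 15], [2, 0, 6, 5, 13, 4], [2, 21, 14, 2, 12], [2, 0, 0, 17, 21], [6, 19, 7, 12, 2], [2, 1, 18, 23, 6, 3], [2, 17, 2, 16, 19], [2, 0, 8, 23, 2, 13], [6, 10, 2, 3, 16], [2, 17, 6, 9, 2], [6, 15, 18, 5, 2], [2, 5, 11, 15, 6], [2, 3, 18, 18, 6, 22], [6, 16, 1, 21, 6], [6, 11, 6, 23, 9], [6, 4, 20, 2, 13], [2, 21, 12, 2, 21], [2, 4, 1, 8, 5, 6], [6, 11, 6, 7, 4], [6, 0, 14, 23, 22], [2, 14, 15, 4, 2], [2, 1, 0, 15, 20, 2], [2, 1, 6, 10, 0, 20], [6, 1, 22, 2, 20], [6, 4, 13, 6, 23], [2, 1, 17, 1, 2, 1], [2, 1, 6, 16, 13], [2, 4, 21, 4, 20], [2, 9, 23, 6, 1], [2, 2, 21, 6, 5, 14], [6, 1, 23, 2], [2, 1, 18, 15, 18], [2, 0, 16, 2, 12, 1], [2, 1, 16, 1, 17], [2, 4, 9, 14, 2], [2, 4, 14, 3, 4], [2, 14, 0, 17, 6], [2, 12, 2, 3, 6], [2, 17, 2, 13, 5], [6, 10, 19], [2, 5, 20, 6, 3], [2, 7, 13, 4, 15], [6, 7, 19, 16], [2, 8, 10, 6, 11], [2, 17, 9, 2, 11], [2, 20, 23, 2, 21], [2, 0, 14, 0, 7, 2], [2, 10, 0, 11], [2, 0, 2, 0, 0, 16], [2, 22, 2, 13, 18], [2, 12, 6, 1, 0], [2, 4, 8, 23, 18], [2, 1, 13, 12, 6], [2, 9, 19, 2, 21], [2, 1, 8, 2, 4, 10], [2, 21, 4, 10, 16], [2, 0, 11, 6, 10], [2, 2, 9, 15, 15], [6, 19, 13, 24], [2, 7, 4, 1, 12], [2, 10, 2, 11, 20], [2, 0, 1, 6, 17, 9], [2, 2, 1, 2, 7], [2, 3, 18], [2, 0, 3, 15, 8, 6], [2, 8, 11, 18], [2, 3, 16, 2, 1], [2, 2, 0, 17, 5], [2, 4, 6, 21, 6], [2, 1, 12, 6, 10, 0], [2, 0, 2, 24, 2], [2, 2, 17, 12], [2, 0, 6, 22, 6, 16], [2, 2, 13, 20, 16], [2, 5, 18, 8, 2], [2, 2, 12, 2, 20], [2, 2, 7, 6, 5], [2, 0, 2, 14, 1, 22], [2, 1, 13, 21, 6], [2, 14, 3], [6, 16, 19, 2, 16], [2, 0, 21, 2, 16, 11], [2, 3, 0, 23, 2, 18], [6, 3, 14, 18, 24], [2, 0, 7, 12, 8, 6], [2, 22, 2, 15, 6], [2, 21, 14, 2, 18], [2, 12, 0, 0, 20], [2, 1, 2, 0, 6, 8], [2, 2, 23, 17, 9], [2, 2, 14, 7, 23], [6, 7, 17, 4], [6, 22, 16, 2, 24], [2, 2, 12, 2, 23], [6, 12, 15, 18], [6, 4, 18, 11], [6, 9, 1, 6, 5], [2, 7, 21, 24, 20], [2, 13, 24, 17], [2, 20, 13, 11], [2, 3, 10, 2, 22], [6, 18, 14, 2, 4], [6, 3, 9, 4, 2], [2, 3, 14, 2, 17], [2, 15, 5, 3, 6], [2, 1, 23, 22, 6, 10], [2, 0, 0, 24, 6, 1], [6, 15, 6, 5, 12], [2, 9, 19, 2], [2, 10, 20, 6, 19], [2, 21, 7, 14, 2], [2, 3, 16, 9, 2], [2, 3, 4, 1, 2, 16], [2, 0, 20, 14, 6, 15], [2, 0, 12, 8, 15, 2], [2, 7, 19, 0, 15], [6, 13, 2, 17], [2, 0, 15, 8, 20, 6], [2, 10, 2, 16, 7], [2, 4, 13, 15, 6], [2, 0, 23, 1, 6], [2, 10, 8, 6, 0], [2, 0, 2, 19, 17, 2], [2, 24, 3, 16], [2, 15, 6, 6, 7], [2, 17, 2, 0, 0], [2, 2, 20, 13, 11, 2], [6, 4, 1, 6, 8], [2, 2, 12, 3, 6, 6], [6, 22, 16, 6, 6], [2, 11, 2, 15, 4], [2, 0, 1, 3, 2], [2, 3, 24, 6, 14], [2, 2, 7, 1, 14, 2], [2, 0, 14, 1, 2], [2, 4, 18, 5, 4], [2, 15, 8, 6, 18], [2, 23, 2, 10, 5], [2, 3, 5, 2, 8, 3], [2, 0, 9, 23, 16], [2, 1, 14, 0, 11, 2], [2, 7, 1, 15, 6, 8], [2, 8, 1, 6, 14], [6, 23, 8, 2, 15], [2, 3, 17, 2, 5], [2, 0, 6, 22, 1, 7], [2, 11, 2, 17, 0], [6, 5, 3, 24], [2, 0, 18, 22, 2], [2, 1, 3, 2, 9, 8], [6, 20, 9, 6, 1], [6, 9, 1, 20, 17], [2, 17, 2, 5], [6, 20, 5, 22], [6, 11, 15, 8], [6, 8, 17, 21], [6, 3, 2, 2, 8], [6, 7, 6, 16, 13], [2, 16, 2, 14, 18], [2, 1, 15, 6, 21], [2, 23, 2, 20, 2], [6, 9, 17, 6, 9], [6, 0, 12, 24, 2], [6, 13, 18, 12], [6, 16, 2, 18, 24], [2, 0, 16, 11, 0], [6, 21, 13, 21], [6, 3, 16, 24], [2, 22, 10, 6, 20], [2, 0, 8, 21], [2, 19, 24, 2, 7], [2, 0, 3, 10, 21], [2, 5, 17, 7, 2], [2, 16, 0, 2, 11], [2, 0, 6, 1, 14, 4], [2, 1, 0, 9, 6], [2, 1, 6, 1, 12, 5], [2, 3, 12, 1, 19], [2, 11, 3, 23], [2, 3, 7, 12, 20], [6, 7, 17, 2, 14], [6, 11, 2, 22, 8], [2, 21, 2, 1, 20], [2, 16, 0, 20, 10], [2, 0, 11, 6, 18, 10], [2, 2, 0, 22, 2], [2, 0, 12, 8, 6, 23], [6, 3, 8, 11], [2, 3, 20, 23, 2, 14], [2, 0, 1, 16, 5], [2, 2, 21, 17, 17], [2, 14, 6, 5, 20], [2, 0, 20, 6, 11], [2, 4, 17, 16, 7], [6, 4, 2, 16], [2, 3, 2, 3, 0], [6, 23, 17, 2, 11], [6, 23, 1, 8, 6], [2, 11, 2, 16, 21], [2, 4, 8, 6], [2, 3, 10, 2, 12, 0], [6, 10, 14, 2, 24], [2, 19, 0, 2, 9], [2, 1, 21, 18, 2], [6, 18, 2, 14, 23], [2, 0, 0, 15, 2, 20], [6, 22, 16, 2, 22], [2, 2, 13, 24, 14], [6, 8, 11, 4, 6], [2, 23, 2, 9, 0], [2, 7, 1, 2], [6, 9, 20, 1], [6, 23, 17, 2, 7], [2, 2, 0, 2, 15], [6, 23, 21, 16, 6], [2, 17, 12, 0, 2], [6, 13, 2, 11, 17], [6, 13, 22, 17, 2], [2, 2, 13, 15, 2], [2, 2, 1, 2, 15, 7], [2, 10, 2, 22], [2, 0, 1, 2, 20, 0], [6, 12, 6, 16, 20], [2, 5, 2, 21], [2, 11, 0, 6, 7], [6, 12, 21, 2, 7], [2, 11, 2, 13, 10], [6, 7, 4, 24], [2, 8, 4, 6, 22, 17], [6, 1, 3, 1, 6], [2, 3, 15, 6, 8], [6, 16, 12, 2, 23], [6, 19, 1, 10, 6], [2, 16, 1, 2, 20], [2, 1, 6, 22, 9], [2, 12, 8, 5, 11], [2, 24, 6, 7, 2], [2, 10, 5, 2, 17], [2, 2, 21, 12, 2, 8], [2, 0, 22, 3, 6], [2, 1, 20, 6, 1, 12], [2, 1, 18, 4, 8], [2, 9, 4, 2, 21], [2, 7, 2, 5, 15], [2, 8, 13, 6, 5], [2, 0, 3, 9, 24, 2], [2, 8, 2, 4, 6], [6, 14, 7, 17], [2, 10, 2, 20, 22], [2, 19, 9, 2, 11], [2, 1, 13, 2, 14], [2, 9, 7, 11], [2, 4, 6, 19, 9], [2, 3, 15, 14, 7], [2, 7, 13, 3], [2, 21, 16, 23], [2, 0, 6, 20, 5, 23], [6, 10, 16, 20], [2, 19, 4, 17, 1], [2, 2, 20, 7, 7], [2, 0, 0, 23, 6, 20], [6, 6, 5, 13, 2], [6, 18, 2, 9, 15], [6, 11, 4, 10], [2, 1, 8, 2, 8, 22], [6, 20, 9, 6, 4], [2, 0, 0, 15, 2, 21], [2, 4, 21, 0, 16], [2, 20, 2, 2, 23], [6, 4, 14, 16, 16], [6, 13, 21, 10], [6, 19, 21, 14], [2, 19, 11, 16, 2], [6, 1, 0, 16], [6, 9, 1], [6, 3, 18, 23], [6, 12, 4, 14, 6], [2, 0, 8, 20, 6], [2, 10, 8, 2, 18], [2, 0, 13, 22, 6], [2, 13, 11, 16, 6], [6, 3, 23, 8, 2], [6, 22, 6, 20, 4], [6, 20, 5, 22, 2], [2, 0, 0, 0, 2, 18], [6, 15, 24, 2, 5], [2, 2, 7, 2, 22], [6, 20, 6, 22], [6, 16, 2, 0, 11], [2, 9, 6, 12, 1], [6, 7, 13, 6, 4], [2, 0, 12, 20, 2], [2, 3, 16, 11, 2, 10], [6, 12, 18, 18, 6], [2, 0, 6, 7, 14, 6], [2, 7, 15, 2, 0, 17], [2, 11, 2, 13, 22], [6, 7, 6, 0, 15], [6, 15, 6, 16, 24], [2, 9, 4, 23], [2, 15, 21, 6, 22], [2, 17, 15, 6, 14], [2, 11, 2, 18, 0], [6, 13, 4, 11], [2, 1, 2, 2, 14, 1], [6, 5, 17, 22, 24], [2, 17, 6, 7, 14], [2, 2, 18, 3, 20], [2, 10, 2, 21, 8], [2, 3, 4, 22, 2], [6, 12, 22, 5, 2], [6, 6, 21, 7], [6, 3, 7, 12, 2], [2, 11, 2, 5, 5], [6, 1, 20, 2, 16], [2, 3, 4, 20, 3], [6, 8, 6, 6, 17], [2, 4, 18, 15], [2, 1, 9, 0, 13], [2, 3, 4, 14, 20], [6, 9, 2, 10, 13], [2, 5, 5, 23, 17], [2, 1, 4, 14, 22], [2, 8, 18, 19, 7], [2, 9, 7, 13, 2], [6, 4, 2, 21, 6], [2, 0, 9, 7, 17, 6], [6, 20, 14, 2, 15], [2, 16, 4, 6, 0], [6, 15, 21, 2, 24], [2, 24, 20, 2, 7], [2, 0, 10, 7, 23], [2, 3, 8, 13, 6], [2, 1, 1, 6, 3, 5], [6, 19, 6, 21], [2, 0, 13, 22, 6, 11], [2, 2, 8, 2, 24], [2, 0, 6, 15, 0, 20], [2, 3, 16, 6, 10], [2, 7, 17, 9, 13], [2, 4, 18, 6, 21, 2], [6, 24, 6, 0, 14], [2, 0, 23, 6, 0], [2, 7, 17, 17], [2, 20, 10, 6, 5], [2, 3, 14, 3, 17], [2, 1, 4, 19, 22], [2, 11, 19, 14], [2, 3, 18, 7, 2, 13], [2, 7, 3, 2, 13], [2, 3, 18, 12, 6, 5], [2, 1, 0, 18, 6], [2, 1, 8, 23, 6, 18], [2, 3, 8, 3, 0], [6, 1, 15, 21], [2, 2, 8, 4], [2, 13, 24, 6, 1, 0], [6, 15, 22, 2, 9], [2, 9, 24, 5, 2], [2, 9, 2, 5, 6], [2, 2, 10, 6, 8], [2, 1, 15, 4, 23, 2], [2, 4, 10, 18, 6], [6, 20, 4, 21], [6, 22, 6, 8, 13], [2, 22, 16, 6, 22], [2, 4, 8, 3, 6], [6, 18, 16, 24], [2, 4, 17, 4, 13, 2], [6, 12, 8, 8], [2, 16, 13, 4, 19], [6, 10, 20, 1], [2, 22, 17, 6, 20], [2, 23, 19, 2, 23], [2, 10, 2, 24], [2, 5, 0, 6, 23], [2, 11, 18, 2, 24], [2, 9, 6, 22], [2, 1, 4, 2, 8, 10], [2, 9, 8, 21, 8], [2, 2, 8, 2, 8, 1], [2, 8, 22, 6, 15], [2, 12, 15, 9, 2], [2, 21, 8, 10], [2, 0, 12, 6, 19, 1], [2, 7, 7, 21, 11], [2, 3, 20, 18], [2, 8, 17, 15, 23], [2, 3, 10, 2, 3, 9], [2, 12, 2, 5, 13], [6, 10, 2, 12], [2, 15, 22, 2, 4], [2, 23, 13, 2, 7], [2, 1, 13, 19, 6], [2, 11, 2, 14, 5], [2, 1, 10, 6, 7], [2, 1, 11, 4, 3, 6], [2, 8, 10, 2, 13], [2, 3, 5, 6, 7], [2, 0, 7, 18], [6, 9, 6, 19, 17], [2, 7, 0, 7, 9], [2, 0, 23, 7, 17], [2, 23, 15, 0, 20], [2, 3, 9, 17, 5, 2], [2, 12, 2, 9, 16], [2, 0, 2, 10, 22, 0], [2, 0, 8, 15, 17], [6, 11, 2, 10, 18], [2, 4, 15, 21, 7], [6, 19, 1, 10], [2, 1, 16, 6, 18], [6, 6, 20, 6, 12], [2, 7, 12, 0, 13], [2, 0, 22], [2, 0, 22, 3], [2, 3, 0, 13, 6], [6, 1, 17, 8, 18], [2, 0, 15, 21, 3], [2, 0, 21, 6, 6], [2, 16, 11, 2, 14], [2, 21, 11, 2], [2, 15, 13, 17, 2], [2, 24, 16, 18], [2, 10, 7, 9, 2], [2, 7, 16, 19], [2, 3, 12, 23, 18], [2, 8, 12, 17, 10], [2, 0, 6, 7, 21, 6], [2, 24, 15, 15], [2, 8, 15, 23, 22], [2, 14, 1, 17], [2, 3, 18, 20, 17], [2, 8, 19, 17], [2, 9, 17, 9], [2, 1, 10, 2, 23, 0], [2, 1, 0, 6, 9, 6], [2, 2, 11, 21, 6, 13], [2, 4, 1, 8, 6], [6, 21, 8], [2, 4, 1, 15, 6], [2, 2, 5, 23, 21], [6, 5, 10], [6, 0, 15, 0, 10], [2, 2, 15, 21, 2, 18], [2, 2, 12, 15, 11], [2, 2, 15, 24, 3], [2, 7, 23, 4, 10], [2, 2, 15, 12, 22], [2, 3, 2, 4, 16], [6, 10, 7, 23], [6, 16, 2, 7, 5], [6, 10, 2, 16, 20], [2, 21, 2, 21, 19], [2, 0, 17, 7, 6], [2, 2, 1, 15, 12], [6, 22, 6, 5, 22], [2, 0, 14, 16, 7], [2, 9, 16, 9, 2], [6, 14, 4, 21, 11], [2, 0, 0, 24, 6, 4], [2, 2, 14, 2, 9, 0], [6, 22, 0, 19, 6], [2, 10, 3, 22], [2, 11, 15, 2, 5], [2, 8, 22, 15, 8], [2, 5, 5, 22, 11], [2, 4, 16, 22, 0], [2, 0, 6, 20, 0, 7], [2, 4, 16, 0], [2, 4, 19, 0, 17], [2, 14, 24, 9], [2, 13, 18, 24], [2, 0, 2, 13, 2], [2, 17, 9, 13], [2, 0, 2, 15, 1, 13], [2, 23, 7, 6, 9], [2, 3, 7, 7, 0], [2, 11, 6, 5], [2, 0, 13, 8, 13], [2, 13, 4, 24, 12], [2, 0, 21, 8, 10], [2, 0, 13, 5, 22], [2, 20, 17, 13, 2], [2, 1, 12, 2, 15, 2], [2, 1, 13, 21, 6, 13], [6, 1, 9, 6], [2, 7, 13, 20], [2, 1, 2, 2, 20, 5], [2, 0, 14, 6, 23], [6, 11, 2, 18, 22], [2, 0, 1, 18, 4], [6, 0, 9, 24, 2], [2, 16, 4, 15, 9], [2, 2, 1, 9, 13], [6, 8, 19, 5], [2, 0, 6, 15, 0, 7], [2, 10, 8, 17], [2, 21, 13, 20], [2, 3, 4, 15, 4], [2, 0, 21, 2, 18, 5], [2, 0, 1, 2, 20, 15], [2, 4, 10, 2, 4], [6, 16, 18, 1], [6, 9, 18, 13, 2], [6, 7, 7, 7, 11], [2, 2, 19, 4, 4], [6, 11, 5, 16], [6, 16, 8, 2], [6, 12, 20, 10], [6, 17, 1, 10], [2, 2, 16, 8, 19], [6, 5, 17, 3], [6, 22, 20, 13], [6, 24, 18], [2, 0, 21, 2, 3, 5], [2, 4, 13, 7, 6], [2, 7, 11, 21, 19], [2, 1, 4, 14, 24], [2, 13, 18, 5, 9], [2, 3, 19, 13, 6], [6, 10, 23, 5], [2, 4, 20, 12, 18], [6, 22, 10, 4], [2, 11, 15, 6, 7], [6, 19, 18, 5], [2, 1, 0, 13, 24], [6, 3, 18, 24, 2], [2, 0, 3, 10, 6], [2, 14, 19, 13], [2, 5, 11, 5, 13], [6, 9, 6, 6, 24], [6, 11, 20, 5, 6], [6, 10, 14, 2, 4], [2, 21, 12, 2, 24], [6, 21, 0, 19], [2, 12, 4, 6, 1], [6, 7, 6, 10, 1], [2, 1, 6, 11, 18, 2], [6, 4, 10, 22], [6, 16, 16, 2, 0], [2, 11, 4, 21, 5], [6, 3, 19, 8], [2, 7, 6, 12, 18], [2, 3, 18, 21, 2, 20], [6, 23, 18, 12], [6, 3, 16, 4, 16], [6, 24, 21, 12], [2, 2, 15, 12, 6], [6, 18, 16, 6, 18], [2, 0, 22, 7, 6, 21], [6, 15, 9, 17], [2, 10, 2, 17, 17], [2, 0, 1, 2, 14, 0], [2, 5, 12, 2, 1], [2, 8, 10, 13, 8], [2, 4, 6, 18, 3], [2, 11, 8, 10, 3], [2, 8, 13, 18, 18], [2, 2, 15, 0, 10], [6, 0, 6, 6, 8], [2, 2, 19, 21, 13], [6, 5, 9, 21], [6, 3, 6, 8, 9], [2, 0, 13, 16, 18, 2], [6, 15, 1, 2, 17], [6, 15, 4, 6, 5], [2, 1, 13, 5, 18], [2, 0, 22, 6], [2, 3, 8, 20, 0], [2, 11, 5, 17], [2, 11, 3, 5, 17], [2, 4, 22, 2], [2, 1, 14, 8, 24], [2, 1, 0, 18, 4], [2, 4, 17, 4, 18], [2, 3, 9, 17, 5], [2, 4, 2, 18, 0], [2, 13, 19, 11, 5], [2, 0, 2, 8, 9, 19], [2, 0, 3, 13, 16, 2], [2, 19, 4, 1, 19], [2, 7, 13, 4, 8], [2, 2, 24, 20], [2, 4, 6, 9], [2, 2, 11, 0, 16], [2, 2, 10, 0, 16], [2, 8, 5, 9], [2, 10, 20], [2, 20, 24], [2, 14, 5, 18], [6, 15, 8, 13, 2], [6, 15, 17, 7], [2, 9, 1, 2, 11], [2, 17, 6, 3], [2, 5, 20, 6, 17, 21], [2, 11, 2, 0, 5], [6, 20, 18, 21], [2, 2, 4, 23, 7], [2, 2, 13, 12, 22], [2, 0, 9, 4, 6], [2, 21, 13, 6, 13], [2, 2, 7, 5, 15], [6, 5, 4, 22, 9], [2, 23, 4, 1, 23], [6, 3, 13, 19], [2, 0, 12, 8, 0], [2, 1, 3, 16, 2, 4], [2, 2, 8, 8, 14], [2, 7, 23, 4, 23], [2, 1, 4, 7, 2], [2, 10, 8, 6, 8], [6, 7, 17, 2, 15], [2, 0, 9, 23, 8, 6], [2, 15, 7, 6, 9], [2, 3, 4, 12, 3], [6, 15, 6, 20, 4], [2, 8, 22, 3, 6], [2, 0, 22, 1, 2, 7], [2, 2, 20, 10, 24], [2, 0, 6, 5, 19, 18], [2, 1, 4, 6, 22], [2, 4, 15, 13, 0], [2, 2, 9, 14, 8], [2, 0, 20, 6, 12, 18], [6, 18, 13, 5], [2, 3, 4, 16, 11], [2, 12, 4, 17, 15], [6, 14, 18, 6, 20], [6, 4, 12, 5, 6], [6, 1, 20, 7, 6], [2, 2, 0, 16], [2, 20, 0, 1, 6], [2, 3, 1, 10, 24], [2, 10, 7, 14], [2, 15, 13, 8], [2, 4, 16, 2, 13], [2, 0, 2, 9, 0, 22], [6, 24, 14, 2], [2, 4, 15, 9, 8], [2, 1, 21, 9, 1, 6], [2, 0, 1, 18, 6, 9], [2, 15, 1, 6, 13], [2, 4, 1, 22, 1], [2, 2, 9, 19, 2], [6, 18, 21, 4], [6, 4, 2, 21, 1], [2, 20, 24, 4, 13], [6, 12, 2, 4, 10], [6, 1, 8], [2, 4, 14, 5, 11], [2, 8, 24, 4, 16], [6, 18, 2, 15], [6, 19, 18, 5, 6], [2, 1, 10, 13, 6, 8], [2, 24, 0, 22, 5], [2, 0, 6, 8, 1, 20], [2, 2, 9, 4, 14], [6, 3, 7, 12], [6, 17, 9, 21], [2, 4, 1, 12, 6], [2, 9, 4, 12, 22], [2, 2, 8, 8, 19], [2, 4, 3, 5], [6, 18, 12, 17], [6, 10, 23, 22], [2, 2, 8, 11, 4], [6, 24, 6, 11, 5], [6, 9, 24, 6, 6], [2, 4, 18, 16, 7], [2, 3, 20, 0, 10], [2, 8, 21, 19, 0], [2, 0, 0, 3, 22, 2], [6, 4, 8, 5], [2, 14, 4, 15], [6, 15, 10, 19], [2, 2, 7, 1, 11], [2, 0, 17, 7, 1], [2, 2, 24, 17, 10], [2, 5, 5, 11, 6, 11], [2, 2, 2, 3, 22], [2, 14, 16, 0], [6, 9, 21, 2], [2, 0, 2, 11, 0, 21], [2, 0, 2, 12, 0, 2], [2, 7, 22, 12, 3], [2, 22, 1], [2, 22, 3, 1], [2, 23, 10], [2, 5, 5, 10, 14], [2, 19, 12], [2, 23, 2, 0, 12], [2, 2, 1, 2, 4, 19], [2, 4, 10, 16, 16], [2, 1, 10, 6, 9], [6, 3, 14, 5], [2, 5, 17, 2, 20], [2, 1, 0, 12, 0], [6, 3, 20, 8, 4], [6, 9, 18, 15], [2, 3, 22, 2, 19], [2, 7, 6, 9, 5], [2, 0, 20, 8, 0], [2, 24, 5, 12, 2], [2, 2, 1, 7, 2], [2, 0, 13, 5, 24], [2, 2, 19, 17, 1], [6, 17, 2, 10, 0], [2, 10, 2, 3, 9], [2, 0, 0, 8, 18, 2], [2, 0, 2, 9, 6], [2, 3, 16, 16], [6, 17, 2, 4, 20], [2, 10, 2, 4, 16], [2, 23, 2, 10, 7], [2, 7, 5, 4, 12], [6, 23, 10, 2, 19], [2, 0, 6, 1, 14, 1], [2, 12, 0, 6, 16], [2, 2, 12, 2, 9], [6, 15, 6, 5, 16], [2, 2, 24, 20, 21], [2, 0, 0, 19, 23], [6, 16, 19, 8], [2, 2, 22, 4, 6, 0], [6, 3, 13, 5, 19], [2, 2, 5, 16, 7], [6, 15, 7, 22], [2, 0, 13, 6, 14, 19], [2, 1, 2, 17, 7], [2, 17, 14, 22], [2, 9, 13, 10, 17], [6, 4, 9, 6, 1], [2, 20, 6, 20, 6], [6, 15, 6, 13, 7], [2, 0, 18, 0, 12], [2, 1, 23, 16, 2, 5], [6, 4, 16, 24, 13], [2, 2, 15, 20, 17], [2, 2, 19, 13, 21], [2, 1, 20, 11, 2, 12], [2, 0, 13, 6, 3, 17], [2, 19, 9, 2, 13], [2, 10, 14, 3], [2, 4, 6, 19, 15], [2, 7, 22, 8], [2, 10, 23, 8], [2, 4, 7, 18, 4], [6, 11, 6, 23, 19], [2, 4, 17, 6, 6], [2, 17, 11, 2, 23], [6, 19, 17, 8], [2, 2, 15, 12, 6, 15], [6, 5, 8, 11, 23], [6, 20, 11, 16], [6, 11, 15, 4], [2, 0, 22, 2, 15, 6], [6, 9, 6, 15, 21], [2, 2, 5, 7, 11, 2], [2, 3, 8, 23, 0], [6, 9, 6, 15, 24], [2, 2, 4, 24, 2], [2, 3, 23, 0, 19], [2, 4, 3, 1, 19], [2, 2, 14, 19, 6, 1], [6, 7, 6, 16, 0], [2, 2, 16, 9, 2], [6, 12, 18, 10], [6, 11, 5, 9, 2], [6, 13, 16, 7], [2, 4, 21, 0, 10], [2, 15, 10, 2, 11], [2, 0, 8, 6, 18, 6], [2, 16, 12, 4, 2], [2, 0, 7, 6, 10, 6], [2, 0, 10, 6, 24], [2, 1, 6, 14, 19], [2, 1, 22, 17, 9], [2, 1, 2, 1, 22], [2, 8, 13, 5], [6, 16, 4, 6, 6], [2, 1, 13, 18, 24], [2, 10, 1, 16, 7], [2, 7, 16, 0, 16], [2, 10, 1], [2, 4, 17, 4, 12], [2, 8, 3, 8, 5], [2, 19, 9, 0, 2], [2, 1, 3, 2, 14, 16], [2, 0, 2, 2, 17], [2, 14, 6, 24, 3], [6, 8, 22, 20], [6, 10, 4, 3], [6, 21, 2, 13], [6, 8, 15, 20], [6, 1, 17, 15, 6], [6, 22, 6, 5, 12], [2, 23, 14, 4, 5], [2, 4, 22, 19, 11], [2, 4, 12, 2, 17], [2, 13, 4, 18, 11], [2, 2, 5, 12, 4], [2, 14, 2, 17], [6, 8, 9, 2], [2, 0, 9, 18, 2], [6, 8, 20, 1, 24], [6, 3, 21, 3], [6, 16, 5, 17], [2, 1, 4, 6, 20], [6, 13, 19, 10], [2, 2, 17, 21, 17], [6, 15, 6, 16, 1], [2, 19, 4, 6, 11], [2, 9, 19, 23], [2, 12, 3], [2, 12], [2, 4, 1, 20, 0], [2, 4, 15, 6, 14], [2, 0, 23, 4, 12], [2, 0, 2, 13, 20, 1], [6, 22, 6, 8, 0], [6, 12, 15, 21], [6, 19, 14, 16], [2, 8, 23, 4, 16], [2, 2, 21, 16], [2, 24, 14, 4, 12], [2, 2, 18, 10, 17], [2, 1, 11, 2, 16, 12], [2, 2, 9, 6, 16], [2, 3, 7, 1, 20], [2, 10, 8, 10], [2, 3, 14, 3], [2, 7, 4, 3, 22, 2], [6, 20, 1, 10], [6, 4, 11], [6, 10, 14, 20], [2, 0, 7, 15, 6, 4], [2, 19, 4, 12, 22], [6, 13, 12, 19], [6, 22, 24, 5], [6, 7, 3, 23], [6, 3, 7, 16, 10], [2, 0, 18, 1, 9], [2, 11, 2, 0, 12], [6, 9, 15, 22], [6, 19, 22, 13], [2, 0, 0, 23, 4], [2, 4, 10, 2, 4, 3], [2, 13, 23, 17], [2, 12, 18, 14], [2, 3, 13, 24, 17], [2, 14, 2, 2, 7], [2, 1, 16, 24, 2, 3], [6, 6, 14, 2, 1], [6, 14, 20, 2, 19], [2, 11, 2, 10, 16], [2, 0, 18, 8, 15, 2], [2, 2, 15, 17, 6], [2, 1, 16, 2, 13, 5], [6, 0, 3, 14], [6, 0, 5, 3, 6], [6, 5, 7, 13, 2], [2, 0, 6, 23, 6, 16], [6, 22, 6, 17, 21], [2, 3, 10, 2, 24, 20], [2, 1, 9, 6, 14, 0], [2, 17, 2, 11, 21], [6, 24, 6, 23, 12], [6, 4, 21, 11, 2], [2, 3, 9, 22, 6, 12], [2, 4, 6, 4, 11], [2, 4, 3, 1, 12], [6, 21, 18, 6], [6, 19, 17, 6, 6], [2, 1, 16, 2, 2], [2, 0, 18, 1, 18], [2, 19, 6, 14, 24], [2, 0, 22, 0, 14, 6], [2, 0, 22, 1, 6], [6, 11, 23, 16, 6], [2, 1, 17, 20, 2], [2, 2, 0, 10, 6, 18], [2, 0, 2, 22, 14, 19], [2, 1, 18, 13, 22], [6, 8, 4, 22, 6], [6, 12, 22, 9, 6], [2, 16, 13, 1, 2], [2, 9, 6, 20, 11], [2, 2, 7, 6, 24], [2, 1, 4, 2, 18, 3], [2, 0, 2, 4, 19], [2, 15, 7, 13], [2, 9, 14, 2, 1, 8], [2, 11, 5, 12, 2], [6, 19, 21, 6, 8], [6, 16, 2, 17, 10], [2, 0, 6, 5, 6, 20], [2, 11, 2, 23, 19], [2, 13, 4, 2, 17], [2, 2, 12, 8, 23], [2, 1, 11, 3, 2], [2, 0, 6, 20, 6, 16], [2, 8, 0, 2, 22], [6, 16, 23, 10], [2, 0, 2, 17, 2, 2], [6, 5, 7, 16], [6, 16, 5, 0], [6, 0, 12, 24, 11], [2, 2, 4, 20, 6, 19], [6, 5, 0, 15, 2], [2, 7, 22, 19, 2], [2, 9, 3, 1, 14], [2, 4, 6, 7], [2, 21, 21, 7], [6, 7, 0, 3], [6, 13, 6, 17], [2, 1, 17, 20, 2, 18], [2, 1, 13, 6, 11, 3], [2, 0, 2, 14, 18, 12], [2, 15, 17, 1], [2, 0, 0, 8, 6], [2, 15, 0, 20], [2, 1, 20, 2, 11], [2, 20, 10, 1, 19], [2, 0, 16, 8, 6, 1], [6, 5, 21, 8, 6], [2, 2, 13, 24, 6], [6, 12, 23, 11], [6, 10, 13, 23, 2], [2, 12, 2, 24, 22], [2, 5, 6, 14, 18], [2, 0, 15, 8, 21], [2, 16, 23, 11, 6], [2, 4, 24, 11, 18], [2, 11, 4, 11], [2, 7, 13, 2, 15], [2, 11, 17, 2, 21], [6, 13, 1, 17], [6, 16, 4, 9], [2, 15, 2, 12, 22], [6, 16, 9, 13, 6], [6, 3, 16, 21, 6], [6, 12, 22, 16, 6], [6, 8, 5, 14], [2, 3, 9, 2, 18, 12], [6, 21, 15, 21], [2, 2, 23, 7, 13], [2, 0, 0, 9, 14], [2, 19, 6, 16, 16], [2, 14, 0, 2, 22], [6, 12, 2, 20, 1], [6, 6, 5, 6, 7], [6, 6, 9, 6, 7], [2, 1, 0, 16, 18, 2], [6, 0, 5, 6, 17], [6, 15, 6, 21, 24], [2, 2, 2, 1, 6, 21], [2, 10, 8, 6, 20], [2, 0, 17, 8, 13, 2], [2, 2, 8, 15, 19], [6, 5, 11, 6, 8], [2, 14, 6, 6, 15], [2, 13, 2, 8, 14], [2, 3, 2, 0, 16], [6, 7, 10, 6], [2, 1, 16, 8, 2], [2, 0, 10, 14, 2, 21], [6, 12, 21, 2, 23], [2, 11, 2, 23, 10], [2, 0, 21, 2, 4], [2, 0, 5, 7, 16, 6], [2, 2, 5, 11, 15], [2, 13, 22, 18, 2], [2, 13, 21, 2, 19], [2, 3, 17, 16, 19, 6], [6, 4, 15, 6, 15], [2, 24, 9, 2, 21], [2, 23, 2, 4, 4], [2, 0, 11, 22, 2, 9], [2, 2, 22], [2, 22, 2, 1, 6], [2, 10, 15, 19, 2], [6, 10, 2, 10], [2, 4, 2, 17, 2], [2, 8, 0, 0, 2], [2, 22, 9, 2], [2, 9, 2, 4, 10], [2, 0, 3, 24, 3], [6, 17, 6, 12, 1], [6, 18, 2, 18, 5], [2, 13, 7, 16, 2], [2, 4, 3, 7, 21], [2, 13, 3, 21, 2], [2, 4, 16, 13], [2, 2, 24, 9, 4], [2, 0, 3, 9, 14], [2, 1, 11, 2, 20, 16], [2, 1, 4, 17, 21, 2], [2, 15, 0, 6, 24], [2, 2, 15, 21, 15], [2, 14, 20, 9, 2], [2, 13, 18, 2], [2, 13, 0, 6, 8], [6, 5, 18, 16], [2, 0, 21, 2, 13, 15], [2, 1, 19, 10, 2], [6, 11, 6, 7, 23], [6, 21, 20], [2, 23, 2, 3, 1], [6, 0, 16, 24, 9], [6, 9, 24, 8], [6, 0, 5, 11], [6, 12, 2, 1], [2, 10, 5, 2, 9], [6, 24, 4, 3, 6], [2, 1, 14, 24, 14], [2, 0, 6, 19, 0, 13], [2, 0, 13, 11, 2, 17], [2, 0, 8, 12, 8, 2], [2, 4, 8, 9, 2], [2, 0, 3, 18, 2, 12], [2, 16, 6, 7, 18], [2, 2, 17, 7, 11], [2, 2, 11, 23, 7], [2, 0, 2, 9, 1, 14], [2, 5, 3, 19], [2, 0, 9, 4, 21], [2, 12, 5, 13, 8], [6, 18, 3, 2, 5], [2, 10, 2, 1, 0], [2, 17, 2, 13, 24], [2, 1, 12, 19, 2, 19], [2, 1, 24, 4, 6, 16], [2, 12, 2, 0, 5], [6, 6, 1, 2, 3], [2, 0, 11, 20, 16], [2, 21, 17, 6, 12], [6, 6, 3, 2, 0], [2, 12, 4, 6, 4], [2, 0, 1, 6, 7, 10], [2, 10, 2, 16, 9], [6, 17, 2, 5, 20], [2, 0, 9, 6, 13, 20], [6, 6, 24, 3], [6, 15, 7, 19, 6], [2, 3, 22, 6, 19], [2, 23, 2, 20, 22], [2, 10, 2, 4, 7], [2, 9, 2, 17, 3], [2, 9, 2, 17, 19], [6, 19, 13, 2, 16], [2, 16, 20, 4, 13], [2, 2, 14, 2, 5], [6, 11, 6, 8, 20], [2, 9, 16, 4, 6], [6, 22, 15, 7], [2, 23, 2, 1, 18], [6, 13, 16, 9], [2, 1, 0, 19, 5], [6, 24, 7, 9], [2, 23, 0, 16, 2], [6, 15, 13, 6, 23], [6, 7, 6, 10, 4], [2, 3, 24, 8], [2, 16, 10, 2, 12], [2, 10, 21, 7], [2, 22, 7, 14], [2, 8, 19, 24, 10], [2, 23, 15, 2, 24], [6, 1, 14, 1, 6], [2, 2, 12, 6, 15], [2, 3, 4, 18, 3], [6, 8, 14, 2, 13], [2, 4, 17, 17, 22], [2, 21, 6, 11], [2, 0, 3, 11, 15], [2, 11, 1, 7, 6], [2, 1, 10, 2, 18, 15], [2, 1, 11, 2, 21], [2, 0, 21, 2, 10, 23], [6, 1, 17, 5, 2], [6, 3, 22, 2], [2, 5, 6, 10, 0, 3], [2, 4, 24, 0], [2, 3, 1, 17, 6], [2, 4, 5, 19, 2, 15], [2, 21, 5, 19, 6], [2, 4, 20, 0, 6], [2, 11, 18, 2, 17], [6, 15, 19, 6, 11], [2, 9, 6, 18, 22], [2, 3, 15, 21, 13], [6, 13, 24, 2, 18], [6, 11, 6, 22, 4], [6, 14, 2, 5, 6], [6, 10, 16, 24, 2], [2, 17, 2, 18, 8], [2, 9, 2, 4, 18], [2, 8, 1, 6, 5], [2, 0, 15, 5, 19], [6, 5, 10, 2, 23], [2, 5, 6, 7, 13], [2, 8, 8, 6, 11], [6, 12, 1, 6], [6, 17, 2, 22, 0], [2, 0, 7, 17, 14], [2, 2, 8, 6, 18], [2, 2, 8, 6, 22], [2, 3, 8, 21, 6], [6, 15, 1, 2, 5], [6, 23, 6, 17, 13], [2, 0, 17, 20, 4], [2, 19, 12, 0, 2], [2, 7, 1, 7, 3], [2, 1, 13, 23, 5], [2, 8, 13, 12, 20], [6, 9, 24, 2, 5], [2, 0, 6, 5, 19, 17], [2, 23, 2, 11, 22], [2, 9, 0, 17, 6], [2, 5, 6, 23, 1, 12], [2, 4, 18, 0], [2, 1, 22, 6, 11], [2, 14, 0, 3, 1], [2, 0, 2, 17, 22, 6], [6, 9, 6, 10, 5], [6, 13, 4, 2, 8], [2, 1, 1, 20, 2, 14], [2, 12, 4, 6, 13], [2, 7, 18, 6, 6], [2, 3, 1, 7, 2, 0], [2, 4, 19, 12, 24], [2, 17, 2, 24, 12], [2, 10, 5, 2, 0], [2, 1, 22, 24, 2, 18], [2, 0, 7, 21, 14], [6, 7, 6, 10, 13], [2, 1, 0, 9, 20], [2, 4, 14], [2, 2, 2, 7, 11], [2, 4, 23, 5, 2], [2, 2, 4, 11, 2], [2, 16, 4, 6, 11], [6, 18, 7, 6], [2, 1, 6, 8, 6, 18], [6, 14, 15, 6, 8], [2, 0, 2, 4, 19, 5], [2, 7, 16, 10], [6, 12, 2, 10, 18], [2, 4, 6, 14, 20], [2, 4, 2, 2, 20], [2, 16, 8, 17], [6, 19, 3, 6, 11], [2, 7, 12, 18, 14], [2, 4, 19, 16, 4], [2, 17, 15, 12], [2, 1, 1, 6, 17, 22], [6, 23, 6, 8, 23], [6, 17, 2, 3, 9], [2, 5, 19, 1, 7], [6, 24, 7, 15, 6], [2, 15, 8, 23], [2, 11, 7, 24], [2, 1, 1, 3, 16], [2, 0, 3, 9, 6, 8], [2, 1, 16, 5, 18], [2, 7, 15, 13, 7], [2, 8, 15, 7, 23], [2, 3, 10, 8, 11], [2, 7, 7, 17, 5], [2, 17, 8, 21], [2, 4, 2, 2, 24], [2, 12, 4, 6, 16], [2, 16, 4, 2, 4], [6, 7, 17, 2, 5], [6, 9, 20, 4], [2, 21, 2, 18, 23], [2, 3, 22, 4, 16], [2, 4, 10, 23, 10], [2, 5, 0, 22, 5], [6, 11, 2, 19], [2, 7, 4, 2, 21], [2, 14, 0, 22, 8], [2, 3, 4, 21, 13], [2, 9, 18, 4, 15], [6, 19, 4, 17], [6, 18, 4, 4], [2, 21, 2, 20, 23], [6, 15, 0, 7, 2], [2, 9, 2, 7, 7], [2, 1, 8, 2, 20, 5], [2, 2, 19, 23], [6, 21, 0, 6, 10], [6, 0, 11, 23], [2, 2, 17, 16, 11], [2, 3, 21, 4, 9], [2, 17, 2, 4, 15], [2, 0, 5, 8, 1, 2], [2, 1, 13, 2, 14, 24], [2, 23, 19], [2, 0, 6, 1, 14, 2], [2, 0, 18, 7, 2], [2, 9, 7, 11, 24], [2, 9, 8, 16], [2, 9, 2, 14, 4], [6, 9, 6, 17, 7], [2, 21, 2, 9, 16], [2, 7, 0, 14, 18], [6, 0, 13, 1, 2], [2, 8, 0, 16, 13], [2, 12, 0, 12, 17], [2, 8, 5, 7, 0], [2, 16, 2, 9, 17], [2, 2, 5, 20, 5], [2, 2, 23, 2], [2, 0, 21, 20, 6], [2, 16, 6, 5, 5], [2, 3, 4, 20, 15], [2, 17, 0, 5, 2], [2, 0, 1, 6, 4, 13], [6, 12, 6, 20], [2, 5, 23, 15, 1], [2, 10, 13, 8], [2, 11, 3, 21], [2, 2, 0, 23], [2, 2, 0, 23, 3], [2, 3, 22, 18, 6], [2, 24, 6, 22, 2], [6, 10, 21, 2], [6, 10, 15, 21], [6, 21, 2, 11], [2, 2, 14, 4], [2, 7, 6, 22, 24], [6, 17, 5], [2, 14, 6, 9, 23], [6, 3, 22, 2, 12], [6, 24, 12, 22, 6], [2, 0, 17, 6, 7, 15], [6, 7, 15, 2, 5], [2, 4, 20, 10, 14], [2, 5, 6, 22, 24, 12], [6, 1, 12, 20], [2, 4, 23, 8], [2, 0, 3, 18, 22], [6, 23, 12, 2, 24], [2, 0, 13, 2, 13], [6, 23, 6, 9, 20], [2, 8, 21, 1, 24], [2, 1, 14, 4, 2], [2, 15, 19], [2, 5, 5, 8, 21], [2, 3, 2, 11], [6, 15, 6, 7, 23], [2, 14, 4, 6, 13], [6, 22, 14, 21, 6], [6, 5, 21, 15], [2, 1, 2, 2, 9, 11], [2, 2, 20, 21, 15], [2, 14, 6, 15, 19], [6, 16], [2, 17, 7, 2, 13], [6, 15, 9, 1], [2, 0, 0, 19, 15], [6, 14, 19, 8], [2, 2, 23, 4], [2, 2, 4, 18, 13], [2, 24, 4, 15], [2, 4, 23, 4, 2], [6, 15, 13, 6, 21], [2, 20, 1, 23], [2, 3, 8, 18, 13], [6, 6, 8, 23], [2, 3, 2, 3, 1], [6, 16, 10, 0], [2, 13, 16, 16, 22], [2, 0, 6, 0, 18], [6, 20, 8, 18, 6], [6, 4, 2, 14, 16], [2, 11, 15, 0, 9], [2, 10, 16, 0], [2, 2, 1, 12, 16], [2, 12, 5, 2], [2, 9, 23, 1, 0], [2, 1, 2, 2, 3, 4], [2, 0, 1, 6, 12, 0], [2, 5, 6, 8, 4], [2, 11, 2, 20, 6], [2, 3, 10, 18, 0], [6, 12, 3, 2, 8], [6, 9, 5, 6, 4], [2, 0, 6, 23, 2, 13], [6, 11, 20, 16], [2, 16, 4, 2, 10], [2, 2, 1, 7, 0], [2, 2, 13, 5, 14], [6, 24, 8, 17], [2, 24, 2, 2, 2], [2, 5, 3, 0, 24], [2, 7, 2, 3, 11], [2, 10, 1, 7, 14], [6, 8, 1, 15, 6], [6, 9, 7, 6, 13], [6, 15, 13, 19, 6], [2, 8, 23, 6, 18], [6, 11, 6, 3, 22], [2, 0, 0, 19, 9], [6, 5, 3, 16, 16], [6, 5, 19, 7], [6, 12, 22, 2, 16], [2, 12, 23, 5, 2], [2, 17, 16, 2, 4], [2, 14, 18, 4, 9], [2, 5, 6, 0, 3], [6, 3, 17, 5, 18], [6, 17, 8, 22], [6, 22, 7, 11], [2, 10, 2, 17, 24, 0], [2, 0, 5, 8, 12, 6], [6, 13, 9, 19, 6], [2, 0, 0, 13, 1], [6, 10, 17, 2, 23], [2, 11, 6, 24, 7], [6, 14, 15, 1], [2, 0, 13, 3, 9], [6, 7, 19, 6, 1], [2, 21, 6, 3, 22], [6, 9, 14, 1], [2, 4, 10, 21, 7], [2, 23, 16, 8, 0], [2, 8, 23, 8, 2], [6, 12, 15, 4], [6, 9, 2, 2, 1], [2, 5, 6, 8, 10, 1], [2, 4, 5, 15, 21], [2, 7, 6, 22, 16], [6, 8, 20, 4, 18], [6, 18, 7, 20], [2, 0, 3, 0, 18], [2, 13, 21, 19, 6], [2, 0, 6, 1, 21, 0], [2, 1, 16, 2, 19], [6, 8, 10, 17], [6, 7, 22], [6, 17, 5, 7], [2, 2, 5, 8, 8], [6, 18, 3], [6, 7, 15], [6, 18, 10, 2, 21], [2, 0, 2, 0, 17, 21], [2, 1, 3, 7, 16], [2, 19, 13, 20, 0], [2, 13, 5, 10], [2, 4, 17, 12, 2], [2, 2, 14, 18, 22], [6, 5, 3, 11], [6, 11, 24], [6, 8, 16, 24], [6, 5, 3, 17], [6, 11, 8, 11], [2, 17, 4, 21, 2], [2, 8, 10, 0, 20], [2, 5, 0, 21, 4], [2, 10, 5, 13, 1], [6, 9, 2, 20, 1], [2, 8, 0, 12, 2], [2, 1, 8, 2, 0], [2, 0, 21, 2, 17, 12], [6, 0, 14, 16], [2, 0, 5, 13, 20, 6], [2, 2, 15, 22, 16], [6, 3, 19, 13], [2, 23, 4, 24, 20], [6, 0, 22, 10, 6], [6, 7, 21, 6, 24], [6, 12, 23, 2, 24], [2, 2, 21, 14, 5], [2, 21, 0, 6, 4], [2, 0, 3, 11, 2, 14], [2, 21, 3, 15, 6], [2, 0, 23, 1, 22], [6, 21, 7, 6, 8], [6, 19, 1, 21], [2, 4, 16, 11, 18], [2, 2, 10, 16, 5], [2, 11, 17, 2, 12], [6, 0, 10, 24], [2, 2, 10, 4, 17], [6, 23, 17], [6, 14, 7, 6, 16], [2, 0, 20, 6, 17, 4], [2, 0, 2, 16, 16, 13], [2, 1, 13, 18, 12], [2, 16, 0, 2, 0], [2, 3, 5, 16, 8], [2, 9, 18, 24, 5], [2, 7, 18, 16, 1], [6, 12, 2, 15, 20], [6, 18, 2, 0, 2], [2, 1, 3, 2, 0, 19], [2, 3, 9, 23, 16], [2, 0, 18, 1, 19, 6], [2, 9, 8, 12], [2, 4, 4, 17, 12], [2, 15, 11, 22], [2, 1, 19, 9, 24, 2], [2, 2, 2, 10, 2, 15], [6, 1, 19, 6, 6], [6, 8, 15, 1], [2, 21, 1, 12, 2], [6, 15, 24, 5], [2, 2, 22, 7, 17], [2, 0, 22, 0, 10], [2, 5, 22, 17, 2], [6, 8, 20, 1], [6, 11, 4, 14], [2, 2, 20, 17, 4], [6, 14, 7], [2, 2, 22, 0, 16], [2, 21, 12, 4, 5], [2, 0, 6, 12, 5, 8], [2, 5, 5, 12, 2], [6, 6, 19, 10], [2, 7, 7, 17], [2, 7, 19, 8, 14], [2, 22, 15, 12], [2, 5, 4, 10, 20], [2, 8, 21, 9], [2, 21, 2, 5, 6], [2, 0, 2, 15, 19, 11], [2, 16, 5, 12], [2, 4, 4, 19, 5], [2, 1, 17, 13, 2], [2, 7, 2, 8, 18], [2, 7, 2, 7, 3], [2, 5, 8, 16, 23], [2, 8, 2, 0, 18], [2, 11, 2, 3, 5], [6, 22, 24], [2, 2, 4, 8, 10], [6, 5, 15, 24, 12], [2, 0, 1, 2, 24, 5], [2, 2, 8, 4, 24], [2, 22, 18, 4, 7], [2, 2, 8, 4, 1], [2, 12, 5, 16, 0], [2, 0, 10, 1, 7], [2, 11, 3, 6], [2, 1, 9, 21, 2, 21], [2, 2, 13, 18, 6], [6, 23, 21, 18], [6, 18, 10], [2, 0, 11, 7, 2, 16], [2, 5, 17, 2, 11], [2, 11, 4, 2], [6, 15, 7, 16], [2, 12, 24, 2, 12], [2, 2, 5, 15, 10], [2, 10, 7, 6, 5], [2, 2, 15, 9, 7], [6, 11, 6, 12, 24], [6, 3, 17, 2, 22], [2, 10, 2, 7, 11], [6, 19, 6, 22, 5], [6, 15, 19, 6, 14], [6, 21, 10, 22, 6], [6, 22, 16, 4, 2], [6, 3, 12, 6, 20], [2, 14, 5, 17], [2, 3, 1, 11, 6], [2, 22, 5, 6, 22], [2, 7, 9, 23, 6], [2, 9, 1, 19, 2], [2, 3, 8, 19, 6], [2, 9, 2, 9, 1], [2, 5, 6, 7, 9], [2, 17, 1, 0], [2, 3, 0, 10, 3, 2], [2, 0, 6, 5, 18, 11], [2, 1, 6, 10, 17, 2], [2, 0, 6, 5, 18, 20], [2, 0, 9, 6, 6, 8], [2, 0, 11, 6, 14, 3], [2, 3, 10, 7, 6], [6, 4, 9, 4, 11], [2, 22, 17, 6, 12], [2, 17, 2, 12, 4], [2, 10, 2, 7, 14], [6, 9, 2, 17, 13], [6, 19, 6, 15, 13], [2, 5, 6, 19, 4, 19], [2, 9, 6, 19]]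

end Cfsg.Agent.Lib.Helper1.Co1B
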