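import Mathlib
import Cfsg.Agent.Lib.Helper1.Co1B.CL

set_option autoImplicit false
set_option maxRecDepth 100000

/-! The first Conway group on the 98280 pairs of minimal vectors: the letters generate the group;
the models. -/

namespace Cfsg.Agent.Lib.Helper1.Co1B

open Cfsg Cfsg.Agent.Lib.Helper1 Cfsg.Agent.Lib.Helper1.MatCode
open Cfsg.Agent.Lib.Helper6.TC Cfsg.Agent.Lib.Helper6.PM Cfsg.Agent.Lib.Helper2.PMS
open Cfsg.Agent.Lib.Helper5.Chain Cfsg.Agent.Lib.Helper5.Srch Cfsg.Agent.Lib.Helper1.PMChk

theorem chk_new : chkRange (chkNew 98280 7 ds pm) 0 ds.length = true := by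
  apply chkRange_of_forall
  intro k _ hk
  have hk' : k < 18 := hk
  interval_cases k
  · exact chk_new0
  · exact chk_new1
  · exact chk_new2
  · exact chk_new3
  · exact chk_new4
  · exact chk_new5
  · exact chk_new6
  · exact chk_new7
  · exact chk_new8
  · exact chk_new9
  · exact chk_new10
  · exact chk_new11
  · exact chk_new12
  · exact chk_new13
  · exact chk_new14
  · exact chk_new15
  · exact chk_new16
  · exact chk_new17

theorem chk_slp : chkSLP co1C.px co1C.n co1C.nl ds pm = true :=
  chkSLP_of_pieces px 98280 7 ds pm chk_old chk_new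

/-- the model of the subgroup with the strong generators as letters -/
noncomputable def co1C' : PModel := slpModel co1C ds pm chk_slp

/-- a chain gives a lower bound for the order -/
theorem card_ge_of_chain' (M : PModel) (bs : List ℕ) (Ls : List (List (List ℕ)))
    (hc : IsChain M.px bs Ls) (hb : ∀ b ∈ bs, b < M.n)
    (hl : ∀ Lj ∈ Ls, ∀ w ∈ Lj, ∀ c ∈ w, c < M.nl) :
    (Ls.map List.length).prod ≤ Nat.card M.G := by
  classical
  haveI : Fintype M.G := Fintype.ofFinite M.G
  have hnd := prods_nodup M bs Ls hc
  have hinj : ∀ u ∈ prods Ls, ∀ u' ∈ prods Ls, M.elt u = M.elt u' → u = u' := by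
    intro u hu u' hu' h
    apply prods_inj M bs Ls hc hb hl u hu u' hu'
    intro b hb'
    have hlu := letters_prods M.nl Ls hl u hu
    have hlu' := letters_prods M.nl Ls hl u' hu'
    have h1 := M.phi_inv_val u hlu ⟨b, hb b hb'⟩
    have h2 := M.phi_inv_val u' hlu' ⟨b, hb b hb'⟩
    rw [h] at h1
    exact h1.symm.trans h2
  have hnd2 : ((prods Ls).map M.elt).Nodup := by
    rw [List.nodup_map_iff_inj_on hnd]
    exact hinj
  have := hnd2.length_le_card
  rw [List.length_map, length_prods] at this
  rw [Nat.card_eq_fintype_card]
  exact this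

theorem card_CS_ge : 4157776806543360000 ≤ Nat.card CS := by
  have h := card_ge_of_chain' co1C' baseC levelsC chain_ok
    (by decide) (letters_of_chkLet 25 levelsC chk_let)
  rw [levels_prod] at h
  exact h

theorem CS_eq_top : CS = ⊤ := by
  apply Subgroup.eq_top_of_card_eq
  apply le_antisymm
  · exact Subgroup.card_le_card_group CS
  · rw [card_C1]
    exact card_CS_ge

/-- the element of a word -/
noncomputable def eltM (w : List ℕ) : C1 := wordProd LT w

theorem closure_eltM : Subgroup.closure {g : C1 | ∃ c < 7, g = eltM [c]} = ⊤ := by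
  rw [eq_top_iff, ← CS_eq_top]
  show Subgroup.closure {eL 0, eL 1, eL 2, eL 3} ≤ _
  rw [Subgroup.closure_le]
  intro x hx
  have : x = eL 0 ∨ x = eL 1 ∨ x = eL 2 ∨ x = eL 3 := by simpa using hx
  apply Subgroup.subset_closure
  rcases this with rfl | rfl | rfl | rfl
  · refine ⟨0, by norm_num, ?_⟩
    show _ = wordProd LT [0]
    rw [wordProd_cons, wordProd_nil, mul_one]
    rfl
  · refine ⟨1, by norm_num, ?_⟩
    show _ = wordProd LT [1]
    rw [wordProd_cons, wordProd_nil, mul_one]
    rfl
  · refine ⟨2, by norm_num, ?_⟩
    show _ = wordProd LT [2]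
    rw [wordProd_cons, wordProd_nil, mul_one]
    rfl
  · refine ⟨3, by norm_num, ?_⟩
    show _ = wordProd LT [3]
    rw [wordProd_cons, wordProd_nil, mul_one]
    rfl

/-- **the permutation model of the first Conway group of the definitions** (the automorphism
group of the lattice modulo its centre) on 98280 points, the pairs of opposite minimal vectors;
the letters are `a` (the permutation `t ↦ t + 1` of the coordinates, of order 23), `b` (the
permutation `t ↦ 2 t`, of order 11), `n` (a signed permutation), `x` (the extra automorphism) and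
the inverses of `a`, `b`, `n` -/
noncomputable def co1M : PModel where
  G := Cfsg.Spor.Co1
  n := 98280
  nl := 7
  px := px
  elt := eltM
  phi := phi
  elt_nil := wordProd_nil LT
  elt_append := wordProd_append LT
  px_lt := px_lt
  phi_inv_val := phi_inv_word
  phi_injective := phi_injective
  closure_letters := closure_eltM

theorem co1M_G : co1M.G = Cfsg.Spor.Co1 := rfl

theorem co1M_n : co1M.n = 98280 := rfl

theorem co1M_nl : co1M.nl = 7 := rfl

theorem co1M_px : co1M.px = px := rfl

theorem card_Co1 : Nat.card Cfsg.Spor.Co1 = 4157776806543360000 := card_C1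

theorem isSimpleGroup_Co1 : IsSimpleGroup Cfsg.Spor.Co1 := isCo1_C1.1

theorem chk_slpM : chkSLP co1M.px co1M.n co1M.nl ds pm = true := chk_slp

/-- the model of the first Conway group with the strong generators as letters (25 letters) -/
noncomputable def co1S : PModel := slpModel co1M ds pm chk_slpM

theorem co1S_G : co1S.G = Cfsg.Spor.Co1 := rfl

theorem co1S_n : co1S.n = 98280 := rfl

theorem co1S_nl : co1S.nl = 25 := slpModel_nl co1M ds pm chk_slpM

theorem co1S_px : co1S.px = pm := rfl

/-- the stabilizer chain -/
noncomputable def DC : ChainData where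
  base := baseC
  levels := levelsC

theorem factsC : ChainFacts co1S DC where
  hbase := by
    intro b hb
    have : b < 98280 := by
      revert b
      decide
    exact this
  hlet := by
    rw [co1S_nl]
    exact letters_of_chkLet 25 levelsC chk_let
  hchain := chain_ok
  hcard := by
    show Nat.card Cfsg.Spor.Co1 = _
    rw [card_Co1]
    exact levels_prod.symm

end Cfsg.Agent.Lib.Helper1.Co1B
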