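import Mathlib
import Cfsg.Agent.Lib.Helper1.Co1B.QL

set_option autoImplicit false
set_option maxRecDepth 100000

/-! The first Conway group on the 98280 pairs of minimal vectors: checks of the two chains of the second model. -/

namespace Cfsg.Agent.Lib.Helper1.Co1B

open Cfsg.Agent.Lib.Helper6.TC Cfsg.Agent.Lib.Helper6.PM Cfsg.Agent.Lib.Helper2.PMS
open Cfsg.Agent.Lib.Helper5.Chain Cfsg.Agent.Lib.Helper5.Srch Cfsg.Agent.Lib.Helper1.PMChk
open Cfsg.Agent.Lib.Helper2.PMC

theorem chk_letU0 : chkLet 32 U0s = true := by decide +kernel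

theorem len_U0s : (U0s.map List.length).sum = 98280 := by decide +kernel

theorem U0_0_len : U0_0.length = 23 := by decide +kernel

theorem U0_0_ok : lvR pm2 2093 U0_0 0 = true := by decide +kernel

theorem U0_0_map : U0_0.map (fun w => wapp pm2 w 2093) = List.range' 0 23 := by
  have h := lvR_spec pm2 2093 U0_0 0 U0_0_ok
  rwa [U0_0_len] at h

theorem U0_1_len : U0_1.length = 1 := by decide +kernel

theorem U0_1_ok : lvR pm2 2093 U0_1 23 = true := by decide +kernel

theorem U0_1_map : U0_1.map (fun w => wapp pm2 w 2093) = List.range' 23 1 := by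
  have h := lvR_spec pm2 2093 U0_1 23 U0_1_ok
  rwa [U0_1_len] at h

theorem U0_2_len : U0_2.length = 1986 := by decide +kernel

theorem U0_2_ok : lvR pm2 2093 U0_2 24 = true := by decide +kernel

theorem U0_2_map : U0_2.map (fun w => wapp pm2 w 2093) = List.range' 24 1986 := by
  have h := lvR_spec pm2 2093 U0_2 24 U0_2_ok
  rwa [U0_2_len] at h

theorem U0_3_len : U0_3.length = 83 := by decide +kernel

theorem U0_3_ok : lvR pm2 2093 U0_3 2010 = true := by decide +kernel

theorem U0_3_map : U0_3.map (fun w => wapp pm2 w 2093) = List.range' 2010 83 := by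
  have h := lvR_spec pm2 2093 U0_3 2010 U0_3_ok
  rwa [U0_3_len] at h

theorem U0_4_len : U0_4.length = 6981 := by decide +kernel

theorem U0_4_ok : lvR pm2 2093 U0_4 2093 = true := by decide +kernel

theorem U0_4_map : U0_4.map (fun w => wapp pm2 w 2093) = List.range' 2093 6981 := by
  have h := lvR_spec pm2 2093 U0_4 2093 U0_4_ok
  rwa [U0_4_len] at h

theorem U0_5_len : U0_5.length = 8190 := by decide +kernel

theorem U0_5_ok : lvR pm2 2093 U0_5 9074 = true := by decide +kernel

theorem U0_5_map : U0_5.map (fun w => wapp pm2 w 2093) = List.range' 9074 8190 := by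
  have h := lvR_spec pm2 2093 U0_5 9074 U0_5_ok
  rwa [U0_5_len] at h

theorem U0_6_len : U0_6.length = 3069 := by decide +kernel

theorem U0_6_ok : lvR pm2 2093 U0_6 17264 = true := by decide +kernel

theorem U0_6_map : U0_6.map (fun w => wapp pm2 w 2093) = List.range' 17264 3069 := by
  have h := lvR_spec pm2 2093 U0_6 17264 U0_6_ok
  rwa [U0_6_len] at h

theorem U0_7_len : U0_7.length = 1 := by decide +kernel

theorem U0_7_ok : lvR pm2 2093 U0_7 20333 = true := by decide +kernel

theorem U0_7_map : U0_7.map (fun w => wapp pm2 w 2093) = List.range' 20333 1 := by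
  have h := lvR_spec pm2 2093 U0_7 20333 U0_7_ok
  rwa [U0_7_len] at h

theorem U0_8_len : U0_8.length = 1452 := by decide +kernel

theorem U0_8_ok : lvR pm2 2093 U0_8 20334 = true := by decide +kernel

theorem U0_8_map : U0_8.map (fun w => wapp pm2 w 2093) = List.range' 20334 1452 := by
  have h := lvR_spec pm2 2093 U0_8 20334 U0_8_ok
  rwa [U0_8_len] at h

theorem U0_9_len : U0_9.length = 1 := by decide +kernel

theorem U0_9_ok : lvR pm2 2093 U0_9 21786 = true := by decide +kernel

theorem U0_9_map : U0_9.map (fun w => wapp pm2 w 2093) = List.range' 21786 1 := by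
  have h := lvR_spec pm2 2093 U0_9 21786 U0_9_ok
  rwa [U0_9_len] at h

theorem U0_10_len : U0_10.length = 8190 := by decide +kernel

theorem U0_10_ok : lvR pm2 2093 U0_10 21787 = true := by decide +kernel

theorem U0_10_map : U0_10.map (fun w => wapp pm2 w 2093) = List.range' 21787 8190 := by
  have h := lvR_spec pm2 2093 U0_10 21787 U0_10_ok
  rwa [U0_10_len] at h

theorem U0_11_len : U0_11.length = 8190 := by decide +kernel

theorem U0_11_ok : lvR pm2 2093 U0_11 29977 = true := by decide +kernel

theorem U0_11_map : U0_11.map (fun w => wapp pm2 w 2093) = List.range' 29977 8190 := by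
  have h := lvR_spec pm2 2093 U0_11 29977 U0_11_ok
  rwa [U0_11_len] at h

theorem U0_12_len : U0_12.length = 8190 := by decide +kernel

theorem U0_12_ok : lvR pm2 2093 U0_12 38167 = true := by decide +kernel

theorem U0_12_map : U0_12.map (fun w => wapp pm2 w 2093) = List.range' 38167 8190 := by
  have h := lvR_spec pm2 2093 U0_12 38167 U0_12_ok
  rwa [U0_12_len] at h

theorem U0_13_len : U0_13.length = 8190 := by decide +kernel

theorem U0_13_ok : lvR pm2 2093 U0_13 46357 = true := by decide +kernel

theorem U0_13_map : U0_13.map (fun w => wapp pm2 w 2093) = List.range' 46357 8190 := by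
  have h := lvR_spec pm2 2093 U0_13 46357 U0_13_ok
  rwa [U0_13_len] at h

theorem U0_14_len : U0_14.length = 8190 := by decide +kernel

theorem U0_14_ok : lvR pm2 2093 U0_14 54547 = true := by decide +kernel

theorem U0_14_map : U0_14.map (fun w => wapp pm2 w 2093) = List.range' 54547 8190 := by
  have h := lvR_spec pm2 2093 U0_14 54547 U0_14_ok
  rwa [U0_14_len] at h

theorem U0_15_len : U0_15.length = 8190 := by decide +kernel

theorem U0_15_ok : lvR pm2 2093 U0_15 62737 = true := by decide +kernel

theorem U0_15_map : U0_15.map (fun w => wapp pm2 w 2093) = List.range' 62737 8190 := by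
  have h := lvR_spec pm2 2093 U0_15 62737 U0_15_ok
  rwa [U0_15_len] at h

theorem U0_16_len : U0_16.length = 8190 := by decide +kernel

theorem U0_16_ok : lvR pm2 2093 U0_16 70927 = true := by decide +kernel

theorem U0_16_map : U0_16.map (fun w => wapp pm2 w 2093) = List.range' 70927 8190 := by
  have h := lvR_spec pm2 2093 U0_16 70927 U0_16_ok
  rwa [U0_16_len] at h

theorem U0_17_len : U0_17.length = 8190 := by decide +kernel

theorem U0_17_ok : lvR pm2 2093 U0_17 79117 = true := by decide +kernel

theorem U0_17_map : U0_17.map (fun w => wapp pm2 w 2093) = List.range' 79117 8190 := by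
  have h := lvR_spec pm2 2093 U0_17 79117 U0_17_ok
  rwa [U0_17_len] at h

theorem U0_18_len : U0_18.length = 8190 := by decide +kernel

theorem U0_18_ok : lvR pm2 2093 U0_18 87307 = true := by decide +kernel

theorem U0_18_map : U0_18.map (fun w => wapp pm2 w 2093) = List.range' 87307 8190 := by
  have h := lvR_spec pm2 2093 U0_18 87307 U0_18_ok
  rwa [U0_18_len] at h

theorem U0_19_len : U0_19.length = 2783 := by decide +kernel

theorem U0_19_ok : lvR pm2 2093 U0_19 95497 = true := by decide +kernel

theorem U0_19_map : U0_19.map (fun w => wapp pm2 w 2093) = List.range' 95497 2783 := by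
  have h := lvR_spec pm2 2093 U0_19 95497 U0_19_ok
  rwa [U0_19_len] at h

theorem L0_map : L0.U.map (fun w => wapp pm2 w 2093) = List.range' 0 98280 := by
  show (U0_0 ++ (U0_1 ++ (U0_2 ++ (U0_3 ++ (U0_4 ++ (U0_5 ++ (U0_6 ++ (U0_7 ++ (U0_8 ++ (U0_9 ++ (U0_10 ++ (U0_11 ++ (U0_12 ++ (U0_13 ++ (U0_14 ++ (U0_15 ++ (U0_16 ++ (U0_17 ++ (U0_18 ++ (U0_19 ++ ([]))))))))))))))))))))).map _ = _
  exact map_append_range'_r _ U0_0 _ 0 23 98257 23 98280 U0_0_map (map_append_range'_r _ U0_1 _ 23 1 98256 24 98257 U0_1_map (map_append_range'_r _ U0_2 _ 24 1986 96270 2010 98256 U0_2_map (map_append_range'_r _ U0_3 _ 2010 83 96187 2093 96270 U0_3_map (map_append_range'_r _ U0_4 _ 2093 6981 89206 9074 96187 U0_4_map (map_append_range'_r _ U0_5 _ 9074 8190 81016 17264 89206 U0_5_map (map_append_range'_r _ U0_6 _ 17264 3069 77947 20333 81016 U0_6_map (map_append_range'_r _ U0_7 _ 20333 1 77946 20334 77947 U0_7_map (map_append_range'_r _ U0_8 _ 20334 1452 76494 21786 77946 U0_8_map (map_append_range'_r _ U0_9 _ 21786 1 76493 21787 76494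 U0_9_map (map_append_range'_r _ U0_10 _ 21787 8190 68303 29977 76493 U0_10_map (map_append_range'_r _ U0_11 _ 29977 8190 60113 38167 68303 U0_11_map (map_append_range'_r _ U0_12 _ 38167 8190 51923 46357 60113 U0_12_map (map_append_range'_r _ U0_13 _ 46357 8190 43733 54547 51923 U0_13_map (map_append_range'_r _ U0_14 _ 54547 8190 35543 62737 43733 U0_14_map (map_append_range'_r _ U0_15 _ 62737 8190 27353 70927 35543 U0_15_map (map_append_range'_r _ U0_16 _ 70927 8190 19163 79117 27353 U0_16_map (map_append_range'_r _ U0_17 _ 79117 8190 10973 87307 19163 U0_17_map (map_append_range'_r _ U0_18 _ 87307 8190 2783 95497 10973 U0_18_map (map_append_range'_r _ U0_19 _ 95497 2783 0 98280 2783 U0_19_map (rfl) rfl rfl) rfl rfl) rfl rfl) rfl rfl) rfl rfl) rfl rfl) rfl rfl) rfl rfl) rfl rfl) rfl rfl) rfl rfl) rfl rfl) rfl rfl) rfl rfl) rfl rfl) rfl rfl) rfl rfl) rfl rfl) rfl rfl) rfl rfl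

theorem L0_len : L0.U.length = 98280 := by
  show (List.flatten U0s).length = 98280
  rw [List.length_flatten]
  exact len_U0s

theorem L0_let : ∀ u ∈ L0.U, ∀ c ∈ u, c < co1T.nl := by
  intro u hu c hc
  rw [co1T_nl]
  have hu' : u ∈ List.flatten U0s := hu
  rw [List.mem_flatten] at hu'
  obtain ⟨P, hP, huP⟩ := hu'
  exact letters_of_chkLet 32 U0s chk_letU0 P hP u huP c hc

theorem chk_L0 : chkLevel co1T [] L0 = true :=
  chkLevel_nil_of co1T L0 98280 (by show 2093 < 98280; norm_num) L0_let rfl L0_map

theorem chk_lvA' : chkLevels co1T [2093] lvA' = true := by decide +kernel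

theorem chk_lvB' : chkLevels co1T [2093] lvB' = true := by decide +kernel

theorem prod_lvA' : (lvA'.map fun L => L.U.length).prod = 42305421312000 := by decide +kernel

theorem prod_lvB' : (lvB'.map fun L => L.U.length).prod = 42305421312000 := by decide +kernel

theorem factsA : ChainFacts co1T (L0 :: lvA') where
  hchk := chkLevels_cons_of co1T L0 lvA' chk_L0 chk_lvA'
  hcard := by
    rw [card_co1T, List.map_cons, List.prod_cons, L0_len, prod_lvA']

theorem factsB : ChainFacts co1T (L0 :: lvB') where
  hchk := chkLevels_cons_of co1T L0 lvB' chk_L0 chk_lvB'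
  hcard := by
    rw [card_co1T, List.map_cons, List.prod_cons, L0_len, prod_lvB']

theorem chk_msA' : chkMasks lvA' msA' = true := by decide +kernel

theorem chk_msB' : chkMasks lvB' msB' = true := by decide +kernel

theorem masksA : MasksOK (L0 :: lvA') msA :=
  masksOK_cons_of L0 lvA' _ msA' (tb_full 98280) chk_msA'

theorem masksB : MasksOK (L0 :: lvB') msB :=
  masksOK_cons_of L0 lvB' _ msB' (tb_full 98280) chk_msB'

theorem chk_invT : ((List.range 32).all fun c => Nat.blt (iv2 c) 32 &&
    chkBaseL co1T (L0 :: lvA') [c, iv2 c] []) = true := by decide +kernel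

theorem invMapT : InvMap co1T iv2 := by
  apply invMap_of_elt
  intro c hc
  rw [co1T_nl] at hc ⊢
  have h := chk_invT
  rw [List.all_eq_true] at h
  have h1 := h c (List.mem_range.mpr hc)
  rw [Bool.and_eq_true, Nat.blt_eq] at h1
  exact ⟨h1.1, factsA.elt_eq_of_chk _ _ h1.2⟩

end Cfsg.Agent.Lib.Helper1.Co1B
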