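import Mathlib
import Cfsg.Agent.Lib.Helper1.Co1B.M4
import Cfsg.Agent.Lib.Helper5.Srch3
import Cfsg.Agent.Lib.Helper2.RigidOut4

set_option autoImplicit false
set_option maxRecDepth 100000

/-! The first Conway group on the 98280 pairs of minimal vectors: general facts for the second
model, whose first level is too long for the direct checks. -/

namespace Cfsg.Agent.Lib.Helper1.Co1B

open Cfsg.Agent.Lib.Helper6.TC Cfsg.Agent.Lib.Helper6.PM Cfsg.Agent.Lib.Helper2.PMS
open Cfsg.Agent.Lib.Helper2.PMC Cfsg.Agent.Lib.Helper5.Srch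

theorem chkLetters_of_forall (M : PModel) (U : List (List ℕ))
    (h : ∀ u ∈ U, ∀ c ∈ u, c < M.nl) : chkLetters M U = true := by
  unfold chkLetters
  simp only [List.all_eq_true, decide_eq_true_eq]
  exact h

theorem eqImgs_of_map (M : PModel) (b : ℕ) : ∀ (U : List (List ℕ)) (I : List ℕ),
    U.map (fun u => wapp M.px u b) = I → eqImgs M U b I = true
  | [], I, h => by
    rw [List.map_nil] at h
    subst h
    rfl
  | u :: U, I, h => by
    rw [List.map_cons] at h
    subst h
    unfold eqImgs
    rw [Bool.and_eq_true, Nat.beq_eq, wappS_eq]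
    exact ⟨rfl, eqImgs_of_map M b U _ rfl⟩

theorem incFrom_range' : ∀ (n a b : ℕ), a < b → incFrom a (List.range' b n) = true
  | 0, _, _, _ => rfl
  | n + 1, a, b, h => by
    rw [List.range'_succ]
    unfold incFrom
    rw [Bool.and_eq_true, Nat.blt_eq]
    exact ⟨h, incFrom_range' n b (b + 1) (Nat.lt_succ_self b)⟩

theorem strictInc_range' (a n : ℕ) : strictInc (List.range' a n) = true := by
  cases n with
  | zero => rfl
  | succ n =>
    rw [List.range'_succ]
    unfold strictInc
    exact incFrom_range' n a (a + 1) (Nat.lt_succ_self a)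

/-- the check of the first level from the facts on it -/
theorem chkLevel_nil_of (M : PModel) (L : Level) (n : ℕ) (hb : L.b < M.n)
    (hl : ∀ u ∈ L.U, ∀ c ∈ u, c < M.nl) (hI : L.I = List.range' 0 n)
    (hm : L.U.map (fun u => wapp M.px u L.b) = List.range' 0 n) : chkLevel M [] L = true := by
  unfold chkLevel
  simp only [Bool.and_eq_true, Nat.blt_eq, List.all_nil]
  refine ⟨⟨⟨⟨hb, chkLetters_of_forall M L.U hl⟩, trivial⟩, ?_⟩, ?_⟩
  · apply eqImgs_of_map
    rw [hm, hI]
  · rw [hI]
    exact strictInc_range' 0 n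

theorem chkLevels_cons_of (M : PModel) (L : Level) (lv : List Level)
    (h1 : chkLevel M [] L = true) (h2 : chkLevels M [L.b] lv = true) :
    chkLevels M [] (L :: lv) = true := by
  unfold chkLevels
  rw [Bool.and_eq_true]
  exact ⟨h1, h2⟩

/-- the mask of an initial segment of the numbers -/
theorem tb_full (n y : ℕ) : tb (2 ^ n - 1) y = true ↔ y ∈ List.range' 0 n := by
  rw [tb_eq, Nat.testBit_two_pow_sub_one, decide_eq_true_eq, List.mem_range'_1]
  omega

theorem masksOK_cons_of (L : Level) (lv : List Level) (m : ℕ) (ms : List ℕ)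
    (h1 : ∀ y, tb m y = true ↔ y ∈ L.I) (h2 : chkMasks lv ms = true) :
    MasksOK (L :: lv) (m :: ms) :=
  ⟨h1, masksOK_of_chk lv ms h2⟩

/-- the result of a certified search whose first level is cut into pieces, from the facts on the
masks -/
theorem search_pieces_of_masksOK {M : PModel} [Finite M.G] {L : Level} {lv' : List Level}
    (F : ChainFacts M (L :: lv')) (ms : List ℕ) (hms : MasksOK (L :: lv') ms)
    (iv : ℕ → ℕ) (hI : InvMap M iv) (ws ws' : List ℕ) (hws : chkW M ws = true)
    (hws' : chkW M ws' = true) (hsrc : chkSrc M ws [] (L :: lv') = true) (hL : L.src = none)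
    (pcs : List (List (List ℕ) × Helper5.Srch.Cert)) (hU : L.U = (pcs.map fun p => p.1).flatten)
    (hc : ∀ p ∈ pcs, Helper5.Srch.chk M iv ws ws' p.2 (L :: lv') ms (some p.1) [] [] = true) (g : M.G)
    (hg : g⁻¹ * M.elt ws * g = M.elt ws') : ∃ p ∈ pcs, ∃ z ∈ Helper5.Srch.leaves p.2, g = M.elt z := by
  have hcompat := compat_of_conj M ws ws' (lt_of_chkW M ws hws) (lt_of_chkW M ws' hws') g hg
  have hr : M.elt [] * g⁻¹ ∈ stabL M [] := Subgroup.mem_top _
  have hp := pend_of_complete g (L :: lv') [] [] F.ok F.complete hr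
  have e0 : pendOf (L :: lv') = some L.U := by
    show (match L.src with
      | none => some L.U
      | some _ => none) = _
    rw [hL]
  obtain ⟨L0, lv0, e, u, hu, huL, hru⟩ := hp L.U e0
  have e1 : L = L0 := (List.cons.inj e).1
  subst e1
  rw [hU, List.mem_flatten] at hu
  obtain ⟨U1, hU1, huU1⟩ := hu
  rw [List.mem_map] at hU1
  obtain ⟨p, hp1, rfl⟩ := hU1
  have S : St M ws g (L :: lv') (some p.1) [] [] := {
    hfix := fun q hq => absurd hq List.not_mem_nil
    hacc := fun q hq => absurd hq List.not_mem_nil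
    hok := F.ok
    hsrc := srcOK_of_chk M ws (L :: lv') [] hsrc
    hcomp := F.complete
    hr := hr
    hpend := by
      intro Us hUs
      simp only [Option.some.injEq] at hUs
      subst hUs
      exact ⟨L, lv', rfl, u, huU1, huL, hru⟩ }
  obtain ⟨z, hz, hgz⟩ := Helper5.Srch.chk_sound hI (lt_of_chkW M ws hws) (lt_of_chkW M ws' hws') g hcompat p.2
    (L :: lv') ms (some p.1) [] [] (hc p hp1) hms S
  exact ⟨p, hp1, z, hz, hgz⟩

/-- the inverse letters from relations between the elements -/
theorem invMap_of_elt (M : PModel) (iv : ℕ → ℕ)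
    (h : ∀ c < M.nl, iv c < M.nl ∧ M.elt [c, iv c] = M.elt []) : InvMap M iv := by
  intro c hc
  obtain ⟨h1, h2⟩ := h c hc
  refine ⟨h1, fun q hq => ?_⟩
  have hw : ∀ c' ∈ [c, iv c], c' < M.nl := by
    intro c' hc'
    simp only [List.mem_cons, List.not_mem_nil, or_false] at hc'
    rcases hc' with rfl | rfl
    · exact hc
    · exact h1
  have e1 := M.phi_inv_val [c, iv c] hw ⟨q, hq⟩
  have e2 := M.phi_inv_val [] (fun c' hc' => absurd hc' List.not_mem_nil) ⟨q, hq⟩
  rw [h2, e2] at e1
  exact e1.symm

/-- the words of the pieces of a level map the base point to the numbers in their order -/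
theorem map_append_range'_r (F : List ℕ → ℕ) (L1 L2 : List (List ℕ)) (a n1 n2 b n : ℕ)
    (h1 : L1.map F = List.range' a n1) (h2 : L2.map F = List.range' b n2)
    (hb : a + n1 = b) (hn : n1 + n2 = n) :
    (L1 ++ L2).map F = List.range' a n := by
  subst hb hn
  rw [List.map_append, h1, h2, List.range'_append_1]

theorem length_append_of (L1 L2 : List (List ℕ)) (n1 n2 n : ℕ) (h1 : L1.length = n1)
    (h2 : L2.length = n2) (hn : n1 + n2 = n) : (L1 ++ L2).length = n := by
  rw [List.length_append, h1, h2, hn]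

theorem forall_append_of (P : List ℕ → Prop) (L1 L2 : List (List ℕ)) (h1 : ∀ u ∈ L1, P u)
    (h2 : ∀ u ∈ L2, P u) : ∀ u ∈ L1 ++ L2, P u := by
  intro u hu
  rcases List.mem_append.mp hu with h | h
  · exact h1 u h
  · exact h2 u h

end Cfsg.Agent.Lib.Helper1.Co1B
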