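import Mathlib
import Cfsg.Agent.Lib.Helper1.Co1B.QX
import Cfsg.Agent.Lib.Helper1.Co1B.QT25
import Cfsg.Agent.Lib.Helper1.Co1B.QT26
import Cfsg.Agent.Lib.Helper1.Co1B.QT27
import Cfsg.Agent.Lib.Helper1.Co1B.QT28
import Cfsg.Agent.Lib.Helper1.Co1B.QT29
import Cfsg.Agent.Lib.Helper1.Co1B.QT30
import Cfsg.Agent.Lib.Helper1.Co1B.QT31

set_option autoImplicit false
set_option maxRecDepth 100000

/-! The first Conway group on the 98280 pairs of minimal vectors: the second model, with 32 letters (data). -/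

namespace Cfsg.Agent.Lib.Helper1.Co1B

open Cfsg.Agent.Lib.Helper6.TC Cfsg.Agent.Lib.Helper6.PM Cfsg.Agent.Lib.Helper2.PMS
open Cfsg.Agent.Lib.Helper5.Chain Cfsg.Agent.Lib.Helper5.Srch Cfsg.Agent.Lib.Helper1.PMChk

noncomputable section

/-- the definitions of the new letters of the second model -/
def ds2 : List (List ℕ) := [[19, 24, 21, 20, 17, 12, 9, 15, 20, 8, 16, 1, 9, 21, 5, 4, 1, 20, 4, 16, 2, 0, 6, 19, 3], [25, 0, 25, 4, 25, 0, 25, 4, 4, 1, 1, 4, 25, 0, 1, 4, 25, 1, 1, 1, 0, 25, 0, 25, 5, 0, 0, 25], [25, 4, 4, 1, 25, 4, 25, 4, 5, 5, 5, 25, 0, 5, 4, 25, 0, 5, 5, 0, 0, 25, 4, 25, 0, 25, 4, 25], [0, 27, 1, 0, 5, 26, 4, 4, 4, 27, 0], [4, 26, 0, 0, 0, 27, 1, 4, 5, 26, 4], [26, 4, 5, 5, 4, 26, 5, 5, 27, 27, 4, 26, 1, 0, 28, 5, 29], [28, 1, 29, 4, 5, 27, 0, 26, 26, 1, 1, 27, 0, 1, 1, 0, 27]]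

/-- the tables of the 32 letters on the pairs -/
def PTs2 : List (List (List ℕ)) := [TI0, TI1, TI2, PT3, PT4, PT5, PT6, PT7, PT8, PT9, PT10, PT11, PT12, PT13, PT14, PT15, PT16, PT17, PT18, PT19, PT20, PT21, PT22, PT23, PT24, QT25, QT26, QT27, QT28, QT29, QT30, QT31]

/-- the right action of the 32 letters -/
def pm2 (c q : ℕ) : ℕ := tget (nthT PTs2 c) 512 17 16 q

/-- the inverse letters -/
def ivL2 : List ℕ := [4, 5, 6, 3, 0, 1, 2, 8, 7, 10, 9, 12, 11, 14, 13, 16, 15, 18, 17, 20, 19, 22, 21, 24, 23, 25, 27, 26, 29, 28, 31, 30]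

/-- the inverse letter of a letter -/
def iv2 (c : ℕ) : ℕ := nthN ivL2 c

/-- the comparison of a new letter of the second model with its word at a point -/
def newF2 (w : List ℕ) (c : ℕ) : ℕ → Bool := fun q => Nat.beq (wappR pm2 w q) (pm2 c q)

end

theorem pm2_old (c : ℕ) (hc : c < 25) (q : ℕ) : pm2 c q = pm c q := by
  interval_cases c <;> rfl

theorem chkNew2_of_forall (k c : ℕ) (w : List ℕ) (hw : ds2.getD k [] = w) (hc : 25 + k = c)
    (hl : (w.all fun c => Nat.blt c (25 + k)) = true)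
    (h : ∀ q < 98280, newF2 w c q = true) : chkNew 98280 25 ds2 pm2 k = true := by
  unfold chkNew
  rw [hw, Bool.and_eq_true]
  refine ⟨hl, chkRange_of_forall _ _ _ fun q _ hq => ?_⟩
  have := h q (by omega)
  unfold newF2 at this
  rw [wappR_eq] at this
  rw [wappS_eq, hc]
  exact this

theorem chk_oldT : chkRange (chkOld pm 98280 pm2) 0 25 = true := by
  apply chkRange_of_forall
  intro c _ hc
  unfold chkOld
  apply chkRange_of_forall
  intro q _ _
  rw [pm2_old c (by omega) q]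
  exact Nat.beq_refl _

end Cfsg.Agent.Lib.Helper1.Co1B
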