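import Mathlib
import Cfsg.Agent.Lib.Helper1.Co1B.QN0

set_option autoImplicit false
set_option maxRecDepth 100000

/-! The first Conway group on the 98280 pairs of minimal vectors: checks of the tables of the new letters of the second model, part 1. -/

namespace Cfsg.Agent.Lib.Helper1.Co1B

open Cfsg.Agent.Lib.Helper6.TC Cfsg.Agent.Lib.Helper6.PM Cfsg.Agent.Lib.Helper2.PMS
open Cfsg.Agent.Lib.Helper5.Chain Cfsg.Agent.Lib.Helper5.Srch Cfsg.Agent.Lib.Helper1.PMChk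

theorem newT_0_5 : rangeR (newF2 [19, 24, 21, 20, 17, 12, 9, 15, 20, 8, 16, 1, 9, 21, 5, 4, 1, 20, 4, 16, 2, 0, 6, 19, 3] 25) (5 * 8190) 8190 = true := by decide +kernel

theorem newT_0_6 : rangeR (newF2 [19, 24, 21, 20, 17, 12, 9, 15, 20, 8, 16, 1, 9, 21, 5, 4, 1, 20, 4, 16, 2, 0, 6, 19, 3] 25) (6 * 8190) 8190 = true := by decide +kernel

theorem newT_0_7 : rangeR (newF2 [19, 24, 21, 20, 17, 12, 9, 15, 20, 8, 16, 1, 9, 21, 5, 4, 1, 20, 4, 16, 2, 0, 6, 19, 3] 25) (7 * 8190) 8190 = true := by decide +kernel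

theorem newT_0_8 : rangeR (newF2 [19, 24, 21, 20, 17, 12, 9, 15, 20, 8, 16, 1, 9, 21, 5, 4, 1, 20, 4, 16, 2, 0, 6, 19, 3] 25) (8 * 8190) 8190 = true := by decide +kernel

theorem newT_0_9 : rangeR (newF2 [19, 24, 21, 20, 17, 12, 9, 15, 20, 8, 16, 1, 9, 21, 5, 4, 1, 20, 4, 16, 2, 0, 6, 19, 3] 25) (9 * 8190) 8190 = true := by decide +kernel

end Cfsg.Agent.Lib.Helper1.Co1B
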