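import Mathlib
import Cfsg.Agent.Lib.Helper1.Co1B.QN1

set_option autoImplicit false
set_option maxRecDepth 100000

/-! The first Conway group on the 98280 pairs of minimal vectors: checks of the tables of the new letters of the second model, part 2. -/

namespace Cfsg.Agent.Lib.Helper1.Co1B

open Cfsg.Agent.Lib.Helper6.TC Cfsg.Agent.Lib.Helper6.PM Cfsg.Agent.Lib.Helper2.PMS
open Cfsg.Agent.Lib.Helper5.Chain Cfsg.Agent.Lib.Helper5.Srch Cfsg.Agent.Lib.Helper1.PMChk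

theorem newT_0_10 : rangeR (newF2 [19, 24, 21, 20, 17, 12, 9, 15, 20, 8, 16, 1, 9, 21, 5, 4, 1, 20, 4, 16, 2, 0, 6, 19, 3] 25) (10 * 8190) 8190 = true := by decide +kernel

theorem newT_0_11 : rangeR (newF2 [19, 24, 21, 20, 17, 12, 9, 15, 20, 8, 16, 1, 9, 21, 5, 4, 1, 20, 4, 16, 2, 0, 6, 19, 3] 25) (11 * 8190) 8190 = true := by decide +kernel

theorem chk_newT_0 : chkNew 98280 25 ds2 pm2 0 = true := by
  apply chkNew2_of_forall 0 25 [19, 24, 21, 20, 17, 12, 9, 15, 20, 8, 16, 1, 9, 21, 5, 4, 1, 20, 4, 16, 2, 0, 6, 19, 3] rfl rfl (by decide)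
  apply forall_of_pieces _ 8190 12 98280 (by norm_num)
  intro j hj
  interval_cases j
  · exact newT_0_0
  · exact newT_0_1
  · exact newT_0_2
  · exact newT_0_3
  · exact newT_0_4
  · exact newT_0_5
  · exact newT_0_6
  · exact newT_0_7
  · exact newT_0_8
  · exact newT_0_9
  · exact newT_0_10
  · exact newT_0_11

theorem newT_1_0 : rangeR (newF2 [25, 0, 25, 4, 25, 0, 25, 4, 4, 1, 1, 4, 25, 0, 1, 4, 25, 1, 1, 1, 0, 25, 0, 25, 5, 0, 0, 25] 26) (0 * 8190) 8190 = true := by decide +kernel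

theorem newT_1_1 : rangeR (newF2 [25, 0, 25, 4, 25, 0, 25, 4, 4, 1, 1, 4, 25, 0, 1, 4, 25, 1, 1, 1, 0, 25, 0, 25, 5, 0, 0, 25] 26) (1 * 8190) 8190 = true := by decide +kernel

theorem newT_1_2 : rangeR (newF2 [25, 0, 25, 4, 25, 0, 25, 4, 4, 1, 1, 4, 25, 0, 1, 4, 25, 1, 1, 1, 0, 25, 0, 25, 5, 0, 0, 25] 26) (2 * 8190) 8190 = true := by decide +kernel

end Cfsg.Agent.Lib.Helper1.Co1B
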