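import Mathlib
import Cfsg.Agent.Lib.Helper1.Co1B.QN7

set_option autoImplicit false
set_option maxRecDepth 100000

/-! The first Conway group on the 98280 pairs of minimal vectors: checks of the tables of the new letters of the second model, part 8. -/

namespace Cfsg.Agent.Lib.Helper1.Co1B

open Cfsg.Agent.Lib.Helper6.TC Cfsg.Agent.Lib.Helper6.PM Cfsg.Agent.Lib.Helper2.PMS
open Cfsg.Agent.Lib.Helper5.Chain Cfsg.Agent.Lib.Helper5.Srch Cfsg.Agent.Lib.Helper1.PMChk

theorem newT_3_10 : rangeR (newF2 [0, 27, 1, 0, 5, 26, 4, 4, 4, 27, 0] 28) (10 * 8190) 8190 = true := by decide +kernel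

theorem newT_3_11 : rangeR (newF2 [0, 27, 1, 0, 5, 26, 4, 4, 4, 27, 0] 28) (11 * 8190) 8190 = true := by decide +kernel

theorem chk_newT_3 : chkNew 98280 25 ds2 pm2 3 = true := by
  apply chkNew2_of_forall 3 28 [0, 27, 1, 0, 5, 26, 4, 4, 4, 27, 0] rfl rfl (by decide)
  apply forall_of_pieces _ 8190 12 98280 (by norm_num)
  intro j hj
  interval_cases j
  · exact newT_3_0
  · exact newT_3_1
  · exact newT_3_2
  · exact newT_3_3
  · exact newT_3_4
  · exact newT_3_5
  · exact newT_3_6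
  · exact newT_3_7
  · exact newT_3_8
  · exact newT_3_9
  · exact newT_3_10
  · exact newT_3_11

theorem newT_4_0 : rangeR (newF2 [4, 26, 0, 0, 0, 27, 1, 4, 5, 26, 4] 29) (0 * 8190) 8190 = true := by decide +kernel

theorem newT_4_1 : rangeR (newF2 [4, 26, 0, 0, 0, 27, 1, 4, 5, 26, 4] 29) (1 * 8190) 8190 = true := by decide +kernel

theorem newT_4_2 : rangeR (newF2 [4, 26, 0, 0, 0, 27, 1, 4, 5, 26, 4] 29) (2 * 8190) 8190 = true := by decide +kernel

theorem newT_4_3 : rangeR (newF2 [4, 26, 0, 0, 0, 27, 1, 4, 5, 26, 4] 29) (3 * 8190) 8190 = true := by decide +kernel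

theorem newT_4_4 : rangeR (newF2 [4, 26, 0, 0, 0, 27, 1, 4, 5, 26, 4] 29) (4 * 8190) 8190 = true := by decide +kernel

theorem newT_4_5 : rangeR (newF2 [4, 26, 0, 0, 0, 27, 1, 4, 5, 26, 4] 29) (5 * 8190) 8190 = true := by decide +kernel

theorem newT_4_6 : rangeR (newF2 [4, 26, 0, 0, 0, 27, 1, 4, 5, 26, 4] 29) (6 * 8190) 8190 = true := by decide +kernel

theorem newT_4_7 : rangeR (newF2 [4, 26, 0, 0, 0, 27, 1, 4, 5, 26, 4] 29) (7 * 8190) 8190 = true := by decide +kernel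

theorem newT_4_8 : rangeR (newF2 [4, 26, 0, 0, 0, 27, 1, 4, 5, 26, 4] 29) (8 * 8190) 8190 = true := by decide +kernel

theorem newT_4_9 : rangeR (newF2 [4, 26, 0, 0, 0, 27, 1, 4, 5, 26, 4] 29) (9 * 8190) 8190 = true := by decide +kernel

end Cfsg.Agent.Lib.Helper1.Co1B
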