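import Mathlib
import Cfsg.Agent.Lib.Helper1.Co1B.QN9

set_option autoImplicit false
set_option maxRecDepth 100000

/-! The first Conway group on the 98280 pairs of minimal vectors: checks of the tables of the new letters of the second model, part 10. -/

namespace Cfsg.Agent.Lib.Helper1.Co1B

open Cfsg.Agent.Lib.Helper6.TC Cfsg.Agent.Lib.Helper6.PM Cfsg.Agent.Lib.Helper2.PMS
open Cfsg.Agent.Lib.Helper5.Chain Cfsg.Agent.Lib.Helper5.Srch Cfsg.Agent.Lib.Helper1.PMChk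

theorem newT_5_7 : rangeR (newF2 [26, 4, 5, 5, 4, 26, 5, 5, 27, 27, 4, 26, 1, 0, 28, 5, 29] 30) (7 * 8190) 8190 = true := by decide +kernel

theorem newT_5_8 : rangeR (newF2 [26, 4, 5, 5, 4, 26, 5, 5, 27, 27, 4, 26, 1, 0, 28, 5, 29] 30) (8 * 8190) 8190 = true := by decide +kernel

theorem newT_5_9 : rangeR (newF2 [26, 4, 5, 5, 4, 26, 5, 5, 27, 27, 4, 26, 1, 0, 28, 5, 29] 30) (9 * 8190) 8190 = true := by decide +kernel

theorem newT_5_10 : rangeR (newF2 [26, 4, 5, 5, 4, 26, 5, 5, 27, 27, 4, 26, 1, 0, 28, 5, 29] 30) (10 * 8190) 8190 = true := by decide +kernel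

theorem newT_5_11 : rangeR (newF2 [26, 4, 5, 5, 4, 26, 5, 5, 27, 27, 4, 26, 1, 0, 28, 5, 29] 30) (11 * 8190) 8190 = true := by decide +kernel

theorem chk_newT_5 : chkNew 98280 25 ds2 pm2 5 = true := by
  apply chkNew2_of_forall 5 30 [26, 4, 5, 5, 4, 26, 5, 5, 27, 27, 4, 26, 1, 0, 28, 5, 29] rfl rfl (by decide)
  apply forall_of_pieces _ 8190 12 98280 (by norm_num)
  intro j hj
  interval_cases j
  · exact newT_5_0
  · exact newT_5_1
  · exact newT_5_2
  · exact newT_5_3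
  · exact newT_5_4
  · exact newT_5_5
  · exact newT_5_6
  · exact newT_5_7
  · exact newT_5_8
  · exact newT_5_9
  · exact newT_5_10
  · exact newT_5_11

theorem newT_6_0 : rangeR (newF2 [28, 1, 29, 4, 5, 27, 0, 26, 26, 1, 1, 27, 0, 1, 1, 0, 27] 31) (0 * 8190) 8190 = true := by decide +kernel

theorem newT_6_1 : rangeR (newF2 [28, 1, 29, 4, 5, 27, 0, 26, 26, 1, 1, 27, 0, 1, 1, 0, 27] 31) (1 * 8190) 8190 = true := by decide +kernel

theorem newT_6_2 : rangeR (newF2 [28, 1, 29, 4, 5, 27, 0, 26, 26, 1, 1, 27, 0, 1, 1, 0, 27] 31) (2 * 8190) 8190 = true := by decide +kernel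

end Cfsg.Agent.Lib.Helper1.Co1B
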