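import Mathlib
import Cfsg.Agent.Lib.Helper1.Co1B.QN11

set_option autoImplicit false
set_option maxRecDepth 100000

/-! The first Conway group on the 98280 pairs of minimal vectors: checks of the tables of the new letters of the second model, part 12. -/

namespace Cfsg.Agent.Lib.Helper1.Co1B

open Cfsg.Agent.Lib.Helper6.TC Cfsg.Agent.Lib.Helper6.PM Cfsg.Agent.Lib.Helper2.PMS
open Cfsg.Agent.Lib.Helper5.Chain Cfsg.Agent.Lib.Helper5.Srch Cfsg.Agent.Lib.Helper1.PMChk

theorem newT_6_11 : rangeR (newF2 [28, 1, 29, 4, 5, 27, 0, 26, 26, 1, 1, 27, 0, 1, 1, 0, 27] 31) (11 * 8190) 8190 = true := by decide +kernel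

theorem chk_newT_6 : chkNew 98280 25 ds2 pm2 6 = true := by
  apply chkNew2_of_forall 6 31 [28, 1, 29, 4, 5, 27, 0, 26, 26, 1, 1, 27, 0, 1, 1, 0, 27] rfl rfl (by decide)
  apply forall_of_pieces _ 8190 12 98280 (by norm_num)
  intro j hj
  interval_cases j
  · exact newT_6_0
  · exact newT_6_1
  · exact newT_6_2
  · exact newT_6_3
  · exact newT_6_4
  · exact newT_6_5
  · exact newT_6_6
  · exact newT_6_7
  · exact newT_6_8
  · exact newT_6_9
  · exact newT_6_10
  · exact newT_6_11

end Cfsg.Agent.Lib.Helper1.Co1B
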