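import Mathlib
import Cfsg.Agent.Lib.Helper1.Co1B.QN12

set_option autoImplicit false
set_option maxRecDepth 100000

/-! The first Conway group on the 98280 pairs of minimal vectors: the second model, with 32 letters. -/

namespace Cfsg.Agent.Lib.Helper1.Co1B

open Cfsg.Agent.Lib.Helper6.TC Cfsg.Agent.Lib.Helper6.PM Cfsg.Agent.Lib.Helper2.PMS
open Cfsg.Agent.Lib.Helper5.Chain Cfsg.Agent.Lib.Helper5.Srch Cfsg.Agent.Lib.Helper1.PMChk

theorem chk_newT : chkRange (chkNew 98280 25 ds2 pm2) 0 ds2.length = true := by
  apply chkRange_of_forall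
  intro k _ hk
  have hk' : k < 7 := hk
  interval_cases k
  · exact chk_newT_0
  · exact chk_newT_1
  · exact chk_newT_2
  · exact chk_newT_3
  · exact chk_newT_4
  · exact chk_newT_5
  · exact chk_newT_6

theorem chk_slpT : chkSLP co1S.px co1S.n co1S.nl ds2 pm2 = true := by
  rw [co1S_nl]
  exact chkSLP_of_pieces pm 98280 25 ds2 pm2 chk_oldT chk_newT

/-- the model of the first Conway group with 32 letters: the strong generators, an involution
centralizing the element of order 11, and elements of the stabilizers of the first points -/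
noncomputable def co1T : PModel := slpModel co1S ds2 pm2 chk_slpT

theorem co1T_G : co1T.G = Cfsg.Spor.Co1 := rfl

theorem co1T_n : co1T.n = 98280 := rfl

theorem co1T_nl : co1T.nl = 32 := by
  have := slpModel_nl co1S ds2 pm2 chk_slpT
  rw [co1S_nl] at this
  exact this

theorem co1T_px : co1T.px = pm2 := rfl

theorem card_co1T : Nat.card co1T.G = 4157776806543360000 := card_Co1

end Cfsg.Agent.Lib.Helper1.Co1B
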