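import Mathlib
import Cfsg.Agent.Lib.Helper1.Co1B.QC

set_option autoImplicit false
set_option maxRecDepth 100000

/-! The first Conway group on the 98280 pairs of minimal vectors: the certificates of the searches and the data of the elimination. -/

namespace Cfsg.Agent.Lib.Helper1.Co1B

open Cfsg.Agent.Lib.Helper6.TC Cfsg.Agent.Lib.Helper6.PM Cfsg.Agent.Lib.Helper2.PMS
open Cfsg.Agent.Lib.Helper5.Srch

noncomputable section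

/-- the element of order 23 -/
def wp : List ℕ := [0]

/-- the element of order 11 normalizing it -/
def wh : List ℕ := [1]

/-- an involution centralizing the element of order 11 -/
def wv : List ℕ := [25]

/-- the centralizer of the element of order 23, piece 0 -/
def cCp_0 : Cert := Cert.rl [(23, (.badPow 2093 1))]

/-- the centralizer of the element of order 23, piece 1 -/
def cCp_1 : Cert := Cert.rl [(1, (.badPow 2093 1))]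

/-- the centralizer of the element of order 23, piece 2 -/
def cCp_2 : Cert := Cert.rl [(1986, (.badPow 2093 1))]

/-- the centralizer of the element of order 23, piece 3 -/
def cCp_3 : Cert := Cert.rl [(83, (.badPow 2093 1))]

/-- the centralizer of the element of order 23, piece 4 -/
def cCp_4 : Cert := Cert.rl [(1, (Cert.rl [(1, (.step [] (.step [] (.step [] (.step [] (.step [] (.done []))))))), (1, (.step [] (.step [] (.step [] (.step [] (.step [] (.done [0]))))))), (1, (.step [] (.step [] (.step [] (.step [] (.step [] (.done [0, 0]))))))), (1, (.step [] (.step [] (.step [] (.step [] (.step [] (.done [0, 0, 0]))))))), (1, (.step [5] (.step [] (.step [] (.step [] (.step [] (.done [0, 0, 0, 0]))))))), (1, (.step [5] (.step [] (.step [] (.step [] (.step [] (.done [0, 0, 0, 0, 0]))))))), (1, (.step [1, 1] (.step [] (.step []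 (.step [] (.step [] (.done [0, 0, 0, 0, 0, 0]))))))), (1, (.step [1, 1] (.step [] (.step [] (.step [] (.step [] (.done [0, 0, 0, 0, 0, 0, 0]))))))), (1, (.step [5, 5] (.step [] (.step [] (.step [] (.step [] (.done [0, 0, 0, 0, 0, 0, 0, 0]))))))), (1, (.step [1] (.step [] (.step [] (.step [] (.step [] (.done [0, 0, 0, 0, 0, 0, 0, 0, 0]))))))), (1, (.step [1] (.step [] (.step [] (.step [] (.step [] (.done [0, 0, 0, 0, 0, 0, 0, 0, 0, 0]))))))), (1, (.step [1] (.step [] (.step [] (.step [] (.step [] (.done [0, 0, 0, 0, 0, 0, 0, 0, 0, 0, 0]))))))), (1, (.step [1] (.step [] (.step [] (.step [] (.step [] (.done [0, 0, 0, 0, 0, 0, 0, 0, 0, 0, 0, 0]))))))), (1, (.step [1] (.step [] (.step [] (.step [] (.step [] (.done [0, 0, 0, 0, 0, 0, 0, 0, 0, 0, 0, 0, 0]))))))), (1, (.step [1] (.step [] (.step [] (.step [] (.step [] (.done [0, 0, 0,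 0, 0, 0, 0, 0, 0, 0, 0, 0, 0, 0]))))))), (1, (.step [5, 5] (.step [] (.step [] (.step [] (.step [] (.done [0, 0, 0, 0, 0, 0, 0, 0, 0, 0, 0, 0, 0, 0, 0]))))))), (1, (.step [28, 5, 28] (.step [28, 31, 31, 31, 1, 28, 5] (.step [5, 29, 1, 29, 5, 28, 28, 5, 28, 1, 31, 31] (.step [29, 31, 31, 28, 5, 30, 1, 31, 31, 29, 1, 28, 28, 30, 28, 30, 5, 5, 29] (.step [] (.done [0, 0, 0, 0, 0, 0, 0, 0, 0, 0, 0, 0, 0, 0, 0, 0]))))))), (1, (.step [1, 1] (.step [] (.step [] (.step [] (.step [] (.done [0, 0, 0, 0, 0, 0, 0, 0, 0, 0, 0, 0, 0, 0, 0, 0, 0]))))))), (1, (.step [1, 1] (.step [] (.step [] (.step [] (.step [] (.done [0, 0, 0, 0, 0, 0, 0, 0, 0, 0, 0, 0, 0, 0, 0, 0, 0, 0]))))))), (1, (.step [5] (.step [] (.step [] (.step [] (.step [] (.done [0, 0, 0, 0, 0, 0, 0, 0, 0, 0, 0, 0, 0, 0, 0, 0, 0, 0, 0]))))))), (1, (.step [] (.step [] (.step [] (.step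 [] (.step [] (.done [0, 0, 0, 0, 0, 0, 0, 0, 0, 0, 0, 0, 0, 0, 0, 0, 0, 0, 0, 0]))))))), (1, (.step [] (.step [] (.step [] (.step [] (.step [] (.done [0, 0, 0, 0, 0, 0, 0, 0, 0, 0, 0, 0, 0, 0, 0, 0, 0, 0, 0, 0, 0]))))))), (1, (.step [] (.step [] (.step [] (.step [] (.step [] (.done [0, 0, 0, 0, 0, 0, 0, 0, 0, 0, 0, 0, 0, 0, 0, 0, 0, 0, 0, 0, 0, 0]))))))), (1, (.step [1, 28, 1, 29, 31] (.step [28, 1, 28, 30, 5, 30, 1, 29] (.step [5, 29, 31, 29, 30, 5, 28, 5, 28, 5, 5] .fail)))), (1, (.step [5, 31, 5, 29] (.step [29, 1, 1, 1, 28, 5, 30, 29] (.step [29, 1, 28, 5, 28, 31, 31, 28, 1, 1, 31, 1, 30, 30, 5, 28] .fail)))), (1, (.step [5, 5, 31, 1] .fail)), (1, (.step [1, 29, 31, 1, 1] (.step [29, 5, 31, 1, 30, 1, 29, 31, 1] (.step [1, 31, 28, 5, 30, 1, 29, 5, 31, 1, 1, 29, 28, 29, 30] .fail)))), (1, (.step [28, 30, 29, 30, 1] (.step [5,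 29, 1, 30, 5, 29, 1, 1] (.step [30, 1, 1, 1, 31, 31, 31, 31, 1, 1, 30, 30] .fail)))), (4, .fail), (1, (.step [5, 5, 29, 29, 29] .fail)), (1, (.step [5, 5, 31, 1, 29] .fail)), (1, (.step [28, 1, 29, 31] .fail)), (1, (.step [1, 30, 28, 5, 31] .fail)), (1, (.step [5, 30, 28, 31, 28] .fail)), (1, (.step [29, 30, 29, 29] .fail)), (1, (.step [1, 1, 28, 30] (.step [5, 31, 28, 30, 1, 28, 1, 1] (.step [5, 29, 31, 31, 5, 31, 1, 28, 29, 29, 30, 1, 28, 30, 30] .fail)))), (1, (.step [5, 29, 1, 28, 28] .fail)), (1, (.step [29, 29, 31, 5] (.step [29, 5, 28, 1, 31, 1, 30, 29, 29] (.step [30, 28, 30, 5, 28, 1, 31, 29, 1, 28, 30, 28, 1, 1, 31, 29] .fail)))), (1, (.step [1, 30, 5, 31, 5] .fail)), (7, .fail), (1, (.step [1, 28, 31, 28, 30] (.step [29, 5, 29, 30, 30, 29, 5, 28] (.step [28, 31, 1, 29, 31, 31, 5, 30, 29, 28, 1, 1, 30, 1, 29, 5] .fail)))),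 (1, .fail), (1, (.step [1, 29, 29, 31, 28] .fail)), (9, .fail), (1, (.step [1, 30, 30, 30, 28] .fail)), (2, .fail), (1, (.step [29, 29, 31, 1] .fail)), (1, .fail), (1, (.step [28, 1, 29, 31] .fail)), (1, (.step [28, 1, 28, 1] .fail)), (3, .fail), (1, (.step [1, 29, 30, 30] .fail)), (1, .fail), (1, (.step [1, 31, 29, 1, 30] .fail)), (1, (.step [1, 1, 1, 28, 5] .fail)), (1, (.step [1, 1, 28, 31, 28] .fail)), (1, (.step [5, 29, 1, 31, 1] .fail)), (1, (.step [5, 28, 28, 1] .fail)), (1, (.step [28, 31, 1, 1, 1] (.step [5, 31, 28, 28, 1, 28, 31, 28] (.step [5, 5, 28, 28, 30, 1, 31, 31, 29, 1, 29, 29, 30, 1, 28] .fail)))), (2, .fail), (1, (.step [5, 31, 1] .fail)), (1, .fail), (1, (.step [28, 1, 1, 29] (.step [1, 1, 1, 30, 1, 29, 5, 5] (.step [28, 31, 1, 1, 29, 31, 31, 28, 28, 1, 29, 31, 31, 30] .fail)))), (5, .fail), (1, (.step [28,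 31, 29, 29] .fail)), (1, (.step [1, 30, 5, 31, 5] .fail)), (12, .fail), (1, (.step [29, 1, 31, 5, 30] (.step [1, 28, 28, 30, 29, 29, 29] (.step [31, 29, 31, 1, 29, 5, 31, 1, 5, 28, 5, 28] .fail)))), (9, .fail), (1, (.step [5, 30, 28, 1, 29] (.step [31, 30, 30] (.step [1, 28, 1, 28, 30, 28, 30, 30, 29, 29, 30, 1, 28, 28, 28, 5] .fail)))), (5, .fail), (1, (.step [28, 5] (.step [5, 5, 29, 1, 28, 31, 1] (.step [28, 31, 5, 31, 28, 30, 5, 29, 29, 5, 31, 1, 29, 5, 30, 28, 31] .fail)))), (1, .fail), (1, (.step [1, 29, 29, 31, 28] .fail)), (5, .fail), (1, (.step [1, 1, 30, 1, 28] .fail)), (6, .fail), (1, (.step [1, 31, 29, 1] (.step [1, 28, 30, 30, 30, 30, 1, 1] (.step [29, 31, 31, 28, 31, 29, 31, 29, 30, 1, 29, 1, 31, 31, 30] .fail)))), (12, .fail), (1, (.step [1, 1, 30, 30, 28] .fail)), (1, (.step [1, 30, 1, 1] .fail)), (3, .fail), (1,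 (.step [1, 28, 1, 31] .fail)), (6, .fail), (1, (.step [28, 31] .fail)), (1, .fail), (1, (.step [1, 31, 28, 30, 30] .fail)), (1, .fail), (1, (.step [1, 31] .fail)), (2, .fail), (1, (.step [29, 30, 30, 5] .fail)), (1, (.step [5, 28, 5, 29, 31] .fail)), (1, (.step [5, 31, 1, 1, 31] .fail)), (9, .fail), (1, (.step [1, 28, 31, 5, 29] (.step [31, 5, 29, 31, 28, 1, 28, 28] (.step [28, 28, 30, 30, 30, 1, 30, 30, 29, 5, 5, 29, 1, 28, 31, 1, 30] .fail)))), (1, .fail), (1, (.step [1, 29, 30, 30] .fail)), (4, .fail), (1, (.step [1, 1, 29, 5] .fail)), (5, .fail), (1, (.step [28, 31, 28, 5] .fail)), (1, (.step [1, 28, 1, 28] .fail)), (1, .fail), (1, (.step [5, 29, 1, 31, 1] .fail)), (1, .fail), (1, (.step [1, 29, 5, 5, 29] .fail)), (1, (.step [1, 28, 5, 29, 30, 30] (.step [1, 31, 5, 29, 29, 29, 1, 29] (.step [30, 1, 29, 30, 1, 30, 28, 31, 28]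 .fail)))), (1, (.step [1, 29, 1, 30] (.step [5, 29, 31, 28, 1, 28, 28] (.step [5, 31, 31, 5, 30, 5, 29, 1, 5, 5, 29, 5, 31, 29, 30, 1] .fail)))), (1, (.step [28, 30, 29, 30, 28] (.step [5, 5, 28, 5, 30, 29, 5, 29, 1] (.step [29, 29, 31, 1, 29, 1, 1, 29, 31, 5, 30, 30, 30] .fail)))), (1, (.step [1, 29, 30, 29] (.step [5, 5, 5, 29, 30, 30, 5, 28] (.step [1, 31, 28, 5, 30, 1, 29, 5, 31, 1, 1, 29, 28, 29, 30] .fail)))), (1, (.step [5, 28, 31, 5, 30] .fail)), (4, .fail), (1, (.step [1, 31, 28] .fail)), (1, (.step [28, 28, 31, 1] .fail)), (1, (.step [1, 28, 28, 28] .fail)), (1, (.step [5, 30, 28, 31, 28] .fail)), (1, (.step [1, 28, 31, 5, 28] .fail)), (1, (.step [28, 1, 30, 5] .fail)), (1, (.step [29, 1, 31, 1, 31] .fail)), (5, .fail), (1, (.step [1, 1, 29, 30, 1] (.step [1, 31, 5, 28, 30, 28, 30, 30, 29] (.step [5, 5, 5, 28, 31, 28,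 30, 1, 5, 30, 1, 1, 1, 31, 5] .fail)))), (1, .fail), (1, (.step [5, 28, 28] .fail)), (13, .fail), (1, (.step [28, 31, 29, 29] .fail)), (1, .fail), (1, (.step [1, 1, 30] .fail)), (1, (.step [1, 28, 1, 30, 29] .fail)), (1, (.step [1, 29, 29, 1, 30] .fail)), (8, .fail), (1, (.step [28, 31, 29, 29] .fail)), (9, .fail), (1, (.step [29, 31, 1, 1, 29] (.step [1, 28, 28, 30, 5, 29, 1] (.step [5, 5, 28, 28, 30, 1, 31, 31, 29, 1, 29, 29, 30, 1, 28] .fail)))), (9, .fail), (1, (.step [28, 5] (.step [5, 5, 29, 1, 28, 31, 1] (.step [28, 31, 5, 31, 28, 30, 5, 29, 29, 5, 31, 1, 29, 5, 30, 28, 31] .fail)))), (5, .fail), (1, (.step [1, 29, 29, 31, 28] .fail)), (4, .fail), (1, (.step [5, 29, 5, 28, 28] (.step [30, 1, 1, 29, 30, 28, 1, 28, 1] (.step [29, 1, 28, 28, 5, 5, 1, 29, 5, 31, 5, 30, 30, 30] .fail)))), (7, .fail), (1, (.step [1, 1, 30, 30,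 28] .fail)), (1, (.step [1, 28, 30, 30, 5, 29] .fail)), (7, .fail), (1, (.step [1] .fail)), (2, .fail), (1, (.step [5, 5, 5, 28, 30] .fail)), (1, (.step [5, 31, 1, 1, 31] .fail)), (6, .fail), (1, (.step [5, 28, 5, 29] (.step [28, 1, 29, 1, 30, 5, 30, 1, 1] (.step [28, 28, 28, 5, 29, 1, 31, 31, 31, 31] .fail)))), (11, .fail), (1, (.step [1, 28, 5, 29, 30, 30] (.step [1, 31, 5, 29, 29, 29, 1, 29] (.step [30, 1, 29, 30, 1, 30, 28, 31, 28] .fail)))), (1, (.step [28, 30, 29, 30, 28] (.step [5, 5, 28, 5, 30, 29, 5, 29, 1] (.step [29, 29, 31, 1, 29, 1, 1, 29, 31, 5, 30, 30, 30] .fail)))), (1, (.step [1, 29, 30, 29] (.step [5, 5, 5, 29, 30, 30, 5, 28] (.step [1, 31, 28, 5, 30, 1, 29, 5, 31, 1, 1, 29, 28, 29, 30] .fail)))), (1, (.step [28, 31, 5, 28, 30] .fail)), (2, .fail), (1, (.step [28, 28, 31, 1] .fail)), (1, (.step [1, 28, 28, 28]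 .fail)), (1, (.step [5, 30, 28, 31, 28] .fail)), (1, (.step [5, 28, 30, 5, 28] .fail)), (1, (.step [5, 28, 31, 28, 5] .fail)), (1, (.step [29, 1, 31, 1, 31] .fail)), (4, .fail), (1, (.step [1, 29, 31] .fail)), (10, .fail), (1, (.step [5, 30, 1, 30] .fail)), (1, (.step [28, 1, 28, 31] .fail)), (5, .fail), (1, (.step [28, 31, 1, 31, 31] .fail)), (7, .fail), (1, (.step [29, 1, 28, 30] (.step [28, 5, 29, 1, 29, 5, 29, 5] (.step [5, 29, 31, 28, 30, 29, 29, 5, 5, 31, 31, 5, 29, 29, 5] .fail)))), (5, .fail), (1, (.step [1, 31, 29, 1] (.step [1, 28, 30, 30, 30, 30, 1, 1] (.step [29, 31, 31, 28, 31, 29, 31, 29, 30, 1, 29, 1, 31, 31, 30] .fail)))), (3, .fail), (1, (.step [5, 29, 31, 1, 29] .fail)), (8, .fail), (1, (.step [1, 1, 30, 30, 28] .fail)), (1, (.step [1, 30, 5, 29, 1] .fail)), (4, .fail), (1, (.step [29, 1, 30, 5, 5] .fail)), (1,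 .fail), (1, (.step [1, 30, 1, 29] .fail)), (1, (.step [29, 31, 1, 30] .fail)), (9, .fail), (1, (.step [29, 31, 5, 29] (.step [30, 1, 30, 5, 5, 5, 31, 1] (.step [5, 5, 31, 31, 31, 31, 29, 5, 29, 5, 28, 31, 29, 31, 5] .fail)))), (1, (.step [1, 29, 30, 29] (.step [5, 5, 5, 29, 30, 30, 5, 28] (.step [1, 31, 28, 5, 30, 1, 29, 5, 31, 1, 1, 29, 28, 29, 30] .fail)))), (1, (.step [29, 30, 30, 5] .fail)), (1, .fail), (1, (.step [28, 28, 5, 28, 28] .fail)), (1, (.step [28, 1, 30, 1, 28] .fail)), (1, (.step [1, 30, 1, 1, 29] .fail)), (1, (.step [28, 5, 31] .fail)), (1, (.step [1, 29, 30, 28] .fail)), (3, .fail), (1, (.step [1, 29, 31] .fail)), (6, .fail), (1, (.step [28, 31, 31, 28, 30] .fail)), (3, .fail), (1, (.step [28, 31, 1, 31, 31] .fail)), (5, .fail), (1, (.step [29, 30, 30, 5] (.step [29, 1, 28, 28, 28, 31, 29] (.step [29, 5, 31,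 31, 31, 28, 28, 30, 30, 29, 1, 1, 31, 31, 30] .fail)))), (5, .fail), (1, (.step [29, 1, 28, 30] .fail)), (5, .fail), (1, (.step [1, 28, 5, 29, 5, 31] .fail)), (1, (.step [1, 30, 5, 29, 1] .fail)), (2, .fail), (1, (.step [1, 30, 30, 30, 28] .fail)), (1, (.step [28, 1, 28, 31] .fail)), (1, (.step [29, 31, 1, 30] .fail)), (4, .fail), (1, (.step [29, 31, 5, 29] (.step [30, 1, 30, 5, 5, 5, 31, 1] (.step [5, 5, 31, 31, 31, 31, 29, 5, 29, 5, 28, 31, 29, 31, 5] .fail)))), (1, (.step [1, 29, 30, 29] (.step [5, 5, 5, 29, 30, 30, 5, 28] (.step [1, 31, 28, 5, 30, 1, 29, 5, 31, 1, 1, 29, 28, 29, 30] .fail)))), (1, (.step [29, 30, 30, 5] .fail)), (1, .fail), (1, (.step [28, 5, 30, 1, 31] .fail)), (1, (.step [29, 31, 31] .fail)), (1, (.step [5, 31, 1, 1, 31] .fail)), (2, .fail), (1, (.step [1, 29, 31] .fail)), (6, .fail), (1, (.step [1, 29,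 31, 1, 31] .fail)), (3, .fail), (1, (.step [28, 5, 31] (.step [30, 29, 30, 1, 31, 1, 1, 29, 29] (.step [28, 1, 28, 31, 5, 30, 29, 1, 31, 31, 5, 5, 30, 30] .fail)))), (6, .fail), (1, (.step [1, 30, 5, 29, 1] .fail)), (1, .fail), (1, (.step [5, 28, 30, 29, 31] .fail)), (1, (.step [28, 1, 28, 31] .fail)), (2, .fail), (1, (.step [29, 29, 5] (.step [28, 1, 1, 31, 29, 31, 29] (.step [5, 28, 28, 30, 29, 29, 31, 5, 31, 28, 31, 31, 30] .fail)))), (1, (.step [1, 29, 30, 29] (.step [5, 5, 5, 29, 30, 30, 5, 28] (.step [1, 31, 28, 5, 30, 1, 29, 5, 31, 1, 1, 29, 28, 29, 30] .fail)))), (1, .fail), (1, (.step [28, 5, 30, 1, 31] .fail)), (1, .fail), (1, (.step [1, 28, 1, 31, 5] .fail)), (5, .fail), (1, (.step [28, 28, 1] .fail)), (1, .fail), (1, (.step [29, 29, 5] (.step [5, 29, 1, 28, 5, 28, 28, 28] (.step [29, 1, 30, 29, 29, 5, 29, 29, 1, 5,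 5, 29, 1, 28, 31, 1] .fail)))), (3, .fail), (1, (.step [1, 30, 5, 29, 1] .fail)), (1, (.step [1, 30, 30, 30] .fail)), (1, (.step [28, 28, 31, 5, 29] .fail)), (1, .fail), (1, (.step [29, 31, 29, 31] (.step [5, 29, 5, 29, 31, 28, 5, 5] (.step [1, 29, 31, 29, 29, 31, 28, 5, 29, 31, 5, 28, 29, 30] .fail)))), (1, .fail), (1, (.step [28, 31, 28, 5] .fail)), (3, .fail), (1, (.step [5, 28, 31, 29] .fail)), (1, (.step [1, 30, 1, 30, 30, 30] (.step [31, 29, 31, 5, 30, 28, 28, 5, 29] (.step [28, 31, 29, 1, 31, 28, 31, 31, 5] .fail)))), (2, .fail), (1, (.step [29, 1, 31, 5, 30] .fail)), (1, (.step [1, 30, 1, 29] .fail)), (1, (.step [29, 31, 29, 31] (.step [5, 29, 5, 29, 31, 28, 5, 5] (.step [1, 29, 31, 29, 29, 31, 28, 5, 29, 31, 5, 28, 29, 30] .fail)))), (1, (.step [28, 31, 28, 5] .fail)), (1, .fail), (1, (.step [5, 29] .fail)), (1, (.step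 [1, 28, 1, 31, 5] (.step [1, 31, 31, 5, 5, 30, 30, 29, 29] (.step [28, 28, 1, 28, 31, 28, 1, 1, 28, 1, 1, 28, 1, 31, 28] .fail)))), (1, .fail), (1, (.step [1, 29, 5, 5, 29] .fail)), (1, (.step [5, 31, 28, 1, 29] (.step [31, 31, 29, 5, 31, 28, 28] (.step [28, 30, 29, 31, 5, 31, 28, 1, 5, 29, 29, 30, 30, 5] .fail)))), (1, (.step [1, 28, 1, 31, 5] (.step [1, 31, 31, 5, 5, 30, 30, 29, 29] (.step [28, 28, 1, 28, 31, 28, 1, 1, 28, 1, 1, 28, 1, 31, 28] .fail)))), (1, (.step [1, 29, 5, 5, 29] .fail)), (1, (.step [28, 1, 30, 5] (.step [31, 1, 1, 1, 30, 30, 29, 5] (.step [1, 1, 31, 1, 28, 1, 1, 1, 28, 30, 28, 1, 1, 31, 29] .fail)))), (2, (.step [1, 28, 1, 31, 5] (.step [1, 31, 31, 5, 5, 30, 30, 29, 29] (.step [28, 28, 1, 28, 31, 28, 1, 1, 28, 1, 1, 28, 1, 31, 28] .fail)))), (1, (.step [5, 30, 1] .fail)), (1, .fail), (1, (.step [28, 5, 30,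 1, 28] (.step [28, 30, 5, 5, 30, 5, 5, 29] .fail))), (3, .fail), (1, (.step [5, 5, 30, 5, 31] .fail)), (4, .fail), (1, (.step [5, 28, 1, 1, 31] .fail)), (1, (.step [1, 29, 1, 31, 5] .fail)), (1, .fail), (1, (.step [5, 30, 5, 5] .fail)), (3, .fail), (1, (.step [1, 28, 30, 29, 30] .fail)), (9, .fail), (1, (.step [28, 28, 5] (.step [28, 5, 30, 5, 30, 1, 1, 29] .fail))), (11, .fail), (1, (.step [5, 31, 28, 1] .fail)), (14, .fail), (1, (.step [28, 31, 5, 28] .fail)), (21, .fail), (1, (.step [28, 30, 1, 30] .fail)), (1, (.step [5, 28, 28, 31, 31] (.step [31, 5, 31, 1, 29, 29, 29, 30, 28] .fail))), (2, .fail), (1, (.step [5, 5, 30, 5, 31] .fail)), (1, .fail), (1, (.step [1, 1, 30, 1, 28] .fail)), (1, (.step [1, 1, 29, 1, 28] .fail)), (1, (.step [5, 30, 5, 5] .fail)), (2, .fail), (1, (.step [1, 30, 28, 1, 31] .fail)), (7, .fail), (1,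 (.step [1, 31, 31, 31, 31] (.step [5, 5, 29, 31, 1, 29, 1] .fail))), (8, .fail), (1, (.step [5, 29, 31, 5] .fail)), (10, .fail), (1, (.step [5, 28, 5, 29, 31] .fail)), (16, .fail), (1, (.step [5, 5, 28, 5] (.step [30, 1, 30, 5, 5, 5, 31, 1] .fail))), (1, (.step [1, 28, 1, 30, 29] .fail)), (1, .fail), (1, (.step [29, 29, 31, 5] .fail)), (1, (.step [1, 1, 29, 1, 28] .fail)), (1, (.step [5, 30, 5, 5] .fail)), (1, .fail), (1, (.step [1, 31, 28, 5] .fail)), (5, .fail), (1, (.step [28, 5, 5, 31] (.step [30, 29, 29, 30, 1, 28] .fail))), (13, .fail), (1, (.step [5, 28, 5, 29, 31] .fail)), (12, .fail), (1, (.step [1, 28, 31, 5, 31, 28] .fail)), (1, .fail), (1, (.step [28, 5, 31, 28] .fail)), (1, .fail), (1, (.step [1, 1, 28, 30, 28, 30] .fail)), (3, .fail), (1, (.step [5, 28, 28, 28, 1] (.step [5, 5, 5, 29, 31, 29, 30, 30, 28] .fail))),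 (9, .fail), (1, (.step [5, 28, 5, 29, 31] .fail)), (9, .fail), (1, (.step [5, 30, 28, 28] .fail)), (1, (.step [1, 29, 5, 28, 28] .fail)), (1, .fail), (1, (.step [1, 30, 28, 31, 29] .fail)), (1, .fail), (1, (.step [5, 28, 28, 28, 1] (.step [5, 5, 5, 29, 31, 29, 30, 30, 28] .fail))), (6, .fail), (1, (.step [5, 28, 5, 29, 31] .fail)), (6, .fail), (1, (.step [5, 30, 28, 28] .fail)), (1, .fail), (1, (.step [5, 28, 28, 28, 1] (.step [5, 5, 5, 29, 31, 29, 30, 30, 28] .fail))), (4, .fail), (1, (.step [5, 28, 5, 29, 31] .fail)), (5, .fail), (1, (.step [5, 5, 29, 30, 1] .fail)), (3, .fail), (1, (.step [29, 31, 31, 29] .fail)), (3, .fail), (1, (.step [1, 31, 28, 31] .fail)), (2, .fail), (1, (.step [5, 31, 5, 29] .fail)), (2, .fail), (1, (.step [5, 31, 5] .fail)), (9, .fail), (1, (.step [5, 28, 30, 29, 31] .fail)), (1, (.step [28, 5, 30,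 29] .fail)), (4, .fail), (1, (.step [1, 1, 30] .fail)), (1, (.step [1, 29, 29, 5, 31] .fail)), (10, .fail), (1, (.step [1, 31, 1, 29, 30] .fail)), (1, (.step [1, 28, 1, 30] .fail)), (11, .fail), (1, (.step [1, 28, 31, 28, 30, 5] (.step [31, 28, 29] .fail))), (1, (.step [1, 28, 31, 28] (.step [1, 1, 30, 30, 30, 29, 5, 29, 5] .fail))), (3, .fail), (1, (.step [1, 31, 1, 29, 30] .fail)), (1, (.step [1, 1, 28, 31, 5] .fail)), (23, .fail), (1, (.step [28, 1, 28, 30, 30] (.step [31, 31, 1, 31, 5, 5, 29, 5] .fail))), (1, (.step [5, 31, 5, 28] (.step [1, 31, 28, 28, 28, 5, 31, 29, 29] .fail))), (3, .fail), (1, (.step [28, 31, 28, 30] .fail)), (1, (.step [28, 5, 30, 29] .fail)), (31, .fail), (1, (.step [1, 31, 31, 31, 31] (.step [30, 29, 29, 29, 31, 29, 31, 1] .fail))), (1, (.step [29, 5, 30, 30, 1] (.step [29, 31, 31, 31, 29, 30, 28] .fail))),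 (5, .fail), (1, (.step [5, 29, 31, 5] .fail)), (1, (.step [5, 28, 28, 30] .fail)), (3, .fail), (1, (.step [1, 1, 31, 29, 1] .fail)), (1, (.step [1, 1, 28, 31, 5] .fail)), (1, (.step [5, 28, 28, 5, 28] .fail)), (10, .fail), (1, (.step [5, 30, 29, 1] (.step [5, 30, 28, 5, 29, 5, 5, 5, 28, 5] .fail))), (16, .fail), (1, (.step [1, 1, 30, 30] .fail)), (25, .fail), (1, (.step [5, 29, 5, 5, 30] (.step [5, 31, 29, 30, 29, 1, 1, 1] .fail))), (1, (.step [28, 28, 1, 31] (.step [1, 1, 30, 30, 30, 29, 5, 29, 5] .fail))), (3, .fail), (1, (.step [28, 5, 30, 1, 31] .fail)), (3, .fail), (1, (.step [5, 29, 31, 5] .fail)), (1, (.step [1, 29, 1, 30] .fail)), (3, .fail), (1, (.step [29, 1, 1] .fail)), (3, .fail), (1, (.step [5, 29, 31, 29] .fail)), (1, (.step [28, 1, 29, 31] .fail)), (1, (.step [5, 28, 30, 1, 1] .fail)), (2, .fail), (1, (.step [29,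 31, 31, 29, 5] .fail)), (1, (.step [5, 28, 28, 5, 28] .fail)), (12, .fail), (1, (.step [5, 30, 29, 1] (.step [5, 30, 28, 5, 29, 5, 5, 5, 28, 5] .fail))), (14, .fail), (1, (.step [29, 29, 29, 5] .fail)), (12, .fail), (1, (.step [1, 29, 1, 29] .fail)), (8, .fail), (1, (.step [1, 30, 1, 28] .fail)), (34, .fail), (1, (.step [5, 29, 5, 5, 30] (.step [5, 31, 29, 30, 29, 1, 1, 1] .fail))), (1, (.step [28, 28, 1, 31] (.step [1, 1, 30, 30, 30, 29, 5, 29, 5] .fail))), (3, .fail), (1, (.step [28, 5, 30, 1, 31] .fail)), (4, .fail), (1, (.step [5, 5, 31, 5, 31] .fail)), (1, (.step [1, 1, 28, 1, 31] .fail)), (2, .fail), (1, (.step [5, 29, 31, 5] .fail)), (1, (.step [5, 29, 1, 29] .fail)), (3, .fail), (1, (.step [1, 1, 30, 30] .fail)), (3, .fail), (1, (.step [1, 1, 31, 28, 5] .fail)), (1, (.step [1, 1, 31, 29, 30] .fail)), (1, (.step [28, 31,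 1, 1, 28] .fail)), (2, .fail), (1, (.step [5, 28, 31, 28] .fail)), (1, (.step [5, 29, 5, 28, 28] .fail)), (17, .fail), (1, (.step [1, 30, 28, 5, 30] (.step [28, 30, 29, 29, 29, 5, 28] .fail))), (23, .fail), (1, (.step [28, 31, 1, 1, 1] .fail)), (12, .fail), (1, (.step [5, 28, 31, 31, 31] .fail)), (19, .fail), (1, (.step [1, 31, 29, 30] .fail)), (48, .fail), (1, (.step [5, 28, 1] (.step [5, 5, 31, 29, 29, 1, 1, 30, 29] .fail))), (1, (.step [29, 29, 29, 29, 30] (.step [30, 1, 1, 29, 30, 28, 1, 28, 1] .fail))), (5, .fail), (1, (.step [28, 5, 30, 1, 31] .fail)), (5, .fail), (1, (.step [1, 28, 5, 30, 28, 30] .fail)), (1, (.step [29, 1, 31] .fail)), (6, .fail), (1, (.step [5, 5, 31, 28, 5] .fail)), (1, (.step [5, 29, 1, 29] .fail)), (3, .fail), (1, (.step [1, 28, 1, 30, 28] .fail)), (7, .fail), (1, (.step [1, 30, 29, 31, 28] .fail)),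 (1, (.step [28, 31, 5] .fail)), (1, (.step [1, 1, 31, 29, 30] .fail)), (1, (.step [1, 31, 31] .fail)), (2, .fail), (1, (.step [1, 29, 1] .fail)), (1, (.step [5, 29, 1, 31, 1] .fail)), (2, .fail), (1, (.step [1, 30, 29, 31] .fail)), (23, .fail), (1, (.step [1, 30, 28, 5, 30] (.step [28, 30, 29, 29, 29, 5, 28] .fail))), (10, .fail), (1, (.step [29, 1, 30, 1, 1] .fail)), (6, .fail), (1, (.step [29, 31, 5, 29] .fail)), (4, .fail), (1, (.step [1, 28, 30, 29] (.step [29, 31, 28, 30, 30, 30, 28] .fail))), (13, .fail), (1, (.step [1, 28, 30, 28, 30] .fail)), (3, .fail), (1, (.step [1, 28, 30, 29] .fail)), (16, .fail), (1, (.step [28, 5, 5, 5] .fail)), (30, .fail), (1, (.step [1, 1, 28, 1] .fail)), (67, .fail), (1, (.step [5, 29, 5, 5, 30] (.step [5, 31, 29, 30, 29, 1, 1, 1] .fail))), (1, (.step [29, 29, 29, 29, 30] (.step [30, 1, 1, 29,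 30, 28, 1, 28, 1] .fail))), (6, .fail), (1, (.step [28, 5, 30, 1, 31] .fail)), (4, .fail), (1, (.step [5, 5, 30, 1, 30] .fail)), (6, .fail), (1, (.step [1, 31, 29, 5] .fail)), (1, (.step [1, 29, 31, 28, 31] .fail)), (10, .fail), (1, (.step [5, 5, 31, 28, 5] .fail)), (1, (.step [1, 31, 29, 31, 5] .fail)), (3, .fail), (1, (.step [1, 1, 31, 29, 30] .fail)), (11, .fail), (1, (.step [5, 31, 5, 29] .fail)), (1, (.step [1, 28, 1, 28, 28] .fail)), (1, (.step [28, 31, 31, 28] .fail)), (1, (.step [1, 31, 31] .fail)), (2, .fail), (1, (.step [1, 30, 1, 1] .fail)), (1, (.step [29, 29, 29] .fail)), (2, .fail), (1, (.step [1, 1, 30, 30, 5] .fail)), (18, .fail), (1, (.step [1, 28, 5, 29, 31] .fail)), (11, .fail), (1, (.step [5, 5, 28, 30] (.step [28, 1, 31, 1, 29, 29, 5, 5] .fail))), (15, .fail), (1, (.step [5, 5, 31] .fail)), (9, .fail), (1,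 (.step [29, 31, 5, 29] .fail)), (5, .fail), (1, (.step [5, 31, 28, 1] .fail)), (4, .fail), (1, (.step [29, 31, 29, 31] (.step [28, 1, 29, 29, 5, 28, 30, 1] .fail))), (23, .fail), (1, (.step [1, 1, 28, 30, 29] .fail)), (3, .fail), (1, (.step [28, 30, 1, 30, 30] .fail)), (21, .fail), (1, (.step [1, 1, 28, 1, 31, 31] .fail)), (43, .fail), (1, (.step [1, 28, 28] .fail)), (94, .fail), (1, (.step [28, 1, 28, 5] (.step [28, 1, 30, 1, 30, 1, 29, 29] .fail))), (1, (.step [5, 28, 28, 28, 1] (.step [28, 28, 28, 1, 29, 5, 30, 28, 28] .fail))), (7, .fail), (1, (.step [5, 5, 30, 5] .fail)), (6, .fail), (1, (.step [5, 5, 30, 1, 30] .fail)), (11, .fail), (1, (.step [28, 30, 29, 30, 28] .fail)), (1, (.step [5, 29, 5, 30] .fail)), (14, .fail), (1, (.step [5, 30, 30, 1] .fail)), (1, (.step [29, 30, 1] .fail)), (4, .fail), (1, (.step [29, 5, 5] .fail)),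 (1, (.step [1, 31, 1, 29, 30] .fail)), (13, .fail), (1, (.step [29, 31, 29, 30] .fail)), (1, .fail), (1, (.step [1, 1, 28, 31] .fail)), (1, (.step [5, 28, 28, 31] .fail)), (1, (.step [29, 31, 5] .fail)), (2, .fail), (1, (.step [5, 29, 31, 31] .fail)), (1, (.step [5, 5, 29, 30, 30] .fail)), (2, .fail), (1, (.step [29, 30, 28] .fail)), (2, .fail), (1, (.step [1, 1, 30, 28, 31] (.step [5, 28, 31, 5, 28, 1, 28, 28, 5] .fail))), (1, (.step [5, 29, 30, 5] (.step [31, 31] .fail))), (1, (.step [29, 1, 29, 1] .fail)), (21, .fail), (1, (.step [5, 5, 31, 1, 29] .fail)), (8, .fail), (1, (.step [5, 29, 31, 5] .fail)), (6, .fail), (1, (.step [1, 1, 29, 1, 29] (.step [31, 28, 28, 31, 1, 30, 1, 30, 29] .fail))), (1, (.step [1, 1, 29, 1, 28] .fail)), (1, (.step [5, 30, 5, 5] .fail)), (18, .fail), (1, (.step [1, 31, 1, 31, 31] .fail)), (1, (.step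 [28, 28, 30] .fail)), (5, .fail), (1, (.step [5, 28, 28, 5, 28] (.step [28, 1, 28, 30, 28, 30, 5, 31, 5] .fail))), (6, .fail), (1, (.step [28, 1, 30, 5] .fail)), (1, .fail), (1, (.step [29, 1, 28] .fail)), (6, .fail), (1, (.step [5, 28, 30, 29, 31] .fail)), (9, .fail), (1, (.step [1, 1, 31, 29, 30] (.step [31, 31, 5, 29, 29, 30, 30, 5] .fail))), (22, .fail), (1, (.step [5, 28, 31, 5, 30] .fail)), (1, (.step [1, 1, 31] .fail)), (3, .fail), (1, (.step [5, 30, 29, 1] (.step [5, 30, 28, 5, 29, 5, 5, 5, 28, 5] .fail))), (7, .fail), (1, (.step [1, 1, 30, 30] .fail)), (7, .fail), (1, (.step [28, 5, 30, 1] .fail)), (3, .fail), (1, (.step [1, 30, 29] .fail)), (9, .fail), (1, (.step [28, 5, 30] .fail)), (21, .fail), (1, (.step [1, 29, 5, 28, 28] .fail)), (42, .fail), (1, (.step [28, 31, 31, 28] .fail)), (1, (.step [5, 5, 31, 28, 5] .fail)),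 (10, .fail), (1, (.step [29, 30, 30, 5] .fail)), (1, .fail), (1, (.step [5, 28, 31, 28, 5] .fail)), (6, .fail), (1, (.step [5, 28, 5] .fail)), (31, .fail), (1, (.step [5, 5, 30, 1, 30] .fail)), (13, .fail), (1, (.step [5, 31, 29] .fail)), (70, .fail), (1, (.step [1, 31, 1, 29, 30] .fail)), (2, .fail), (1, (.step [29, 31, 1, 30] (.step [5, 28, 1, 31, 29, 29, 5] .fail))), (1, (.step [5, 30, 29, 31, 29] (.step [28, 1, 31, 28, 5, 28, 30, 1, 1] .fail))), (7, .fail), (1, (.step [5, 29, 31, 5] .fail)), (1, .fail), (1, (.step [5, 5, 30, 5] .fail)), (1, (.step [5, 30, 30, 30] .fail)), (3, .fail), (1, (.step [5, 5, 5, 5, 28] .fail)), (2, .fail), (1, (.step [5, 29, 1, 31, 1] (.step [30, 5, 29, 29, 30, 30, 5] .fail))), (1, .fail), (1, (.step [5, 5, 30, 1, 30] .fail)), (11, .fail), (1, (.step [1, 29, 31] .fail)), (1, (.step [1, 1, 31] .fail)),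 (1, (.step [1, 30, 1, 30, 1] (.step [1, 29, 31, 31, 31, 31, 5, 28] .fail))), (4, .fail), (1, (.step [1, 1, 30, 30] .fail)), (5, .fail), (1, (.step [28, 5, 30] .fail)), (10, .fail), (1, (.step [1, 1, 31, 29, 30] .fail)), (1, (.step [29, 31, 31, 28] .fail)), (1, .fail), (1, (.step [1, 1, 28, 31, 1] .fail)), (3, .fail), (1, (.step [29, 5, 5] .fail)), (3, .fail), (1, (.step [5, 5, 30, 1, 30] .fail)), (3, .fail), (1, (.step [5, 31, 29] .fail)), (13, .fail), (1, (.step [28, 30, 28] .fail)), (1, .fail), (1, (.step [5, 5, 28, 28] .fail)), (1, (.step [5, 28, 28, 31] .fail)), (1, (.step [5, 5, 5, 28] .fail)), (1, (.step [29, 30, 5, 31] (.step [30, 29, 5, 31, 28, 28] .fail))), (1, (.step [1, 30, 1, 30, 1] (.step [1, 29, 31, 31, 31, 31, 5, 28] .fail))), (1, (.step [1, 1, 30, 30] .fail)), (3, .fail), (1, (.step [28, 5, 30] .fail)), (1, (.step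 [1, 30, 1, 1, 31] .fail)), (2, .fail), (1, (.step [5, 29, 31, 1, 28] .fail)), (2, .fail), (1, (.step [29, 1, 31] (.step [31, 5, 29, 29, 30, 30, 5] .fail))), (1, (.step [1, 29, 29, 30, 29] (.step [28, 1, 31, 1, 29, 29, 5, 5] .fail))), (1, (.step [1, 31, 28, 30, 29] .fail)), (1, (.step [29, 1, 30, 1, 1] (.step [29, 1, 28, 28, 28, 31, 29] (.step [5, 29, 29, 30, 30, 5, 31, 28, 29, 29, 31, 28, 30, 30, 30, 28] (.step [30, 28, 28, 5, 31, 29, 5, 5, 31, 29, 1, 1, 30, 30, 31, 28, 29, 29, 1, 29, 31, 28, 5, 31, 28, 28, 5] .fail))))), (1, (.step [29, 5, 28, 1] (.step [28, 5, 31, 1, 31, 29, 5, 29] (.step [31, 28, 1, 31, 30, 1, 31, 29, 31, 29, 31, 31, 30] (.step [28, 30, 30, 29, 1, 28, 1, 1, 1, 1, 28, 1, 1, 1, 30, 1, 28, 28, 28, 28, 28, 28, 31, 31, 1, 28, 28] .fail))))), (1, (.step [5, 30, 1, 31] (.step [28, 1, 28, 30, 28, 30, 5, 31, 5] (.step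 [5, 30, 30, 5, 30, 30, 29, 1, 28, 30, 28, 30, 5, 5, 29] (.step [29, 31, 5, 29, 31, 31, 28, 31, 28, 29, 30, 29, 5, 29, 29, 30, 1, 30, 30, 30, 28, 28, 1, 31, 31, 1, 31, 5, 28] .fail))))), (1, (.step [5, 29, 31, 29, 30] (.step [31, 28, 31, 31, 31, 1, 28, 5] (.step [28, 28, 1, 28, 31, 28, 1, 1, 28, 1, 1, 28, 1, 31, 28] (.step [31, 29, 30, 1, 30, 5, 30, 1, 1, 29, 5, 28, 1, 1, 31, 29, 31, 29, 30, 30, 30, 30, 5, 28, 1, 29, 29, 29] .fail))))), (1, (.step [5, 30, 1, 30, 29] (.step [5, 28, 1, 30, 30, 29, 30, 5] (.step [29, 1, 30, 30, 28, 31, 5, 31, 29, 29, 31, 5] (.step [5, 28, 31, 31, 1, 31, 31, 1, 28, 28, 1, 29, 1, 31, 1, 1, 31, 31, 1, 30, 1, 28, 5, 29, 1, 28, 30, 29] .fail))))), (1, (.step [1, 1, 29, 31, 28] (.step [31, 1, 28, 28, 1, 30, 30, 1] (.step [5, 1, 29, 5, 31, 5, 28, 30, 5, 30, 5, 28, 1, 30, 30] (.step [1, 28, 5, 5, 31, 5, 30,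 28, 30, 1, 29, 29, 30, 1, 28, 31, 31, 31, 5, 31, 5, 31, 31, 28, 1, 1, 29] .fail))))), (1, (.step [28, 31, 1, 1] (.step [31, 29, 31, 28, 30, 30, 30, 28] (.step [5, 31, 31, 5, 30, 5, 29, 1, 5, 5, 29, 5, 31, 29, 30, 1] (.step [1, 31, 28, 5, 29, 31, 31, 1, 29, 1, 1, 28, 30, 28, 30, 5, 5, 29, 31, 31, 5, 29, 1, 1, 1, 1, 31, 28] .fail))))), (1, (.step [5, 30, 29] (.step [28, 30, 1, 31, 29, 29, 31, 1] (.step [31, 29, 31, 1, 29, 5, 31, 1, 5, 28, 5, 28] (.step [5, 5, 30, 30, 29, 29, 29, 29, 1, 29, 1, 28, 28, 5, 31, 5, 31, 5, 29] .fail))))), (1, (.step [28, 30, 29] (.step [5, 28, 1, 29, 29, 29] (.step [29, 1, 31, 31, 28, 1, 1, 1, 5, 28, 5, 30, 28, 1, 1] (.step [5, 28, 30, 1, 29, 29, 1, 31, 1, 30, 29, 29, 29, 29, 5, 31, 5, 28, 5, 28, 1, 30, 30, 29, 30, 5, 28, 30, 29] .fail))))), (1, (.step [5, 28, 28, 5] (.step [1, 1, 30, 30, 29, 5, 30, 5]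 (.step [5, 28, 5, 29, 29, 28, 30, 30, 29, 5, 31, 29, 31, 31] (.step [29, 31, 5, 29, 31, 31, 28, 31, 28, 29, 30, 29, 5, 29, 29, 30, 1, 30, 30, 30, 28, 28, 1, 31, 31, 1, 31, 5, 28] .fail))))), (1, (.step [29, 31, 5, 29] (.step [1, 31, 28, 5, 30, 5, 29, 30, 28] (.step [30, 1, 30, 28, 5, 28, 30, 1, 31, 5, 28, 29, 30] (.step [30, 28, 31, 31, 30, 5, 29, 1, 1, 29, 29, 1, 5, 28, 30, 5, 29, 1, 31, 29, 5, 31, 31, 31, 1, 28, 1, 1, 30] .fail))))), (1, (.step [5, 5, 28, 28, 31] (.step [29, 30, 1, 31, 1, 1, 29, 29] (.step [1, 1, 28, 28, 5, 30, 5, 29, 1, 28, 28, 30, 5, 29, 1] (.step [28, 1, 31, 31, 1, 30, 30, 5, 5, 30, 29, 30, 28, 1, 1, 28, 31, 31, 1, 1, 1, 28, 1, 28, 31, 28, 1, 28] .fail))))), (1, (.step [1, 30, 30, 1] (.step [1, 28, 28, 31, 1, 28, 28] (.step [29, 1, 30, 5, 30, 30, 5, 29, 29, 31, 31, 31] (.step [1, 30, 28, 29, 30, 29, 30, 5,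 28, 30, 29, 31, 28, 29, 5, 31, 29, 31, 5, 28, 30, 30, 1, 30, 28] .fail))))), (1, (.step [1, 30, 5, 31, 5] (.step [29, 5, 5, 29, 31, 28, 31, 1] (.step [29, 5, 29, 30, 29, 5, 29, 5, 5, 5, 30, 30] (.step [29, 29, 29, 30, 28, 5, 28, 5, 29, 31, 1, 30, 30, 29, 29, 5, 30, 5, 1, 30, 29, 29, 29] .fail))))), (1, (.step [28, 5, 30, 1] (.step [29, 29, 5, 30, 1, 30, 30, 1] (.step [5, 28, 28, 30, 29, 29, 31, 5, 31, 28, 31, 31, 30] (.step [29, 31, 31, 28, 5, 30, 1, 31, 31, 29, 1, 28, 28, 30, 28, 30, 5, 5, 29] .fail))))), (2, (.step [1, 31, 28, 30] (.step [30, 1, 29, 5, 30, 30, 30, 29] (.step [30, 31, 1, 30, 30, 28, 5, 5, 5, 29, 1, 28, 31, 31, 31] (.step [1, 28, 29, 30, 29, 30, 30, 30, 30, 29, 31, 28, 5, 31, 31, 31, 31, 28, 29, 5, 5, 29, 5, 30, 30, 30, 1] .fail))))), (1, (.step [28, 1, 28, 30] (.step [1, 30, 28, 30, 29, 1, 28] (.step [29, 29,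 5, 31, 5, 29, 29, 5, 5, 28, 31, 31, 31] (.step [29, 29, 29, 30, 28, 5, 28, 5, 29, 31, 1, 30, 30, 29, 29, 5, 30, 5, 1, 30, 29, 29, 29] .fail))))), (1, (.step [1, 30, 28, 5] .fail)), (1, (.step [28, 5, 30, 1, 31] (.step [29, 1, 30, 1, 29, 29, 31, 28, 1] .fail))), (1, (.step [5, 28, 5, 29, 30] (.step [30, 1, 28, 31, 1, 29, 5, 5] .fail))), (1, (.step [29, 29, 5, 28] (.step [31, 29, 29, 5, 29, 30, 28, 1] (.step [29, 29, 5, 30, 30, 29, 28, 5, 29, 1, 31, 31, 31, 31] (.step [28, 1, 30, 29, 29, 1, 29, 31, 1, 1, 1, 29, 30, 28, 1, 28, 1, 31, 31, 5, 29, 31, 5, 31, 28, 1, 1, 1, 29] .fail))))), (2, .fail), (1, (.step [28, 31, 5, 5, 30] .fail)), (2, .fail), (1, (.step [5, 5, 29, 30] .fail)), (1, (.step [1, 31, 31, 31, 5] .fail)), (3, .fail), (1, (.step [5, 5, 30, 28] .fail)), (1, (.step [1, 28, 30, 29, 30] (.step [30, 1, 28, 31, 1, 29, 5, 5]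 .fail))), (1, (.step [29, 5, 29] (.step [] .fail))), (1, (.step [29, 5, 29, 31] .fail)), (1, (.step [1, 29, 29, 30] .fail)), (1, (.step [28, 31, 1, 31, 31] .fail)), (1, (.step [29, 5, 30] (.step [28, 30, 28, 31, 29, 5, 28, 28] (.step [31, 1, 1, 29, 1, 31, 1, 1, 28, 28, 5, 31, 5, 30, 30, 5] (.step [28, 5, 29, 30, 28, 1, 28, 30, 30, 5, 5, 28, 28, 30, 28, 28, 31, 5, 31, 5, 31, 31, 31, 1, 28, 1, 1, 30] .fail))))), (1, .fail), (1, (.step [29, 5, 29, 29, 1] .fail)), (13, .fail), (1, (.step [1, 29, 1, 31, 5, 5] .fail)), (3, .fail), (1, (.step [5, 30, 1, 30, 29] .fail)), (3, .fail), (1, (.step [1, 28, 31, 28, 30, 5] .fail)), (3, .fail), (1, (.step [5, 31, 5, 28, 30] .fail)), (1, .fail), (1, (.step [28, 28, 31, 31, 28] .fail)), (1, (.step [28, 28, 31, 1, 31] .fail)), (10, .fail), (1, (.step [1, 31, 31, 31, 5] .fail)), (5, .fail), (1, (.step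 [1, 1, 31, 29, 1] .fail)), (4, .fail), (1, (.step [1, 28, 30, 29, 30] (.step [30, 1, 28, 31, 1, 29, 5, 5] .fail))), (1, (.step [1, 28, 31] .fail)), (1, (.step [1, 29, 1] .fail)), (11, .fail), (1, (.step [28, 30, 1, 30, 29] .fail)), (1, .fail), (1, (.step [1, 1, 28, 30, 28, 30] (.step [28, 1, 28, 30, 28, 30, 5, 31, 5] .fail))), (2, .fail), (1, (.step [5, 5, 28] .fail)), (3, .fail), (1, (.step [1, 1, 1, 1] .fail)), (1, (.step [1, 1, 28, 30, 29] .fail)), (1, .fail), (1, (.step [28, 28, 31, 5] .fail)), (2, .fail), (1, (.step [1, 31, 28, 5, 31] (.step [28, 30, 1, 31, 29, 29, 31, 1] (.step [29, 5, 28, 5, 29, 5, 30, 1, 1, 29, 1, 29, 30, 30, 1, 29] (.step [28, 28, 5, 29, 29, 29, 31, 5, 31, 31, 5, 29, 29, 30, 1, 28, 31, 28, 28, 28, 31, 31, 1, 28, 28] .fail))))), (5, .fail), (1, (.step [5, 5, 28, 30] (.step [29, 1, 1, 28, 28, 28, 5, 28]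 .fail))), (1, (.step [1, 1, 31, 29, 30] (.step [28, 28, 31, 1, 30, 1, 30, 29] .fail))), (2, .fail), (1, (.step [1, 31, 29] .fail)), (70, .fail), (1, (.step [5, 28, 31, 1] .fail)), (13, .fail), (1, (.step [29, 30, 5, 30] .fail)), (31, .fail), (1, (.step [28, 28, 5, 30] .fail)), (6, .fail), (1, (.step [28, 5, 28, 1, 31] .fail)), (1, .fail), (1, (.step [29, 5, 28, 30, 29] .fail)), (10, .fail), (1, (.step [1, 31, 1, 31, 29] .fail)), (1, (.step [28, 30, 1, 1] .fail)), (42, .fail), (1, (.step [28, 1, 28, 1, 29] .fail)), (21, .fail), (1, (.step [1, 30, 28, 31, 28] .fail)), (9, .fail), (1, (.step [5, 30, 30, 1, 1] .fail)), (3, .fail), (1, (.step [5, 29, 30, 30, 1] .fail)), (7, .fail), (1, (.step [5, 30, 29] .fail)), (7, .fail), (1, (.step [29, 5, 5] (.step [30, 1, 30, 29, 29, 31, 29, 29] .fail))), (3, .fail), (1, (.step [28, 31, 5, 28]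 .fail)), (1, (.step [1, 29, 1] .fail)), (22, .fail), (1, (.step [5, 28, 5, 29, 30] (.step [30, 1, 28, 31, 1, 29, 5, 5] .fail))), (9, .fail), (1, (.step [1, 28, 30, 1, 31] .fail)), (6, .fail), (1, (.step [1, 1, 31, 28, 1] .fail)), (1, .fail), (1, (.step [1, 28, 31, 5, 29] .fail)), (6, .fail), (1, (.step [1, 30, 1, 30, 30] (.step [1, 29, 1, 1, 28, 30, 28, 1, 29] .fail))), (5, .fail), (1, (.step [1, 1, 31, 1, 29, 30] .fail)), (1, (.step [1, 30] .fail)), (18, .fail), (1, (.step [28, 30, 5, 31] .fail)), (1, (.step [29, 30, 29] .fail)), (1, (.step [1, 30, 30, 29, 31, 1] (.step [31, 28, 28, 28, 31, 29, 29, 5] .fail))), (6, .fail), (1, (.step [28, 31, 31, 1, 29] .fail)), (8, .fail), (1, (.step [1, 28, 28, 28, 1] .fail)), (1, (.step [1, 30, 29, 31, 28] (.step [28, 5, 5, 28, 28, 1, 29, 5] (.step [29, 29, 30, 28, 5, 29, 5, 30, 1, 28, 29,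 30] (.step [31, 1, 29, 1, 31, 29, 1, 30, 5, 28, 5, 5, 31, 5, 5, 28, 31, 5, 29, 29, 5, 30, 5, 1, 30, 29, 29, 29] .fail))))), (21, .fail), (1, (.step [1, 30, 28, 5] .fail)), (1, (.step [5, 28, 5] (.step [5, 5, 31, 29, 29, 1, 1, 30, 29] .fail))), (1, (.step [5, 29, 31, 31, 28] (.step [28, 1, 30, 28, 31, 5, 28, 31, 29] .fail))), (2, .fail), (1, (.step [28, 31, 5, 5, 30] .fail)), (2, .fail), (1, (.step [29, 30, 5, 28] .fail)), (1, (.step [1, 31, 31, 31, 5] .fail)), (2, .fail), (1, (.step [29, 1, 31] .fail)), (1, (.step [28, 1, 28, 30, 30] .fail)), (1, (.step [5, 5, 31, 5, 31] .fail)), (1, .fail), (1, (.step [1, 30, 30, 28, 1] .fail)), (13, .fail), (1, (.step [5, 5, 31, 28] .fail)), (1, (.step [29, 29, 5, 28, 1] .fail)), (4, .fail), (1, (.step [29, 29, 1, 31] .fail)), (1, (.step [28, 5] .fail)), (14, .fail), (1, (.step [1, 28, 1, 28,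 1] .fail)), (1, (.step [1, 29, 1] .fail)), (11, .fail), (1, (.step [1, 29, 1, 1] .fail)), (6, .fail), (1, (.step [1, 31, 31, 31, 5] .fail)), (7, .fail), (1, (.step [28, 31, 31] (.step [29, 5, 29, 30, 30, 29, 5, 28] .fail))), (1, (.step [1, 1, 31, 29, 30] (.step [28, 28, 31, 1, 30, 1, 30, 29] .fail))), (94, .fail), (1, (.step [5, 28, 28, 28, 1] .fail)), (43, .fail), (1, (.step [28, 31, 1, 1, 1] .fail)), (21, .fail), (1, (.step [28, 1, 29, 1, 28] .fail)), (3, .fail), (1, (.step [1, 29, 29, 1, 30] .fail)), (23, .fail), (1, (.step [5, 29, 30, 29] (.step [29, 1, 28, 28, 28, 31, 29] .fail))), (4, .fail), (1, (.step [1, 28, 30, 1, 31] .fail)), (5, .fail), (1, (.step [5, 5, 30, 5, 31] .fail)), (9, .fail), (1, (.step [5, 5, 30, 1] .fail)), (15, .fail), (1, (.step [28, 5, 28] (.step [1, 31, 5, 29, 29, 29, 1, 29] .fail))), (11, .fail), (1,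 (.step [1, 30, 28, 28, 30] .fail)), (18, .fail), (1, (.step [28, 31, 5, 5, 30] .fail)), (2, .fail), (1, (.step [5, 29, 31, 5, 5] .fail)), (1, (.step [5, 30, 5, 30, 28] .fail)), (2, .fail), (1, (.step [5, 28, 5, 29, 31] .fail)), (1, (.step [1, 30, 29, 5] .fail)), (1, (.step [29, 30, 30, 28] .fail)), (1, (.step [1, 1, 30, 1, 29] .fail)), (11, .fail), (1, (.step [28, 5, 30, 29] .fail)), (3, .fail), (1, (.step [5, 30, 30] .fail)), (1, (.step [5, 31, 29, 31, 5] .fail)), (10, .fail), (1, (.step [28] .fail)), (1, (.step [5, 5, 29, 30, 1] .fail)), (6, .fail), (1, (.step [1, 28, 31, 28, 30, 5] .fail)), (4, .fail), (1, (.step [1, 31, 31, 31, 5] .fail)), (6, .fail), (1, (.step [5, 30, 1] (.step [28, 28, 28, 1, 29, 5, 30, 28, 28] .fail))), (1, (.step [1, 1, 31, 29, 30] (.step [28, 28, 31, 1, 30, 1, 30, 29] .fail))), (67, .fail), (1, (.step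 [5, 28, 28, 28, 1] .fail)), (30, .fail), (1, (.step [1, 1, 29, 1, 30] .fail)), (16, .fail), (1, (.step [28, 28, 5, 30] .fail)), (3, .fail), (1, (.step [29, 30, 28] .fail)), (13, .fail), (1, (.step [5, 29, 30, 1] (.step [28, 30, 5, 5, 29, 31, 29] .fail))), (4, .fail), (1, (.step [1, 1, 28, 31, 28] .fail)), (6, .fail), (1, (.step [5, 28, 31, 5, 30] .fail)), (10, .fail), (1, (.step [28, 31, 31, 28, 30] (.step [31, 5, 31, 1, 29, 29, 29, 30, 28] .fail))), (23, .fail), (1, (.step [5, 5, 31, 1] .fail)), (2, .fail), (1, (.step [28, 31, 5, 5] .fail)), (1, (.step [1, 1, 31, 29] .fail)), (2, .fail), (1, (.step [1, 28, 30, 29] .fail)), (1, (.step [1, 31, 1, 1] .fail)), (1, (.step [28, 30, 5, 30, 29] .fail)), (1, (.step [28, 31, 29] .fail)), (7, .fail), (1, (.step [29, 5, 28, 30, 29] .fail)), (3, .fail), (1, (.step [5, 30, 30] .fail)), (1,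 (.step [29, 29, 5, 28, 1] .fail)), (6, .fail), (1, (.step [1, 30, 29, 30] .fail)), (1, (.step [5, 5, 5, 28, 28] .fail)), (5, .fail), (1, (.step [1, 31, 31, 31, 5] .fail)), (5, .fail), (1, (.step [1, 30, 1, 30, 1] (.step [5, 29, 31, 31, 29, 31, 5, 29] .fail))), (1, (.step [1, 1, 31, 29, 30] (.step [28, 28, 31, 1, 30, 1, 30, 29] .fail))), (48, .fail), (1, (.step [28, 30, 28, 28] .fail)), (19, .fail), (1, (.step [1, 1, 1, 29, 5] .fail)), (12, .fail), (1, (.step [1, 28, 5, 30, 28, 30] .fail)), (23, .fail), (1, (.step [1, 28, 30, 5, 31] (.step [29, 30, 5, 5, 31, 28, 1, 31, 29] .fail))), (17, .fail), (1, (.step [1, 1, 31, 29, 29] .fail)), (1, (.step [28, 28, 31] .fail)), (2, .fail), (1, (.step [1, 28, 30, 29] .fail)), (1, (.step [1, 31, 1, 1] .fail)), (1, (.step [1, 28, 28, 28, 5] .fail)), (3, .fail), (1, (.step [1, 31, 31, 29] .fail)),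 (3, .fail), (1, (.step [5, 30, 28, 31, 28] .fail)), (1, (.step [29, 29, 5, 28, 1] .fail)), (2, .fail), (1, (.step [1, 1, 30, 28, 31] .fail)), (1, (.step [1, 30, 29, 31, 5] .fail)), (4, .fail), (1, (.step [1, 29, 31, 29, 31] .fail)), (3, .fail), (1, (.step [5, 31, 29, 29] (.step [5, 30, 1, 30, 5, 29, 31, 28] .fail))), (1, (.step [1, 1, 31, 29, 30] (.step [28, 28, 31, 1, 30, 1, 30, 29] .fail))), (34, .fail), (1, (.step [29, 31, 29, 31] .fail)), (8, .fail), (1, (.step [1, 1, 30, 1, 31] .fail)), (12, .fail), (1, (.step [5, 31, 5] .fail)), (14, .fail), (1, (.step [1, 30, 1, 1, 29] (.step [5, 5, 31, 29, 29, 1, 1, 30, 29] .fail))), (12, .fail), (1, (.step [5, 5, 28, 28, 31] .fail)), (1, (.step [28, 28, 31] .fail)), (2, .fail), (1, (.step [1, 28, 28, 28, 30] .fail)), (1, (.step [5, 5, 31, 29, 5] .fail)), (1, (.step [1, 28, 28, 28, 5]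 .fail)), (3, .fail), (1, (.step [1, 31, 31, 29] .fail)), (3, .fail), (1, (.step [1, 29, 31, 1, 31] .fail)), (1, (.step [1, 31, 28, 28, 1] .fail)), (3, .fail), (1, (.step [1, 1, 30, 30] .fail)), (3, .fail), (1, (.step [5, 29, 1, 1] (.step [29, 29, 30, 1, 29, 30, 1, 28] .fail))), (1, (.step [1, 1, 31, 29, 30] (.step [28, 28, 31, 1, 30, 1, 30, 29] .fail))), (25, .fail), (1, (.step [5, 5, 30, 5, 30] .fail)), (16, .fail), (1, (.step [1, 1, 28, 31, 28] (.step [30, 1, 31, 31, 5, 30, 30, 5, 29] .fail))), (10, .fail), (1, (.step [28, 31, 1] .fail)), (1, (.step [1, 31, 29, 29, 1] .fail)), (1, (.step [1, 28, 28, 28, 5] .fail)), (3, .fail), (1, (.step [5, 28, 30, 28, 28] .fail)), (1, (.step [5, 30, 30, 1, 29] .fail)), (5, .fail), (1, (.step [28, 1, 1, 29] (.step [28, 31, 31, 31, 1, 28, 5] .fail))), (1, (.step [28, 1, 28, 30, 30] (.step [5,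 29, 29, 1, 30, 1, 29] .fail))), (31, .fail), (1, (.step [5, 30, 29] .fail)), (1, (.step [29, 30, 30, 28] .fail)), (3, .fail), (1, (.step [5, 5, 30, 28] (.step [5, 29, 1, 30, 5, 29, 1, 1] .fail))), (1, (.step [1, 31, 1, 29, 1] (.step [1, 30, 5, 28, 1, 29, 29, 30, 29] .fail))), (23, .fail), (1, (.step [1, 30, 29, 31, 5] .fail)), (1, (.step [29, 30, 30, 28] .fail)), (3, .fail), (1, (.step [5, 5, 30, 28] (.step [5, 29, 1, 30, 5, 29, 1, 1] .fail))), (1, (.step [1, 1, 29, 1, 30] (.step [1, 31, 28, 30, 5, 5, 5, 30, 1] .fail))), (11, .fail), (1, (.step [28, 28, 30, 29] .fail)), (1, (.step [29, 30, 30, 28] .fail)), (10, .fail), (1, (.step [28, 28, 30, 29] .fail)), (1, (.step [1, 28, 30, 30] .fail)), (4, .fail), (1, (.step [1, 30, 28, 31, 28] .fail)), (1, (.step [28, 5, 30, 1, 31] .fail)), (9, .fail), (1, (.step [1, 1, 31, 28, 1] .fail)),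 (2, .fail), (1, (.step [1, 30, 28, 5, 31] .fail)), (2, .fail), (1, (.step [5, 28, 28, 31, 29] .fail)), (3, .fail), (1, (.step [1, 31, 31, 29] .fail)), (3, .fail), (1, (.step [28, 30, 30, 28] .fail)), (5, .fail), (1, (.step [5, 30, 30, 29, 30] .fail)), (4, .fail), (1, (.step [29, 5, 29, 29, 1] (.step [28, 1, 31, 29, 30, 29, 29, 1] .fail))), (1, .fail), (1, (.step [28, 30, 30, 28] .fail)), (6, .fail), (1, (.step [5, 5, 28, 31, 29] .fail)), (6, .fail), (1, (.step [5, 28, 5, 29, 30] (.step [30, 1, 28, 31, 1, 29, 5, 5] .fail))), (1, .fail), (1, (.step [29, 1, 28, 5] .fail)), (1, .fail), (1, (.step [1, 30] .fail)), (1, (.step [28, 30, 30, 28] .fail)), (9, .fail), (1, (.step [1, 31, 31, 31, 31] .fail)), (9, .fail), (1, (.step [5, 28, 5, 29, 30] (.step [30, 1, 28, 31, 1, 29, 5, 5] .fail))), (3, .fail), (1, (.step [29, 1, 28, 5] .fail)),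 (1, .fail), (1, (.step [1, 28, 31, 5, 28] .fail)), (1, .fail), (1, (.step [1, 29, 31, 28, 31] .fail)), (12, .fail), (1, (.step [29, 1, 28] .fail)), (13, .fail), (1, (.step [5, 28, 5, 29, 30] (.step [30, 1, 28, 31, 1, 29, 5, 5] .fail))), (5, .fail), (1, (.step [1, 1, 30, 30, 28] .fail)), (1, .fail), (1, (.step [1, 29, 5, 5, 5] .fail)), (1, (.step [29, 30, 29] .fail)), (1, (.step [1] .fail)), (1, .fail), (1, (.step [1, 29, 31, 28, 31] .fail)), (1, (.step [5, 5, 5, 5] (.step [1, 31, 29, 31, 31, 31, 1, 1, 29] .fail))), (16, .fail), (1, (.step [1, 1, 29, 1, 30] .fail)), (10, .fail), (1, (.step [1, 29, 31, 29, 31] .fail)), (8, .fail), (1, (.step [5, 28, 28, 5, 30] (.step [28, 30, 5, 5, 30, 5, 5, 29] .fail))), (7, .fail), (1, (.step [1, 1, 31, 28, 5] .fail)), (2, .fail), (1, (.step [5, 31, 5] .fail)), (1, (.step [5, 28, 5, 5, 28] .fail)),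 (1, (.step [1, 1, 29, 1, 30] .fail)), (1, .fail), (1, (.step [1, 29, 31, 28, 31] .fail)), (2, .fail), (1, (.step [5, 5, 31, 5] (.step [31, 1, 1, 28, 5, 30, 29, 5] .fail))), (1, (.step [29, 5, 5, 31, 31] .fail)), (1, (.step [1, 30, 29, 31, 28] (.step [28, 5, 5, 28, 28, 1, 29, 5] (.step [29, 29, 30, 28, 5, 29, 5, 30, 1, 28, 29, 30] (.step [31, 1, 29, 1, 31, 29, 1, 30, 5, 28, 5, 5, 31, 5, 5, 28, 31, 5, 29, 29, 5, 30, 5, 1, 30, 29, 29, 29] .fail))))), (21, .fail), (1, (.step [1, 30, 28, 5] .fail)), (14, .fail), (1, (.step [1, 28, 30, 1, 31] .fail)), (11, .fail), (1, (.step [1, 31] (.step [1, 31, 28, 1, 28, 31, 31, 31, 29] .fail))), (9, .fail), (1, (.step [28, 30, 5, 31] .fail)), (3, .fail), (1, (.step [5, 5, 5, 28, 30] .fail)), (1, .fail), (1, (.step [28, 28, 31] .fail)), (1, (.step [1, 31, 31, 29] .fail)), (4, .fail), (1, (.step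 [1, 29, 31, 28, 31] .fail)), (3, .fail), (1, (.step [1, 31, 1] (.step [30, 28, 30, 5, 5, 30, 5, 5, 29] .fail))), (1, .fail), (1, (.step [29, 1, 30, 5] .fail)), (1, (.step [5, 5, 31, 5, 5] (.step [28, 1, 29, 29, 5, 28, 30, 1] (.step [30, 1, 30, 28, 5, 28, 30, 1, 31, 5, 28, 29, 30] .fail)))), (1, (.step [1, 1, 1, 28, 1] (.step [31, 31, 31, 31] (.step [1, 1, 1, 31, 29, 30, 29, 30, 5, 5, 28, 5, 30, 28, 1, 1] .fail)))), (1, (.step [5, 5, 29, 30, 28] .fail)), (1, (.step [5, 5, 31, 5, 5] (.step [28, 1, 29, 29, 5, 28, 30, 1] (.step [30, 1, 30, 28, 5, 28, 30, 1, 31, 5, 28, 29, 30] .fail)))), (1, (.step [1, 1, 1, 28, 1] (.step [31, 31, 31, 31] (.step [1, 1, 1, 31, 29, 30, 29, 30, 5, 5, 28, 5, 30, 28, 1, 1] .fail)))), (4, .fail), (1, (.step [28, 5, 28, 31, 31] .fail)), (1, (.step [1, 30, 29, 31, 28] .fail)), (1, (.step [29, 5, 29, 29, 1]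 .fail)), (1, (.step [1, 1, 31, 28, 1] .fail)), (1, (.step [1, 1, 29, 29, 1] .fail)), (1, (.step [1, 29, 30, 28, 31] .fail)), (1, (.step [29, 5, 29, 29] (.step [31, 31, 29, 29, 30, 1, 28] (.step [1, 1, 31, 1, 28, 1, 1, 1, 28, 30, 28, 1, 1, 31, 29] .fail)))), (1, (.step [5, 28, 28, 5, 28] .fail)), (1, (.step [1, 1, 1, 29, 31] (.step [1, 1, 1, 30, 1, 29, 5, 5] (.step [29, 5, 5, 30, 1, 1, 1, 1, 1, 28, 29, 5, 31, 28, 28] .fail)))), (1, (.step [5, 5, 31, 5] .fail)), (7, .fail), (1, (.step [5, 28, 30, 5, 31] (.step [5, 29, 1, 28, 5, 28, 28, 28] (.step [1, 28, 1, 28, 30, 28, 30, 30, 29, 29, 30, 1, 28, 28, 28, 5] .fail)))), (1, .fail), (1, (.step [1, 1, 30, 29, 1] .fail)), (9, .fail), (1, (.step [5, 31, 31, 29] .fail)), (2, .fail), (1, (.step [1, 1, 30, 28] .fail)), (1, .fail), (1, (.step [5, 5, 30, 5] .fail)), (1, (.step [5, 5, 31, 29,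 5] .fail)), (3, .fail), (1, (.step [1, 30, 5, 31, 1] .fail)), (1, .fail), (1, (.step [29, 1, 1, 31] .fail)), (1, (.step [28, 1, 30, 5] .fail)), (1, (.step [1, 1, 31, 5, 30] .fail)), (1, (.step [1, 29, 30, 28, 31] .fail)), (1, (.step [29, 1, 1, 29] .fail)), (1, (.step [28, 1, 29, 30] (.step [30, 1, 1, 29, 30, 28, 1, 28, 1] (.step [1, 28, 1, 28, 30, 28, 30, 30, 29, 29, 30, 1, 28, 28, 28, 5] .fail)))), (2, .fail), (1, (.step [5, 28, 28, 5, 28] .fail)), (1, .fail), (1, (.step [28, 31, 5, 5, 30] (.step [28, 5, 29, 5, 30, 5, 30, 5] (.step [28, 31, 31, 29, 5, 5, 5, 1, 5, 29, 30, 1, 31, 31, 31] .fail)))), (5, .fail), (1, (.step [29, 1, 30, 5] .fail)), (1, (.step [5, 28, 1] .fail)), (12, .fail), (1, (.step [28, 30, 28, 28] (.step [31, 28, 28, 28, 5, 29, 1] (.step [31, 28, 5, 28, 5, 5, 31, 5, 31, 29, 28, 29, 30] .fail)))), (9, .fail), (1,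 (.step [5, 5, 31, 5] (.step [5, 5, 5, 29, 30, 30, 5, 28] (.step [28, 31, 28, 30, 29, 31, 1, 31, 29, 28, 5, 28, 28, 28, 1, 30, 5] .fail)))), (5, .fail), (1, (.step [29, 1, 1] (.step [1, 31, 29, 31, 29, 30, 30, 1] (.step [29, 31, 31, 28, 31, 29, 31, 29, 30, 1, 29, 1, 31, 31, 30] .fail)))), (1, .fail), (1, (.step [5, 5, 30, 29, 30] .fail)), (5, .fail), (1, (.step [28, 31, 1, 31] .fail)), (6, .fail), (1, (.step [1, 29, 5, 28] (.step [5, 31, 1, 29, 5, 30, 28] (.step [30, 1, 29, 30, 1, 30, 28, 31, 28] .fail)))), (12, .fail), (1, (.step [5, 31, 29, 29] .fail)), (1, (.step [28, 30, 28] .fail)), (3, .fail), (1, (.step [5, 28, 5, 29] .fail)), (6, .fail), (1, (.step [28, 5, 28, 1, 1] .fail)), (1, .fail), (1, (.step [29, 30, 30, 28] .fail)), (1, .fail), (1, (.step [1, 1, 28, 30, 29] .fail)), (2, .fail), (1, (.step [5, 28, 28, 30, 29] .fail)),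 (1, (.step [28, 5, 31, 29] .fail)), (1, (.step [1, 29, 1, 29, 29] .fail)), (9, .fail), (1, (.step [5, 31, 31, 29] (.step [5, 30, 28, 5, 29, 5, 5, 5, 28, 5] (.step [30, 1, 30, 28, 5, 28, 30, 1, 31, 5, 28, 29, 30] .fail)))), (1, .fail), (1, (.step [1, 31, 29, 5] .fail)), (4, .fail), (1, (.step [1, 29, 31, 29, 30] .fail)), (5, .fail), (1, (.step [1, 31, 1] .fail)), (1, (.step [5, 30, 30, 1, 29] .fail)), (1, .fail), (1, (.step [1, 1, 30, 28, 31, 1] .fail)), (1, .fail), (1, (.step [29, 1, 1, 29] .fail)), (1, (.step [1, 28, 28, 28, 1] (.step [1, 28, 28, 31, 1, 28, 28] (.step [29, 30, 5, 29, 30, 1, 29, 5, 28, 31, 31, 31, 1, 28, 5, 30] .fail)))), (1, (.step [29, 31, 1, 30, 5] (.step [1, 29, 30, 28, 5, 31, 1, 29, 5] (.step [30, 1, 30, 28, 5, 28, 30, 1, 31, 5, 28, 29, 30] .fail)))), (1, (.step [1, 28, 31, 5, 31, 28] (.step [29, 30, 28,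 31, 29, 31, 5, 28] (.step [29, 1, 28, 28, 5, 5, 1, 29, 5, 31, 5, 30, 30, 30] .fail)))), (1, (.step [29, 30, 30, 30, 5] (.step [31, 5, 29, 31, 28, 1, 28, 28] (.step [29, 30, 29, 31, 5, 31, 28, 5, 31, 31, 30] .fail)))), (1, (.step [28, 28, 31, 5, 29] .fail)), (4, .fail), (1, (.step [1, 28, 5, 29, 5] .fail)), (1, (.step [1, 28, 1, 30, 29] .fail)), (1, (.step [5, 29, 31, 1, 29] .fail)), (1, (.step [28, 28, 30] .fail)), (1, (.step [1, 29, 30, 28, 31] .fail)), (1, (.step [5, 28, 28, 5, 28] .fail)), (1, (.step [28, 31, 29, 29] .fail)), (5, .fail), (1, (.step [29, 31, 29, 5] (.step [31, 28, 31, 31, 31, 1, 28, 5] (.step [5, 29, 1, 29, 5, 28, 28, 5, 28, 1, 31, 31] .fail)))), (1, .fail), (1, (.step [29, 30, 28, 5] .fail)), (13, .fail), (1, (.step [5, 29, 30, 28, 30] .fail)), (1, .fail), (1, (.step [5, 31, 1, 1, 31] .fail)), (1, (.step [28,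 30, 1, 30, 29] .fail)), (1, (.step [1, 30, 29, 31, 28] .fail)), (8, .fail), (1, (.step [1, 29, 31, 31] .fail)), (9, .fail), (1, (.step [28, 5, 30, 1, 28] (.step [5, 5, 31, 28, 30, 29, 30, 28] (.step [5, 28, 5, 28, 5, 28, 28, 1, 29, 29, 5, 31, 28, 28, 31] .fail)))), (9, .fail), (1, (.step [29, 1, 1] (.step [1, 31, 29, 31, 29, 30, 30, 1] (.step [29, 31, 31, 28, 31, 29, 31, 29, 30, 1, 29, 1, 31, 31, 30] .fail)))), (5, .fail), (1, (.step [28, 31, 1, 31] .fail)), (4, .fail), (1, (.step [1, 1, 29, 1, 29] (.step [29, 5, 30, 28, 1, 31, 31, 29] (.step [5, 29, 29, 5, 5, 31, 5, 31, 1, 31, 1, 1, 28, 29, 30] .fail)))), (7, .fail), (1, (.step [1, 31, 28] .fail)), (1, (.step [1, 29, 5, 28, 28] .fail)), (7, .fail), (1, (.step [29, 30, 30, 28] .fail)), (2, .fail), (1, (.step [5, 28, 28, 30] .fail)), (1, (.step [5, 5, 5, 5, 28] .fail)), (6, .fail),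 (1, (.step [28, 30, 29, 30] (.step [1, 1, 28, 5, 30, 29, 5] (.step [29, 29, 29, 29, 5, 30, 29, 30, 1, 29] .fail)))), (11, .fail), (1, (.step [1, 29, 29, 31, 1, 28] (.step [1, 31, 5, 5, 29, 5, 31] (.step [5, 1, 28, 28, 28, 28, 28, 30, 28, 1, 28, 31, 31] .fail)))), (1, (.step [1, 28, 31, 5, 31, 28] (.step [29, 30, 28, 31, 29, 31, 5, 28] (.step [29, 1, 28, 28, 5, 5, 1, 29, 5, 31, 5, 30, 30, 30] .fail)))), (1, (.step [29, 30, 30, 30, 5] (.step [31, 5, 29, 31, 28, 1, 28, 28] (.step [29, 30, 29, 31, 5, 31, 28, 5, 31, 31, 30] .fail)))), (1, (.step [28, 30, 1, 30, 29] .fail)), (2, .fail), (1, (.step [1, 28, 1, 30, 29] .fail)), (1, (.step [28, 30, 1, 28] .fail)), (1, (.step [5, 30, 5, 29, 1] .fail)), (1, (.step [29, 5, 5, 28, 1] .fail)), (1, (.step [5, 5, 5, 5] .fail)), (1, (.step [1, 28, 30, 28, 30] .fail)), (4, .fail), (1, (.step [1,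 31, 29, 5] .fail)), (10, .fail), (1, (.step [1, 31, 28, 1] .fail)), (1, (.step [5, 29, 31, 1] .fail)), (5, .fail), (1, (.step [5, 28, 30, 29, 31] .fail)), (7, .fail), (1, (.step [28, 5, 29] (.step [28, 5, 30, 5, 30, 1, 1, 29] (.step [5, 28, 5, 28, 31, 5, 29, 1, 31, 28, 29, 29, 30, 1, 28] .fail)))), (5, .fail), (1, (.step [29, 1, 1] (.step [1, 31, 29, 31, 29, 30, 30, 1] (.step [29, 31, 31, 28, 31, 29, 31, 29, 30, 1, 29, 1, 31, 31, 30] .fail)))), (3, .fail), (1, (.step [1, 28, 1, 31] .fail)), (8, .fail), (1, (.step [1, 30, 5, 31, 5] .fail)), (1, (.step [5, 5, 28, 28, 1] .fail)), (4, .fail), (1, (.step [28, 30, 1, 29] .fail)), (1, .fail), (1, (.step [5, 5, 29, 5] .fail)), (1, (.step [29, 29, 1] .fail)), (9, .fail), (1, (.step [1, 28, 31] (.step [31, 1, 30, 29, 29, 31, 29, 29] (.step [30, 29, 31, 5, 28, 28, 30, 28, 5, 30, 29, 30,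 28, 1, 1, 28] .fail)))), (1, (.step [29, 30, 30, 30, 5] (.step [31, 5, 29, 31, 28, 1, 28, 28] (.step [29, 30, 29, 31, 5, 31, 28, 5, 31, 31, 30] .fail)))), (1, (.step [28, 31, 31, 1, 29] .fail)), (1, .fail), (1, (.step [1, 28, 1, 30, 29] .fail)), (1, (.step [5, 31, 29, 1] .fail)), (1, (.step [28, 28, 5] .fail)), (1, (.step [1, 1, 28, 31] .fail)), (1, (.step [28, 5, 28, 1] .fail)), (3, .fail), (1, (.step [5, 5, 5, 28] .fail)), (6, .fail), (1, (.step [28, 5, 31, 29] .fail)), (3, .fail), (1, (.step [28, 1, 29, 30] .fail)), (5, .fail), (1, (.step [1, 28, 28, 5] (.step [28, 28, 28, 30, 30, 29, 30, 5] (.step [1, 28, 5, 31, 31, 29, 31, 29, 29, 1, 28, 5, 28, 31, 31, 28] .fail)))), (5, .fail), (1, (.step [1, 28, 1, 31] .fail)), (5, .fail), (1, (.step [29, 30, 30, 28] .fail)), (1, (.step [28, 28, 30, 30, 29] .fail)), (2, .fail), (1, (.step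 [5, 5, 28, 30] .fail)), (1, (.step [28, 31, 1, 31] .fail)), (1, (.step [29, 30, 30, 28] .fail)), (4, .fail), (1, (.step [1, 28, 31] (.step [31, 1, 30, 29, 29, 31, 29, 29] (.step [30, 29, 31, 5, 28, 28, 30, 28, 5, 30, 29, 30, 28, 1, 1, 28] .fail)))), (1, (.step [29, 29, 31] (.step [1, 31, 31, 5, 5, 30, 30, 29, 29] (.step [5, 31, 31, 31, 1, 28, 1, 1, 28, 29, 30] .fail)))), (1, (.step [28, 1, 28, 30, 30] .fail)), (1, .fail), (1, (.step [29, 1, 28, 31] .fail)), (1, (.step [5, 29, 30, 30, 1] .fail)), (1, (.step [1, 1, 29, 1, 1] .fail)), (2, .fail), (1, (.step [1, 31, 29, 5] .fail)), (6, .fail), (1, (.step [1, 28, 1, 30, 30] .fail)), (3, .fail), (1, (.step [1, 28, 30, 30, 29] (.step [29, 31, 31, 31, 29, 30, 28] (.step [29, 31, 5, 31, 31, 29, 1, 30, 28, 30, 1, 28, 29, 30] .fail)))), (6, .fail), (1, (.step [1, 29, 29, 5] .fail)), (1,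 .fail), (1, (.step [1, 28, 1, 29, 5] .fail)), (1, (.step [1, 28, 28, 28] .fail)), (2, .fail), (1, (.step [1, 28, 31] (.step [31, 1, 30, 29, 29, 31, 29, 29] (.step [30, 29, 31, 5, 28, 28, 30, 28, 5, 30, 29, 30, 28, 1, 1, 28] .fail)))), (1, (.step [29, 31, 1, 1, 29] (.step [30, 29, 1, 28, 28, 28, 31, 29] (.step [29, 29, 1, 29, 31, 28, 28, 30, 30, 30, 29, 1, 30, 30, 30, 30] .fail)))), (1, .fail), (1, (.step [29, 1, 28, 1, 28] .fail)), (1, .fail), (1, (.step [1, 31, 29, 5] .fail)), (5, .fail), (1, (.step [1, 28, 1, 30, 30] .fail)), (1, .fail), (1, (.step [1, 1, 29, 29] (.step [29, 5, 30, 28, 1, 31, 31, 29] (.step [] .fail)))), (3, .fail), (1, (.step [5, 29, 31, 31] .fail)), (1, (.step [5, 31, 29, 1] .fail)), (1, (.step [28, 1, 30, 1, 28] .fail)), (1, .fail), (1, (.step [29, 31, 1, 1, 29] (.step [30, 29, 1, 28, 28, 28, 31, 29] (.step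 [29, 29, 1, 29, 31, 28, 28, 30, 30, 30, 29, 1, 30, 30, 30, 30] .fail)))), (1, .fail), (1, (.step [1, 28, 30, 28, 30] .fail)), (3, .fail), (1, (.step [1, 30, 30, 5, 29] .fail)), (1, (.step [5, 31, 28, 1] (.step [31, 29, 5, 30, 1, 30, 30, 28, 1] (.step [5, 29, 29, 5, 5, 31, 5, 31, 1, 31, 1, 1, 28, 29, 30] .fail)))), (2, .fail), (1, (.step [5, 29, 31, 31] .fail)), (1, (.step [5, 5, 29, 30, 28] .fail)), (1, (.step [1, 31, 29, 31] (.step [1, 28, 30, 30, 30, 30, 1, 1] (.step [5, 5, 5, 28, 31, 28, 30, 1, 5, 30, 1, 1, 1, 31, 5] .fail)))), (1, (.step [28, 31, 28, 28] .fail)), (1, .fail), (1, (.step [5, 30, 30, 30] .fail)), (1, (.step [5, 5, 30, 1, 1] (.step [30, 28, 30, 5, 5, 30, 5, 5, 29] (.step [1, 1, 1, 28, 30, 1, 30, 28, 5, 28, 5, 30, 28, 1, 1] .fail)))), (1, .fail), (1, (.step [1, 1, 29, 30] .fail)), (1, (.step [5, 28, 31, 31, 31]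 (.step [1, 30, 1, 28, 1, 28, 31, 29] (.step [5, 29, 31, 29, 30, 5, 28, 5, 28, 5, 5] .fail)))), (1, (.step [1, 1, 30, 5, 29] (.step [30, 5, 28, 1, 29, 29, 29] (.step [29, 30, 29, 31, 5, 31, 28, 5, 31, 31, 30] .fail)))), (1, (.step [1, 1, 29, 30] .fail)), (1, (.step [1, 30, 30, 30, 29] (.step [29, 31, 5, 31, 29, 5, 5, 5] (.step [5, 31, 5, 29, 1, 30, 29, 31, 5, 5, 31, 31, 31, 31, 31] .fail)))), (1, (.step [5, 5, 29, 30] (.step [31, 29, 29, 5, 29, 30, 28, 1] (.step [29, 1, 30, 5, 30, 30, 5, 29, 29, 31, 31, 31] .fail)))), (1, (.step [5, 5, 5, 28] (.step [29, 31, 28, 30, 30, 30, 28] (.step [28, 1, 1, 29, 30, 5, 5, 5, 29, 28, 29, 30] .fail))))])), (6980, (.badPow 2093 1))]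

/-- the centralizer of the element of order 23, piece 5 -/
def cCp_5 : Cert := Cert.rl [(8190, (.badPow 2093 1))]

/-- the centralizer of the element of order 23, piece 6 -/
def cCp_6 : Cert := Cert.rl [(3069, (.badPow 2093 1))]

/-- the centralizer of the element of order 23, piece 7 -/
def cCp_7 : Cert := Cert.rl [(1, (.badPow 2093 1))]

/-- the centralizer of the element of order 23, piece 8 -/
def cCp_8 : Cert := Cert.rl [(1452, (.badPow 2093 1))]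

/-- the centralizer of the element of order 23, piece 9 -/
def cCp_9 : Cert := Cert.rl [(1, (.badPow 2093 1))]

/-- the centralizer of the element of order 23, piece 10 -/
def cCp_10 : Cert := Cert.rl [(8190, (.badPow 2093 1))]

/-- the centralizer of the element of order 23, piece 11 -/
def cCp_11 : Cert := Cert.rl [(8190, (.badPow 2093 1))]

/-- the centralizer of the element of order 23, piece 12 -/
def cCp_12 : Cert := Cert.rl [(8190, (.badPow 2093 1))]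

/-- the centralizer of the element of order 23, piece 13 -/
def cCp_13 : Cert := Cert.rl [(8190, (.badPow 2093 1))]

/-- the centralizer of the element of order 23, piece 14 -/
def cCp_14 : Cert := Cert.rl [(8190, (.badPow 2093 1))]

/-- the centralizer of the element of order 23, piece 15 -/
def cCp_15 : Cert := Cert.rl [(8190, (.badPow 2093 1))]

/-- the centralizer of the element of order 23, piece 16 -/
def cCp_16 : Cert := Cert.rl [(8190, (.badPow 2093 1))]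

/-- the centralizer of the element of order 23, piece 17 -/
def cCp_17 : Cert := Cert.rl [(8190, (.badPow 2093 1))]

/-- the centralizer of the element of order 23, piece 18 -/
def cCp_18 : Cert := Cert.rl [(8190, (.badPow 2093 1))]

/-- the centralizer of the element of order 23, piece 19 -/
def cCp_19 : Cert := Cert.rl [(2783, (.badPow 2093 1))]

/-- the centralizer of the element of order 23: the pieces -/
def pcsCp : List (List (List ℕ) × Cert) := [(U0_0, cCp_0), (U0_1, cCp_1), (U0_2, cCp_2), (U0_3, cCp_3), (U0_4, cCp_4), (U0_5, cCp_5), (U0_6, cCp_6), (U0_7, cCp_7), (U0_8, cCp_8), (U0_9, cCp_9), (U0_10, cCp_10), (U0_11, cCp_11), (U0_12, cCp_12), (U0_13, cCp_13), (U0_14, cCp_14), (U0_15, cCp_15), (U0_16, cCp_16), (U0_17, cCp_17), (U0_18, cCp_18), (U0_19, cCp_19)]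

/-- the transporter of the element of order 23 to its fifth power, piece 0 -/
def cT2_0 : Cert := Cert.rl [(23, (.badPow 2093 1))]

/-- the transporter of the element of order 23 to its fifth power, piece 1 -/
def cT2_1 : Cert := Cert.rl [(1, (.badPow 2093 1))]

/-- the transporter of the element of order 23 to its fifth power, piece 2 -/
def cT2_2 : Cert := Cert.rl [(1986, (.badPow 2093 1))]

/-- the transporter of the element of order 23 to its fifth power, piece 3 -/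
def cT2_3 : Cert := Cert.rl [(83, (.badPow 2093 1))]

/-- the transporter of the element of order 23 to its fifth power, piece 4 -/
def cT2_4 : Cert := Cert.rl [(1, (Cert.rl [(4, (.step [1, 28, 31, 5, 31, 28] (.step [28, 28, 30, 5, 28, 31, 28, 31, 28] (.step [1, 29, 31, 29, 29, 31, 28, 5, 29, 31, 5, 28, 29, 30] (.step [1, 1, 29, 31, 5, 29, 1, 31, 28, 5, 30, 28, 5, 29, 31, 29, 30, 28, 31, 31, 5, 29] .fail))))), (2, (.step [28, 30, 29, 30, 28] (.step [30, 5, 28, 5, 30, 28, 1, 1] (.step [5, 31, 29, 5, 5, 5, 31, 28, 1, 31, 31, 28, 28, 1] (.step [5, 30, 29, 29, 30, 5, 28, 30, 28, 1, 31, 1, 31, 1, 28, 1, 29, 29, 30, 29, 31, 5, 31, 28, 5, 31] .fail))))), (2, (.step [29, 31, 1, 1, 29] (.step [29, 31, 1, 30, 28, 5, 5, 31, 29] (.step [30, 29, 31, 5, 28, 28, 30, 28, 5, 30, 29, 30, 28, 1, 1, 28] (.step [29, 29, 5, 5, 5, 28, 31, 29, 5, 5,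 5, 29, 29, 30, 30, 5, 30, 30, 30, 28, 30, 1, 1, 29, 31, 28, 5, 30, 1] .fail))))), (1, (.step [1, 30, 28, 31, 29] (.step [5, 30, 28, 5, 29, 5, 5, 5, 28, 5] (.step [5, 5, 5, 28, 31, 28, 30, 1, 5, 30, 1, 1, 1, 31, 5] (.step [5, 31, 1, 30, 31, 30, 1, 31, 29, 5, 5, 30, 30, 31, 30, 30, 28, 30, 28, 30, 5, 31, 30, 5, 29, 30] .fail))))), (6, (.step [29, 1, 31, 1, 31] (.step [28, 30, 28, 5, 30, 5, 29, 5] (.step [28, 31, 31, 29, 5, 5, 5, 1, 5, 29, 30, 1, 31, 31, 31] (.step [28, 1, 30, 5, 28, 5, 5, 5, 5, 31, 31, 31, 31, 29, 31, 28, 1, 30, 29, 31, 31, 31, 1] .fail))))), (1, (.step [1, 30, 28, 31, 29] (.step [5, 30, 28, 5, 29, 5, 5, 5, 28, 5] (.step [5, 5, 5, 28, 31, 28, 30, 1, 5, 30, 1, 1, 1, 31, 5] (.step [5, 31, 1, 30, 31, 30, 1, 31, 29, 5, 5, 30, 30, 31, 30, 30, 28, 30, 28, 30, 5, 31, 30, 5, 29, 30] .fail))))), (1, (.step [1, 1, 29, 29,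 1] (.step [5, 28, 5, 30, 1, 28, 31, 1] (.step [5, 5, 28, 1, 31, 5, 28, 1, 1, 1, 28, 5, 30, 29, 5] (.step [1, 31, 28, 5, 29, 31, 31, 1, 29, 1, 1, 28, 30, 28, 30, 5, 5, 29, 31, 31, 5, 29, 1, 1, 1, 1, 31, 28] .fail))))), (2, (.step [29, 31, 1, 1, 29] (.step [29, 31, 1, 30, 28, 5, 5, 31, 29] (.step [30, 29, 31, 5, 28, 28, 30, 28, 5, 30, 29, 30, 28, 1, 1, 28] (.step [29, 29, 5, 5, 5, 28, 31, 29, 5, 5, 5, 29, 29, 30, 30, 5, 30, 30, 30, 28, 30, 1, 1, 29, 31, 28, 5, 30, 1] .fail))))), (1, (.step [28, 30, 29, 30, 28] (.step [30, 5, 28, 5, 30, 28, 1, 1] (.step [5, 31, 29, 5, 5, 5, 31, 28, 1, 31, 31, 28, 28, 1] (.step [5, 30, 29, 29, 30, 5, 28, 30, 28, 1, 31, 1, 31, 1, 28, 1, 29, 29, 30, 29, 31, 5, 31, 28, 5, 31] .fail))))), (3, (.step [1, 28, 31, 5, 31, 28] (.step [28, 28, 30, 5, 28, 31, 28, 31, 28] (.step [1, 29, 31, 29, 29, 31, 28, 5,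 29, 31, 5, 28, 29, 30] (.step [1, 1, 29, 31, 5, 29, 1, 31, 28, 5, 30, 28, 5, 29, 31, 29, 30, 28, 31, 31, 5, 29] .fail))))), (1, .fail), (1, (.step [5, 30, 29] .fail)), (2, .fail), (1, (.step [1, 30, 5, 31] .fail)), (2, .fail), (1, (.step [1, 28, 28, 28, 5] .fail)), (1, .fail), (1, (.step [29, 29, 1, 1] .fail)), (6, .fail), (1, (.step [1, 30, 29] .fail)), (1, (.step [1, 30, 5, 31] .fail)), (3, .fail), (1, (.step [1, 28, 30, 29] .fail)), (4, .fail), (1, (.step [5, 31, 1, 28] .fail)), (7, .fail), (1, (.step [5, 5, 30, 5] .fail)), (2, .fail), (1, (.step [5, 5, 5, 28, 30] .fail)), (1, (.step [29, 1, 30, 1, 1] .fail)), (1, .fail), (1, (.step [5, 30, 28, 28, 1] .fail)), (4, .fail), (1, (.step [1, 30, 30, 5, 5] (.step [28, 1, 29, 29, 5, 28, 30, 1] (.step [29, 29, 30, 28, 5, 29, 5, 30, 1, 28, 29, 30] .fail)))), (1, (.step [28, 5, 31, 29,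 5] (.step [29, 31, 29, 29, 1, 30, 28] (.step [1, 29, 5, 31, 29, 31, 1, 31, 5, 28, 5, 31, 5, 28, 28, 1] .fail)))), (1, (.step [29, 29] .fail)), (6, .fail), (1, (.step [28, 30, 28, 28] .fail)), (3, .fail), (1, (.step [29, 30, 30, 5] .fail)), (1, .fail), (1, (.step [5, 5, 31, 1] .fail)), (3, .fail), (1, (.step [5, 5, 28, 28, 1] .fail)), (1, (.step [1, 1, 29, 30, 1] (.step [1, 31, 29, 31, 29, 30, 30, 1] (.step [28, 30, 30, 5, 30, 29, 1, 30, 30, 29, 1, 30, 30, 30, 30] .fail)))), (4, .fail), (1, (.step [5, 28, 5, 29, 30] (.step [5, 31, 1, 31, 1, 31, 29, 5, 5] (.step [28, 30, 30, 5, 30, 29, 1, 30, 30, 29, 1, 30, 30, 30, 30] .fail)))), (3, .fail), (1, (.step [5, 5, 30, 29] (.step [31, 29, 5, 30, 1, 30, 30, 28, 1] (.step [5, 1, 28, 28, 28, 28, 28, 30, 28, 1, 28, 31, 31] .fail)))), (2, .fail), (1, (.step [5, 28, 5, 5, 5] .fail)), (1, (.step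 [1, 30, 29, 30] .fail)), (1, (.step [1, 31, 28, 5] (.step [29, 5, 5, 29, 31, 28, 31, 1] (.step [29, 30, 28, 30, 30, 31, 28, 5, 29, 29, 5, 5] .fail)))), (3, .fail), (1, (.step [5, 28, 31] .fail)), (1, (.step [1, 28, 30, 5, 31, 28] (.step [28, 5, 28, 28, 28, 5, 29, 5] (.step [30, 28, 28, 1, 1, 31, 1, 1, 1, 29, 5, 31, 28, 28] .fail)))), (4, .fail), (1, (.step [1, 1, 29, 29] (.step [31, 1, 31, 31, 1, 30, 1, 29] (.step [28, 30, 30, 5, 30, 29, 1, 30, 30, 29, 1, 30, 30, 30, 30] .fail)))), (1, (.step [29, 29, 1, 29] .fail)), (1, .fail), (1, (.step [1, 30, 30, 28, 28] .fail)), (4, .fail), (1, (.step [5, 29, 31, 5, 28] .fail)), (5, .fail), (1, (.step [1, 30, 30, 28, 1] .fail)), (2, .fail), (1, (.step [5, 28, 1, 1] .fail)), (1, .fail), (1, (.step [28, 5, 29, 29] (.step [30, 5, 30, 30, 28, 28, 5, 31, 5] (.step [29, 5, 5, 30, 1, 1, 1, 1, 1,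 28, 29, 5, 31, 28, 28] .fail)))), (1, (.step [5, 28, 31, 31, 5] (.step [31, 1, 31, 31, 1, 30, 1, 29] (.step [5, 31, 31, 31, 1, 28, 1, 1, 28, 29, 30] .fail)))), (6, .fail), (1, (.step [29, 1, 28, 5] (.step [28, 30, 28, 5, 30, 5, 29, 5] (.step [30, 30, 28, 28, 31, 5, 31, 5, 30, 29, 5, 5, 30, 30] .fail)))), (1, .fail), (1, (.step [5, 5, 29, 30, 28] .fail)), (6, .fail), (1, (.step [1, 28, 1] .fail)), (1, (.step [1, 30, 1, 30, 5] .fail)), (1, (.step [5, 5, 5, 28, 30] .fail)), (1, (.step [28, 28, 30, 29] (.step [28, 5, 28, 5, 31, 29, 29, 29, 1] (.step [5, 29, 29, 5, 5, 31, 5, 31, 1, 31, 1, 1, 28, 29, 30] .fail)))), (1, (.step [1, 1, 29, 1, 30] .fail)), (1, .fail), (1, (.step [1, 31, 28, 30, 29] (.step [29, 5, 30, 29, 1, 28, 30, 1] (.step [5, 31, 31, 31, 1, 28, 1, 1, 28, 29, 30] .fail)))), (1, (.step [1, 29, 30, 28, 31] .fail)), (1,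 .fail), (1, (.step [5, 30, 28, 28, 1] .fail)), (6, .fail), (1, (.step [1, 1, 1, 29, 30] .fail)), (6, .fail), (1, (.step [29, 1, 29, 1] (.step [1, 31, 28, 31, 31, 5, 29, 1] (.step [29, 1, 30, 29, 29, 5, 29, 29, 1, 5, 5, 29, 1, 28, 31, 1] .fail)))), (1, .fail), (1, (.step [1, 28, 28, 5, 5] .fail)), (1, (.step [5, 29, 31, 29, 30] (.step [31, 28, 29] (.step [1, 29, 5, 28, 5, 29, 31, 29, 5, 28, 30, 28, 30, 5, 5, 29] .fail)))), (1, (.step [28, 31, 28, 28] (.step [28, 31, 5, 31, 5, 30, 29, 29] (.step [30, 29, 29, 29, 5, 30, 28, 31, 5, 29, 29, 31, 31, 31, 31] .fail)))), (1, (.step [1, 1, 1, 29, 30] .fail)), (1, (.step [29, 30, 28] .fail)), (1, (.step [5, 28, 31, 31, 31] .fail)), (5, .fail), (1, (.step [29, 29, 1, 1, 29] .fail)), (11, .fail), (1, (.step [5, 5, 5, 28, 28] .fail)), (1, (.step [5, 5, 31, 1, 29] .fail)), (2, .fail), (1, (.step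 [5, 5, 5, 28] .fail)), (3, .fail), (1, (.step [5, 29, 5, 30] .fail)), (1, .fail), (1, (.step [1, 29, 1] .fail)), (4, .fail), (1, (.step [1, 29, 5, 5, 29] .fail)), (3, .fail), (1, (.step [29, 31, 5] .fail)), (2, .fail), (1, (.step [28, 1, 30, 30] .fail)), (8, .fail), (1, (.step [29, 31, 1] .fail)), (1, .fail), (1, (.step [5, 30, 30] .fail)), (1, .fail), (1, (.step [29, 5, 5, 28, 30] (.step [30, 30] (.step [29, 29, 31, 5, 29, 5, 5, 29, 31, 5, 30, 30] .fail)))), (1, (.step [1, 30, 28] (.step [5, 28, 31, 5, 28, 1, 28, 28, 5] (.step [29, 29, 31, 1, 29, 1, 1, 29, 31, 5, 30, 30, 30] .fail)))), (1, (.step [1, 29, 5] .fail)), (4, .fail), (1, (.step [1, 1, 29, 1, 30] .fail)), (6, .fail), (1, (.step [5, 5, 28, 28, 1] .fail)), (1, (.step [5, 28, 5, 29, 30] (.step [5, 31, 1, 31, 1, 31, 29, 5, 5] (.step [28, 30, 30, 5, 30, 29, 1, 30, 30, 29,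 1, 30, 30, 30, 30] .fail)))), (3, .fail), (1, (.step [5, 28, 5, 29, 30] (.step [5, 31, 1, 31, 1, 31, 29, 5, 5] (.step [28, 30, 30, 5, 30, 29, 1, 30, 30, 29, 1, 30, 30, 30, 30] .fail)))), (2, .fail), (1, (.step [1, 1, 29, 1, 30] (.step [30, 29, 5, 31, 28, 28] (.step [30, 1, 29, 5, 28, 5, 5, 1, 29, 31, 29, 5, 30, 30] .fail)))), (1, .fail), (1, (.step [5, 28, 5, 5, 5] .fail)), (1, (.step [1, 1, 29, 1, 30] (.step [30, 29, 5, 31, 28, 28] (.step [30, 1, 29, 5, 28, 5, 5, 1, 29, 31, 29, 5, 30, 30] .fail)))), (2, .fail), (1, (.step [29, 31, 5] .fail)), (1, (.step [1, 1, 28, 31, 31] (.step [29, 5, 29, 30, 30, 29, 5, 28] (.step [29, 1, 30, 30, 28, 31, 5, 31, 29, 29, 31, 5] .fail)))), (1, .fail), (1, (.step [28, 30, 1, 30, 29] (.step [30, 28, 1, 29, 30, 29, 30, 28, 28] (.step [1, 29, 5, 31, 29, 31, 1, 31, 5, 28, 5, 31, 5, 28, 28, 1] .fail)))),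 (1, .fail), (1, (.step [5, 5, 28, 28, 1] .fail)), (3, .fail), (1, (.step [5, 29, 31, 5, 28] .fail)), (3, .fail), (1, (.step [5, 5, 30, 29] .fail)), (1, .fail), (1, (.step [5, 29, 31] .fail)), (1, (.step [1, 1, 29, 31, 31] (.step [30, 28, 28, 30, 28, 28, 31, 5] (.step [5, 29, 31, 28, 30, 29, 29, 5, 5, 31, 31, 5, 29, 29, 5] .fail)))), (1, (.step [5, 30, 28, 28, 1] (.step [28, 1, 29, 29, 5, 28, 30, 1] (.step [28, 31, 1, 29, 31, 31, 5, 30, 29, 28, 1, 1, 30, 1, 29, 5] .fail)))), (4, .fail), (1, (.step [29, 1, 28, 5] (.step [28, 30, 28, 5, 30, 5, 29, 5] (.step [30, 30, 28, 28, 31, 5, 31, 5, 30, 29, 5, 5, 30, 30] .fail)))), (5, .fail), (1, (.step [28, 31, 1, 1, 31] .fail)), (1, (.step [5, 28, 31] .fail)), (1, (.step [28, 28, 30, 29] (.step [28, 5, 28, 5, 31, 29, 29, 29, 1] (.step [5, 29, 29, 5, 5, 31, 5, 31, 1, 31, 1, 1, 28, 29, 30]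 .fail)))), (1, (.step [1, 28, 30, 5, 31, 28] (.step [28, 5, 28, 28, 28, 5, 29, 5] (.step [30, 28, 28, 1, 1, 31, 1, 1, 1, 29, 5, 31, 28, 28] .fail)))), (1, (.step [5, 29, 1, 28, 28] .fail)), (4, .fail), (1, (.step [1, 1, 1, 29, 30] .fail)), (6, .fail), (1, (.step [28, 1, 30] .fail)), (1, (.step [1, 1, 29, 29] (.step [31, 1, 31, 31, 1, 30, 1, 29] (.step [28, 30, 30, 5, 30, 29, 1, 30, 30, 29, 1, 30, 30, 30, 30] .fail)))), (1, (.step [1, 1, 1, 29, 30] .fail)), (1, (.step [5, 30, 1, 30] .fail)), (3, .fail), (1, (.step [29, 29, 1, 1, 29] .fail)), (7, .fail), (1, (.step [5, 5, 31, 1, 29] .fail)), (1, .fail), (1, (.step [5, 5, 5, 28] .fail)), (2, .fail), (1, (.step [5, 30, 5, 29] .fail)), (4, .fail), (1, (.step [1, 1, 29, 31, 31] .fail)), (2, .fail), (1, (.step [29, 31, 5] .fail)), (8, .fail), (1, (.step [5, 5, 5, 28, 30] .fail)), (1,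 .fail), (1, (.step [28, 28, 30, 29] (.step [28, 5, 28, 5, 31, 29, 29, 29, 1] (.step [5, 29, 29, 5, 5, 31, 5, 31, 1, 31, 1, 1, 28, 29, 30] .fail)))), (1, (.step [1, 30, 29, 5, 30] .fail)), (2, .fail), (1, (.step [5, 30, 28, 1] .fail)), (4, .fail), (1, (.step [5, 5, 28, 28, 1] .fail)), (2, .fail), (1, (.step [28, 30, 29, 30, 29] (.step [1, 30, 5, 5, 5, 31, 1] (.step [5, 28, 5, 28, 31, 5, 29, 1, 31, 28, 29, 29, 30, 1, 28] .fail)))), (2, .fail), (1, (.step [1, 31, 1, 29, 5] (.step [28, 1, 30, 28, 31, 5, 28, 31, 29] (.step [1, 1, 28, 28, 5, 30, 5, 29, 1, 28, 28, 30, 5, 29, 1] .fail)))), (1, (.step [5, 28, 5, 5, 5] .fail)), (1, (.step [1, 1, 29, 1, 30] (.step [30, 29, 5, 31, 28, 28] (.step [30, 1, 29, 5, 28, 5, 5, 1, 29, 31, 29, 5, 30, 30] .fail)))), (1, .fail), (1, (.step [29, 31, 5] .fail)), (1, (.step [1, 29, 29, 30] (.step [28,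 1, 31, 5, 31, 31, 29, 5] (.step [5, 31, 29, 5, 5, 5, 31, 28, 1, 31, 31, 28, 28, 1] .fail)))), (1, .fail), (1, (.step [29, 29, 29, 5] .fail)), (6, .fail), (1, (.step [5, 29, 31] .fail)), (1, (.step [1, 1, 29, 31, 31] (.step [30, 28, 28, 30, 28, 28, 31, 5] (.step [5, 29, 31, 28, 30, 29, 29, 5, 5, 31, 31, 5, 29, 29, 5] .fail)))), (2, .fail), (1, (.step [29, 1, 28, 5] (.step [28, 30, 28, 5, 30, 5, 29, 5] (.step [30, 30, 28, 28, 31, 5, 31, 5, 30, 29, 5, 5, 30, 30] .fail)))), (4, .fail), (1, (.step [5, 28, 28, 5] .fail)), (1, (.step [29, 1, 28, 5] (.step [28, 30, 28, 5, 30, 5, 29, 5] (.step [30, 30, 28, 28, 31, 5, 31, 5, 30, 29, 5, 5, 30, 30] .fail)))), (1, (.step [1, 30, 30, 1] .fail)), (3, .fail), (1, (.step [5, 28, 5, 28, 1] .fail)), (3, .fail), (1, (.step [28, 30, 29, 30, 28] .fail)), (1, (.step [1, 1, 1, 29, 30] .fail)), (6, .fail),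 (1, (.step [28, 1, 28] .fail)), (1, (.step [5, 5, 5, 28] .fail)), (5, .fail), (1, (.step [1, 29, 30] .fail)), (1, .fail), (1, (.step [1, 28, 30, 5, 30] .fail)), (5, .fail), (1, (.step [5, 5, 5, 28, 30] .fail)), (1, .fail), (1, (.step [28, 28, 30, 29] (.step [28, 5, 28, 5, 31, 29, 29, 29, 1] (.step [5, 29, 29, 5, 5, 31, 5, 31, 1, 31, 1, 1, 28, 29, 30] .fail)))), (1, .fail), (1, (.step [29, 5, 5, 28, 30] .fail)), (4, .fail), (1, (.step [29, 1, 29, 1] (.step [1, 31, 28, 31, 31, 5, 29, 1] (.step [29, 1, 30, 29, 29, 5, 29, 29, 1, 5, 5, 29, 1, 28, 31, 1] .fail)))), (2, .fail), (1, (.step [1, 31, 1, 29, 5] (.step [28, 1, 30, 28, 31, 5, 28, 31, 29] (.step [1, 1, 28, 28, 5, 30, 5, 29, 1, 28, 28, 30, 5, 29, 1] .fail)))), (1, (.step [5, 29, 1, 28, 28] .fail)), (1, .fail), (1, (.step [29, 31, 5] .fail)), (1, .fail), (1, (.step [5, 28, 5]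 .fail)), (3, .fail), (1, (.step [29, 30, 30, 30] .fail)), (1, (.step [5, 28, 28, 31, 1] (.step [1, 29, 29, 31, 31, 5, 31, 5, 5] (.step [29, 5, 29, 30, 29, 5, 29, 5, 5, 5, 30, 30] .fail)))), (1, .fail), (1, (.step [5, 29, 30, 30] (.step [5, 28, 1, 31, 1, 30, 30, 1] (.step [5, 28, 5, 28, 5, 28, 28, 1, 29, 29, 5, 31, 28, 28, 31] .fail)))), (2, .fail), (1, (.step [5, 28, 28, 5] .fail)), (1, (.step [1, 30, 29, 5, 30] .fail)), (4, .fail), (1, (.step [29, 1, 1] .fail)), (1, (.step [1, 1, 1, 29, 30] .fail)), (2, .fail), (1, (.step [28, 1, 28] .fail)), (1, (.step [5, 5, 5, 28] .fail)), (15, .fail), (1, (.step [29, 1, 29, 1] (.step [1, 31, 28, 31, 31, 5, 29, 1] (.step [29, 1, 30, 29, 29, 5, 29, 29, 1, 5, 5, 29, 1, 28, 31, 1] .fail)))), (3, .fail), (1, (.step [29, 31, 5] .fail)), (1, .fail), (1, (.step [29, 30, 30, 30] .fail)), (1, (.step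 [5, 29, 31, 29, 30] (.step [31, 28, 29] (.step [1, 29, 5, 28, 5, 29, 31, 29, 5, 28, 30, 28, 30, 5, 5, 29] .fail)))), (1, .fail), (1, (.step [5, 29, 30, 30] (.step [5, 28, 1, 31, 1, 30, 30, 1] (.step [5, 28, 5, 28, 5, 28, 28, 1, 29, 29, 5, 31, 28, 28, 31] .fail)))), (1, (.step [5, 28, 28, 5] .fail)), (1, (.step [1, 30, 29, 5, 30] .fail)), (2, .fail), (1, (.step [29, 30, 28] .fail)), (1, .fail), (1, (.step [1, 28] .fail)), (1, (.step [5, 5, 5, 28] .fail)), (13, .fail), (1, (.step [29, 30, 30, 30] .fail)), (1, .fail), (1, (.step [5, 28, 28, 5] .fail)), (3, .fail), (1, (.step [28, 5, 28] .fail)), (9, .fail), (1, (.step [5, 5, 30, 1] .fail)), (1, .fail), (1, (.step [28, 5, 28] .fail)), (5, .fail), (1, (.step [5, 5, 5, 28, 28] .fail)), (1, (.step [1, 30, 1] .fail)), (1, .fail), (1, (.step [5, 5, 5, 28, 28] .fail)), (1, (.step [28, 1,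 28, 28] .fail)), (3, .fail), (1, (.step [1, 1, 29, 30] .fail)), (5, .fail), (1, (.step [28, 5, 29, 29, 30] (.step [29, 31, 28, 31, 29, 30, 1, 1] .fail))), (1, (.step [1, 1, 31, 5, 29] .fail)), (14, .fail), (1, (.step [5, 5, 28, 28, 31] .fail)), (6, .fail), (1, (.step [5, 28, 5, 5, 5] .fail)), (9, .fail), (1, (.step [5, 30, 1, 31, 31] .fail)), (2, .fail), (1, (.step [1, 30, 1, 28] .fail)), (5, .fail), (1, (.step [1, 1, 29, 30, 29] .fail)), (1, .fail), (1, (.step [5, 28, 30] .fail)), (14, .fail), (1, (.step [1, 28, 28, 28, 30] (.step [28, 30, 28, 31, 29, 5, 28, 28] .fail))), (25, .fail), (1, (.step [1, 29, 29, 31] .fail)), (12, .fail), (1, (.step [1, 30, 5, 30, 30] .fail)), (1, .fail), (1, (.step [28, 31, 1, 1, 31] .fail)), (5, .fail), (1, (.step [1, 28, 5, 29, 30] .fail)), (29, .fail), (1, (.step [1, 1, 31, 28, 5] .fail)), (9,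 .fail), (1, (.step [28, 31, 1, 1, 31] .fail)), (3, .fail), (1, (.step [5, 30, 30, 29, 30] .fail)), (29, .fail), (1, (.step [1, 28, 5, 29, 30, 30] .fail)), (68, .fail), (1, (.step [29, 29, 31, 5] .fail)), (1, (.step [1, 30, 5, 28, 31] .fail)), (4, .fail), (1, (.step [5, 31, 29, 29] .fail)), (1, (.step [1, 28, 1, 30, 30] .fail)), (2, .fail), (1, (.step [1, 1, 28, 30] .fail)), (4, .fail), (1, (.step [29, 5, 28, 1] .fail)), (2, .fail), (1, (.step [1, 31, 31] .fail)), (1, (.step [29, 5, 30] .fail)), (3, .fail), (1, (.step [29, 30, 29] .fail)), (4, .fail), (1, (.step [1, 28, 28, 5] .fail)), (7, .fail), (1, (.step [1, 1, 29, 31] .fail)), (1, (.step [29, 5, 30] .fail)), (4, .fail), (1, (.step [29, 1, 28, 1, 28] .fail)), (10, .fail), (1, (.step [1, 28, 30, 28] .fail)), (12, .fail), (1, (.step [5, 30, 30, 1, 1] .fail)), (1, (.step [5, 5,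 5, 5, 5] .fail)), (3, .fail), (1, (.step [5, 29, 30, 30, 29] (.step [31, 31, 31] .fail))), (3, .fail), (1, (.step [1, 31, 29, 1, 30] .fail)), (10, .fail), (1, (.step [5, 28, 30, 5, 31] .fail)), (15, .fail), (1, (.step [29, 31, 5, 29, 30] .fail)), (3, .fail), (1, (.step [1, 30, 30, 28, 31] .fail)), (1, (.step [1, 30, 5, 30, 30] .fail)), (8, .fail), (1, (.step [28, 5, 29, 29, 30] (.step [29, 31, 28, 31, 29, 30, 1, 1] .fail))), (4, .fail), (1, (.step [1, 29, 29, 1, 30] (.step [28, 31, 31, 31, 1, 28, 5] .fail))), (4, .fail), (1, (.step [29, 1, 29, 30] .fail)), (12, .fail), (1, (.step [1, 1, 30, 30, 28] .fail)), (10, .fail), (1, (.step [1, 29, 5, 29, 30] .fail)), (20, .fail), (1, (.step [28, 31, 31] .fail)), (4, .fail), (1, (.step [29, 29, 1, 1, 29] .fail)), (1, (.step [1, 30, 5, 30, 30] .fail)), (16, .fail), (1, (.step [28, 5, 29,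 29, 30] (.step [29, 31, 28, 31, 29, 30, 1, 1] .fail))), (1, (.step [5, 30, 29, 1, 30] (.step [29, 30, 29, 30, 29, 1, 31, 29, 29] .fail))), (4, .fail), (1, (.step [1, 28, 31, 5] (.step [29, 30, 1, 1, 1, 28, 30, 1] .fail))), (6, .fail), (1, (.step [29, 1, 29, 30] .fail)), (16, .fail), (1, (.step [28, 5, 29, 29, 30] (.step [29, 31, 28, 31, 29, 30, 1, 1] .fail))), (4, .fail), (1, (.step [28, 5, 31] .fail)), (1, .fail), (1, (.step [5, 5, 28, 31, 29] (.step [31, 29, 1, 28, 28, 28, 31, 29] .fail))), (1, (.step [5, 30, 29, 31, 28] .fail)), (3, .fail), (1, (.step [5, 5, 28, 28, 31] .fail)), (1, (.step [1, 29, 31, 1, 1] .fail)), (11, .fail), (1, (.step [29, 5, 28, 28] .fail)), (4, .fail), (1, (.step [1, 30, 1, 1, 29] .fail)), (25, .fail), (1, (.step [29, 30, 29, 29, 29] .fail)), (4, .fail), (1, (.step [28, 1, 30, 5] (.step [28, 1, 29, 1,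 30, 5, 30, 1, 1] .fail))), (1, (.step [1, 29, 1, 29] .fail)), (3, .fail), (1, (.step [1, 30, 5, 31, 1] .fail)), (1, (.step [1, 30, 5, 30, 30] .fail)), (16, .fail), (1, (.step [5, 30, 29, 31] (.step [30, 5, 28, 1, 29, 29, 29] .fail))), (1, (.step [29, 30, 30, 28] (.step [31, 1, 28, 28, 1, 30, 30, 1] .fail))), (6, .fail), (1, (.step [28, 31, 29, 1] (.step [31, 28, 31, 31, 31, 1, 28, 5] .fail))), (8, .fail), (1, (.step [1, 1, 29, 31, 31] .fail)), (1, .fail), (1, (.step [29, 1, 29, 30] .fail)), (24, .fail), (1, (.step [1, 1, 28, 31] (.step [5, 31, 28, 30, 1, 28, 1, 1] .fail))), (4, .fail), (1, (.step [28, 5, 31] .fail)), (1, .fail), (1, (.step [29, 30, 30, 1, 30] (.step [30, 28, 30, 5, 5, 29, 31, 29] .fail))), (1, (.step [5, 28, 28, 5, 30] .fail)), (10, .fail), (1, (.step [5, 5, 28, 28, 31] .fail)), (1, (.step [1, 28, 5, 29, 31] .fail)),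 (7, .fail), (1, (.step [28, 30, 5, 30] .fail)), (11, .fail), (1, (.step [29, 5, 28, 28] .fail)), (4, .fail), (1, (.step [29, 30, 30, 28] .fail)), (17, .fail), (1, (.step [1, 1, 30, 1] .fail)), (17, .fail), (1, (.step [1, 28, 30, 28] .fail)), (1, (.step [28, 31, 1, 31] .fail)), (6, .fail), (1, (.step [1, 1, 28, 30, 1] (.step [29, 30, 5, 31, 1, 28, 5, 31, 28] .fail))), (1, (.step [5, 31, 1, 1] .fail)), (3, .fail), (1, (.step [5, 5, 28, 28, 31] .fail)), (1, (.step [29, 1, 30, 1] .fail)), (2, .fail), (1, (.step [5, 29, 30, 28, 5] .fail)), (1, (.step [1, 1, 29, 30, 1] .fail)), (13, .fail), (1, (.step [5, 29, 30, 28] .fail)), (7, .fail), (1, (.step [5, 28, 30, 5, 28] (.step [5, 31, 1, 31, 1, 31, 29, 5, 5] .fail))), (4, .fail), (1, (.step [1, 1, 29, 30] (.step [29, 29, 30, 1, 29, 30, 1, 28] .fail))), (1, (.step [29, 30, 30, 5] .fail)),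 (7, .fail), (1, (.step [5, 5, 5, 5, 5] (.step [5, 31, 28, 31, 31, 28, 30, 29] .fail))), (11, .fail), (1, (.step [5, 5, 28, 28, 31] .fail)), (2, .fail), (1, (.step [29, 1, 29, 30] .fail)), (3, .fail), (1, (.step [5, 28, 28, 28, 1] .fail)), (35, .fail), (1, (.step [29, 29, 5, 28] (.step [1, 30, 29, 1, 1, 30, 1] .fail))), (2, .fail), (1, (.step [28, 5, 29, 29, 30] (.step [29, 31, 28, 31, 29, 30, 1, 1] .fail))), (1, .fail), (1, (.step [1, 28, 1, 28, 1] (.step [5, 28, 5, 30, 28, 1, 1] .fail))), (1, (.step [28, 28, 5] .fail)), (3, .fail), (1, (.step [28, 5, 31] .fail)), (1, .fail), (1, (.step [1, 29, 30, 5, 30] (.step [29, 1, 29, 29, 29, 5, 5, 28] .fail))), (1, (.step [5, 30, 28, 28] .fail)), (20, .fail), (1, (.step [28, 28, 30] .fail)), (1, (.step [28, 30, 5, 30] .fail)), (8, .fail), (1, (.step [29, 30, 28, 5] .fail)), (11, .fail),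 (1, (.step [1, 1, 31, 1, 29, 30] .fail)), (3, .fail), (1, (.step [1, 1, 30, 30] .fail)), (4, .fail), (1, (.step [5, 5, 5, 5] .fail)), (4, .fail), (1, (.step [1, 30, 1, 30, 1] .fail)), (15, .fail), (1, (.step [5, 28, 30, 1] .fail)), (4, .fail), (1, (.step [28, 5, 31] .fail)), (9, .fail), (1, (.step [1, 30, 5, 29, 1] .fail)), (4, .fail), (1, (.step [1, 1, 31, 29] .fail)), (9, .fail), (1, (.step [5, 5] .fail)), (1, (.step [1, 1, 29, 1, 30] .fail)), (13, .fail), (1, (.step [29, 1, 30, 1] (.step [29, 31, 28, 5, 28, 31, 28, 1, 29] .fail))), (1, (.step [5, 31, 1, 1] .fail)), (7, .fail), (1, (.step [1, 28, 5, 5, 31] .fail)), (1, (.step [1, 29, 30, 1] .fail)), (2, .fail), (1, (.step [1, 28, 5, 5, 31, 29] .fail)), (1, (.step [1, 1, 29, 30, 1] .fail)), (17, .fail), (1, (.step [5, 31, 29] .fail)), (7, .fail), (1, (.step [28, 5, 29, 29, 30]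 (.step [29, 31, 28, 31, 29, 30, 1, 1] .fail))), (3, .fail), (1, (.step [5, 28, 31, 28, 5] .fail)), (1, .fail), (1, (.step [28, 5, 29, 29, 30] (.step [29, 31, 28, 31, 29, 30, 1, 1] .fail))), (1, (.step [1, 29, 1] .fail)), (9, .fail), (1, (.step [5, 31, 29] (.step [31, 31] .fail))), (16, .fail), (1, (.step [1, 1, 28, 30, 28] .fail)), (2, .fail), (1, (.step [29, 1, 29, 30] .fail)), (6, .fail), (1, (.step [29, 29, 5, 28, 1] .fail)), (18, .fail), (1, (.step [5, 31, 5, 28] .fail)), (1, (.step [5, 30, 1, 31, 31] .fail)), (35, .fail), (1, (.step [5, 5, 28, 1] (.step [30, 1, 1, 29, 30, 28, 1, 28, 1] .fail))), (3, .fail), (1, (.step [28, 5, 29, 29, 30] (.step [29, 31, 28, 31, 29, 30, 1, 1] .fail))), (1, .fail), (1, (.step [5, 5, 5, 28, 1] (.step [28, 5, 31, 5, 28, 28, 1] .fail))), (1, (.step [29, 5, 30, 30] .fail)), (2, .fail), (1, (.step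 [5, 5, 28, 28, 31] .fail)), (1, (.step [28, 28, 30, 1] .fail)), (3, .fail), (1, (.step [5, 5, 30, 1, 30] .fail)), (1, .fail), (1, (.step [1, 29, 30, 5, 30] (.step [29, 1, 29, 29, 29, 5, 5, 28] .fail))), (1, (.step [29, 31, 28] .fail)), (30, .fail), (1, (.step [5, 31, 1, 28] .fail)), (1, (.step [1, 29, 1, 30] .fail)), (4, .fail), (1, (.step [1, 1, 1, 28, 31] .fail)), (6, .fail), (1, (.step [29, 5, 28, 28] .fail)), (15, .fail), (1, (.step [1, 31, 31, 29] .fail)), (1, .fail), (1, (.step [5, 5, 30, 30] .fail)), (2, .fail), (1, (.step [28, 31, 1, 31, 28] .fail)), (4, .fail), (1, (.step [5, 5, 5, 5] .fail)), (1, .fail), (1, (.step [28, 31, 29, 29] .fail)), (9, .fail), (1, (.step [1, 30, 28, 31] .fail)), (14, .fail), (1, (.step [29, 30, 28, 28] .fail)), (7, .fail), (1, (.step [1, 30, 30, 1, 30] .fail)), (8, .fail), (1, (.step [1, 28,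 1, 28] .fail)), (1, .fail), (1, (.step [28, 5, 5, 5] .fail)), (1, .fail), (1, (.step [5, 30, 5, 28] .fail)), (9, .fail), (1, (.step [28, 5, 29, 29, 30] .fail)), (4, .fail), (1, (.step [5, 5, 5, 5, 28] .fail)), (9, .fail), (1, (.step [28, 30, 30, 28] .fail)), (1, (.step [28, 1, 1] .fail)), (13, .fail), (1, (.step [1, 30, 1, 1, 31] .fail)), (7, .fail), (1, (.step [29, 1, 30, 1] (.step [29, 31, 28, 5, 28, 31, 28, 1, 29] .fail))), (1, (.step [1, 30, 28, 1] .fail)), (11, .fail), (1, (.step [5, 5, 31, 1, 29] .fail)), (1, (.step [28, 5, 30, 1, 28] .fail)), (2, .fail), (1, (.step [1, 28, 5, 5, 31, 29] .fail)), (1, (.step [1, 29, 29, 31, 1, 31] .fail)), (22, .fail), (1, (.step [1, 1, 29, 29] .fail)), (7, .fail), (1, (.step [5, 31, 28, 28, 5] (.step [5, 30, 1, 30, 5, 29, 31, 28] .fail))), (6, .fail), (1, (.step [28, 31, 29, 1] .fail)),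 (1, .fail), (1, (.step [28, 5, 29, 29, 30] (.step [29, 31, 28, 31, 29, 30, 1, 1] .fail))), (1, (.step [29, 1, 28, 1, 28] .fail)), (6, .fail), (1, (.step [5, 28, 5, 5, 5] .fail)), (3, .fail), (1, (.step [28, 1, 1] .fail)), (3, .fail), (1, (.step [5, 31, 29] (.step [31, 31] .fail))), (11, .fail), (1, (.step [1, 30, 5, 30, 30] .fail)), (10, .fail), (1, (.step [1, 30, 5, 30, 30] .fail)), (2, .fail), (1, (.step [1, 29, 1, 31, 5, 5] .fail)), (8, .fail), (1, (.step [5, 5, 30, 28, 30] .fail)), (26, .fail), (1, (.step [5, 31, 5, 31] .fail)), (1, (.step [1, 30, 5, 28, 31] .fail)), (1, (.step [1, 1, 28, 30] .fail)), (20, .fail), (1, (.step [1, 31, 29, 29] (.step [29, 1, 31, 31, 5, 30, 5, 5] .fail))), (5, .fail), (1, (.step [1, 31, 29, 1] .fail)), (32, .fail), (1, (.step [1, 31, 28, 5, 31] (.step [1, 28, 5, 31, 28, 1, 31, 28] .fail))), (9,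 .fail), (1, (.step [28, 5, 29, 29, 30] (.step [29, 31, 28, 31, 29, 30, 1, 1] .fail))), (1, .fail), (1, (.step [29, 29, 1, 29] (.step [28, 30, 28, 30, 30, 1, 29, 5] .fail))), (1, (.step [5, 30, 29, 31, 28] .fail)), (2, .fail), (1, (.step [5, 5, 28, 28, 31] .fail)), (1, (.step [29, 5, 29, 31] .fail)), (3, .fail), (1, (.step [1, 29, 29, 1, 1] .fail)), (5, .fail), (1, (.step [1, 1, 30, 5, 29] (.step [30, 1, 28, 28, 31, 1, 28, 28] .fail))), (1, (.step [1, 28, 30, 5] .fail)), (6, .fail), (1, (.step [28, 28, 5, 29] .fail)), (15, .fail), (1, (.step [1, 29] .fail)), (11, .fail), (1, (.step [5, 5, 28, 5, 5] .fail)), (2, .fail), (1, (.step [1, 1, 1] .fail)), (1, (.step [1, 30, 5, 31, 1] .fail)), (4, .fail), (1, (.step [5, 29, 1, 28] .fail)), (3, .fail), (1, (.step [1, 1, 29, 1, 29] .fail)), (6, .fail), (1, (.step [1, 30, 30, 29, 29] .fail)),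 (12, .fail), (1, (.step [28, 5, 29, 29, 30] (.step [29, 31, 28, 31, 29, 30, 1, 1] .fail))), (1, .fail), (1, (.step [1, 28, 1, 28, 1] (.step [5, 28, 5, 30, 28, 1, 1] .fail))), (10, .fail), (1, (.step [1, 31, 31, 29] .fail)), (1, .fail), (1, (.step [5, 5, 30, 30] .fail)), (2, .fail), (1, (.step [28, 5, 31] .fail)), (4, .fail), (1, (.step [28, 30, 5, 29] .fail)), (1, .fail), (1, (.step [1, 31, 1, 29] .fail)), (13, .fail), (1, (.step [29, 5, 28, 28] .fail)), (18, .fail), (1, (.step [1, 1, 31, 1, 29, 30] .fail)), (11, .fail), (1, (.step [5, 31, 29] .fail)), (8, .fail), (1, (.step [29, 29, 29, 29, 30] .fail)), (5, .fail), (1, (.step [5, 5, 30, 30] .fail)), (1, .fail), (1, (.step [28, 31, 29, 29] .fail)), (13, .fail), (1, (.step [28, 1, 29, 1] .fail)), (5, .fail), (1, (.step [1, 29, 31, 29, 1] .fail)), (13, .fail), (1, (.step [29, 30,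 1, 30, 1] .fail)), (1, (.step [28, 1, 1] .fail)), (3, .fail), (1, (.step [1, 30, 5, 30, 30] .fail)), (13, .fail), (1, (.step [1, 1, 28, 30] .fail)), (7, .fail), (1, (.step [29, 29, 29, 5] (.step [31, 1, 31, 31, 28, 28, 1] .fail))), (1, (.step [5, 31, 1, 28] .fail)), (19, .fail), (1, (.step [1, 30, 29, 31, 31] .fail)), (1, (.step [1, 29, 29, 31, 1, 28] .fail)), (2, .fail), (1, (.step [1, 29, 5, 31] .fail)), (1, (.step [1, 29, 1, 1, 1] .fail)), (8, .fail), (1, (.step [1, 31, 28, 28, 1] (.step [30, 29, 29, 30, 1, 28] .fail))), (21, .fail), (1, (.step [28, 31, 5, 5] .fail)), (11, .fail), (1, (.step [5, 5, 28, 5, 29] (.step [31, 29, 29, 29, 31, 29, 31, 1] .fail))), (6, .fail), (1, (.step [29, 29, 1, 31] (.step [28, 31, 5, 29, 5, 28, 31, 1] (.step [29, 1, 29, 30, 30, 5, 30, 5, 30, 1, 29, 28, 29, 30] (.step [5, 5, 30, 30, 29, 29, 29,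 29, 1, 29, 1, 28, 28, 5, 31, 5, 31, 5, 29] .fail))))), (1, (.step [5, 28, 31, 1] (.step [5, 29, 1, 30, 5, 29, 1, 1] (.step [29, 5, 31, 31, 31, 28, 28, 30, 30, 29, 1, 1, 31, 31, 30] (.step [29, 29, 29, 31, 1, 1, 29, 1, 1, 1, 1, 5, 28, 1, 28, 31, 1, 29, 1, 1] .fail))))), (1, (.step [1, 30, 29, 5, 30] (.step [28, 5, 5, 29, 31, 1, 1, 1, 1] (.step [31, 5, 5, 29, 5, 30, 30, 30, 1] (.step [31, 29, 5, 31, 31, 28, 5, 28, 29, 31, 29, 1, 1, 31, 31, 31, 1, 28, 28, 28, 28, 30, 28, 5, 31, 28, 31] .fail))))), (1, (.step [29, 1, 28, 5] (.step [30, 30, 5, 29, 29, 30, 30, 5] (.step [31, 29, 31, 5, 30, 1, 28, 29, 1, 1, 28, 1, 28, 29, 30] (.step [1, 28, 28, 30, 1, 30, 28, 30, 1, 29, 30, 30, 30, 5, 28, 5, 28, 1, 31, 28, 30, 5, 28] .fail))))), (1, (.step [29, 1, 28, 31] (.step [1, 28, 31, 1, 29, 5, 5] (.step [29, 29, 1, 28, 30, 29, 31, 29, 28, 30,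 30, 5, 29, 31, 1, 28] (.step [1, 31, 28, 1, 31, 28, 1, 29, 29, 5, 29, 5, 31, 28, 28, 30, 30, 31, 31, 28, 30, 30, 28, 28, 1, 1, 29, 5] .fail))))), (1, (.step [1, 29, 1, 31] (.step [30, 30, 30, 30, 30] (.step [29, 1, 29, 30, 30, 5, 30, 5, 30, 1, 29, 28, 29, 30] (.step [29, 30, 1, 28, 28, 28, 5, 31, 29, 29, 30, 1, 28, 29, 29, 5, 30, 5, 1, 30, 29, 29, 29] .fail))))), (1, (.step [1, 1, 31, 29] (.step [5, 5, 29, 1, 28, 31, 1] (.step [29, 31, 31, 28, 31, 29, 31, 29, 30, 1, 29, 1, 31, 31, 30] (.step [31, 1, 29, 1, 31, 29, 1, 30, 5, 28, 5, 5, 31, 5, 5, 28, 31, 5, 29, 29, 5, 30, 5, 1, 30, 29, 29, 29] .fail))))), (1, (.step [29, 1, 28, 5] (.step [1, 31, 31, 28, 28, 1] (.step [5, 29, 31, 29, 30, 5, 28, 5, 28, 5, 5] (.step [31, 5, 28, 28, 28, 31, 1, 30, 30, 29, 28, 5, 5, 29, 31, 1, 1, 1, 1, 28, 5, 31, 28, 31, 1, 28, 28, 28, 28] .fail))))),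 (1, (.step [5, 28, 31, 1, 1] (.step [29, 5, 31, 29, 31, 29, 31, 1] (.step [1, 1, 28, 28, 5, 30, 5, 29, 1, 28, 28, 30, 5, 29, 1] (.step [31, 29, 30, 5, 29, 5, 5, 29, 28, 31, 31, 31, 1, 28, 5, 30, 31, 31, 5, 29, 1, 1, 1, 1, 31, 28] .fail))))), (1, (.step [28, 5, 29, 29, 30] (.step [28, 1, 31, 29, 30, 29, 29, 1] (.step [1, 28, 28, 5, 29, 1, 1, 31, 31, 5, 29, 30, 30, 30] (.step [29, 28, 31, 1, 30, 5, 31, 29, 1, 29, 31, 5, 31, 31, 30, 30, 30, 30, 28, 5, 28, 28, 28, 5, 29, 5] .fail))))), (1, (.step [5, 31, 5] (.step [1, 29, 29, 29, 5, 31, 28] (.step [30, 30, 29, 5, 31, 28, 28, 28, 31, 31, 31, 1, 28, 5] (.step [1, 28, 28, 30, 1, 30, 28, 30, 1, 29, 30, 30, 30, 5, 28, 5, 28, 1, 31, 28, 30, 5, 28] .fail))))), (1, (.step [5, 28, 31, 31, 5] (.step [1, 31, 5, 28, 30, 28, 30, 30, 29] (.step [1, 28, 5, 5, 29, 29, 31, 31, 29, 30, 30] (.step [30,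 29, 30, 1, 30, 28, 28, 31, 29, 29, 1, 31, 28, 29, 28, 30, 1, 30, 1, 1, 29, 1, 29, 30] .fail))))), (1, (.step [29, 5, 29] (.step [29, 1, 30, 30, 30, 30, 28, 5] (.step [28, 5, 5, 30, 29, 31, 1, 29, 29, 5, 31, 31, 31, 31] (.step [1, 28, 5, 5, 31, 5, 30, 28, 30, 1, 29, 29, 30, 1, 28, 31, 31, 31, 5, 31, 5, 31, 31, 28, 1, 1, 29] .fail))))), (1, (.step [5, 31, 1, 1] (.step [28, 31, 29, 29, 31, 29, 31, 31, 28] (.step [28, 31, 29, 5, 28, 1, 29, 5, 31, 5, 30, 30] (.step [29, 29, 29, 30, 28, 5, 28, 5, 29, 31, 1, 30, 30, 29, 29, 5, 30, 5, 1, 30, 29, 29, 29] .fail))))), (1, (.step [5, 5, 29, 29] (.step [5, 28, 1, 30, 28, 30, 5, 5, 5] (.step [29, 1, 31, 29, 30, 5, 29, 1, 29, 1, 31, 31, 31] (.step [1, 30, 30, 28, 31, 28, 1, 29, 28, 30, 30, 5, 28, 29, 30, 31, 31, 1, 1, 1, 28, 1, 28, 31, 28, 1, 28] .fail))))), (2, (.step [1, 28, 1, 29] (.step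 [28, 5, 31, 5, 30, 30, 5] (.step [29, 1, 31, 31, 28, 1, 1, 1, 5, 28, 5, 30, 28, 1, 1] (.step [1, 1, 30, 30, 30, 5, 28, 1, 29, 31, 31, 30, 30, 30, 30, 30, 28, 28, 1, 30, 30, 30, 1, 30, 30, 28] .fail))))), (1, (.step [29, 1, 30, 5, 5] (.step [30, 29, 29, 30, 1, 28] (.step [5, 31, 31, 31, 1, 28, 1, 1, 28, 29, 30] (.step [28, 28, 5, 29, 29, 29, 31, 5, 31, 31, 5, 29, 29, 30, 1, 28, 31, 28, 28, 28, 31, 31, 1, 28, 28] .fail))))), (3, .fail), (1, (.step [28, 1, 30, 1, 28] (.step [29, 5, 29, 30, 30, 29, 5, 28] (.step [29, 5, 31, 31, 31, 28, 28, 30, 30, 29, 1, 1, 31, 31, 30] (.step [5, 5, 30, 1, 29, 31, 1, 1, 1, 1, 31, 28, 31, 31, 5, 29, 1, 29, 29, 5, 30, 5, 1, 30, 29, 29, 29] .fail))))), (3, .fail), (1, (.step [1, 30, 1, 29] (.step [31, 1, 30, 28, 30, 29, 1, 28] .fail))), (11, .fail), (1, (.step [1, 31, 28, 28] .fail)), (1, (.step [1,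 31, 31] (.step [29, 1, 1, 1, 28, 5, 30, 29] (.step [28, 31, 5, 31, 28, 30, 5, 29, 29, 5, 31, 1, 29, 5, 30, 28, 31] (.step [5, 5, 30, 30, 29, 1, 5, 30, 30, 28, 31, 1, 28, 28, 30, 28, 28, 31, 5, 28, 28, 28, 31, 31, 1, 28, 28] .fail))))), (21, .fail), (1, (.step [1, 30, 30, 5, 29] (.step [29, 30, 1, 1, 1, 28, 30, 1] .fail))), (8, .fail), (1, (.step [5, 5, 30, 5, 30] .fail)), (1, (.step [5, 5, 30, 1, 1] .fail)), (2, .fail), (1, (.step [5, 29, 5, 30, 5] .fail)), (1, (.step [5, 5, 5, 5, 28] .fail)), (19, .fail), (1, (.step [5, 29, 31, 29, 1] .fail)), (1, (.step [28, 28, 5, 30] (.step [5, 5, 29, 1, 28, 31, 1] .fail))), (7, .fail), (1, (.step [1, 31, 28] .fail)), (13, .fail), (1, (.step [29, 31, 5, 5] .fail)), (2, .fail), (1, (.step [1, 30, 28, 1, 1] (.step [31, 5, 29, 31, 28, 1, 28, 28] (.step [29, 31, 31, 5, 31, 31, 31, 5, 29, 29, 31,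 31, 31, 31] (.step [29, 31, 31, 28, 5, 30, 1, 31, 31, 29, 1, 28, 28, 30, 28, 30, 5, 5, 29] .fail))))), (1, .fail), (1, (.step [1, 28, 30, 30, 5, 29] .fail)), (1, (.step [29, 31, 31, 29, 5] .fail)), (13, .fail), (1, (.step [1, 31, 31, 31, 28] .fail)), (5, .fail), (1, (.step [1, 31, 31, 29] .fail)), (13, .fail), (1, (.step [1, 29, 30, 28, 28] .fail)), (1, .fail), (1, (.step [5, 29, 5, 28] .fail)), (5, .fail), (1, (.step [29, 31, 29, 31] .fail)), (8, .fail), (1, (.step [29, 5, 28, 1] .fail)), (11, .fail), (1, (.step [29, 1, 28, 1] .fail)), (18, .fail), (1, (.step [29, 1, 31, 29] .fail)), (13, .fail), (1, (.step [1, 31, 31, 31, 28] .fail)), (1, .fail), (1, (.step [1, 1, 1, 1, 1] .fail)), (4, .fail), (1, (.step [28, 31, 29, 1] .fail)), (2, .fail), (1, (.step [5, 29, 5, 28] .fail)), (1, .fail), (1, (.step [5, 28, 31, 28, 5] .fail)),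 (10, .fail), (1, (.step [28, 28, 5, 30] (.step [5, 5, 29, 1, 28, 31, 1] .fail))), (1, .fail), (1, (.step [1, 29, 5, 5, 29] (.step [31, 29, 29, 5, 30, 29, 29, 5] .fail))), (12, .fail), (1, (.step [1, 1, 1, 1, 1] .fail)), (6, .fail), (1, (.step [5, 30, 30, 29, 5] .fail)), (3, .fail), (1, (.step [1, 30, 28, 31, 29] .fail)), (4, .fail), (1, (.step [1, 30, 1, 30, 28] .fail)), (1, (.step [29, 30, 30, 28, 31] .fail)), (2, .fail), (1, (.step [5, 28, 31, 31] .fail)), (11, .fail), (1, (.step [5, 30, 29, 1] .fail)), (15, .fail), (1, (.step [5, 5, 30, 5, 31] .fail)), (6, .fail), (1, (.step [1, 1, 30, 5, 30] .fail)), (1, (.step [29, 29, 1, 1] (.step [30, 1, 28, 28, 30, 5, 29, 1] .fail))), (5, .fail), (1, (.step [5, 28, 31, 5] .fail)), (3, .fail), (1, (.step [5, 30] .fail)), (1, (.step [1, 28, 5, 29, 5, 31] .fail)), (2, .fail), (1, (.step [5,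 5, 5, 30, 30] .fail)), (1, (.step [1, 31, 28, 5] (.step [30, 1, 1, 29, 30, 28, 1, 28, 1] .fail))), (1, .fail), (1, (.step [29, 31, 5, 29] (.step [5, 31, 28, 31, 31, 28, 30, 29] .fail))), (9, .fail), (1, (.step [1, 30, 1, 29] (.step [31, 1, 30, 28, 30, 29, 1, 28] .fail))), (32, .fail), (1, (.step [1, 28, 31, 5, 28] .fail)), (5, .fail), (1, (.step [29, 1, 28] (.step [5, 5, 5, 29, 30, 30, 5, 28] .fail))), (20, .fail), (1, (.step [1, 30, 29, 31, 5] .fail)), (1, (.step [5, 28, 30, 5] .fail)), (1, (.step [1, 1, 29, 31, 29] .fail)), (26, .fail), (1, (.step [29, 30, 29, 29] .fail)), (8, .fail), (1, (.step [1, 29, 31, 29, 30] .fail)), (2, .fail), (1, (.step [28, 31, 29, 29] .fail)), (10, .fail), (1, (.step [1, 29, 30, 28, 28] .fail)), (9, .fail), (1, (.step [28, 30, 1, 30, 30] (.step [1, 31, 31, 31, 1, 1, 30, 29, 29] (.step [] (.step [5,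 30, 5, 28, 31, 1, 28, 5, 5, 1, 1, 28, 5, 31, 5, 5, 5, 5, 31, 31, 31, 1, 28, 1, 1, 30] .fail))))), (2, .fail), (1, (.step [28, 5, 30, 1, 28] (.step [31, 31, 29, 29, 30, 1, 28] .fail))), (3, .fail), (1, (.step [1, 28, 30, 30, 5, 29] .fail)), (3, .fail), (1, (.step [1, 28, 1, 30, 5] .fail)), (6, .fail), (1, (.step [5, 28, 30, 5] .fail)), (1, (.step [5, 28, 5, 31, 28] (.step [31, 5, 31, 1, 29, 29, 29, 30, 28] .fail))), (1, .fail), (1, (.step [5, 30, 30, 30, 28] .fail)), (6, .fail), (1, (.step [1, 30, 1, 29] (.step [31, 1, 30, 28, 30, 29, 1, 28] .fail))), (7, .fail), (1, (.step [1, 29, 29, 30, 29] .fail)), (22, .fail), (1, (.step [1, 28, 1, 29] .fail)), (1, (.step [1, 30, 28, 5, 31] .fail)), (2, .fail), (1, (.step [1, 31] .fail)), (1, (.step [1, 28, 5, 5, 28] .fail)), (11, .fail), (1, (.step [29, 5, 30, 30] .fail)), (1, (.step [28,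 28, 5, 30] (.step [5, 5, 29, 1, 28, 31, 1] .fail))), (7, .fail), (1, (.step [1, 31, 28] .fail)), (13, .fail), (1, (.step [1, 28, 30, 30, 5, 29] .fail)), (1, (.step [1, 28, 1, 31, 31] .fail)), (9, .fail), (1, (.step [1, 31, 31, 31, 28] .fail)), (4, .fail), (1, (.step [1, 31, 31, 29] .fail)), (9, .fail), (1, (.step [1, 28, 5, 29, 5] .fail)), (1, .fail), (1, (.step [28, 31, 31, 29] .fail)), (1, .fail), (1, (.step [28, 5, 30, 1, 31] .fail)), (8, .fail), (1, (.step [5, 5, 5, 5, 28] .fail)), (7, .fail), (1, (.step [5, 29, 5, 5] .fail)), (14, .fail), (1, (.step [5, 28, 28, 28] .fail)), (9, .fail), (1, (.step [1, 1, 28, 31, 1] .fail)), (1, .fail), (1, (.step [1, 28, 30, 28] .fail)), (4, .fail), (1, (.step [5, 5, 31, 29, 5] .fail)), (2, .fail), (1, (.step [5, 29, 5, 28] .fail)), (1, .fail), (1, (.step [5, 28, 31, 28, 5] .fail)), (15, .fail),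 (1, (.step [5, 28, 28, 31, 1] .fail)), (6, .fail), (1, (.step [1, 28, 5, 30, 28, 30] .fail)), (4, .fail), (1, (.step [28, 31, 1, 1, 28] .fail)), (1, (.step [28, 1, 29, 1] .fail)), (30, .fail), (1, (.step [1, 30, 1, 28] .fail)), (1, (.step [28, 5, 29, 29] (.step [5, 29, 29, 30, 5, 5, 29, 5] .fail))), (1, .fail), (1, (.step [5, 5, 5, 31] .fail)), (3, .fail), (1, (.step [1, 30, 1, 30, 28] .fail)), (1, (.step [1, 28, 5, 29, 5, 31] .fail)), (2, .fail), (1, (.step [1, 30, 29, 31, 5] .fail)), (1, (.step [1, 30, 30, 1, 30] (.step [28, 5, 31, 1, 31, 29, 5, 29] .fail))), (1, .fail), (1, (.step [28, 30, 1, 30, 29] (.step [5, 5, 31, 31, 1, 30, 5, 29] .fail))), (3, .fail), (1, (.step [1, 30, 1, 29] (.step [31, 1, 30, 28, 30, 29, 1, 28] .fail))), (35, .fail), (1, (.step [5, 28, 30, 5] .fail)), (1, (.step [28, 1, 29, 1, 28] .fail)), (18, .fail),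 (1, (.step [29, 30, 29, 29] .fail)), (6, .fail), (1, (.step [28, 28, 31, 5, 29] .fail)), (2, .fail), (1, (.step [28, 31, 29, 29] .fail)), (16, .fail), (1, (.step [28, 5, 30, 1, 28] (.step [31, 31, 29, 29, 30, 1, 28] .fail))), (9, .fail), (1, (.step [1, 1, 29, 29, 1] .fail)), (1, (.step [5, 28, 5, 31, 28] (.step [31, 5, 31, 1, 29, 29, 29, 30, 28] .fail))), (1, .fail), (1, (.step [5, 31, 31, 1] .fail)), (3, .fail), (1, (.step [1, 30, 1, 29] (.step [31, 1, 30, 28, 30, 29, 1, 28] .fail))), (7, .fail), (1, (.step [1, 1, 29, 31, 5] .fail)), (17, .fail), (1, (.step [1, 30, 5, 30, 30] .fail)), (1, (.step [29, 1, 31, 5, 30] .fail)), (2, .fail), (1, (.step [1, 30, 5, 30, 30] .fail)), (1, (.step [29, 30, 29, 30] .fail)), (7, .fail), (1, (.step [1, 1, 30] .fail)), (1, (.step [28, 28, 5, 30] (.step [5, 5, 29, 1, 28, 31, 1] .fail))), (13, .fail),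 (1, (.step [5, 5, 30, 1] .fail)), (1, (.step [5, 29, 30, 28, 30] .fail)), (9, .fail), (1, (.step [1, 1, 1, 28, 5] .fail)), (4, .fail), (1, (.step [5, 30, 1, 30, 29, 1] .fail)), (9, .fail), (1, (.step [28, 31, 29, 1] .fail)), (4, .fail), (1, (.step [28, 5, 29] .fail)), (15, .fail), (1, (.step [5, 28, 5, 5, 28] .fail)), (4, .fail), (1, (.step [28, 1, 30, 1] .fail)), (4, .fail), (1, (.step [5, 28, 5, 29, 30] .fail)), (3, .fail), (1, (.step [5, 28, 31, 28, 5] .fail)), (11, .fail), (1, (.step [28, 31, 1] .fail)), (8, .fail), (1, (.step [1, 1, 31] .fail)), (1, (.step [5, 5, 5, 5, 28] .fail)), (20, .fail), (1, (.step [1, 1, 30, 28, 31] .fail)), (1, (.step [1, 1, 30, 5, 30] (.step [28, 1, 29, 1, 30, 5, 30, 1, 1] .fail))), (1, .fail), (1, (.step [5, 5, 5, 31] .fail)), (3, .fail), (1, (.step [1, 31, 31, 31, 28] .fail)), (1, (.step [28,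 28, 5, 30] (.step [5, 5, 29, 1, 28, 31, 1] .fail))), (1, .fail), (1, (.step [1, 1, 1, 29, 30] (.step [1, 31, 5, 5, 29, 5] .fail))), (2, .fail), (1, (.step [1, 30, 1, 29] (.step [31, 1, 30, 28, 30, 29, 1, 28] .fail))), (35, .fail), (1, (.step [1, 1, 1, 1, 1] .fail)), (3, .fail), (1, (.step [28, 28, 31, 5, 29] .fail)), (2, .fail), (1, (.step [5, 30, 1, 31, 31] .fail)), (11, .fail), (1, (.step [5, 29, 1] (.step [28, 1, 31, 28, 5, 28, 30, 1, 1] .fail))), (7, .fail), (1, (.step [1, 1, 31, 28, 1] .fail)), (1, (.step [1, 28, 30, 28, 5] (.step [31, 1, 28, 28, 1, 30, 30, 1] .fail))), (4, .fail), (1, (.step [1, 30, 1, 29] (.step [31, 1, 30, 28, 30, 29, 1, 28] .fail))), (7, .fail), (1, (.step [28, 30, 1, 30] .fail)), (13, .fail), (1, (.step [1, 29, 5, 28] .fail)), (1, (.step [29, 31, 29, 5] .fail)), (2, .fail), (1, (.step [1, 30, 5, 30,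 30] .fail)), (1, (.step [29, 29, 5, 28, 1] .fail)), (3, .fail), (1, (.step [29, 5, 30, 30] .fail)), (1, (.step [29, 29, 1, 1] (.step [30, 1, 28, 28, 30, 5, 29, 1] .fail))), (6, .fail), (1, (.step [1, 30, 5, 30, 1] .fail)), (1, (.step [28, 30, 29, 30, 1] .fail)), (17, .fail), (1, (.step [1, 29, 29, 30] .fail)), (17, .fail), (1, (.step [29] .fail)), (4, .fail), (1, (.step [1, 1, 30, 28, 28] .fail)), (11, .fail), (1, (.step [5, 30, 1, 30, 29, 1] .fail)), (7, .fail), (1, (.step [28, 31, 28, 28] .fail)), (1, (.step [1, 29, 31, 29] .fail)), (10, .fail), (1, (.step [1, 1, 30, 28, 31] .fail)), (1, (.step [1, 30, 28, 31, 28] (.step [28, 1, 29, 29, 30, 5, 30, 28] .fail))), (1, .fail), (1, (.step [1, 29, 5, 31] .fail)), (4, .fail), (1, (.step [28, 30, 30, 5, 28] (.step [29, 5, 28, 1, 31, 1, 30, 29, 29] .fail))), (24, .fail), (1, (.step [28,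 28, 31, 5, 29] .fail)), (1, .fail), (1, (.step [5, 30, 1, 31, 31] .fail)), (8, .fail), (1, (.step [5, 29, 1] (.step [28, 1, 31, 28, 5, 28, 30, 1, 1] .fail))), (6, .fail), (1, (.step [1, 28, 30, 28, 5] (.step [31, 1, 28, 28, 1, 30, 30, 1] .fail))), (1, (.step [1, 1, 28, 30, 29] (.step [28, 31, 1, 29, 5, 5, 5, 28] .fail))), (16, .fail), (1, (.step [1, 29, 5, 28] .fail)), (1, (.step [29, 31, 29, 5] .fail)), (3, .fail), (1, (.step [29, 5, 30, 30] .fail)), (1, (.step [29, 29, 1, 1] (.step [30, 1, 28, 28, 30, 5, 29, 1] .fail))), (4, .fail), (1, (.step [5, 28, 28, 30, 29] .fail)), (25, .fail), (1, (.step [1, 30, 29, 31, 5] .fail)), (4, .fail), (1, (.step [1, 31, 28, 5, 31] .fail)), (11, .fail), (1, (.step [28, 31, 28, 28] .fail)), (1, (.step [1, 28, 30, 28, 5] .fail)), (3, .fail), (1, (.step [28, 5, 29, 29, 30] .fail)), (1, (.step [1,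 1, 31, 29, 1] (.step [29, 1, 1, 1, 28, 5, 30, 29] .fail))), (1, .fail), (1, (.step [5, 29, 1] .fail)), (4, .fail), (1, (.step [29, 31, 5, 29] (.step [5, 31, 28, 31, 31, 28, 30, 29] .fail))), (16, .fail), (1, (.step [28, 28, 31, 5, 29] .fail)), (6, .fail), (1, (.step [1, 30] (.step [30, 29, 29, 29, 31, 29, 31, 1] .fail))), (4, .fail), (1, (.step [1, 30, 1, 29] (.step [31, 1, 30, 28, 30, 29, 1, 28] .fail))), (1, (.step [1, 29, 5, 28, 28] (.step [1, 31, 5, 29, 30, 5, 29, 30, 29] .fail))), (16, .fail), (1, (.step [1, 1, 29, 30, 29] .fail)), (1, (.step [5, 28, 31] .fail)), (4, .fail), (1, (.step [5, 28, 28, 30, 29] .fail)), (20, .fail), (1, (.step [28, 30, 29] .fail)), (10, .fail), (1, (.step [5, 31, 29, 5] .fail)), (12, .fail), (1, (.step [28, 28, 31, 5, 29] .fail)), (4, .fail), (1, (.step [1, 31, 1, 31] (.step [28, 5, 29, 1, 29,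 5, 29, 5] .fail))), (4, .fail), (1, (.step [1, 31, 28, 28] (.step [5, 28, 1, 30, 28, 30, 5, 5, 5] .fail))), (8, .fail), (1, (.step [5, 5, 5, 30] .fail)), (1, (.step [5, 28, 31] .fail)), (3, .fail), (1, (.step [29, 30, 1, 30] .fail)), (15, .fail), (1, (.step [5, 28, 5, 28, 28] .fail)), (10, .fail), (1, (.step [1, 1, 31, 1, 29] .fail)), (3, .fail), (1, (.step [1, 31, 1, 31] (.step [28, 5, 29, 1, 29, 5, 29, 5] .fail))), (3, .fail), (1, (.step [1, 1, 29, 31, 5] .fail)), (1, (.step [5, 28, 31] .fail)), (12, .fail), (1, (.step [1, 1, 30, 28, 28] .fail)), (10, .fail), (1, (.step [1, 30, 29, 5, 30] .fail)), (4, .fail), (1, (.step [1, 1, 29, 31, 5] .fail)), (1, (.step [5, 28, 31] .fail)), (7, .fail), (1, (.step [1, 31, 29, 1, 31] .fail)), (4, .fail), (1, (.step [1, 30, 29, 5, 30] .fail)), (3, .fail), (1, (.step [1, 1, 29, 31, 5] .fail)),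 (1, (.step [1, 28, 1, 29] .fail)), (2, .fail), (1, (.step [5, 30, 28, 31] .fail)), (4, .fail), (1, (.step [1, 30, 29, 5, 30] .fail)), (2, .fail), (1, (.step [5, 30, 29, 31, 29] .fail)), (1, (.step [1, 1, 29, 31, 29] .fail)), (4, .fail), (1, (.step [28, 5, 28, 1, 31] .fail)), (1, (.step [1, 1, 29, 31, 29] .fail)), (68, .fail), (1, (.step [1, 1, 29, 31, 29] .fail)), (29, .fail), (1, (.step [5, 28, 5, 29, 31] .fail)), (3, .fail), (1, (.step [29, 30, 30, 5] .fail)), (9, .fail), (1, (.step [5, 5, 5, 5, 28] .fail)), (29, .fail), (1, (.step [28, 28, 1] .fail)), (5, .fail), (1, (.step [29, 30, 30, 5] .fail)), (1, .fail), (1, (.step [29, 1, 31, 28] .fail)), (12, .fail), (1, (.step [29, 1, 29] .fail)), (15, .fail), (1, (.step [28, 30, 1, 30, 30] (.step [1, 31, 31, 31, 1, 1, 30, 29, 29] (.step [] (.step [5, 30, 5, 28, 31, 1, 28, 5, 5, 1,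 1, 28, 5, 31, 5, 5, 5, 5, 31, 31, 31, 1, 28, 1, 1, 30] .fail))))), (10, .fail), (1, (.step [28, 28, 5, 30] (.step [5, 5, 29, 1, 28, 31, 1] .fail))), (14, .fail), (1, (.step [28, 28, 1] .fail)), (1, .fail), (1, (.step [5, 5, 5, 5] .fail)), (5, .fail), (1, (.step [5, 30, 1, 28] .fail)), (2, .fail), (1, (.step [5, 28, 30, 5] .fail)), (9, .fail), (1, (.step [1, 28, 5, 29] .fail)), (6, .fail), (1, (.step [28, 5, 28, 1, 31] .fail)), (14, .fail), (1, (.step [29, 30, 30, 28] .fail)), (1, (.step [5, 28, 31, 29] (.step [29, 30, 5, 31, 1, 28, 5, 31, 28] .fail))), (5, .fail), (1, (.step [5, 30, 30, 30, 28] .fail)), (2, .fail), (1, (.step [5, 30, 28, 28] .fail)), (2, .fail), (1, (.step [5, 30, 28, 28] .fail)), (2, .fail), (1, (.step [29, 29, 29, 29, 30] .fail)), (1, .fail), (1, (.step [5, 5, 28, 30] .fail)), (6, .fail), (1, (.step [29, 5,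 30, 30, 1] .fail)), (1, (.step [1, 1, 30, 1] .fail)), (3, .fail), (1, (.step [1, 31, 1, 31, 31] .fail)), (4, .fail), (1, (.step [29, 1, 28, 30] .fail)), (7, .fail), (1, (.step [1, 28, 31, 5] .fail)), (2, .fail), (1, (.step [28, 5, 30, 1, 30] .fail)), (1, (.step [29, 30, 30, 28, 28] .fail)), (1, .fail), (1, (.step [1, 28, 5, 29, 5, 31] .fail)), (4, .fail), (1, (.step [5, 5, 30, 5, 29] (.step [29, 1, 30, 30, 29, 31, 5, 30, 29] (.step [28, 31, 29, 1, 31, 28, 31, 31, 5] .fail)))), (1, (.step [28, 30, 30, 1] (.step [31, 28, 28, 31, 1, 30, 1, 30, 29] (.step [] .fail)))), (1, (.step [5, 28, 5] .fail)), (6, .fail), (1, (.step [28, 5, 28, 31] .fail)), (3, .fail), (1, (.step [29, 5, 30, 30, 1] .fail)), (1, .fail), (1, (.step [] .fail)), (3, .fail), (1, (.step [5, 28, 5, 28] .fail)), (1, (.step [1, 28, 31, 28, 30] (.step [1, 30, 29, 5, 29,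 5, 30, 28, 5] (.step [30, 29, 29, 29, 5, 30, 28, 31, 5, 29, 29, 31, 31, 31, 31] .fail)))), (4, .fail), (1, (.step [1, 28, 31, 28] (.step [31, 1, 1, 31, 31, 5, 30, 5] (.step [5, 29, 29, 30, 30, 5, 31, 28, 29, 29, 31, 28, 30, 30, 30, 28] .fail)))), (3, .fail), (1, (.step [5, 28, 1, 1] (.step [29, 31, 1, 28, 5, 30, 1] (.step [1, 29, 29, 30, 1, 29, 30, 28, 5, 28, 28, 29, 30] .fail)))), (2, .fail), (1, (.step [29, 1, 29] .fail)), (1, (.step [1, 30, 30, 29, 31] .fail)), (1, (.step [1, 28, 1, 30, 5, 30] (.step [28, 30, 29, 29, 29, 5, 28] (.step [29, 30, 30, 28, 30, 29, 31, 5, 29, 29, 31, 31, 31, 31] .fail)))), (3, .fail), (1, (.step [5, 31, 29, 31] .fail)), (1, (.step [1, 29, 30, 1, 31] (.step [5, 29, 29, 1, 30, 1, 29] (.step [28, 28, 30, 1, 28, 28, 30, 1, 1, 28, 31, 31, 31] .fail)))), (4, .fail), (1, (.step [1, 1, 28, 30, 28] (.step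 [30, 1, 29, 5, 30, 30, 30, 29] (.step [29, 1, 30, 30, 28, 31, 5, 31, 29, 29, 31, 5] .fail)))), (1, (.step [1, 28, 1, 29, 5] .fail)), (1, .fail), (1, (.step [1, 1, 31, 1, 29, 30] .fail)), (4, .fail), (1, (.step [28, 30, 30, 30] .fail)), (5, .fail), (1, (.step [29, 29, 1, 1, 29] .fail)), (2, .fail), (1, (.step [29, 31, 31] .fail)), (1, .fail), (1, (.step [1, 29, 5, 28] (.step [31, 5, 29, 29, 30, 5, 5, 29, 5] (.step [5, 29, 29, 5, 5, 31, 5, 31, 1, 31, 1, 1, 28, 29, 30] .fail)))), (1, (.step [1, 31, 29, 31, 5] (.step [1, 31, 5, 29, 29, 29, 1, 29] (.step [5, 1, 29, 5, 31, 5, 28, 30, 5, 30, 5, 28, 1, 30, 30] .fail)))), (6, .fail), (1, (.step [5, 29, 31, 5, 28] (.step [28, 5, 5, 29, 31, 1, 1, 1, 1] (.step [5, 5, 28, 1, 31, 5, 28, 1, 1, 1, 28, 5, 30, 29, 5] .fail)))), (1, .fail), (1, (.step [28, 30, 1, 29] .fail)), (6, .fail), (1, (.step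 [29, 1, 30] .fail)), (1, (.step [5, 29, 1] .fail)), (1, (.step [5, 29, 5, 30, 5] .fail)), (1, (.step [5, 31, 29, 31, 5] (.step [29, 29, 5, 31, 5, 28, 5, 28] (.step [29, 31, 31, 1, 28, 5, 28, 28, 30, 30, 30] .fail)))), (1, (.step [1, 28, 5, 5, 31] .fail)), (1, .fail), (1, (.step [1, 1, 1, 1, 28] (.step [29, 29, 5, 31, 5, 28, 5, 28] (.step [30, 1, 31, 31, 28, 28, 1, 29, 31, 29, 29, 1, 30, 28] .fail)))), (1, (.step [1, 31, 29, 1, 30] .fail)), (1, .fail), (1, (.step [1, 29, 1, 30] .fail)), (6, .fail), (1, (.step [1, 28, 5, 5, 28] .fail)), (6, .fail), (1, (.step [1, 1, 28, 30, 1] (.step [29, 30, 29, 30, 29, 1, 31, 29, 29] (.step [30, 1, 31, 31, 28, 28, 1, 29, 31, 29, 29, 1, 30, 28] .fail)))), (1, .fail), (1, (.step [28, 5, 28] .fail)), (1, (.step [1, 28, 5, 29, 5] (.step [28, 5, 31, 1, 31, 29, 5, 29] (.step [1, 28, 1, 28, 5, 28, 1,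 29, 5, 31, 29, 5, 28, 31, 1, 28] .fail)))), (1, (.step [28, 1, 28, 31] (.step [1, 29, 30, 30, 28, 31, 28, 30, 28] (.step [5, 5, 5, 28, 31, 28, 30, 1, 5, 30, 1, 1, 1, 31, 5] .fail)))), (1, (.step [1, 29, 30, 28, 1] .fail)), (1, (.step [1, 29, 29, 1, 30] .fail)), (1, (.step [1, 28, 1, 31, 5] .fail)), (5, .fail), (1, (.step [29, 29, 1, 31] .fail)), (11, .fail), (1, (.step [28, 5, 28, 31] .fail)), (1, (.step [29, 30, 30] .fail)), (2, .fail), (1, (.step [28, 1, 28, 1] .fail)), (3, .fail), (1, (.step [1, 1, 28, 30, 1] .fail)), (1, .fail), (1, (.step [5, 5, 5, 28, 28] .fail)), (4, .fail), (1, (.step [29, 5, 30, 30, 1] .fail)), (3, .fail), (1, (.step [1, 30, 29] .fail)), (2, .fail), (1, (.step [29, 29, 31, 29] .fail)), (8, .fail), (1, (.step [5, 28, 1, 1, 28] .fail)), (1, .fail), (1, (.step [5, 28, 31, 1, 30] .fail)), (1, .fail), (1,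 (.step [1, 28, 30, 30, 29] (.step [30, 5, 31, 31, 5, 29, 29, 5] (.step [30, 29, 29, 29, 5, 30, 28, 31, 5, 29, 29, 31, 31, 31, 31] .fail)))), (1, (.step [1, 28, 31, 28, 30] (.step [1, 30, 29, 5, 29, 5, 30, 28, 5] (.step [30, 29, 29, 29, 5, 30, 28, 31, 5, 29, 29, 31, 31, 31, 31] .fail)))), (1, (.step [29, 29, 1] .fail)), (4, .fail), (1, (.step [1, 30, 5, 29] .fail)), (6, .fail), (1, (.step [1, 1, 28, 1, 31, 31] .fail)), (1, (.step [1, 28, 31, 28, 30] (.step [1, 30, 29, 5, 29, 5, 30, 28, 5] (.step [30, 29, 29, 29, 5, 30, 28, 31, 5, 29, 29, 31, 31, 31, 31] .fail)))), (3, .fail), (1, (.step [1, 30, 28] (.step [1, 30, 30, 1, 1, 1, 30, 5, 28] (.step [1, 29, 5, 31, 1, 30, 30, 1, 29, 29, 31, 31, 31, 29, 30, 28] .fail)))), (2, .fail), (1, (.step [1, 1, 31] (.step [28, 30, 28, 5, 30, 5, 29, 5] (.step [5, 29, 1, 29, 5, 28, 28, 5, 28, 1, 31,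 31] .fail)))), (1, .fail), (1, (.step [28, 30, 5, 30, 29] .fail)), (1, (.step [29, 29] (.step [29, 31, 31, 31, 28, 5, 30, 28] (.step [29, 1, 31, 29, 30, 5, 29, 1, 29, 1, 31, 31, 31] .fail)))), (2, .fail), (1, (.step [1, 29, 5, 28] .fail)), (1, (.step [1, 28, 5, 29, 30] (.step [5, 31, 29, 30, 5, 28, 28, 5, 28] (.step [28, 30, 29, 31, 5, 31, 28, 1, 5, 29, 29, 30, 30, 5] .fail)))), (1, .fail), (1, (.step [1, 28, 28, 5] (.step [28, 30, 28, 5, 30, 5, 29, 5] (.step [5, 31, 31, 5, 30, 5, 29, 1, 5, 5, 29, 5, 31, 29, 30, 1] .fail)))), (1, .fail), (1, (.step [1, 1, 31, 29] .fail)), (3, .fail), (1, (.step [1, 30, 30, 29] .fail)), (3, .fail), (1, (.step [5, 29, 1, 29] .fail)), (1, .fail), (1, (.step [1, 1, 1, 31] .fail)), (1, (.step [5, 29, 5, 28, 28] (.step [31, 30, 30] (.step [28, 31, 1, 28, 5, 30, 1, 31, 28, 5, 28, 5, 31, 5, 30, 30, 5]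 .fail)))), (1, (.step [28, 1, 1, 1] (.step [30, 28, 1, 29, 30, 29, 30, 28, 28] (.step [5, 29, 29, 30, 30, 5, 31, 28, 29, 29, 31, 28, 30, 30, 30, 28] .fail)))), (4, .fail), (1, (.step [1, 30, 30, 29] (.step [28, 5, 29, 1, 29, 5, 29, 5] (.step [29, 29, 31, 31, 28, 30, 29, 1, 1, 28, 31, 31, 5, 5, 5] .fail)))), (5, .fail), (1, (.step [28, 5, 28] .fail)), (1, (.step [5, 31, 29, 5] .fail)), (1, (.step [5, 29, 31, 5, 28] (.step [29, 5, 30, 5, 5, 31, 29, 30, 29] (.step [31, 28, 5, 28, 28, 28, 5, 29, 5, 30, 30, 30, 30] .fail)))), (1, (.step [5, 30, 30, 29, 30] (.step [30, 5, 28, 1, 29, 29, 29] (.step [30, 28, 28, 1, 1, 31, 1, 1, 1, 29, 5, 31, 28, 28] .fail)))), (1, (.step [5, 5, 31, 28, 1] .fail)), (4, .fail), (1, (.step [1, 1, 30] .fail)), (6, .fail), (1, (.step [1, 30, 29] .fail)), (1, (.step [1, 1, 28, 30, 28] (.step [30, 1, 29, 5,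 30, 30, 30, 29] (.step [29, 1, 30, 30, 28, 31, 5, 31, 29, 29, 31, 5] .fail)))), (1, (.step [1, 31, 29, 29] .fail)), (1, (.step [1, 28, 30, 5] .fail)), (3, .fail), (1, (.step [1, 1, 31, 1, 29, 30] .fail)), (7, .fail), (1, (.step [1, 31, 29, 29, 1] .fail)), (1, .fail), (1, (.step [28, 1, 28, 1] .fail)), (2, .fail), (1, (.step [28, 28, 30, 1] .fail)), (4, .fail), (1, (.step [5, 5, 29, 29] .fail)), (2, .fail), (1, (.step [29, 30, 5, 31] .fail)), (8, .fail), (1, (.step [5, 29, 5, 30, 5] .fail)), (1, .fail), (1, (.step [1, 28, 30, 30, 29] (.step [30, 5, 31, 31, 5, 29, 29, 5] (.step [30, 29, 29, 29, 5, 30, 28, 31, 5, 29, 29, 31, 31, 31, 31] .fail)))), (1, (.step [29, 29, 1] .fail)), (2, .fail), (1, (.step [1, 30, 1, 28, 30] .fail)), (4, .fail), (1, (.step [1, 28, 5, 5] .fail)), (2, .fail), (1, (.step [5, 31, 28] (.step [5, 31, 31, 1,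 1, 28, 5, 31, 5] (.step [5, 31, 29, 5, 5, 5, 31, 28, 1, 31, 31, 28, 28, 1] .fail)))), (2, .fail), (1, (.step [5, 5, 31, 1] (.step [30, 5, 30, 1, 29, 5, 31, 1, 1] (.step [1, 28, 5, 5, 29, 29, 31, 31, 29, 30, 30] .fail)))), (1, (.step [28, 1, 28, 31] .fail)), (1, (.step [28, 5, 31, 29, 5] (.step [1, 30, 29, 29, 31, 29, 29] (.step [29, 29, 1, 1, 31, 29, 29, 30, 30, 28, 31, 31, 31, 31] .fail)))), (1, .fail), (1, (.step [5, 29, 5, 5, 28] .fail)), (1, (.step [5, 30, 1, 30, 1] (.step [5, 30, 30, 30, 30, 28, 30, 29] (.step [5, 5, 28, 28, 30, 1, 31, 31, 29, 1, 29, 29, 30, 1, 28] .fail)))), (1, .fail), (1, (.step [1, 1, 31, 29] .fail)), (6, .fail), (1, (.step [1, 1, 1, 29, 30] .fail)), (1, (.step [1, 30, 28, 1] (.step [5, 5, 31, 31, 1, 30, 5, 29] (.step [31, 28, 1, 31, 30, 1, 31, 29, 31, 29, 31, 31, 30] .fail)))), (2, .fail), (1, (.step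 [1, 30, 30, 29] (.step [28, 5, 29, 1, 29, 5, 29, 5] (.step [29, 29, 31, 31, 28, 30, 29, 1, 1, 28, 31, 31, 5, 5, 5] .fail)))), (4, .fail), (1, (.step [1, 1, 1, 29] .fail)), (1, (.step [5, 29, 31, 5, 28] (.step [28, 5, 5, 29, 31, 1, 1, 1, 1] (.step [5, 5, 28, 1, 31, 5, 28, 1, 1, 1, 28, 5, 30, 29, 5] .fail)))), (1, (.step [5, 28, 30, 5, 31] .fail)), (3, .fail), (1, (.step [28, 5, 28, 30] .fail)), (3, .fail), (1, (.step [5, 5, 30] .fail)), (1, (.step [5, 28, 5, 5, 28] .fail)), (6, .fail), (1, (.step [1, 31, 1, 1, 30] .fail)), (1, (.step [28, 1, 28, 1] .fail)), (5, .fail), (1, (.step [28, 1, 28, 31] .fail)), (1, .fail), (1, (.step [28, 31, 1, 1, 31] .fail)), (5, .fail), (1, (.step [5, 29, 5, 30, 5] .fail)), (1, .fail), (1, (.step [1, 28, 1, 31, 5] (.step [28, 28, 1, 29, 1, 31, 1, 1] (.step [5, 5, 28, 30, 29, 1, 1, 30, 29, 1, 1, 30,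 30, 30] .fail)))), (1, .fail), (1, (.step [28, 5, 28, 5] .fail)), (4, .fail), (1, (.step [29, 1, 31, 1, 31] (.step [28, 28, 31, 1, 30, 1, 30, 29] (.step [29, 30, 5, 5, 28, 1, 1, 1, 29, 30, 5, 30, 30, 30, 30] .fail)))), (2, .fail), (1, (.step [29, 5, 28, 30] (.step [30, 29, 30, 1, 31, 1, 1, 29, 29] (.step [5, 31, 1, 29, 30, 28, 5, 5, 31, 29, 31, 31, 31] .fail)))), (1, (.step [29, 30, 30, 30, 5] .fail)), (1, .fail), (1, (.step [1, 29, 5] .fail)), (1, .fail), (1, (.step [1, 1, 31, 29] .fail)), (3, .fail), (1, (.step [1, 31, 31, 5] .fail)), (1, (.step [1, 30, 28, 1] (.step [5, 5, 31, 31, 1, 30, 5, 29] (.step [31, 28, 1, 31, 30, 1, 31, 29, 31, 29, 31, 31, 30] .fail)))), (1, .fail), (1, (.step [5, 28, 5, 28, 1] (.step [5, 30, 28, 30, 28, 28, 28] (.step [5, 29, 31, 28, 30, 29, 29, 5, 5, 31, 31, 5, 29, 29, 5] .fail)))), (2, .fail), (1,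 (.step [28, 31, 29, 29] .fail)), (1, (.step [1, 28, 30, 29, 29] .fail)), (4, .fail), (1, (.step [1, 29, 5, 28, 30] .fail)), (1, (.step [29, 1, 31] .fail)), (2, .fail), (1, (.step [1, 31, 1, 1, 30] .fail)), (1, (.step [1, 31, 1, 29, 5] .fail)), (15, .fail), (1, (.step [1, 1, 29, 1, 1] (.step [30, 29, 30, 1, 31, 31, 1, 30, 1] (.step [28, 1, 28, 31, 5, 30, 29, 1, 31, 31, 5, 5, 30, 30] .fail)))), (3, .fail), (1, (.step [1, 1, 29, 30, 5] .fail)), (1, .fail), (1, (.step [1, 30, 29, 31, 28] .fail)), (1, (.step [5, 28, 28, 5, 28] (.step [31, 1, 29, 5, 30, 30, 30, 29] (.step [29, 29, 30, 28, 31, 30, 5, 31, 1, 1, 31, 31, 5, 30, 30] .fail)))), (1, .fail), (1, (.step [1, 30, 30, 5, 30] (.step [31, 31, 31] (.step [29, 31, 31, 5, 31, 31, 31, 5, 29, 29, 31, 31, 31, 31] .fail)))), (1, (.step [1, 31, 1, 1] .fail)), (1, (.step [1, 29, 31, 29, 1]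 .fail)), (2, .fail), (1, (.step [5, 30, 30, 1] .fail)), (1, .fail), (1, (.step [1, 31, 1, 1, 30] .fail)), (1, (.step [5, 5, 31, 5, 31] .fail)), (13, .fail), (1, (.step [29, 29, 1, 31] .fail)), (1, .fail), (1, (.step [29, 5] .fail)), (3, .fail), (1, (.step [5, 5, 31, 5, 31] .fail)), (9, .fail), (1, (.step [29, 5] .fail)), (1, .fail), (1, (.step [29, 30, 5] .fail)), (5, .fail), (1, (.step [28, 31, 1, 1, 1] .fail)), (1, (.step [1, 31, 1, 31] .fail)), (1, .fail), (1, (.step [28, 31, 1, 1, 1] .fail)), (1, (.step [5, 31, 31] .fail)), (2, .fail)])), (6980, (.badPow 2093 1))]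

/-- the transporter of the element of order 23 to its fifth power, piece 5 -/
def cT2_5 : Cert := Cert.rl [(8190, (.badPow 2093 1))]

/-- the transporter of the element of order 23 to its fifth power, piece 6 -/
def cT2_6 : Cert := Cert.rl [(3069, (.badPow 2093 1))]

/-- the transporter of the element of order 23 to its fifth power, piece 7 -/
def cT2_7 : Cert := Cert.rl [(1, (.badPow 2093 1))]

/-- the transporter of the element of order 23 to its fifth power, piece 8 -/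
def cT2_8 : Cert := Cert.rl [(1452, (.badPow 2093 1))]

/-- the transporter of the element of order 23 to its fifth power, piece 9 -/
def cT2_9 : Cert := Cert.rl [(1, (.badPow 2093 1))]

/-- the transporter of the element of order 23 to its fifth power, piece 10 -/
def cT2_10 : Cert := Cert.rl [(8190, (.badPow 2093 1))]

/-- the transporter of the element of order 23 to its fifth power, piece 11 -/
def cT2_11 : Cert := Cert.rl [(8190, (.badPow 2093 1))]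

/-- the transporter of the element of order 23 to its fifth power, piece 12 -/
def cT2_12 : Cert := Cert.rl [(8190, (.badPow 2093 1))]

/-- the transporter of the element of order 23 to its fifth power, piece 13 -/
def cT2_13 : Cert := Cert.rl [(8190, (.badPow 2093 1))]

/-- the transporter of the element of order 23 to its fifth power, piece 14 -/
def cT2_14 : Cert := Cert.rl [(8190, (.badPow 2093 1))]

/-- the transporter of the element of order 23 to its fifth power, piece 15 -/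
def cT2_15 : Cert := Cert.rl [(8190, (.badPow 2093 1))]

/-- the transporter of the element of order 23 to its fifth power, piece 16 -/
def cT2_16 : Cert := Cert.rl [(8190, (.badPow 2093 1))]

/-- the transporter of the element of order 23 to its fifth power, piece 17 -/
def cT2_17 : Cert := Cert.rl [(8190, (.badPow 2093 1))]

/-- the transporter of the element of order 23 to its fifth power, piece 18 -/
def cT2_18 : Cert := Cert.rl [(8190, (.badPow 2093 1))]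

/-- the transporter of the element of order 23 to its fifth power, piece 19 -/
def cT2_19 : Cert := Cert.rl [(2783, (.badPow 2093 1))]

/-- the transporter of the element of order 23 to its fifth power: the pieces -/
def pcsT2 : List (List (List ℕ) × Cert) := [(U0_0, cT2_0), (U0_1, cT2_1), (U0_2, cT2_2), (U0_3, cT2_3), (U0_4, cT2_4), (U0_5, cT2_5), (U0_6, cT2_6), (U0_7, cT2_7), (U0_8, cT2_8), (U0_9, cT2_9), (U0_10, cT2_10), (U0_11, cT2_11), (U0_12, cT2_12), (U0_13, cT2_13), (U0_14, cT2_14), (U0_15, cT2_15), (U0_16, cT2_16), (U0_17, cT2_17), (U0_18, cT2_18), (U0_19, cT2_19)]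

/-- the centralizer of the element of order 11, piece 0 -/
def cCh_0 : Cert := Cert.rl [(22, (.badPow 2093 1)), (1, (Cert.rl [(1, (Cert.rl [(1, (.step [] (.step [] (.step [] (.step [] (.done [25])))))), (1, (.step [] (.step [] (.step [] (.step [] (.done [1, 25])))))), (1, (.step [] (.step [] (.step [] (.step [] (.done [1, 1, 1, 1, 1, 1, 1, 1, 25])))))), (1, (.step [] (.step [] (.step [] (.step [] (.done [1, 1, 25])))))), (1, (.step [28, 28, 30, 5, 28, 31, 28, 31, 28] (.step [29, 1, 31, 31, 28, 1, 1, 1, 5, 28, 5, 30, 28, 1, 1] (.step [30, 30, 28, 28, 1, 28, 31, 28, 1, 1, 1, 30, 28, 30, 29, 1, 28, 31, 29, 29, 5, 30, 30, 29, 29, 29] .fail)))), (1, (.step [] (.step [] (.step [] (.step [] (.done [1, 1, 1, 1, 1, 1, 1, 1, 1, 25])))))), (1, (.step [5, 30, 28, 5, 29, 5, 5, 5, 28, 5] (.step [29, 5, 29, 1, 1, 29, 31, 29, 29] (.step [28,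 5, 31, 5, 31, 1, 1, 30, 29, 29, 28, 30, 29, 29, 29, 5, 28] .fail)))), (1, (.step [] (.step [] (.step [] (.step [] (.done [1, 1, 1, 25])))))), (1, (.step [] (.step [] (.step [] (.step [] (.done [1, 1, 1, 1, 1, 25])))))), (1, (.step [28, 30, 28, 5, 30, 5, 29, 5] (.step [30, 28, 5, 5, 1, 28, 31, 29, 31, 1, 31, 31, 5] (.step [5, 30, 29, 1, 28, 30, 5, 30, 30, 29, 1, 29, 5, 31, 5, 30, 30, 5, 31, 28, 29, 29, 5, 30, 30, 29, 29, 29] .fail)))), (1, (.step [29, 5, 29, 30, 30, 29, 5, 28] (.step [28, 30, 5, 29, 29, 30, 28, 5, 28, 31, 31, 28, 1] (.step [29, 29, 5, 31, 31, 1, 30, 29, 5, 1, 31, 31, 1, 30, 1, 29, 31, 31, 31, 31, 1, 28, 1, 1, 30, 5, 30] .fail)))), (1, (.step [] (.step [] (.step [] (.step [] (.done [1, 1, 1, 1, 1, 1, 1, 1, 1, 1, 25])))))), (1, (.step [] (.step [] (.step [] (.step [] (.done [1, 1, 1, 1, 1, 1, 1, 25])))))), (1, (.step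 [30, 5, 28, 5, 30, 28, 1, 1] (.step [1, 31, 31, 29, 5, 28, 5, 5, 29, 1, 31, 28, 30, 30] (.step [1, 1, 28, 5, 1, 31, 29, 1, 1, 28, 5, 28, 1, 29, 30, 29, 30, 28, 28, 1, 1, 28, 28, 1, 29, 31, 29, 31, 28] .fail)))), (1, (.step [1, 1, 29, 29, 29, 30, 5, 29, 5] (.step [28, 30, 5, 29, 29, 30, 28, 5, 28, 31, 31, 28, 1] (.step [29, 29, 31, 31, 28, 30, 29, 1, 1, 28, 31, 31, 5, 5, 5, 1, 1, 29, 1, 29, 1, 31, 28, 30, 28, 1] .fail)))), (1, (.step [] (.step [] (.step [] (.step [] (.done [1, 1, 1, 1, 25])))))), (1, (.step [31, 1, 30, 29, 29, 31, 29, 29] (.step [31, 29, 5, 30, 1, 31, 28, 28, 30, 29, 1, 29, 5, 31, 28, 28] (.step [1, 29, 30, 5, 30, 28, 31, 29, 1, 1, 28, 28, 28, 30, 28, 28, 31, 5, 30, 1, 1, 28, 28, 1, 29, 31, 29, 31, 28] .fail)))), (1, (.step [] (.step [] (.step [] (.step [] (.done [1, 1, 1, 1, 1, 1, 25])))))), (1, (.step [1, 1,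 29, 29, 29, 30, 5, 29, 5] (.step [28, 30, 5, 29, 29, 30, 28, 5, 28, 31, 31, 28, 1] (.step [29, 29, 31, 31, 28, 30, 29, 1, 1, 28, 31, 31, 5, 5, 5, 1, 1, 29, 1, 29, 1, 31, 28, 30, 28, 1] .fail)))), (1, (.step [29, 31, 1, 30, 28, 5, 5, 31, 29] (.step [5, 28, 31, 29, 30, 30, 28, 28, 1, 1, 1, 30, 30, 29, 5] (.step [30, 1, 28, 5, 30, 1, 29, 31, 28, 5, 29, 5, 28, 5, 29, 5, 30, 1, 1, 1, 1, 1, 29, 1, 31, 5, 29] .fail)))), (1, (.step [1, 1, 29, 29, 29, 30, 5, 29, 5] (.step [28, 30, 5, 29, 29, 30, 28, 5, 28, 31, 31, 28, 1] (.step [29, 29, 31, 31, 28, 30, 29, 1, 1, 28, 31, 31, 5, 5, 5, 1, 1, 29, 1, 29, 1, 31, 28, 30, 28, 1] .fail)))), (1, (.step [29, 5, 29, 30, 30, 29, 5, 28] (.step [28, 30, 5, 29, 29, 30, 28, 5, 28, 31, 31, 28, 1] (.step [29, 29, 5, 31, 31, 1, 30, 29, 5, 1, 31, 31, 1, 30, 1, 29, 31, 31, 31, 31, 1, 28, 1, 1, 30, 5, 30] .fail)))),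 (1, .fail), (1, (.step [28, 28, 30, 28, 1, 1, 30, 1] .fail)), (1, (.step [31, 5, 30, 29, 5, 28, 1, 1] (.step [1, 31, 1, 28, 28, 28, 1, 29, 30, 29, 29, 29, 30, 1, 28, 31] (.step [29, 29, 29, 30, 5, 31, 31, 29, 29, 29, 30, 1, 28, 30, 30, 1, 28, 30, 5, 31, 31, 1, 31, 5, 30, 29] .fail)))), (1, .fail), (1, (.step [28, 30, 29, 1, 28, 28, 30, 29, 1] (.step [28, 5, 28, 28, 1, 29, 29, 30, 5, 29, 31, 31, 31] .fail))), (1, (.step [1, 1, 30, 30, 30, 29, 5, 29, 5] .fail)), (1, (.step [1, 29, 30, 28, 5, 31, 1, 29, 5] (.step [28, 5, 5, 30, 30, 30, 28, 30, 5, 1, 28, 5, 31, 5, 5, 29] (.step [28, 5, 31, 5, 31, 1, 1, 30, 29, 29, 28, 30, 29, 29, 29, 5, 28] .fail)))), (1, .fail), (1, (.step [29, 31, 28, 5, 28, 31, 28, 1, 29] .fail)), (1, (.step [28, 1, 1, 30, 1, 29, 5] .fail)), (1, (.step [28, 31, 28, 28, 5, 29, 1, 31, 5] .fail)), (1, .fail), (1,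 (.step [1, 31, 31, 1, 30, 1, 29, 31] (.step [5, 31, 5, 30, 28, 31, 31, 29, 5, 28, 31, 31] .fail))), (1, (.step [30, 29, 29, 30, 1, 28] .fail)), (1, (.step [1, 31, 5, 29, 30, 5, 29, 30, 29] (.step [30, 28, 28, 28, 31, 29, 29, 5, 1, 28, 1, 1, 30, 5] (.step [28, 28, 28, 5, 29, 1, 31, 31, 31, 31, 28, 28, 30, 28, 5, 5, 28, 1, 28] .fail)))), (1, (.step [1, 31, 5, 28, 30, 28, 30, 30, 29] (.step [30, 5, 29, 31, 28, 30, 29, 29, 5, 29, 29, 30, 1, 28] (.step [30, 30, 28, 28, 1, 28, 31, 28, 1, 1, 1, 30, 28, 30, 29, 1, 28, 31, 29, 29, 5, 30, 30, 29, 29, 29] .fail)))), (1, (.step [31, 28, 28, 28, 5, 29, 1] .fail)), (1, .fail), (1, (.step [31, 28, 28, 28, 5, 29, 1] .fail)), (1, (.step [1, 29, 29, 31, 31, 5, 31, 5, 5] .fail)), (1, (.step [29, 31, 28, 28, 5, 30, 28] .fail)), (1, .fail), (1, (.step [31, 29, 29, 29, 31, 29, 31, 1] .fail)), (1, (.step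 [1, 30, 5, 5, 5, 31, 1] .fail)), (8, .fail), (1, (.step [1, 31, 28, 28, 28, 5, 31, 29, 29] .fail)), (1, (.step [1, 31, 31, 31, 1, 1, 30, 29, 29] .fail)), (1, (.step [30, 30, 5, 29, 29, 30, 30, 5] .fail)), (3, .fail), (1, (.step [5, 30, 29, 5, 28, 1, 1] .fail)), (15, .fail), (1, (.step [31, 1, 28, 28, 31, 1, 28, 28] .fail)), (1, (.step [1, 1, 30, 30, 30, 29, 5, 29, 5] .fail)), (1, .fail), (1, (.step [1, 31, 31, 1, 30, 1, 29] .fail)), (1, (.step [29, 5, 28, 1, 31, 1, 30, 29, 29] (.step [30, 29, 5, 5, 30, 5, 28, 5, 5, 1, 28, 28, 30, 5, 29, 1] (.step [1, 30, 29, 30, 1, 31, 5, 1, 1, 31, 5, 28, 28, 31, 1, 30, 1, 30, 29] .fail)))), (4, .fail), (1, (.step [29, 29, 29, 31, 29, 31, 1] .fail)), (2, .fail), (1, (.step [28, 31, 5, 31, 5, 30, 29, 29] (.step [31, 28, 1, 1, 31, 29, 31, 29, 31, 31, 30] (.step [1, 29, 31, 29, 5, 28, 5, 29, 5, 5,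 5, 31, 28, 30, 29, 30, 28, 1, 30, 30, 30, 29, 1, 30, 5, 30, 30, 1] .fail)))), (4, .fail), (1, (.step [31, 29, 29, 5, 30, 29, 29, 5] .fail)), (8, .fail), (1, (.step [1, 30, 5, 5, 5, 31, 1] .fail)), (1, .fail), (1, (.step [28, 1, 29, 29, 5, 28, 30, 1] (.step [29, 5, 29, 1, 1, 29, 31, 29, 29] (.step [28, 31, 28, 30, 30, 28, 31, 5, 29, 1, 31, 5, 5, 28, 30, 5, 29, 1, 31, 29] .fail)))), (1, (.step [1, 31, 31, 1, 30, 1, 29, 31] (.step [5, 31, 5, 30, 28, 31, 31, 29, 5, 28, 31, 31] .fail))), (3, .fail), (1, (.step [1, 28, 28, 30, 29, 29, 29] (.step [30, 28, 31, 31, 31, 1, 28, 5, 1, 1, 29, 1, 31, 1, 1, 28] .fail))), (1, .fail), (1, (.step [5, 30, 29, 5, 28, 1, 1] .fail)), (2, .fail), (1, (.step [1, 30, 30, 1, 1, 1, 30, 5, 28] .fail)), (3, .fail), (1, (.step [31, 29, 1, 28, 28, 28, 31, 29] .fail)), (1, (.step [28, 28, 1, 29, 1, 31, 1, 1]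 .fail)), (3, .fail), (1, (.step [30, 30, 5, 29, 29, 30, 30, 5] .fail)), (2, .fail), (1, (.step [1, 30, 1, 31, 28, 28, 30, 30, 1] .fail)), (1, .fail), (1, (.step [1, 30, 30, 1, 1, 1, 30, 5, 28] .fail)), (3, .fail), (1, (.step [30, 30, 30, 30] .fail)), (1, .fail), (1, (.step [30, 5, 30, 1, 29, 5, 31, 1, 1] .fail)), (3, .fail), (1, (.step [5, 29, 29, 1, 30, 1, 29] (.step [30, 28, 30, 1, 31, 31, 5, 5, 29, 29, 1, 30, 30] (.step [1, 29, 30, 5, 30, 28, 31, 29, 1, 1, 28, 28, 28, 30, 28, 28, 31, 5, 30, 1, 1, 28, 28, 1, 29, 31, 29, 31, 28] .fail)))), (1, .fail), (1, (.step [28, 31, 28, 28, 5, 29, 1, 31, 5] .fail)), (2, .fail), (1, (.step [29, 30, 5, 31, 1, 28, 5, 31, 28] .fail)), (1, .fail), (1, (.step [28, 31, 28, 28, 5, 29, 1, 31, 5] .fail)), (1, .fail), (1, (.step [29, 5, 29, 30, 30, 29, 5, 28] .fail)), (5, .fail), (1, (.step [1, 31,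 28, 31, 31, 5, 29, 1] .fail)), (4, .fail), (1, (.step [31, 1, 28, 28, 31, 1, 28, 28] .fail)), (2, .fail), (1, (.step [29, 29, 29, 31, 29, 31, 1] .fail)), (2, .fail), (1, (.step [28, 30, 28, 31, 29, 5, 28, 28] .fail)), (5, .fail), (1, (.step [1, 28, 28, 30, 29, 29, 29] .fail)), (1, .fail), (1, (.step [29, 31, 1, 30, 28, 5, 5, 31, 29] .fail)), (1, (.step [31, 31, 29, 29, 30, 1, 28] .fail)), (1, (.step [29, 5, 28, 31, 29, 31, 5] .fail)), (2, .fail), (1, (.step [28, 1, 31, 29, 30, 29, 29, 1] .fail)), (1, .fail), (1, (.step [29, 29, 29, 31, 29, 31, 1] .fail)), (1, .fail), (1, (.step [5, 29, 29, 30, 30, 5] (.step [28, 5, 29, 31, 29, 5, 28, 1, 28, 5, 5, 28, 29, 30] (.step [5, 30, 29, 30, 30, 1, 1, 28, 28, 28, 29, 29, 30, 1, 28, 31, 31, 31, 31, 31, 1, 28, 1, 1, 30, 5, 30] .fail)))), (3, .fail), (1, (.step [1, 31, 31, 1, 30, 1, 29, 31]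 (.step [5, 31, 5, 30, 28, 31, 31, 29, 5, 28, 31, 31] .fail))), (1, (.step [28, 28, 5, 31, 1, 31, 31, 1, 29] .fail)), (9, .fail), (1, (.step [5, 29, 29, 1, 30, 1, 29] (.step [30, 28, 30, 1, 31, 31, 5, 5, 29, 29, 1, 30, 30] (.step [1, 29, 30, 5, 30, 28, 31, 29, 1, 1, 28, 28, 28, 30, 28, 28, 31, 5, 30, 1, 1, 28, 28, 1, 29, 31, 29, 31, 28] .fail)))), (1, (.step [28, 30, 28, 5, 30, 5, 29, 5] (.step [31, 28, 30, 1, 28, 28, 1, 29, 1, 28, 30, 29, 28, 29, 30] (.step [29, 31, 31, 28, 31, 31, 31, 28, 5, 29, 1, 28, 28, 28, 31, 29, 28, 5, 31, 28, 31, 1, 28, 28, 28, 28] .fail)))), (1, (.step [1, 31, 28, 1, 28, 31, 31, 31, 29] .fail)), (10, .fail), (1, (.step [29, 30, 5, 5, 31, 28, 1, 31, 29] (.step [29, 29, 30, 28, 5, 29, 5, 30, 1, 28, 29, 30] (.step [31, 1, 31, 5, 29, 29, 29, 1, 29, 28, 29, 30, 31, 31, 31, 31, 1, 28, 1, 1, 30, 5, 30] .fail)))),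 (5, .fail), (1, (.step [1, 31, 31, 1, 30, 1, 29, 31] (.step [5, 31, 5, 30, 28, 31, 31, 29, 5, 28, 31, 31] .fail))), (2, .fail), (1, (.step [5, 31, 28, 28, 1, 28, 31, 28] .fail)), (3, .fail), (1, (.step [30, 30, 30, 30, 30] .fail)), (1, (.step [1, 31, 28, 31, 31, 5, 29, 1] .fail)), (4, .fail), (1, (.step [30, 28, 28, 28, 5, 29, 1] .fail)), (2, .fail), (1, (.step [5, 28, 1, 29, 29, 29] .fail)), (1, (.step [5, 30, 29, 5, 28, 1, 1] .fail)), (2, .fail), (1, (.step [30, 30, 30, 29, 5, 31, 28, 28] (.step [1, 1, 28, 30, 30, 30, 30, 30, 1, 1, 28, 28, 29, 30] (.step [29, 29, 29, 5, 5, 30, 30, 5, 31, 1, 1, 28, 5, 29, 29, 1, 1, 29, 29, 29, 5, 30, 30, 29, 29, 29] .fail)))), (1, (.step [30, 28, 1, 29, 30, 29, 30, 28, 28] .fail)), (3, .fail), (1, (.step [5, 31, 31, 5, 29, 29, 5] .fail)), (1, (.step [29, 31, 1, 28, 5, 30, 1] (.step [29, 30, 29,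 31, 5, 31, 28, 5, 31, 31, 30] .fail))), (1, (.step [29, 30, 1, 31, 31, 1, 30, 1] .fail)), (1, .fail), (1, (.step [29, 5, 31, 1, 29, 5, 30, 30, 28] (.step [29, 5, 29, 1, 1, 29, 31, 29, 29] (.step [29, 1, 30, 30, 30, 5, 5, 31, 5, 5, 5, 29, 31, 31, 5, 31, 1, 28, 30] .fail)))), (1, .fail), (1, (.step [28, 1, 1, 31, 29, 31, 29] (.step [29, 29, 30, 28, 5, 29, 5, 30, 1, 28, 29, 30] (.step [28, 1, 30, 28, 1, 30, 5, 29, 29, 31, 29, 29, 30, 1, 28, 31, 31, 31, 1, 30, 1, 28, 1, 29, 29, 5, 28] .fail)))), (6, .fail), (1, (.step [31, 1, 31, 31, 1, 30, 1, 29] .fail)), (1, (.step [5, 31, 28, 30, 1, 28, 1, 1] .fail)), (1, (.step [29, 31, 1, 28, 5, 30, 1] (.step [29, 30, 29, 31, 5, 31, 28, 5, 31, 31, 30] .fail))), (1, (.step [30, 5, 28, 1, 29, 29, 29] .fail)), (1, (.step [5, 31, 28, 30, 1, 28, 1, 1] (.step [5, 28, 28, 28, 5, 28, 31, 28, 31, 1, 30,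 30] (.step [1, 1, 28, 5, 1, 31, 29, 1, 1, 28, 5, 28, 1, 29, 30, 29, 30, 28, 28, 1, 1, 28, 28, 1, 29, 31, 29, 31, 28] .fail)))), (1, (.step [5, 31, 31, 5, 29, 29, 5] .fail)), (2, .fail), (1, (.step [5, 29, 5, 29, 31, 28, 5, 5] .fail)), (1, (.step [28, 5, 30, 30, 5, 5, 31, 5, 29] .fail)), (2, .fail), (1, (.step [29, 30, 1, 1, 1, 28, 30, 1] .fail)), (5, .fail), (1, (.step [31, 29, 5, 31, 28, 28] .fail)), (1, .fail), (1, (.step [31, 5, 29, 29, 1, 30, 1, 29] (.step [5, 29, 29, 5, 31, 1, 28, 31, 1, 31, 29] .fail))), (1, .fail), (1, (.step [30, 5, 31, 31, 5, 29, 29, 5] .fail)), (6, .fail), (1, (.step [29, 5, 28, 31, 29, 31, 5] .fail)), (1, .fail), (1, (.step [29, 30, 1, 1, 1, 28, 30, 1] .fail)), (2, .fail), (1, (.step [29, 30, 5, 31, 1, 28, 5, 31, 28] .fail)), (7, .fail), (1, (.step [29, 1, 28, 28, 28, 31, 29] .fail)), (1, (.step [28,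 28, 28, 30, 30, 29, 30, 5] (.step [29, 5, 29, 31, 1, 30, 1, 31, 1, 28, 31, 29, 29, 30, 1, 28] (.step [31, 1, 1, 1, 1, 29, 1, 31, 5, 29, 29, 29, 5, 30, 29, 29, 5, 31] .fail)))), (1, .fail), (1, (.step [29, 31, 28, 31, 29, 30, 1, 1] .fail)), (1, (.step [5, 29, 29, 1, 30, 1, 29] (.step [30, 28, 30, 1, 31, 31, 5, 5, 29, 29, 1, 30, 30] (.step [1, 29, 30, 5, 30, 28, 31, 29, 1, 1, 28, 28, 28, 30, 28, 28, 31, 5, 30, 1, 1, 28, 28, 1, 29, 31, 29, 31, 28] .fail)))), (1, (.step [29, 29, 29, 31, 29, 31, 1] .fail)), (3, .fail), (1, (.step [1, 30, 5, 5, 5, 31, 1] (.step [1, 28, 1, 28, 31, 31, 31, 5, 5, 31, 31] .fail))), (3, .fail), (1, (.step [28, 5, 30, 30, 5, 5, 31, 5, 29] .fail)), (2, .fail), (1, (.step [31, 1, 31, 31, 1, 30, 1, 29] .fail)), (1, .fail), (1, (.step [28, 1, 1, 31, 29, 31, 29] (.step [29, 29, 30, 28, 5, 29, 5, 30, 1, 28, 29,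 30] (.step [28, 1, 30, 28, 1, 30, 5, 29, 29, 31, 29, 29, 30, 1, 28, 31, 31, 31, 1, 30, 1, 28, 1, 29, 29, 5, 28] .fail)))), (1, (.step [30, 5, 30, 28, 30, 28, 28, 28] .fail)), (1, .fail), (1, (.step [30, 1, 1, 29, 30, 28, 1, 28, 1] .fail)), (1, (.step [28, 1, 1, 31, 29, 31, 29] (.step [29, 29, 30, 28, 5, 29, 5, 30, 1, 28, 29, 30] (.step [28, 1, 30, 28, 1, 30, 5, 29, 29, 31, 29, 29, 30, 1, 28, 31, 31, 31, 1, 30, 1, 28, 1, 29, 29, 5, 28] .fail)))), (1, .fail), (1, (.step [28, 1, 1, 31, 29, 31, 29] (.step [29, 29, 30, 28, 5, 29, 5, 30, 1, 28, 29, 30] (.step [28, 1, 30, 28, 1, 30, 5, 29, 29, 31, 29, 29, 30, 1, 28, 31, 31, 31, 1, 30, 1, 28, 1, 29, 29, 5, 28] .fail)))), (1, (.step [29, 30, 5, 31, 1, 28, 5, 31, 28] .fail)), (1, (.step [29, 30, 1, 1, 1, 28, 30, 1] .fail)), (1, .fail), (1, (.step [31, 1, 28, 28, 31, 1, 28, 28] .fail)),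 (1, .fail), (1, (.step [28, 1, 1, 31, 29, 31, 29] (.step [29, 29, 30, 28, 5, 29, 5, 30, 1, 28, 29, 30] (.step [28, 1, 30, 28, 1, 30, 5, 29, 29, 31, 29, 29, 30, 1, 28, 31, 31, 31, 1, 30, 1, 28, 1, 29, 29, 5, 28] .fail)))), (1, (.step [29, 30, 1, 1, 1, 28, 30, 1] .fail)), (5, .fail), (1, (.step [1, 30, 5, 28, 1, 29, 29, 30, 29] .fail)), (1, (.step [29, 31, 5, 28, 28, 30, 28] .fail)), (4, .fail), (1, (.step [28, 5, 31, 31, 28, 5, 28, 5] .fail)), (1, .fail), (1, (.step [31, 5, 29, 29, 1, 30, 1, 29] (.step [5, 29, 29, 5, 31, 1, 28, 31, 1, 31, 29] .fail))), (1, (.step [31, 1, 31, 31, 1, 30, 1, 29] .fail)), (1, (.step [29, 30, 1, 1, 1, 28, 30, 1] .fail)), (1, (.step [29, 31, 5, 28, 28, 30, 28] .fail)), (3, .fail), (1, (.step [29, 5, 28, 31, 29, 31, 5] .fail)), (2, .fail), (1, (.step [29, 30, 1, 1, 1, 28, 30, 1] .fail)), (1, (.step [28,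 28, 1, 1, 31, 1, 1, 1] .fail)), (1, .fail), (1, (.step [5, 29, 31, 31, 29, 31, 5, 29] .fail)), (1, (.step [31, 29, 29, 30, 1, 28] (.step [30, 1, 29, 31, 28, 30, 30, 31, 5, 29, 1, 29, 5] .fail))), (1, .fail), (1, (.step [30, 28, 28, 30, 28, 28, 31, 5] (.step [30, 5, 31, 5, 5, 28, 31, 5, 29, 29, 5, 29, 30, 28, 1, 30] (.step [29, 29, 31, 30, 29, 30, 29, 30, 5, 29, 31, 5, 31, 31, 5, 29, 1, 1, 1, 1, 31, 28] .fail)))), (7, .fail), (1, (.step [1, 31, 5, 5, 29, 5] .fail)), (1, (.step [28, 1, 29, 29, 5, 28, 30, 1] .fail)), (1, .fail), (1, (.step [1, 31, 31, 1, 30, 1, 29, 31] .fail)), (5, .fail), (1, (.step [31, 1, 1, 1, 30, 30, 29, 5] (.step [29, 30, 29, 31, 5, 31, 28, 5, 31, 31, 30] (.step [5, 30, 29, 30, 30, 1, 1, 28, 28, 28, 29, 29, 30, 1, 28, 31, 31, 31, 31, 31, 1, 28, 1, 1, 30, 5, 30] .fail)))), (1, .fail), (1, (.step [5, 29, 31,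 31, 29, 31, 5, 29] .fail)), (2, .fail), (1, (.step [29, 31, 28, 30, 30, 30, 28] .fail)), (2, .fail), (1, (.step [28, 1, 29, 29, 5, 28, 30, 1] .fail)), (3, .fail), (1, (.step [5, 30, 29, 1, 29, 1, 28, 28, 28] (.step [30, 30, 28, 1, 31, 5, 31, 31, 29, 5, 28, 28, 28, 5, 29, 1] .fail))), (1, .fail), (1, (.step [1, 31, 5, 5, 29, 5] .fail)), (2, .fail), (1, (.step [31, 29, 5, 31, 28, 28] .fail)), (1, .fail), (1, (.step [1, 29, 5, 30, 30, 30, 29] (.step [30, 28, 30, 30, 5, 31, 1, 30, 28, 1, 31, 31] (.step [5, 31, 28, 1, 1, 1, 28, 30, 30, 29, 29, 5, 31, 28, 28, 31, 1, 30, 30, 5, 30, 28, 30, 29, 5, 1, 1, 29, 31] .fail)))), (1, (.step [28, 30, 29, 1, 28, 28, 30, 29, 1] .fail)), (10, .fail), (1, (.step [1, 28, 28, 1, 30, 30, 1] .fail)), (1, .fail), (1, (.step [1, 31, 5, 5, 29, 5] .fail)), (1, (.step [5, 5, 31, 31, 28, 28, 30, 5, 28] .fail)),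 (1, (.step [1, 31, 1, 30, 30, 5, 5] (.step [29, 1, 31, 31, 28, 1, 1, 1, 5, 28, 5, 30, 28, 1, 1] (.step [31, 29, 5, 30, 5, 5, 31, 29, 30, 29, 5, 5, 5, 5, 30, 28, 1, 1, 29] .fail)))), (1, .fail), (1, (.step [29, 5, 28, 31, 29, 31, 5] (.step [28, 5, 29, 31, 29, 5, 28, 1, 28, 5, 5, 28, 29, 30] .fail))), (2, .fail), (1, (.step [30, 1, 1, 29, 30, 28, 1, 28, 1] .fail)), (2, .fail), (1, (.step [30, 28, 28, 30, 28, 28, 31, 5] (.step [30, 5, 31, 5, 5, 28, 31, 5, 29, 29, 5, 29, 30, 28, 1, 30] (.step [29, 29, 31, 30, 29, 30, 29, 30, 5, 29, 31, 5, 31, 31, 5, 29, 1, 1, 1, 1, 31, 28] .fail)))), (1, (.step [31, 29, 5, 31, 28, 28] .fail)), (10, .fail), (1, (.step [31, 29, 5, 31, 28, 28] .fail)), (1, .fail), (1, (.step [30, 29, 31, 1, 28, 5, 30, 1] .fail)), (3, .fail), (1, (.step [1, 1, 29, 29, 29, 30, 5, 29, 5] (.step [31, 28, 30, 1, 28, 28, 1,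 29, 1, 28, 30, 29, 28, 29, 30] (.step [29, 29, 31, 30, 29, 30, 29, 30, 5, 29, 31, 5, 31, 31, 5, 29, 1, 1, 1, 1, 31, 28] .fail)))), (1, (.step [30, 28, 28, 30, 28, 28, 31, 5] (.step [30, 29, 30, 29, 1, 28, 5, 31, 5, 28, 30, 5, 31, 31, 31, 31] .fail))), (2, .fail), (1, (.step [30, 5, 28, 5, 30, 28, 1, 1] .fail)), (8, .fail), (1, (.step [5, 28, 1, 29, 29, 29] .fail)), (1, .fail), (1, (.step [29, 5, 5, 30, 5, 28, 5, 5] .fail)), (1, (.step [5, 29, 31, 31, 29, 31, 5, 29] .fail)), (2, .fail), (1, (.step [29, 31, 28, 5, 28, 31, 28, 1, 29] .fail)), (1, (.step [1, 31, 1, 30, 30, 5, 5] (.step [29, 1, 31, 31, 28, 1, 1, 1, 5, 28, 5, 30, 28, 1, 1] (.step [31, 29, 5, 30, 5, 5, 31, 29, 30, 29, 5, 5, 5, 5, 30, 28, 1, 1, 29] .fail)))), (2, .fail), (1, (.step [28, 1, 29, 29, 5, 28, 30, 1] .fail)), (2, .fail), (1, (.step [29, 1, 1, 1, 28, 5, 30,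 29] .fail)), (1, .fail), (1, (.step [30, 5, 30, 30, 28, 28, 5, 31, 5] .fail)), (1, (.step [29, 1, 30, 1, 29, 29, 31, 28, 1] (.step [5, 31, 5, 30, 28, 31, 31, 29, 5, 28, 31, 31] .fail))), (8, .fail), (1, (.step [31, 31, 31, 31] .fail)), (1, .fail), (1, (.step [31, 1, 31, 31, 28, 28, 1] (.step [31, 1, 28, 1, 1, 30, 5, 29, 1, 28, 28, 28, 31, 29, 31] .fail))), (1, .fail), (1, (.step [29, 30, 1, 31, 1, 1, 29, 29] .fail)), (1, .fail), (1, (.step [29, 31, 28, 5, 28, 31, 28, 1, 29] .fail)), (1, .fail), (1, (.step [29, 29, 5, 28, 31, 1, 28, 1, 28] .fail)), (13, .fail), (1, (.step [5, 31, 5, 5, 28, 31, 5] .fail)), (2, .fail), (1, (.step [28, 1, 31, 5, 31, 31, 29, 5] (.step [30, 1, 30, 30, 30, 30, 1, 31, 1, 29, 5, 31, 28, 28] (.step [1, 28, 31, 28, 31, 29, 5, 29, 1, 28, 1, 30, 28, 30, 30, 28, 1, 31, 31, 28, 30, 30, 28, 28, 1, 1, 29, 5] .fail)))),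 (2, .fail), (1, (.step [30, 28, 28, 30, 28, 28, 31, 5] (.step [30, 5, 31, 5, 5, 28, 31, 5, 29, 29, 5, 29, 30, 28, 1, 30] (.step [29, 29, 31, 30, 29, 30, 29, 30, 5, 29, 31, 5, 31, 31, 5, 29, 1, 1, 1, 1, 31, 28] .fail)))), (1, (.step [28, 31, 28, 28, 5, 29, 1, 31, 5] .fail)), (2, .fail), (1, (.step [30, 28, 28, 5, 31, 5, 31, 5, 29] .fail)), (1, (.step [1, 1, 29, 29, 29, 30, 5, 29, 5] (.step [31, 28, 30, 1, 28, 28, 1, 29, 1, 28, 30, 29, 28, 29, 30] (.step [29, 29, 31, 30, 29, 30, 29, 30, 5, 29, 31, 5, 31, 31, 5, 29, 1, 1, 1, 1, 31, 28] .fail)))), (1, (.step [30, 29, 29, 5, 30, 29, 29, 5] (.step [1, 1, 1, 1, 29, 1, 31, 5, 29] .fail))), (3, .fail), (1, (.step [30, 5, 30, 30, 28, 28, 5, 31, 5] .fail)), (1, (.step [28, 1, 31, 28, 5, 28, 30, 1, 1] (.step [1, 1, 28, 30, 5, 31, 5, 30, 1, 29, 5, 31, 28, 28] .fail))), (1, .fail), (1, (.step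 [31, 29, 5, 31, 28, 28] .fail)), (3, .fail), (1, (.step [28, 1, 31, 5, 31, 31, 29, 5] (.step [30, 1, 30, 30, 30, 30, 1, 31, 1, 29, 5, 31, 28, 28] (.step [1, 28, 31, 28, 31, 29, 5, 29, 1, 28, 1, 30, 28, 30, 30, 28, 1, 31, 31, 28, 30, 30, 28, 28, 1, 1, 29, 5] .fail)))), (1, (.step [30, 5, 30, 30, 28, 28, 5, 31, 5] .fail)), (1, (.step [29, 5, 30, 28, 1, 31, 31, 29] (.step [28, 31, 28, 5, 31, 1, 28, 1, 1, 30, 28, 31, 31, 31, 31, 31] .fail))), (2, .fail), (1, (.step [28, 1, 30, 28, 31, 5, 28, 31, 29] .fail)), (1, .fail), (1, (.step [29, 31, 5, 28, 28, 30, 28] (.step [30, 1, 29, 1, 29, 31, 5, 5, 31, 5, 29, 31, 31] (.step [28, 30, 30, 29, 5, 30, 5, 29, 28, 31, 29, 30, 30, 29, 30, 1, 31, 31, 5, 31, 5, 31, 31, 28, 1, 1, 29] .fail)))), (1, (.step [29, 30, 29, 5, 29, 29, 30, 1] .fail)), (3, .fail), (1, (.step [29, 1, 29, 30, 1, 29, 30, 28]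 .fail)), (7, .fail), (1, (.step [1, 31, 5, 28, 30, 28, 30, 30, 29] .fail)), (1, (.step [28, 5, 28, 28, 28, 5, 29, 5] .fail)), (1, .fail), (1, (.step [1, 1, 31, 1, 30, 30, 5, 28] .fail)), (1, .fail), (1, (.step [29, 1, 1, 30, 5, 29, 31, 1] .fail)), (13, .fail), (1, (.step [31, 5, 29, 29, 30, 5, 5, 29, 5] .fail)), (1, (.step [5, 29, 31, 31, 29, 31, 5, 29] .fail)), (2, .fail), (1, (.step [29, 31, 28, 30, 30, 30, 28] (.step [29, 31, 31, 1, 28, 5, 28, 28, 30, 30, 30] .fail))), (3, .fail), (1, (.step [5, 29, 29, 1, 30, 1, 29] (.step [28, 28, 28, 28, 5, 1, 28, 30, 28, 1, 28, 31, 31] .fail))), (3, .fail), (1, (.step [29, 31, 28, 5, 28, 31, 28, 1, 29] .fail)), (2, .fail), (1, (.step [31, 31, 29, 5, 31, 28, 28] (.step [1, 1, 30, 1, 31, 1, 31, 31, 29, 1, 28, 31, 31] .fail))), (2, .fail), (1, (.step [28, 30, 1, 31, 29, 29, 31, 1] .fail)),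 (1, .fail), (1, (.step [5, 29, 30, 1, 30, 28, 31, 29] (.step [28, 28, 30, 29, 30, 29, 30, 28, 29, 5, 29, 1, 31, 31, 31, 31] .fail))), (1, .fail), (1, (.step [5, 30, 29, 5, 28, 1, 1] .fail)), (6, .fail), (1, (.step [1, 1, 1, 30, 1, 29, 5, 5] .fail)), (4, .fail), (1, (.step [29, 1, 29, 30, 1, 29, 30, 28] .fail)), (6, .fail), (1, (.step [29, 30, 1, 31, 1, 1, 29, 29] .fail)), (2, .fail), (1, (.step [29, 1, 30, 30, 30, 30, 28, 5] .fail)), (1, (.step [28, 1, 29, 29, 5, 28, 30, 1] (.step [29, 29, 1, 30, 28, 5, 28, 1, 29, 5, 28, 28, 29, 30] .fail))), (1, (.step [29, 30, 5, 31, 1, 28, 5, 31, 28] (.step [1, 1, 28, 30, 5, 31, 5, 30, 1, 29, 5, 31, 28, 28] (.step [1, 1, 28, 30, 29, 29, 1, 31, 28, 1, 30, 28, 31, 31, 30, 28, 5, 31, 29, 31, 5, 31, 29, 29, 5] .fail)))), (1, .fail), (1, (.step [29, 5, 30, 1, 29, 31, 5, 29] .fail)), (1, .fail),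 (1, (.step [28, 1, 30, 28, 31, 5, 28, 31, 29] .fail)), (5, .fail), (1, (.step [31, 1, 31, 31, 28, 28, 1] .fail)), (1, .fail), (1, (.step [5, 30, 29, 5, 28, 1, 1] .fail)), (11, .fail), (1, (.step [29, 31, 31, 5, 5, 31, 31, 28, 5] .fail)), (1, .fail), (1, (.step [28, 30, 5, 28, 5, 30, 5, 5, 28] (.step [28, 1, 30, 5, 28, 5, 5, 5, 5] (.step [28, 31, 28, 30, 30, 28, 31, 5, 29, 1, 31, 5, 5, 28, 30, 5, 29, 1, 31, 29] .fail)))), (3, .fail), (1, (.step [28, 31, 1, 29, 5, 5, 5, 28] .fail)), (5, .fail), (1, (.step [28, 1, 30, 28, 31, 5, 28, 31, 29] .fail)), (1, .fail), (1, (.step [29, 31, 28, 30, 30, 30, 28] (.step [29, 31, 31, 1, 28, 5, 28, 28, 30, 30, 30] .fail))), (3, .fail), (1, (.step [28, 31, 28, 28, 5, 29, 1, 31, 5] .fail)), (2, .fail), (1, (.step [1, 31, 29, 31, 29, 30, 30, 1] (.step [28, 30, 28, 5, 30, 1, 30, 5, 1, 31, 31, 28, 28,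 1, 31] .fail))), (6, .fail), (1, (.step [5, 5, 28, 5, 30, 29, 5, 29, 1] .fail)), (12, .fail), (1, (.step [28, 1, 29, 5, 28, 5, 28, 30, 5] (.step [30, 29, 30, 29, 1, 28, 5, 31, 5, 28, 30, 5, 31, 31, 31, 31] (.step [5, 31, 28, 1, 1, 1, 28, 30, 30, 29, 29, 5, 31, 28, 28, 31, 1, 30, 30, 5, 30, 28, 30, 29, 5, 1, 1, 29, 31] .fail)))), (13, .fail), (1, (.step [1, 1, 30, 30, 30, 29, 5, 29, 5] .fail)), (1, .fail), (1, (.step [1, 31, 5, 28, 30, 28, 30, 30, 29] .fail)), (1, (.step [31, 29, 5, 31, 28, 28] .fail)), (2, .fail), (1, (.step [31, 31, 5, 29, 29, 30, 30, 5] .fail)), (1, (.step [29, 31, 28, 30, 30, 30, 28] (.step [29, 31, 31, 1, 28, 5, 28, 28, 30, 30, 30] .fail))), (1, (.step [28, 31, 5, 31, 5, 30, 29, 29] (.step [31, 28, 30, 1, 28, 28, 1, 29, 1, 28, 30, 29, 28, 29, 30] (.step [1, 29, 31, 29, 5, 28, 5, 29, 5, 5, 5, 31, 28, 30, 29,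 30, 28, 1, 30, 30, 30, 29, 1, 30, 5, 30, 30, 1] .fail)))), (1, (.step [1, 1, 31, 1, 30, 30, 5, 28] .fail)), (6, .fail), (1, (.step [30, 28, 28, 5, 31, 5, 31, 5, 29] .fail)), (1, .fail), (1, (.step [29, 29, 30, 1, 28] (.step [28, 31, 1, 30, 5, 30, 30, 1, 31, 29, 5] (.step [5, 30, 30, 29, 30, 1, 30, 30, 5, 28, 5, 5, 5, 5, 31, 5, 5, 29, 31, 29, 29] .fail)))), (5, .fail), (1, (.step [31, 5, 29, 29, 30, 5, 5, 29, 5] .fail)), (1, .fail), (1, (.step [29, 31, 28, 5, 28, 31, 28, 1, 29] .fail)), (9, .fail), (1, (.step [29, 31, 28, 30, 30, 30, 28] (.step [29, 31, 31, 1, 28, 5, 28, 28, 30, 30, 30] .fail))), (1, (.step [28, 5, 28, 28, 28, 5, 29, 5] .fail)), (7, .fail), (1, (.step [28, 31, 28, 28, 5, 29, 1, 31, 5] .fail)), (1, (.step [1, 31, 31, 31, 1, 1, 30, 29, 29] .fail)), (8, .fail), (1, (.step [30, 1, 30, 29, 29, 31, 29, 29] .fail)), (2,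 .fail), (1, (.step [1, 1, 30, 30, 30, 29, 5, 29, 5] (.step [30, 29, 5, 5, 30, 5, 28, 5, 5, 1, 28, 28, 30, 5, 29, 1] (.step [30, 5, 30, 1, 31, 31, 1, 1, 28, 28, 28, 29, 31, 5, 30, 30, 5, 30, 28, 28, 31, 29, 1, 31, 28, 31, 31, 5] .fail)))), (2, .fail), (1, (.step [1, 31, 29, 31, 29, 30, 30, 1] (.step [28, 30, 28, 5, 30, 1, 30, 5, 1, 31, 31, 28, 28, 1, 31] .fail))), (2, .fail), (1, (.step [31, 31, 31, 31] .fail)), (1, (.step [29, 31, 28, 5, 28, 31, 28, 1, 29] .fail)), (5, .fail), (1, (.step [29, 5, 30, 1, 29, 31, 5, 29] .fail)), (1, (.step [28, 1, 29, 29, 5, 28, 30, 1] (.step [29, 29, 1, 30, 28, 5, 28, 1, 29, 5, 28, 28, 29, 30] .fail))), (1, (.step [29, 30, 5, 31, 1, 28, 5, 31, 28] (.step [1, 1, 28, 30, 5, 31, 5, 30, 1, 29, 5, 31, 28, 28] (.step [1, 1, 28, 30, 29, 29, 1, 31, 28, 1, 30, 28, 31, 31, 30, 28, 5, 31, 29, 31, 5, 31, 29,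 29, 5] .fail)))), (4, .fail), (1, (.step [5, 28, 1, 31, 1, 30, 30, 1] .fail)), (2, .fail), (1, (.step [30, 28, 30, 29, 29, 29, 5, 28] .fail)), (5, .fail), (1, (.step [30, 5, 30, 1, 1, 1, 31, 5] .fail)), (12, .fail), (1, (.step [31, 29, 31, 5, 30, 28, 28, 5, 29] .fail)), (4, .fail), (1, (.step [28, 1, 30, 28, 31, 5, 28, 31, 29] .fail)), (4, .fail), (1, (.step [29, 31, 1, 31, 31, 1, 30, 28] (.step [28, 30, 29, 31, 5, 31, 28, 1, 5, 29, 29, 30, 30, 5] (.step [29, 29, 1, 5, 1, 29, 31, 5, 29, 30, 29, 30, 30, 30, 30, 30, 30, 29, 31, 31, 31, 29, 30, 28, 31] .fail)))), (2, .fail), (1, (.step [29, 5, 31, 1, 30, 1, 29, 31, 1] .fail)), (3, .fail), (1, (.step [1, 31, 5, 28, 30, 28, 30, 30, 29] .fail)), (1, .fail), (1, (.step [29, 31, 29, 1, 31, 28, 28, 31, 1] .fail)), (1, .fail), (1, (.step [31, 31, 31, 31] .fail)), (1, .fail), (1, (.step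 [29, 31, 28, 5, 28, 31, 28, 1, 29] .fail)), (1, .fail), (1, (.step [30, 28, 30, 29, 29, 29, 5, 28] .fail)), (1, (.step [5, 28, 1, 31, 1, 30, 30, 1] .fail)), (1, (.step [5, 29, 5, 31, 5, 30, 1, 1] .fail)), (1, (.step [28, 31, 5, 29, 5, 28, 31, 1] (.step [5, 28, 29, 28, 30, 28, 1, 1, 31, 5, 31, 5, 30, 30] .fail))), (1, (.step [29, 31, 1, 30, 28, 5, 5, 31, 29] (.step [5, 28, 29, 28, 30, 28, 1, 1, 31, 5, 31, 5, 30, 30] (.step [30, 1, 30, 30, 30, 1, 29, 31, 5, 28, 5, 1, 29, 5, 30, 30, 30, 29, 28, 1, 30, 5, 28, 5, 5, 5, 5] .fail)))), (1, (.step [28, 30, 5, 28, 5, 30, 5, 5, 28] (.step [31, 1, 28, 1, 1, 30, 5, 29, 1, 28, 28, 28, 31, 29, 31] .fail))), (1, .fail), (1, (.step [29, 31, 1, 30, 28, 5, 5, 31, 29] (.step [5, 28, 29, 28, 30, 28, 1, 1, 31, 5, 31, 5, 30, 30] (.step [30, 1, 30, 30, 30, 1, 29, 31, 5, 28, 5, 1, 29, 5, 30, 30, 30, 29,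 28, 1, 30, 5, 28, 5, 5, 5, 5] .fail)))), (1, (.step [1, 30, 29, 5, 29, 5, 30, 28, 5] (.step [30, 29, 30, 5, 29, 5, 5, 29, 1, 28, 1, 1, 30, 5] (.step [29, 29, 31, 31, 28, 30, 29, 1, 1, 28, 31, 31, 5, 5, 5, 1, 1, 29, 1, 29, 1, 31, 28, 30, 28, 1] .fail)))), (1, (.step [31, 1, 1, 1, 30, 30, 29, 5] (.step [31, 31, 29, 1, 30, 30, 30, 30, 28, 5, 30, 30, 30] (.step [1, 29, 1, 30, 5, 30, 1, 5, 28, 5, 29, 5, 5, 31, 1, 30, 1, 28, 1] .fail)))), (1, (.step [31, 29, 5, 5, 30, 5, 28, 5, 5] .fail)), (1, (.step [1, 31, 28, 28, 28, 5, 31, 29, 29] .fail)), (1, (.step [1, 31, 31, 1, 30, 1, 29] (.step [5, 30, 29, 31, 31, 1, 31, 31, 28, 1, 28, 29, 30] (.step [29, 5, 5, 29, 5, 31, 5, 28, 5, 28, 30, 29, 29, 29, 5, 28, 31, 28, 29, 5, 5, 29, 5, 30, 30, 30, 1] .fail)))), (1, (.step [1, 28, 31, 1, 29, 5, 5] (.step [31, 28, 1, 1, 31, 29, 31, 29, 31, 31, 30]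 (.step [5, 5, 5, 29, 1, 30, 29, 5, 5, 30, 1, 31, 31, 1, 30, 30, 5, 30, 28, 30, 29, 5, 1, 1, 29, 31] .fail)))), (1, .fail), (1, (.step [28, 1, 31, 1, 29, 29, 5, 5] (.step [28, 28, 31, 29, 1, 29, 1, 29, 29, 31, 31, 28] (.step [5, 31, 1, 31, 30, 30, 1, 31, 29, 5, 5, 30, 30, 31, 31, 31, 1, 30, 1, 31, 29, 5, 30, 1, 29, 30] .fail)))), (1, (.step [5, 31, 31, 5, 29, 1, 1, 30, 5] .fail)), (2, .fail), (1, (.step [1, 31, 31, 1, 30, 1, 29] (.step [5, 30, 29, 31, 31, 1, 31, 31, 28, 1, 28, 29, 30] (.step [29, 5, 5, 29, 5, 31, 5, 28, 5, 28, 30, 29, 29, 29, 5, 28, 31, 28, 29, 5, 5, 29, 5, 30, 30, 30, 1] .fail)))), (1, .fail), (1, (.step [31, 1, 1, 1, 30, 30, 29, 5] .fail)), (1, .fail), (1, (.step [31, 1, 28, 28, 1, 30, 30, 1] (.step [29, 30, 29, 31, 5, 31, 28, 5, 31, 31, 30] (.step [5, 31, 29, 30, 5, 29, 5, 5, 28, 29, 1, 28, 5, 28, 31, 31, 28,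 31, 30, 30, 1, 29, 30, 1, 30, 28, 31, 28] .fail)))), (1, (.step [5, 29, 5, 29, 31, 28, 5, 5] (.step [31, 1, 28, 1, 1, 30, 5, 29, 1, 28, 28, 28, 31, 29, 31] (.step [1, 30, 29, 30, 1, 31, 5, 1, 1, 31, 5, 28, 28, 31, 1, 30, 1, 30, 29] .fail)))), (1, (.step [5, 28, 1, 30, 28, 30, 5, 5, 5] .fail)), (1, (.step [29, 31, 5, 28, 28, 30, 28] (.step [29, 29, 5, 5, 5, 28, 31, 29, 5, 5, 5, 29, 29, 30, 30, 5] (.step [5, 28, 28, 30, 5, 31, 5, 5, 28, 5, 28, 1, 30, 1, 30, 1, 29, 29, 31] .fail)))), (1, (.step [5, 5, 31, 1, 30, 1, 28, 1] .fail)), (1, .fail), (1, (.step [29, 5, 31, 28, 28] .fail)), (1, (.step [1, 31, 31, 1, 30, 1, 29] .fail)), (1, .fail), (1, (.step [28, 5, 29, 5, 30, 5, 30, 5] (.step [28, 28, 30, 29, 30, 29, 30, 28, 29, 5, 29, 1, 31, 31, 31, 31] (.step [30, 30, 28, 28, 1, 28, 31, 28, 1, 1, 1, 30, 28, 30, 29, 1, 28, 31, 29, 29, 5,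 30, 30, 29, 29, 29] .fail)))), (1, (.step [30, 29, 29, 29, 31, 29, 31, 1] .fail)), (1, (.step [29, 1, 29, 1, 30, 1, 28, 28] (.step [31, 28, 5, 31, 1, 28, 30, 5, 31, 5, 30, 30, 30] (.step [5, 30, 29, 1, 28, 30, 5, 30, 30, 29, 1, 29, 5, 31, 5, 30, 30, 5, 31, 28, 29, 29, 5, 30, 30, 29, 29, 29] .fail)))), (1, (.step [28, 28, 28, 30, 30, 29, 30, 5] (.step [1, 29, 5, 31, 28, 28, 1, 29, 5, 30, 1, 28, 29, 30] (.step [28, 31, 31, 29, 31, 29, 5, 29, 5, 30, 30, 30, 30, 31, 31, 1, 30, 28, 1, 1, 28, 1, 30, 28, 28] .fail)))), (1, (.step [29, 30, 5, 5, 31, 28, 1, 31, 29] (.step [29, 30, 29, 31, 5, 31, 28, 5, 31, 31, 30] (.step [5, 31, 28, 1, 1, 1, 28, 30, 30, 29, 29, 5, 31, 28, 28, 31, 1, 30, 30, 5, 30, 28, 30, 29, 5, 1, 1, 29, 31] .fail)))), (2, .fail), (1, (.step [5, 5, 28, 5, 30, 29, 5, 29, 1] (.step [31, 29, 5, 30, 1, 31, 28, 28, 30, 29,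 1, 29, 5, 31, 28, 28] (.step [28, 5, 29, 29, 1, 29, 1, 29, 1, 28, 29, 30, 31, 31, 31, 31, 1, 28, 1, 1, 30, 5, 30] .fail)))), (2, .fail), (1, (.step [1, 28, 1, 1, 30, 5] .fail)), (1, .fail), (1, (.step [31, 1, 1, 1, 30, 30, 29, 5] (.step [28, 5, 31, 31, 28, 31, 28, 31, 28, 31, 1, 29, 31, 31, 31] (.step [1, 29, 29, 1, 1, 28, 31, 31, 1, 1, 29, 1, 31, 31, 28, 1, 1, 1, 28, 1, 30, 5, 28, 5, 5, 5, 5] .fail)))), (1, (.step [28, 5, 29, 5, 30, 5, 30, 5] (.step [28, 28, 30, 29, 30, 29, 30, 28, 29, 5, 29, 1, 31, 31, 31, 31] (.step [30, 30, 28, 28, 1, 28, 31, 28, 1, 1, 1, 30, 28, 30, 29, 1, 28, 31, 29, 29, 5, 30, 30, 29, 29, 29] .fail)))), (2, .fail), (1, (.step [29, 5, 31, 28, 28, 30] .fail)), (1, (.step [30, 1, 30, 5, 5, 5, 31, 1] (.step [29, 5, 29, 31, 1, 30, 1, 31, 1, 28, 31, 29, 29, 30, 1, 28] (.step [30, 5, 30, 1, 31, 31, 1, 1, 28, 28,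 28, 29, 31, 5, 30, 30, 5, 30, 28, 28, 31, 29, 1, 31, 28, 31, 31, 5] .fail)))), (1, .fail), (1, (.step [28, 5, 29, 5, 30, 5, 30, 5] (.step [28, 28, 30, 29, 30, 29, 30, 28, 29, 5, 29, 1, 31, 31, 31, 31] (.step [30, 30, 28, 28, 1, 28, 31, 28, 1, 1, 1, 30, 28, 30, 29, 1, 28, 31, 29, 29, 5, 30, 30, 29, 29, 29] .fail)))), (1, (.step [30, 1, 1, 29, 30, 28, 1, 28, 1] (.step [28, 30, 29, 31, 5, 31, 28, 1, 5, 29, 29, 30, 30, 5] (.step [28, 31, 31, 29, 31, 29, 5, 29, 5, 30, 30, 30, 30, 31, 31, 1, 30, 28, 1, 1, 28, 1, 30, 28, 28] .fail)))), (1, (.step [1, 1, 30, 30, 30, 29, 5, 29, 5] (.step [28, 31, 31, 29, 5, 5, 5, 29, 30, 1, 31, 31, 31] (.step [5, 5, 31, 31, 31, 31, 29, 5, 29, 5, 28, 31, 29, 31, 5, 1, 30, 30, 29, 30, 5, 28, 30, 1, 5, 29] .fail)))), (1, (.step [29, 5, 31, 28, 28, 30] .fail)), (1, (.step [1, 30, 30, 28, 5, 30, 30, 28, 5]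 .fail)), (1, .fail), (1, (.step [29, 5, 31, 28, 28] .fail)), (1, (.step [28, 30, 1, 31, 29, 29, 31, 1] (.step [1, 1, 29, 5, 5, 28, 5, 30, 29, 28, 28, 28, 5, 29, 1, 31] (.step [29, 1, 30, 30, 30, 5, 5, 31, 5, 5, 5, 29, 31, 31, 5, 31, 1, 28, 30] .fail)))), (1, (.step [29, 30, 5, 5, 31, 28, 1, 31, 29] (.step [28, 31, 28, 5, 31, 1, 28, 1, 1, 30, 28, 31, 31, 31, 31, 31] (.step [1, 31, 1, 31, 28, 31, 5, 29, 30, 1, 29, 1, 31, 31, 31, 31, 31, 31, 1, 29, 31, 31, 31, 31, 5, 28, 30, 30] .fail)))), (1, (.step [1, 31, 31, 1, 30, 1, 29] .fail)), (1, .fail), (1, (.step [28, 28, 1, 29, 1, 31, 1, 1] .fail)), (1, (.step [1, 30, 29, 5, 29, 5, 30, 28, 5] (.step [28, 28, 30, 30, 30, 30, 29, 29, 29, 1, 31, 31, 31] (.step [5, 5, 28, 31, 31, 29, 30, 29, 1, 29, 31, 29, 29, 1, 30, 28] .fail)))), (1, (.step [] .fail)), (1, .fail), (1, (.step [5, 28, 1,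 30, 30, 29, 30, 5] (.step [1, 1, 1, 28, 5, 28, 1, 28, 31, 5, 5, 28, 29, 30] (.step [5, 28, 28, 30, 28, 31, 28, 31, 1, 29, 5, 31, 28, 28, 30, 30, 31, 30, 30, 1, 29, 30, 1, 30, 28, 31, 28] .fail)))), (1, (.step [5, 28, 1, 31, 1, 30, 30, 1] (.step [28, 1, 30, 5, 28, 5, 5, 5, 5] (.step [5, 30, 29, 30, 30, 1, 1, 28, 28, 28, 29, 29, 30, 1, 28, 31, 31, 31, 31, 31, 1, 28, 1, 1, 30, 5, 30] .fail)))), (1, (.step [] .fail)), (1, (.step [28, 1, 31, 28, 5, 28, 30, 1, 1] (.step [28, 31, 29, 29, 5, 5, 5, 29, 28, 28, 28, 1, 1, 30, 30] (.step [30, 1, 30, 30, 30, 1, 29, 31, 5, 28, 5, 1, 29, 5, 30, 30, 30, 29, 28, 1, 30, 5, 28, 5, 5, 5, 5] .fail)))), (1, (.step [5, 28, 1, 30, 28, 30, 5, 5, 5] (.step [5, 31, 1, 28, 5, 30, 5, 28, 5, 5, 30, 28, 31, 31] (.step [29, 29, 29, 30, 5, 31, 31, 29, 29, 29, 30, 1, 28, 30, 30, 1, 28, 30, 5, 31, 31, 1, 31, 5,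 30, 29] .fail)))), (1, (.step [5, 31, 5, 5, 28, 31, 5] (.step [5, 31, 29, 5, 5, 5, 31, 28, 1, 31, 31, 28, 28, 1] (.step [29, 30, 28, 1, 31, 5, 31, 1, 28, 30, 28, 30, 5, 5, 29, 1, 1, 29, 1, 30, 29, 28, 29, 30, 1, 28, 28, 1] .fail)))), (2, .fail), (1, (.step [5, 28, 1, 30, 28, 30, 5, 5, 5] .fail)), (1, (.step [30, 30, 30] .fail)), (1, (.step [29, 30, 28, 31, 29, 31, 5, 28] (.step [31, 31, 5, 5, 29, 1, 28, 31, 1, 1, 28, 5, 31, 5, 5, 29] (.step [1, 30, 29, 30, 1, 31, 5, 1, 1, 31, 5, 28, 28, 31, 1, 30, 1, 30, 29] .fail)))), (1, .fail), (1, (.step [28, 30, 1, 31, 29, 29, 31, 1] (.step [1, 1, 29, 5, 5, 28, 5, 30, 29, 28, 28, 28, 5, 29, 1, 31] (.step [29, 1, 30, 30, 30, 5, 5, 31, 5, 5, 5, 29, 31, 31, 5, 31, 1, 28, 30] .fail)))), (1, (.step [29, 5, 31, 1, 29, 5, 30, 30, 28] (.step [1, 29, 5, 31, 28, 28, 1, 29, 5, 30, 1, 28, 29, 30] (.step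 [29, 30, 28, 30, 29, 30, 1, 1, 28, 28, 28, 5, 29, 1, 30, 29, 29, 5, 30, 30, 29, 29, 29] .fail)))), (1, (.step [29, 5, 31, 28, 28] .fail)), (1, (.step [5, 29, 29, 30, 5, 5, 29, 5] (.step [29, 1, 31, 31, 28, 1, 1, 1, 5, 28, 5, 30, 28, 1, 1] (.step [29, 29, 29, 5, 5, 30, 30, 5, 31, 1, 1, 28, 5, 29, 29, 1, 1, 29, 29, 29, 5, 30, 30, 29, 29, 29] .fail)))), (1, .fail), (1, (.step [1, 31, 31, 5, 5, 30, 30, 29, 29] (.step [29, 31, 29, 5, 31, 31, 29, 1, 31, 28, 30, 30, 30] (.step [1, 30, 30, 1, 28, 1, 28, 5, 29, 5, 5, 5, 28, 5, 28, 28, 5, 28, 29, 31, 29, 30, 30, 1, 29, 31, 31, 28] .fail)))), (1, (.step [1, 1, 1, 30, 30, 29, 5] .fail))])), (2299, (.badPow 23 1)), (1, (Cert.rl [(3, .fail), (1, (.step [1, 31, 29, 31, 31, 31, 1, 1, 29] (.step [5, 29, 29, 5, 31, 28, 29, 28, 31, 5, 28, 5, 5] (.step [28, 31, 5, 5, 29, 5, 30, 1, 30, 5, 29, 5, 1,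 1, 28, 28, 1, 29, 31, 29, 31, 28] .fail)))), (1, (.step [31, 1, 1, 28, 5, 30, 29, 5] .fail)), (1, .fail), (1, (.step [30, 29, 5, 28, 31, 29, 31, 5] .fail)), (3, .fail), (1, (.step [31, 31, 31, 31] .fail)), (1, .fail), (1, (.step [28, 31, 28, 28, 5, 29, 1, 31, 5] .fail)), (1, (.step [28, 1, 29, 5, 28, 5, 28, 30, 5] (.step [29, 31, 31, 1, 28, 5, 28, 28, 30, 30, 30] (.step [29, 29, 5, 31, 31, 1, 30, 29, 5, 1, 31, 31, 1, 30, 1, 29, 31, 31, 31, 31, 1, 28, 1, 1, 30, 5, 30] .fail)))), (1, .fail), (1, (.step [5, 5, 5, 29, 30, 30, 5, 28] (.step [1, 28, 1, 29, 29, 29, 1, 29, 31, 31, 31] .fail))), (1, (.step [5, 29, 1, 30, 5, 29, 1, 1] .fail)), (1, (.step [31, 31] .fail)), (2, .fail), (1, (.step [1, 1, 30, 1, 30, 30, 28, 28, 5] .fail)), (1, (.step [5, 29, 29, 30, 30, 5] .fail)), (1, (.step [28, 28, 28, 1, 29, 5, 30, 28, 28] (.step [1, 31,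 5, 31, 28, 28, 28, 5, 5, 30, 30, 30] .fail))), (6, .fail), (1, (.step [28, 1, 28, 30, 28, 30, 5, 31, 5] .fail)), (1, .fail), (1, (.step [5, 30, 30, 30, 30, 28, 30, 29] (.step [30, 29, 31, 5, 31, 5, 31, 5, 5, 28, 5, 5, 31, 31] (.step [29, 30, 28, 30, 29, 30, 1, 1, 28, 28, 28, 5, 29, 1, 30, 29, 29, 5, 30, 30, 29, 29, 29] .fail)))), (9, .fail), (1, (.step [31, 29, 31, 28, 30, 30, 30, 28] .fail)), (2, .fail), (1, (.step [29, 31, 1, 31, 31, 1, 30, 28] (.step [28, 5, 31, 31, 31, 31, 31, 1, 29, 31, 31, 31, 31, 31] (.step [28, 31, 31, 29, 31, 29, 5, 29, 5, 30, 30, 30, 30, 31, 31, 1, 30, 28, 1, 1, 28, 1, 30, 28, 28] .fail)))), (2, .fail), (1, (.step [29, 5, 31, 28, 28, 30] .fail)), (1, (.step [30, 5, 5, 31, 31, 31, 31, 29, 5] .fail)), (1, .fail), (1, (.step [5, 31, 1, 28, 1, 29, 1, 28] (.step [1, 1, 28, 30, 5, 31, 5, 30, 1, 29, 5, 31,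 28, 28] (.step [30, 29, 30, 28, 1, 31, 5, 31, 1, 29, 1, 29, 29, 29, 5, 5, 28, 31, 28, 29, 5, 5, 29, 5, 30, 30, 30, 1] (.step [28, 1, 29, 30, 29, 1, 5, 30, 28, 28, 1, 29, 5, 30, 30, 30, 29, 1, 30, 30, 5, 30, 28, 30, 29, 5, 1, 1, 29, 31, 30, 28, 5, 5, 1, 28, 31, 29, 31, 1, 31, 31, 5, 30, 30, 5, 31, 1, 1, 28, 31, 5, 28, 1, 1, 1] (.badAt 0)))))), (1, (.step [1, 31, 5, 28, 30, 28, 30, 30, 29] .fail)), (2, .fail), (1, (.step [28, 30, 28, 30, 5, 5, 29] .fail)), (1, .fail), (1, (.step [1, 31, 29, 31, 29, 30, 30, 1] (.step [1, 30, 29, 1, 30, 1, 1, 29, 29, 31, 31, 31] (.step [1, 29, 29, 1, 1, 28, 31, 31, 1, 1, 29, 1, 31, 31, 28, 1, 1, 1, 28, 1, 30, 5, 28, 5, 5, 5, 5] .fail)))), (1, .fail), (1, (.step [28, 1, 30, 1, 30, 1, 29, 29] .fail)), (1, (.step [29, 1, 1, 28, 28, 28, 5, 28] (.step [29, 29, 1, 30, 30, 30, 29, 29, 31, 5, 28, 28, 28,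 31, 29, 29, 5] (.step [1, 1, 28, 30, 29, 29, 1, 31, 28, 1, 30, 28, 31, 31, 30, 28, 5, 31, 29, 31, 5, 31, 29, 29, 5] .fail)))), (1, (.step [28, 5, 31, 5, 28, 28, 1] .fail)), (1, (.step [29, 1, 29, 29, 1, 29, 1, 1, 1] (.step [28, 1, 1, 29, 30, 5, 5, 5, 29, 28, 29, 30] (.step [31, 29, 5, 30, 5, 5, 31, 29, 30, 29, 5, 5, 5, 5, 30, 28, 1, 1, 29] .fail)))), (1, .fail), (1, (.step [30, 29, 1, 28, 28, 28, 31, 29] .fail)), (2, .fail), (1, (.step [28, 5, 28, 28, 28, 5, 29, 5] .fail)), (1, (.step [31, 1, 30, 28, 30, 29, 1, 28] (.step [28, 28, 28, 31, 31, 1, 28, 28] (.step [5, 30, 29, 30, 30, 1, 1, 28, 28, 28, 29, 29, 30, 1, 28, 31, 31, 31, 31, 31, 1, 28, 1, 1, 30, 5, 30] (.step [1, 5, 30, 28, 1, 1, 31, 29, 31, 29, 1, 31, 31, 28, 28, 1, 30, 31, 31, 5, 29, 1, 1, 1, 1, 31, 28] (.badAt 0)))))), (1, (.step [1, 29, 31, 31, 31, 31, 5, 28] .fail)),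 (3, .fail), (1, (.step [1, 31, 5, 29, 30, 5, 29, 30, 29] .fail)), (1, .fail), (1, (.step [28, 28, 1, 1, 31, 1, 1, 1] (.step [30, 30, 29, 29, 5, 29, 30, 28, 1, 29, 29, 30, 1, 28] .fail))), (1, (.step [30, 1, 1, 30, 1, 1, 30, 28, 5] .fail)), (7, .fail), (1, (.step [5, 30, 30, 30, 30, 28, 30, 29] .fail)), (1, (.step [5, 31, 1, 29, 5, 30, 28] .fail)), (3, .fail), (1, (.step [30, 28, 1, 1, 28, 1, 31, 28] .fail)), (1, (.step [1, 29, 30, 30, 28, 31, 28, 30, 28] (.step [28, 28, 28, 28, 5, 1, 28, 30, 28, 1, 28, 31, 31] .fail))), (4, .fail), (1, (.step [5, 28, 5, 30, 28, 1, 1] .fail)), (1, .fail), (1, (.step [28, 30, 28, 30, 30, 1, 29, 5] .fail)), (1, .fail), (1, (.step [1, 1, 1, 30, 1, 29, 5, 5] (.step [1, 28, 5, 28, 5, 28, 28, 30, 5, 29, 29, 31, 1] .fail))), (5, .fail), (1, (.step [1, 1, 1, 30, 1, 29, 5, 5] .fail)), (1, (.step [5, 28,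 5, 30, 1, 28, 31, 1] (.step [1, 30, 29, 1, 30, 1, 1, 29, 29, 31, 31, 31] .fail))), (1, .fail), (1, (.step [28, 1, 31, 1, 29, 29, 5, 5] (.step [28, 5, 29, 31, 29, 5, 28, 1, 28, 5, 5, 28, 29, 30] (.step [29, 29, 29, 5, 5, 30, 30, 5, 31, 1, 1, 28, 5, 29, 29, 1, 1, 29, 29, 29, 5, 30, 30, 29, 29, 29] .fail)))), (2, .fail), (1, (.step [29, 31, 5, 28, 28, 30, 28] (.step [29, 5, 29, 30, 29, 5, 29, 5, 5, 5, 30, 30] (.step [29, 29, 31, 31, 28, 30, 29, 1, 1, 28, 31, 31, 5, 5, 5, 1, 1, 29, 1, 29, 1, 31, 28, 30, 28, 1] .fail)))), (5, .fail), (1, (.step [30, 1, 28, 5, 31, 5, 5, 29] (.step [29, 1, 30, 5, 30, 30, 5, 29, 29, 31, 31, 31] .fail))), (5, .fail), (1, (.step [31, 1, 28, 31, 29, 1, 30, 5, 5] .fail)), (5, .fail), (1, (.step [29, 29, 29, 31, 29, 31, 1] (.step [1, 1, 1, 28, 5, 28, 1, 28, 31, 5, 5, 28, 29, 30] (.step [1, 1, 28, 30, 29, 29,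 1, 31, 28, 1, 30, 28, 31, 31, 30, 28, 5, 31, 29, 31, 5, 31, 29, 29, 5] .fail)))), (1, (.step [1, 1, 29, 5, 28, 30, 5, 28, 1] (.step [1, 1, 28, 1, 1, 1, 31, 29, 5, 5, 28, 29, 30] (.step [29, 5, 5, 28, 5, 5, 5, 28, 5, 5, 5, 28, 5, 31, 31, 31, 29, 31, 29, 30, 30, 1, 29, 31, 31, 28] .fail)))), (5, .fail), (1, (.step [30, 1, 30, 29, 1, 1, 30, 1] .fail)), (1, (.step [5, 29, 31, 28, 1, 28, 28] .fail)), (2, .fail), (1, (.step [1, 30, 5, 5, 5, 31, 1] (.step [29, 5, 29, 30, 29, 5, 29, 5, 5, 5, 30, 30] (.step [1, 1, 28, 5, 1, 31, 29, 1, 1, 28, 5, 28, 1, 29, 30, 29, 30, 28, 28, 1, 1, 28, 28, 1, 29, 31, 29, 31, 28] .fail)))), (1, .fail), (1, (.step [29, 5, 29, 30, 30, 29, 5, 28] .fail)), (5, .fail), (1, (.step [5, 5, 29, 1, 28, 31, 1] .fail)), (4, .fail), (1, (.step [28, 30, 28, 30, 5, 5, 29] .fail)), (1, (.step [28, 30, 28, 30, 30, 1, 29,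 5] (.step [30, 28, 5, 5, 1, 28, 31, 29, 31, 1, 31, 31, 5] .fail))), (4, .fail), (1, (.step [1, 1, 31, 1, 30, 30, 5, 28] .fail)), (3, .fail), (1, (.step [1, 28, 1, 31, 1, 29, 31, 29] .fail)), (1, (.step [28, 30, 5, 5, 30, 5, 5, 29] .fail)), (2, .fail), (1, (.step [31, 1, 28, 28, 1, 30, 30, 1] .fail)), (1, .fail), (1, (.step [28, 5, 31, 1, 31, 29, 5, 29] (.step [5, 28, 28, 28, 5, 28, 31, 28, 31, 1, 30, 30] .fail))), (1, (.step [1, 29, 1, 1, 28, 30, 28, 1, 29] .fail)), (1, .fail), (1, (.step [1, 31, 28, 30, 5, 5, 5, 30, 1] (.step [29, 29, 1, 30, 28, 5, 28, 1, 29, 5, 28, 28, 29, 30] (.step [28, 31, 28, 30, 30, 28, 31, 5, 29, 1, 31, 5, 5, 28, 30, 5, 29, 1, 31, 29] (.step [28, 1, 29, 30, 29, 1, 5, 30, 28, 28, 1, 29, 5, 30, 30, 30, 29, 1, 30, 30, 5, 30, 28, 30, 29, 5, 1, 1, 29, 31, 30, 28, 5, 5, 1, 28, 31, 29, 31, 1, 31, 31, 5, 30, 30,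 5, 31, 1, 1, 28, 31, 5, 28, 1, 1, 1] (.badAt 0)))))), (1, .fail), (1, (.step [29, 1, 29, 1, 30, 1, 28, 28] .fail)), (1, (.step [28, 31, 29, 29, 31, 29, 31, 31, 28] .fail)), (1, .fail), (1, (.step [5, 5, 29, 1, 28, 31, 1] .fail)), (6, .fail), (1, (.step [28, 31, 28, 28, 5, 29, 1, 31, 5] .fail)), (4, .fail), (1, (.step [29, 31, 1, 30, 28, 5, 5, 31, 29] (.step [30, 29, 31, 28, 30, 30, 30, 28, 31, 31, 31] (.step [1, 31, 1, 31, 28, 31, 5, 29, 30, 1, 29, 1, 31, 31, 31, 31, 31, 31, 1, 29, 31, 31, 31, 31, 5, 28, 30, 30] (.step [1, 5, 30, 28, 1, 1, 31, 29, 31, 29, 1, 31, 31, 28, 28, 1, 30, 31, 31, 5, 29, 1, 1, 1, 1, 31, 28] (.badAt 0)))))), (7, .fail), (1, (.step [1, 31, 28, 28, 28, 5, 31, 29, 29] .fail)), (1, (.step [5, 30, 29, 5, 31, 1, 29, 1] .fail)), (5, .fail), (1, (.step [1, 31, 28, 28, 28, 5, 31, 29, 29] .fail)), (2, .fail), (1,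 (.step [28, 1, 1, 31, 29, 31, 29] .fail)), (1, .fail), (1, (.step [29, 29, 5, 31, 5, 28, 5, 28] (.step [31, 28, 5, 31, 1, 28, 30, 5, 31, 5, 30, 30, 30] .fail))), (1, (.step [1, 31, 28, 5, 30, 5, 29, 30, 28] .fail)), (3, .fail), (1, (.step [31, 31, 29, 29, 30, 1, 28] .fail)), (1, (.step [28, 5, 28, 5, 31, 29, 29, 29, 1] .fail)), (1, (.step [29, 5, 30, 29, 1, 28, 30, 1] (.step [28, 28, 30, 5, 29, 31, 29, 5, 28, 1, 31, 5, 5, 29, 5, 31] (.step [30, 30, 1, 1, 29, 5, 30, 29, 1, 31, 1, 5, 5, 31, 1, 31, 5, 28, 5, 29] .fail)))), (1, .fail), (1, (.step [1, 1, 29, 29, 29, 30, 5, 29, 5] (.step [28, 28, 30, 5, 29, 31, 29, 5, 28, 1, 31, 5, 5, 29, 5, 31] .fail))), (5, .fail), (1, (.step [29, 31, 1, 28, 5, 30, 1] (.step [28, 5, 5, 30, 30, 30, 28, 30, 5, 1, 28, 5, 31, 5, 5, 29] (.step [30, 30, 28, 28, 1, 28, 31, 28, 1, 1, 1, 30, 28, 30, 29, 1,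 28, 31, 29, 29, 5, 30, 30, 29, 29, 29] .fail)))), (1, (.step [28, 1, 29, 5, 29, 5, 31, 31, 5] .fail)), (2, .fail), (1, (.step [31, 31, 31, 31] .fail)), (4, .fail), (1, (.step [1, 28, 5, 31, 28, 1, 31, 28] (.step [1, 31, 1, 28, 28, 28, 1, 29, 30, 29, 29, 29, 30, 1, 28, 31] (.step [29, 29, 5, 5, 29, 30, 1, 1, 29, 1, 28, 28, 31, 1, 28, 28, 31, 31, 30, 30, 28, 30, 28, 30, 5, 5, 29, 30] .fail)))), (1, .fail), (1, (.step [1, 30, 29, 1, 1, 30, 1] (.step [30, 29, 5, 5, 30, 5, 28, 5, 5, 1, 28, 28, 30, 5, 29, 1] (.step [] .fail)))), (1, .fail), (1, (.step [5, 5, 5, 30, 29, 30, 29, 5, 28] .fail)), (1, .fail), (1, (.step [31, 1, 28, 31, 29, 1, 30, 5, 5] (.step [28, 1, 30, 30, 1, 30, 5, 5, 5, 30, 30, 30] (.step [] .fail)))), (1, .fail), (1, (.step [28, 28, 1, 1, 31, 1, 1, 1] (.step [29, 31, 31, 1, 28, 5, 28, 28, 30, 30, 30] (.step [5, 31,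 28, 1, 1, 1, 28, 30, 30, 29, 29, 5, 31, 28, 28, 31, 1, 30, 30, 5, 30, 28, 30, 29, 5, 1, 1, 29, 31] .fail)))), (1, (.step [29, 30, 1, 31, 1, 1, 29, 29] .fail)), (1, .fail), (1, (.step [5, 5, 31, 1, 30, 1, 28, 1] .fail)), (6, .fail), (1, (.step [29, 5, 31, 1, 30, 1, 29, 31, 1] (.step [31, 5, 5, 30, 30, 29, 5, 5, 28, 28, 5, 31, 31, 31] (.step [1, 28, 5, 30, 5, 5, 30, 28, 1, 1, 1, 1, 30, 30, 29, 5, 1, 28, 30, 5, 31, 31, 1, 31, 5, 30, 29] .fail)))), (1, (.step [1, 31, 28, 31, 31, 5, 29, 1] .fail)), (1, (.step [1, 29, 30, 28, 5, 31, 1, 29, 5] .fail)), (7, .fail), (1, (.step [28, 28, 5, 31, 1, 31, 31, 1, 29] .fail)), (1, .fail), (1, (.step [30, 5, 31, 31, 5, 29, 29, 5] .fail)), (1, .fail), (1, (.step [1, 30, 5, 28, 1, 29, 29, 30, 29] .fail)), (1, (.step [5, 29, 30, 1, 30, 28, 31, 29] .fail)), (1, (.step [28, 1, 29, 29, 5, 28, 30, 1]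 (.step [30, 1, 29, 1, 29, 31, 5, 5, 31, 5, 29, 31, 31] (.step [1, 1, 28, 5, 1, 31, 29, 1, 1, 28, 5, 28, 1, 29, 30, 29, 30, 28, 28, 1, 1, 28, 28, 1, 29, 31, 29, 31, 28] .fail)))), (2, .fail), (1, (.step [] (.step [31, 31, 5, 31, 5, 31, 31, 28, 1, 1, 29] (.step [28, 31, 5, 5, 29, 5, 30, 1, 30, 5, 29, 5, 1, 1, 28, 28, 1, 29, 31, 29, 31, 28] .fail)))), (1, .fail), (1, (.step [31, 29, 29, 5, 30, 29, 29, 5] .fail)), (1, (.step [5, 31, 29, 31, 29, 31, 1, 29] .fail)), (3, .fail), (1, (.step [28, 28, 30, 5, 28, 31, 28, 31, 28] (.step [29, 1, 30, 5, 30, 30, 5, 29, 29, 31, 31, 31] (.step [1, 28, 31, 28, 31, 29, 5, 29, 1, 28, 1, 30, 28, 30, 30, 28, 1, 31, 31, 28, 30, 30, 28, 28, 1, 1, 29, 5] .fail)))), (3, .fail), (1, (.step [28, 30, 28, 31, 29, 5, 28, 28] (.step [29, 30, 29, 31, 5, 31, 28, 5, 31, 31, 30] (.step [28, 30, 29, 29, 28, 5, 29,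 5, 31, 5, 5, 5, 5, 28, 31, 28, 30, 1, 1, 1, 29, 1, 29, 1, 31, 28, 30, 28, 1] .fail)))), (1, (.step [29, 31, 28, 5, 28, 31, 28, 1, 29] (.step [30, 29, 31, 28, 30, 30, 30, 28, 31, 31, 31] (.step [29, 28, 1, 1, 28, 28, 28, 31, 31, 29, 1, 30, 29, 1, 1, 30, 1, 31, 31, 31, 29, 29, 1, 29, 5, 30, 30, 28] .fail)))), (1, (.step [1, 30, 29, 29, 31, 29, 29] .fail)), (1, (.step [1, 31, 31, 1, 30, 1, 29, 31] (.step [5, 30, 29, 30, 30, 28, 5, 30, 1, 30, 28, 1, 31, 31, 31, 31] .fail))), (2, .fail), (1, (.step [28, 31, 29, 29, 31, 29, 31, 31, 28] .fail)), (1, .fail), (1, (.step [1, 30, 29, 1, 1, 30, 1] .fail)), (1, (.step [5, 30, 1, 30, 5, 29, 31, 28] (.step [31, 31, 5, 5, 29, 1, 28, 31, 1, 1, 28, 5, 31, 5, 5, 29] (.step [5, 29, 31, 31, 1, 1, 29, 31, 29, 1, 31, 31, 31, 31, 31, 31, 31, 1, 28, 30, 30, 29, 30, 1, 29, 30, 1] .fail)))), (1, .fail),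 (1, (.step [28, 5, 30, 5, 30, 1, 1, 29] (.step [1, 31, 29, 30, 29, 29, 5, 31, 1, 31, 29, 30, 30] (.step [29, 1, 30, 30, 30, 5, 5, 31, 5, 5, 5, 29, 31, 31, 5, 31, 1, 28, 30] .fail)))), (1, (.step [29, 1, 31, 5, 5, 5, 31, 31, 5] (.step [28, 28, 28, 31, 31, 1, 28, 28] (.step [31, 29, 1, 29, 31, 28, 5, 31, 28, 28, 5, 1, 31, 31, 28, 28, 1, 5, 29, 30, 1, 30, 28, 31, 29] .fail)))), (1, .fail), (1, (.step [29, 5, 31, 29, 1, 29, 5, 28, 1] (.step [29, 31, 31, 28, 28, 30, 1, 1, 30, 28, 30, 5, 30, 30] (.step [5, 5, 28, 31, 31, 29, 30, 29, 1, 29, 31, 29, 29, 1, 30, 28] .fail)))), (1, (.step [1, 1, 29, 5, 28, 30, 5, 28, 1] (.step [30, 28, 31, 31, 31, 1, 28, 5, 1, 1, 29, 1, 31, 1, 1, 28] (.step [29, 29, 29, 1, 31, 28, 29, 1, 31, 31, 31, 1, 28, 30, 5, 5, 29, 31, 29] .fail)))), (3, .fail), (1, (.step [30, 1, 1, 30, 1, 1, 30, 28, 5] (.step [29,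 29, 31, 1, 29, 1, 1, 29, 31, 5, 30, 30, 30] (.step [29, 5, 5, 28, 5, 5, 5, 28, 5, 5, 5, 28, 5, 31, 31, 31, 29, 31, 29, 30, 30, 1, 29, 31, 31, 28] .fail)))), (1, (.step [1, 29, 30, 30, 28, 31, 28, 30, 28] .fail)), (1, (.step [30, 28, 28, 5, 31, 5, 31, 5, 29] .fail)), (1, .fail), (1, (.step [5, 31, 31, 1, 1, 28, 5, 31, 5] .fail)), (1, (.step [29, 31, 1, 31, 31, 1, 30, 28] .fail)), (1, (.step [5, 31, 1, 31, 29, 30, 28, 30, 1] .fail)), (2, .fail), (1, (.step [29, 5, 30, 29, 1, 28, 30, 1] .fail)), (2, .fail), (1, (.step [31, 31] .fail)), (1, (.step [31, 28, 29] .fail)), (2, .fail), (1, (.step [30, 1, 30, 29, 1, 1, 30, 1] .fail)), (4, .fail), (1, (.step [29, 5, 31, 29, 1, 29, 5, 28, 1] .fail)), (1, (.step [28, 1, 28, 30, 28, 30, 5, 31, 5] (.step [28, 30, 29, 30, 5, 31, 28, 1, 31, 31, 5, 31, 31] .fail))), (1, (.step [28, 30, 5, 28, 1,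 31, 29, 1] .fail)), (2, .fail), (1, (.step [29, 1, 28, 28, 28, 31, 29] (.step [28, 28, 30, 5, 29, 31, 29, 5, 28, 1, 31, 5, 5, 29, 5, 31] (.step [28, 5, 31, 5, 31, 1, 1, 30, 29, 29, 28, 30, 29, 29, 29, 5, 28] .fail)))), (1, (.step [29, 31, 28, 28, 5, 30, 28] (.step [5, 31, 1, 28, 5, 30, 5, 28, 5, 5, 30, 28, 31, 31] (.step [5, 31, 29, 30, 5, 29, 5, 5, 28, 29, 1, 28, 5, 28, 31, 31, 28, 31, 30, 30, 1, 29, 30, 1, 30, 28, 31, 28] .fail)))), (2, .fail), (1, (.step [31, 28, 30, 29, 29, 29, 5, 28] (.step [30, 28, 28, 1, 1, 31, 1, 1, 1, 29, 5, 31, 28, 28] .fail))), (4, .fail), (1, (.step [1, 28, 5, 31, 28, 1, 31, 28] .fail)), (2, .fail), (1, (.step [1, 31, 5, 5, 29, 5] (.step [1, 1, 28, 1, 1, 1, 31, 29, 5, 5, 28, 29, 30] (.step [29, 29, 31, 30, 29, 30, 29, 30, 5, 29, 31, 5, 31, 31, 5, 29, 1, 1, 1, 1, 31, 28] .fail)))), (2, .fail), (1, (.step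 [28, 30, 29, 29, 29, 5, 28] (.step [29, 1, 30, 5, 30, 30, 5, 29, 29, 31, 31, 31] (.step [29, 29, 5, 31, 31, 1, 30, 29, 5, 1, 31, 31, 1, 30, 1, 29, 31, 31, 31, 31, 1, 28, 1, 1, 30, 5, 30] (.step [28, 1, 29, 30, 29, 1, 5, 30, 28, 28, 1, 29, 5, 30, 30, 30, 29, 1, 30, 30, 5, 30, 28, 30, 29, 5, 1, 1, 29, 31, 30, 28, 5, 5, 1, 28, 31, 29, 31, 1, 31, 31, 5, 30, 30, 5, 31, 1, 1, 28, 31, 5, 28, 1, 1, 1] (.badAt 0)))))), (2, .fail), (1, (.step [5, 28, 30, 30, 29, 1, 28, 5] .fail)), (1, (.step [31, 1, 29, 5, 30, 30, 30, 29] (.step [28, 30, 5, 29, 29, 30, 28, 5, 28, 31, 31, 28, 1] (.step [1, 1, 28, 5, 1, 31, 29, 1, 1, 28, 5, 28, 1, 29, 30, 29, 30, 28, 28, 1, 1, 28, 28, 1, 29, 31, 29, 31, 28] (.step [28, 1, 29, 30, 29, 1, 5, 30, 28, 28, 1, 29, 5, 30, 30, 30, 29, 1, 30, 30, 5, 30, 28, 30, 29, 5, 1, 1, 29, 31, 30, 28, 5, 5, 1, 28, 31, 29, 31,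 1, 31, 31, 5, 30, 30, 5, 31, 1, 1, 28, 31, 5, 28, 1, 1, 1] (.badAt 0)))))), (7, .fail), (1, (.step [30, 1, 28, 5, 31, 5, 5, 29] .fail)), (3, .fail), (1, (.step [5, 30, 28, 30, 28, 28, 28] .fail)), (3, .fail), (1, (.step [29, 31, 1, 31, 5, 28, 30, 1] .fail)), (1, (.step [1, 28, 28, 30, 5, 29, 1] (.step [28, 31, 29, 5, 28, 1, 30, 31, 29, 5, 31, 5, 30, 30] (.step [29, 31, 31, 28, 31, 31, 31, 28, 5, 29, 1, 28, 28, 28, 31, 29, 28, 5, 31, 28, 31, 1, 28, 28, 28, 28] .fail)))), (1, .fail), (1, (.step [1, 28, 28, 30, 29, 29, 29] (.step [28, 28, 1, 28, 31, 28, 1, 1, 28, 1, 1, 28, 1, 31, 28] (.step [30, 30, 28, 28, 1, 28, 31, 28, 1, 1, 1, 30, 28, 30, 29, 1, 28, 31, 29, 29, 5, 30, 30, 29, 29, 29] .fail)))), (1, (.step [5, 29, 1, 28, 5, 31, 29, 31, 1] (.step [30, 29, 30, 30, 28, 1, 30, 29, 5, 5, 28, 31, 31] (.step [1, 29, 1, 30, 5, 30, 1,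 5, 28, 5, 29, 5, 5, 31, 1, 30, 1, 28, 1] .fail)))), (1, (.step [1, 31, 28, 1, 28, 31, 31, 31, 29] .fail)), (3, .fail), (1, (.step [30, 1, 29, 5, 30, 30, 30, 29] .fail)), (1, (.step [1, 29, 30, 30, 28, 31, 28, 30, 28] .fail)), (4, .fail), (1, (.step [28, 28, 1, 29, 1, 31, 1, 1] .fail)), (1, (.step [29, 29, 31, 28, 31, 28, 5, 29] .fail)), (1, (.step [28, 31, 5, 31, 5, 30, 29, 29] (.step [29, 29, 1, 30, 30, 30, 29, 29, 31, 5, 28, 28, 28, 31, 29, 29, 5] (.step [29, 29, 31, 31, 28, 30, 29, 1, 1, 28, 31, 31, 5, 5, 5, 1, 1, 29, 1, 29, 1, 31, 28, 30, 28, 1] .fail)))), (1, .fail), (1, (.step [29, 31, 5, 28, 28, 30, 28] (.step [28, 30, 30, 29, 29, 29, 5, 5, 1, 30, 28, 30, 29, 1, 28] (.step [30, 29, 30, 28, 1, 31, 5, 31, 1, 29, 1, 29, 29, 29, 5, 5, 28, 31, 28, 29, 5, 5, 29, 5, 30, 30, 30, 1] .fail)))), (1, (.step [31, 28, 28, 28, 5, 29,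 1] (.step [29, 30, 5, 30, 28, 1, 28, 30, 29, 5, 5, 28, 31, 31, 30] .fail))), (1, (.step [31, 5, 29, 29, 30, 30, 5] .fail)), (1, .fail), (1, (.step [5, 29, 1, 30, 5, 29, 1, 1] (.step [5, 30, 29, 31, 31, 1, 31, 31, 28, 1, 28, 29, 30] (.step [30, 5, 30, 1, 31, 31, 1, 1, 28, 28, 28, 29, 31, 5, 30, 30, 5, 30, 28, 28, 31, 29, 1, 31, 28, 31, 31, 5] .fail)))), (4, .fail), (1, (.step [28, 5, 28, 28, 28, 5, 29, 5] (.step [28, 31, 28, 5, 31, 1, 28, 1, 1, 30, 28, 31, 31, 31, 31, 31] (.step [30, 29, 30, 28, 1, 31, 5, 31, 1, 29, 1, 29, 29, 29, 5, 5, 28, 31, 28, 29, 5, 5, 29, 5, 30, 30, 30, 1] .fail)))), (1, .fail), (1, (.step [1, 28, 28, 30, 29, 29, 29] .fail)), (2, .fail), (1, (.step [28, 28, 5, 31, 1, 31, 31, 1, 29] (.step [1, 31, 29, 30, 29, 29, 5, 31, 1, 31, 29, 30, 30] (.step [29, 29, 1, 5, 1, 29, 31, 5, 29, 30, 29, 30, 30, 30, 30, 30,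 30, 29, 31, 31, 31, 29, 30, 28, 31] .fail)))), (1, (.step [31, 29, 29, 5, 30, 29, 29, 5] .fail)), (1, (.step [30, 5, 28, 1, 30, 30, 29, 30, 5] (.step [28, 5, 5, 5, 29, 30, 1, 30, 28, 1, 30, 30] .fail))), (9, .fail), (1, (.step [29, 5, 31, 28, 28, 30] .fail)), (1, .fail), (1, (.step [31, 1, 31, 31, 1, 30, 1, 29] .fail)), (3, .fail), (1, (.step [31, 5, 28, 1, 29, 29, 29] (.step [28, 31, 31, 29, 5, 5, 5, 29, 30, 1, 31, 31, 31] (.step [5, 29, 31, 31, 1, 1, 29, 31, 29, 1, 31, 31, 31, 31, 31, 31, 31, 1, 28, 30, 30, 29, 30, 1, 29, 30, 1] .fail)))), (1, .fail), (1, (.step [29, 30, 1, 31, 1, 1, 29, 29] .fail)), (8, .fail), (1, (.step [1, 28, 28, 31, 1, 28, 28] (.step [29, 30, 5, 30, 28, 1, 28, 30, 29, 5, 5, 28, 31, 31, 30] (.step [29, 29, 5, 31, 31, 1, 30, 29, 5, 1, 31, 31, 1, 30, 1, 29, 31, 31, 31, 31, 1, 28, 1, 1, 30, 5, 30] .fail)))),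 (1, .fail), (1, (.step [5, 28, 31, 5, 28, 1, 28, 28, 5] (.step [28, 1, 30, 5, 28, 5, 5, 5, 5] (.step [28, 31, 28, 30, 30, 28, 31, 5, 29, 1, 31, 5, 5, 28, 30, 5, 29, 1, 31, 29] .fail)))), (1, (.step [29, 1, 30, 29, 31, 1, 1, 29] .fail)), (1, (.step [1, 31, 5, 29, 29, 29, 1, 29] (.step [31, 31, 31, 28, 30, 28, 5, 30, 5, 29, 5, 31, 31, 30] (.step [1, 30, 29, 30, 1, 31, 5, 1, 1, 31, 5, 28, 28, 31, 1, 30, 1, 30, 29] .fail)))), (2, .fail), (1, (.step [1, 31, 28, 30, 5, 5, 5, 30, 1] (.step [31, 31, 5, 31, 5, 31, 31, 28, 1, 1, 29] .fail))), (2, .fail), (1, (.step [31, 30, 30] (.step [30, 1, 30, 30, 30, 30, 1, 31, 1, 29, 5, 31, 28, 28] (.step [5, 29, 31, 31, 1, 1, 29, 31, 29, 1, 31, 31, 31, 31, 31, 31, 31, 1, 28, 30, 30, 29, 30, 1, 29, 30, 1] .fail)))), (1, (.step [1, 29, 30, 30, 28, 31, 28, 30, 28] .fail)), (11, .fail), (1, (.step [29,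 31, 1, 28, 5, 30, 1] (.step [30, 28, 30, 30, 5, 31, 1, 30, 28, 1, 31, 31] (.step [30, 30, 1, 1, 29, 5, 30, 29, 1, 31, 1, 5, 5, 31, 1, 31, 5, 28, 5, 29] .fail)))), (1, (.step [29, 31, 28, 30, 30, 30, 28] .fail)), (1, (.step [5, 5, 31, 31, 28, 28, 30, 5, 28] (.step [31, 31, 5, 31, 5, 31, 31, 28, 1, 1, 29] .fail))), (1, (.step [29, 30, 5, 5, 31, 28, 1, 31, 29] .fail)), (2, .fail), (1, (.step [29, 1, 29, 30, 1, 29, 30, 28] .fail)), (5, .fail), (1, (.step [1, 29, 29, 31, 31, 5, 31, 5, 5] .fail)), (1, .fail), (1, (.step [29, 29, 5, 29, 30, 28, 1] .fail)), (1, (.step [1, 31, 28, 30, 5, 5, 5, 30, 1] .fail)), (7, .fail), (1, (.step [30, 5, 31, 31, 5, 29, 29, 5] .fail)), (1, (.step [31, 1, 28, 28, 1, 30, 30, 1] .fail)), (1, .fail), (1, (.step [31, 1, 31, 31, 1, 30, 1, 29] .fail)), (2, .fail), (1, (.step [29, 31, 1, 31, 5, 28, 30, 1] (.step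 [29, 30, 29, 1, 29, 29, 5, 29, 1, 31, 31, 30] (.step [1, 29, 29, 1, 1, 28, 31, 31, 1, 1, 29, 1, 31, 31, 28, 1, 1, 1, 28, 1, 30, 5, 28, 5, 5, 5, 5] .fail)))), (7, .fail), (1, (.step [30, 29, 31, 1, 28, 5, 30, 1] .fail)), (1, (.step [28, 30, 29, 1, 28, 28, 30, 29, 1] .fail)), (1, (.step [31, 31, 28, 28, 28, 5, 29, 1] .fail)), (1, (.step [29, 5, 28, 31, 29, 31, 5] (.step [1, 1, 28, 1, 1, 1, 31, 29, 5, 5, 28, 29, 30] (.step [29, 29, 31, 31, 28, 30, 29, 1, 1, 28, 31, 31, 5, 5, 5, 1, 1, 29, 1, 29, 1, 31, 28, 30, 28, 1] (.step [28, 1, 29, 30, 29, 1, 5, 30, 28, 28, 1, 29, 5, 30, 30, 30, 29, 1, 30, 30, 5, 30, 28, 30, 29, 5, 1, 1, 29, 31, 30, 28, 5, 5, 1, 28, 31, 29, 31, 1, 31, 31, 5, 30, 30, 5, 31, 1, 1, 28, 31, 5, 28, 1, 1, 1] (.badAt 0)))))), (1, (.step [29, 5, 5, 30, 5, 28, 5, 5] .fail)), (1, (.step [5, 31, 29, 30, 5, 28, 28, 5, 28]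 .fail)), (1, (.step [29, 5, 31, 1, 30, 1, 29, 31, 1] .fail)), (6, .fail), (1, (.step [29, 1, 28, 28, 28, 31, 29] .fail)), (2, .fail), (1, (.step [5, 29, 29, 1, 30, 1, 29] .fail)), (1, .fail), (1, (.step [28, 30, 29, 1, 28, 28, 30, 29, 1] .fail)), (2, .fail), (1, (.step [28, 30, 5, 28, 1, 31, 29, 1] .fail)), (1, .fail), (1, (.step [31, 31] .fail)), (4, .fail), (1, (.step [29, 31, 1, 31, 5, 28, 30, 1] .fail)), (3, .fail), (1, (.step [30, 1, 30, 29, 1, 1, 30, 1] (.step [29, 1, 31, 31, 28, 1, 1, 1, 5, 28, 5, 30, 28, 1, 1] (.step [5, 29, 31, 31, 1, 1, 29, 31, 29, 1, 31, 31, 31, 31, 31, 31, 31, 1, 28, 30, 30, 29, 30, 1, 29, 30, 1] .fail)))), (8, .fail), (1, (.step [1, 30, 30, 1, 1, 1, 30, 5, 28] (.step [30, 28, 5, 5, 1, 28, 31, 29, 31, 1, 31, 31, 5] (.step [1, 29, 1, 30, 5, 30, 1, 5, 28, 5, 29, 5, 5, 31, 1, 30, 1, 28, 1] .fail)))),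 (4, .fail), (1, (.step [1, 28, 28, 30, 5, 29, 1] .fail)), (1, (.step [29, 30, 5, 31, 1, 28, 5, 31, 28] (.step [1, 28, 5, 5, 29, 29, 31, 31, 29, 30, 30] (.step [5, 31, 29, 31, 1, 28, 30, 5, 30, 28, 5, 5, 28, 1, 29, 29, 29, 30, 1, 1, 29, 1, 29, 1, 31, 28, 30, 28, 1] .fail)))), (1, .fail), (1, (.step [30, 29, 1, 1, 1, 28, 5, 30, 29] .fail)), (1, (.step [5, 31, 1, 31, 1, 31, 29, 5, 5] .fail)), (2, .fail), (1, (.step [29, 31, 28, 5, 31, 28, 5, 28] (.step [5, 29, 31, 29, 30, 5, 28, 5, 28, 5, 5] (.step [28, 28, 28, 5, 29, 1, 31, 31, 31, 31, 28, 28, 30, 28, 5, 5, 28, 1, 28] .fail)))), (1, (.step [5, 29, 5, 31, 5, 30, 1, 1] .fail)), (1, (.step [28, 30, 28, 30, 5, 5, 29] (.step [28, 5, 31, 31, 28, 31, 28, 31, 28, 31, 1, 29, 31, 31, 31] (.step [29, 1, 30, 30, 30, 5, 5, 31, 5, 5, 5, 29, 31, 31, 5, 31, 1, 28, 30] .fail)))), (5, .fail), (1,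 (.step [1, 30, 29, 1, 1, 30, 1] .fail)), (1, (.step [28, 31, 31, 31, 1, 28, 5] (.step [5, 30, 28, 28, 28, 31, 1, 1, 1, 28, 5, 31, 31, 30] (.step [5, 30, 29, 30, 30, 1, 1, 28, 28, 28, 29, 29, 30, 1, 28, 31, 31, 31, 31, 31, 1, 28, 1, 1, 30, 5, 30] .fail)))), (1, (.step [5, 30, 1, 30, 5, 29, 31, 28] (.step [5, 28, 1, 30, 28, 28, 5, 30, 29, 1, 28, 28, 28, 5, 29, 1] (.step [5, 30, 29, 30, 30, 1, 1, 28, 28, 28, 29, 29, 30, 1, 28, 31, 31, 31, 31, 31, 1, 28, 1, 1, 30, 5, 30] .fail)))), (1, .fail), (1, (.step [28, 1, 29, 29, 30, 5, 30, 28] (.step [5, 31, 31, 1, 1, 30, 5, 5, 5, 5, 30, 30] (.step [31, 1, 31, 5, 29, 29, 29, 1, 29, 28, 29, 30, 31, 31, 31, 31, 1, 28, 1, 1, 30, 5, 30] .fail)))), (1, (.step [28, 30, 5, 28, 1, 31, 29, 1] (.step [5, 31, 5, 30, 28, 31, 31, 29, 5, 28, 31, 31] (.step [5, 5, 28, 31, 31, 29, 30, 29, 1, 29, 31, 29, 29,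 1, 30, 28] .fail)))), (3, .fail), (1, (.step [5, 30, 29, 1, 29, 1, 28, 28, 28] (.step [29, 31, 31, 28, 28, 30, 1, 1, 30, 28, 30, 5, 30, 30] (.step [28, 30, 29, 29, 28, 5, 29, 5, 31, 5, 5, 5, 5, 28, 31, 28, 30, 1, 1, 1, 29, 1, 29, 1, 31, 28, 30, 28, 1] .fail)))), (4, .fail), (1, (.step [5, 31, 29, 30, 29, 1, 1, 1] .fail)), (1, .fail), (1, (.step [30, 1, 1, 30, 1, 1, 30, 28, 5] .fail)), (1, (.step [29, 1, 29, 29, 1, 29, 1, 1, 1] .fail)), (1, (.step [28, 30, 28, 5, 30, 5, 29, 5] (.step [29, 30, 29, 31, 5, 31, 28, 5, 31, 31, 30] .fail))), (1, (.step [28, 1, 31, 29, 30, 29, 29, 1] .fail)), (1, .fail), (1, (.step [1, 31, 31, 1, 30, 1, 29, 31] (.step [31, 31, 5, 5, 29, 1, 28, 31, 1, 1, 28, 5, 31, 5, 5, 29] (.step [28, 30, 30, 29, 5, 30, 5, 29, 28, 31, 29, 30, 30, 29, 30, 1, 31, 31, 5, 31, 5, 31, 31, 28, 1, 1, 29] .fail)))), (8, .fail),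 (1, (.step [28, 5, 28, 28, 28, 5, 29, 5] .fail)), (2, .fail), (1, (.step [1, 29, 1, 1, 28, 30, 28, 1, 29] (.step [5, 30, 29, 31, 31, 1, 31, 31, 28, 1, 28, 29, 30] (.step [5, 5, 29, 5, 29, 30, 28, 5, 29, 1, 31, 31, 28, 28, 1, 30, 28, 1, 30, 5, 28, 5, 5, 5, 5] .fail)))), (2, .fail), (1, (.step [1, 31, 29, 31, 29, 30, 30, 1] (.step [1, 28, 30, 30, 28, 28, 30, 5, 28, 1, 28, 28, 31, 1, 28, 28] .fail))), (1, (.step [1, 31, 28, 5, 30, 5, 29, 30, 28] .fail)), (1, .fail), (1, (.step [28, 1, 29, 1, 30, 5, 30, 1, 1] .fail)), (3, .fail), (1, (.step [30, 1, 30, 5, 5, 5, 31, 1] .fail)), (4, .fail), (1, (.step [30, 1, 30, 29, 29, 31, 29, 29] .fail)), (1, .fail), (1, (.step [30, 28, 28, 28, 5, 29, 1] (.step [5, 30, 28, 28, 28, 31, 1, 1, 1, 28, 5, 31, 31, 30] (.step [29, 5, 5, 31, 5, 31, 1, 31, 1, 28, 31, 1, 29, 5, 5, 5, 28, 28, 5, 31, 28, 31,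 1, 28, 28, 28, 28] .fail)))), (1, (.step [31, 1, 28, 28, 31, 1, 28, 28] .fail)), (3, .fail), (1, (.step [29, 29, 5, 28, 31, 1, 28, 1, 28] (.step [1, 1, 30, 1, 31, 1, 31, 31, 29, 1, 28, 31, 31] (.step [1, 31, 1, 31, 28, 31, 5, 29, 30, 1, 29, 1, 31, 31, 31, 31, 31, 31, 1, 29, 31, 31, 31, 31, 5, 28, 30, 30] .fail)))), (1, (.step [30, 28, 30, 29, 29, 29, 5, 28] .fail)), (1, (.step [28, 28, 1, 1, 31, 1, 1, 1] .fail)), (4, .fail), (1, (.step [5, 30, 1, 31, 29, 31, 28, 28, 5] .fail)), (2, .fail), (1, (.step [29, 5, 31, 29, 1, 29, 5, 28, 1] .fail)), (1, .fail), (1, (.step [28, 31, 29, 29, 31, 29, 31, 31, 28] (.step [5, 31, 31, 31, 1, 28, 1, 1, 28, 29, 30] .fail))), (1, (.step [1, 29, 30, 30, 28, 31, 28, 30, 28] .fail)), (3, .fail), (1, (.step [30, 29, 1, 1, 1, 28, 5, 30, 29] (.step [29, 30, 28, 30, 28, 5, 29, 29, 5, 5] (.step [5, 5, 29,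 5, 29, 30, 28, 5, 29, 1, 31, 31, 28, 28, 1, 30, 28, 1, 30, 5, 28, 5, 5, 5, 5] (.step [] (.badAt 0)))))), (2, .fail), (1, (.step [29, 31, 1, 28, 5, 30, 1] (.step [31, 29, 5, 30, 1, 31, 28, 28, 30, 29, 1, 29, 5, 31, 28, 28] .fail))), (1, (.step [5, 29, 30, 1, 30, 28, 31, 29] .fail)), (3, .fail), (1, (.step [5, 31, 5, 5, 28, 31, 5] .fail)), (1, (.step [5, 5, 29, 30, 29, 5, 29, 29] .fail)), (1, .fail), (1, (.step [29, 31, 28, 5, 28, 31, 28, 1, 29] (.step [29, 30, 29, 31, 5, 31, 28, 5, 31, 31, 30] (.step [1, 30, 29, 30, 1, 31, 5, 1, 1, 31, 5, 28, 28, 31, 1, 30, 1, 30, 29] .fail)))), (6, .fail), (1, (.step [29, 31, 28, 28, 5, 30, 28] (.step [5, 28, 1, 30, 28, 28, 5, 30, 29, 1, 28, 28, 28, 5, 29, 1] (.step [1, 1, 28, 30, 29, 29, 1, 31, 28, 1, 30, 28, 31, 31, 30, 28, 5, 31, 29, 31, 5, 31, 29, 29, 5] .fail)))), (1, .fail), (1, (.step [29,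 1, 1, 1, 28, 5, 30, 29] .fail)), (1, (.step [28, 30, 28, 30, 5, 5, 29] (.step [30, 5, 29, 31, 28, 30, 29, 29, 5, 29, 29, 30, 1, 28] (.step [1, 29, 1, 30, 5, 30, 1, 5, 28, 5, 29, 5, 5, 31, 1, 30, 1, 28, 1] .fail)))), (1, (.step [28, 5, 30, 5, 30, 1, 1, 29] .fail)), (1, (.step [5, 5, 29, 31, 1, 29, 1] (.step [1, 28, 1, 28, 31, 31, 31, 5, 5, 31, 31] .fail))), (1, .fail), (1, (.step [1, 30, 29, 29, 31, 29, 29] .fail)), (1, (.step [29, 30, 29, 5, 29, 29, 30, 1] .fail)), (1, (.step [1, 31, 5, 29, 29, 29, 1, 29] .fail)), (3, .fail), (1, (.step [1, 30, 1, 28, 1, 28, 31, 29] (.step [29, 5, 29, 31, 1, 30, 1, 31, 1, 28, 31, 29, 29, 30, 1, 28] (.step [] (.step [1, 5, 30, 28, 1, 1, 31, 29, 31, 29, 1, 31, 31, 28, 28, 1, 30, 31, 31, 5, 29, 1, 1, 1, 1, 31, 28] (.badAt 0)))))), (2, .fail), (1, (.step [1, 30, 29, 5, 29, 5, 30, 28, 5] .fail)), (1,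 .fail), (1, (.step [31, 29, 5, 30, 1, 30, 30, 28, 1] .fail)), (4, .fail), (1, (.step [5, 31, 28, 30, 1, 28, 1, 1] .fail)), (1, (.step [28, 1, 31, 1, 29, 29, 5, 5] (.step [29, 30, 5, 30, 28, 1, 28, 30, 29, 5, 5, 28, 31, 31, 30] (.step [29, 29, 29, 30, 5, 31, 31, 29, 29, 29, 30, 1, 28, 30, 30, 1, 28, 30, 5, 31, 31, 1, 31, 5, 30, 29] .fail)))), (1, (.step [28, 31, 5, 29, 5, 28, 31, 1] (.step [5, 28, 31, 29, 30, 30, 28, 28, 1, 1, 1, 30, 30, 29, 5] (.step [5, 30, 30, 29, 30, 1, 30, 30, 5, 28, 5, 5, 5, 5, 31, 5, 5, 29, 31, 29, 29] .fail)))), (1, (.step [5, 31, 1, 28, 1, 29, 1, 28] .fail)), (1, .fail), (1, (.step [5, 28, 1, 31, 29, 29, 5] .fail)), (2, .fail), (1, (.step [29, 5, 5, 30, 5, 28, 5, 5] .fail)), (1, (.step [] (.step [31, 31, 5, 5, 29, 1, 28, 31, 1, 1, 28, 5, 31, 5, 5, 29] .fail))), (4, .fail), (1, (.step [1, 29, 1, 1, 28,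 30, 28, 1, 29] .fail)), (1, (.step [28, 30, 28, 30, 30, 1, 29, 5] .fail)), (1, (.step [31, 31, 28, 28, 28, 5, 29, 1] (.step [31, 29, 5, 30, 1, 31, 28, 28, 30, 29, 1, 29, 5, 31, 28, 28] (.step [29, 5, 5, 29, 5, 31, 5, 28, 5, 28, 30, 29, 29, 29, 5, 28, 31, 28, 29, 5, 5, 29, 5, 30, 30, 30, 1] .fail)))), (2, .fail), (1, (.step [30, 29, 30, 1, 31, 31, 1, 30, 1] .fail)), (8, .fail), (1, (.step [29, 31, 28, 30, 30, 30, 28] .fail)), (2, .fail), (1, (.step [1, 28, 5, 31, 28, 1, 31, 28] .fail)), (6, .fail), (1, (.step [1, 28, 31, 1, 29, 5, 5] .fail)), (1, .fail), (1, (.step [5, 5, 31, 29, 29, 1, 1, 30, 29] (.step [28, 5, 5, 1, 29, 31, 29, 31, 28, 31, 1, 29, 31, 31, 30] (.step [1, 30, 29, 30, 1, 31, 5, 1, 1, 31, 5, 28, 28, 31, 1, 30, 1, 30, 29] .fail)))), (1, .fail), (1, (.step [30, 5, 28, 5, 30, 28, 1, 1] .fail)), (3, .fail), (1, (.step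 [5, 28, 1, 29, 29, 29] (.step [28, 5, 30, 30, 28, 5, 29, 5, 29, 5, 29, 1, 28, 28, 28, 31, 29] (.step [29, 5, 5, 29, 5, 31, 5, 28, 5, 28, 30, 29, 29, 29, 5, 28, 31, 28, 29, 5, 5, 29, 5, 30, 30, 30, 1] (.step [28, 1, 29, 30, 29, 1, 5, 30, 28, 28, 1, 29, 5, 30, 30, 30, 29, 1, 30, 30, 5, 30, 28, 30, 29, 5, 1, 1, 29, 31, 30, 28, 5, 5, 1, 28, 31, 29, 31, 1, 31, 31, 5, 30, 30, 5, 31, 1, 1, 28, 31, 5, 28, 1, 1, 1] (.badAt 0)))))), (4, .fail), (1, (.step [30, 29, 1, 28, 28, 28, 31, 29] (.step [31, 28, 5, 31, 1, 28, 30, 5, 31, 5, 30, 30, 30] .fail))), (4, .fail), (1, (.step [5, 30, 1, 30, 5, 29, 31, 28] .fail)), (1, (.step [28, 5, 31, 1, 31, 29, 5, 29] .fail)), (1, (.step [28, 5, 28, 28, 28, 5, 29, 5] (.step [28, 1, 1, 29, 30, 5, 5, 5, 29, 28, 29, 30] (.step [28, 31, 5, 5, 29, 5, 30, 1, 30, 5, 29, 5, 1, 1, 28, 28, 1, 29, 31, 29, 31, 28]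 .fail)))), (3, .fail), (1, (.step [5, 5, 28, 5, 30, 29, 5, 29, 1] (.step [1, 29, 31, 5, 5, 31, 5, 5, 5, 5, 5, 30, 5, 5, 29, 29] .fail))), (3, .fail), (1, (.step [30, 28, 1, 29, 30, 29, 30, 28, 28] .fail)), (1, .fail), (1, (.step [31, 29, 5, 31, 28, 28] .fail)), (1, .fail), (1, (.step [5, 5, 5, 5, 30, 28, 1, 1, 29] .fail)), (1, .fail), (1, (.step [29, 5, 30, 29, 1, 28, 30, 1] .fail)), (1, (.step [28, 31, 5, 31, 5, 30, 29, 29] (.step [1, 31, 1, 28, 28, 28, 1, 29, 30, 29, 29, 29, 30, 1, 28, 31] (.step [1, 30, 30, 1, 28, 1, 28, 5, 29, 5, 5, 5, 28, 5, 28, 28, 5, 28, 29, 31, 29, 30, 30, 1, 29, 31, 31, 28] .fail)))), (1, (.step [1, 31, 31, 1, 30, 1, 29] (.step [28, 30, 28, 5, 30, 1, 30, 5, 1, 31, 31, 28, 28, 1, 31] .fail))), (3, .fail), (1, (.step [29, 5, 31, 29, 1, 29, 5, 28, 1] .fail)), (1, (.step [30, 5, 30, 1, 1, 1, 31, 5] (.step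 [28, 31, 29, 5, 28, 1, 30, 31, 29, 5, 31, 5, 30, 30] (.step [31, 29, 5, 30, 5, 5, 31, 29, 30, 29, 5, 5, 5, 5, 30, 28, 1, 1, 29] .fail)))), (1, (.step [28, 28, 5, 31, 1, 31, 31, 1, 29] (.step [5, 31, 5, 30, 28, 31, 31, 29, 5, 28, 31, 31] (.step [5, 28, 28, 30, 28, 31, 28, 31, 1, 29, 5, 31, 28, 28, 30, 30, 31, 30, 30, 1, 29, 30, 1, 30, 28, 31, 28] .fail)))), (1, (.step [30, 30, 30, 29, 5, 31, 28, 28] (.step [1, 1, 28, 1, 1, 1, 31, 29, 5, 5, 28, 29, 30] (.step [29, 29, 29, 30, 5, 31, 31, 29, 29, 29, 30, 1, 28, 30, 30, 1, 28, 30, 5, 31, 31, 1, 31, 5, 30, 29] .fail)))), (1, .fail), (1, (.step [28, 1, 29, 5, 29, 5, 31, 31, 5] .fail)), (1, (.step [1, 29, 29, 31, 31, 5, 31, 5, 5] .fail)), (1, (.step [30, 1, 1, 29, 30, 28, 1, 28, 1] .fail)), (1, (.step [29, 31, 5, 28, 28, 30, 28] (.step [5, 31, 29, 5, 5, 5, 31, 28, 1, 31, 31, 28, 28, 1]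 (.step [1, 30, 29, 30, 1, 31, 5, 1, 1, 31, 5, 28, 28, 31, 1, 30, 1, 30, 29] .fail)))), (1, .fail), (1, (.step [31, 1, 28, 28, 1, 30, 30, 1] (.step [29, 1, 30, 5, 30, 30, 5, 29, 29, 31, 31, 31] .fail))), (3, .fail), (1, (.step [30, 29, 1, 1, 1, 28, 5, 30, 29] (.step [5, 31, 31, 1, 31, 5, 28, 31, 31, 31, 5] (.step [30, 1, 28, 5, 30, 1, 29, 31, 28, 5, 29, 5, 28, 5, 29, 5, 30, 1, 1, 1, 1, 1, 29, 1, 31, 5, 29] .fail)))), (8, .fail), (1, (.step [31, 29, 31, 5, 30, 28, 28, 5, 29] .fail)), (3, .fail), (1, (.step [29, 31, 1, 28, 5, 30, 1] .fail)), (1, (.step [29, 31, 1, 28, 5, 30, 1] (.step [30, 28, 5, 30, 29, 30, 28, 30, 28, 1, 29] (.step [28, 31, 31, 29, 31, 29, 5, 29, 5, 30, 30, 30, 30, 31, 31, 1, 30, 28, 1, 1, 28, 1, 30, 28, 28] (.step [1, 5, 30, 28, 1, 1, 31, 29, 31, 29, 1, 31, 31, 28, 28, 1, 30, 31, 31, 5, 29, 1, 1, 1, 1, 31, 28]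 (.badAt 0)))))), (1, (.step [28, 1, 30, 1, 30, 1, 29, 29] (.step [29, 31, 1, 29, 29, 30, 28, 5, 31, 1, 29, 5, 30, 28] .fail))), (1, .fail), (1, (.step [28, 1, 29, 1, 30, 5, 30, 1, 1] (.step [29, 29, 5, 5, 5, 28, 31, 29, 5, 5, 5, 29, 29, 30, 30, 5] (.step [5, 28, 28, 30, 28, 31, 28, 31, 1, 29, 5, 31, 28, 28, 30, 30, 31, 30, 30, 1, 29, 30, 1, 30, 28, 31, 28] .fail)))), (2, .fail), (1, (.step [28, 30, 28, 5, 30, 5, 29, 5] .fail)), (6, .fail), (1, (.step [31, 28, 30, 29, 29, 29, 5, 28] .fail)), (3, .fail), (1, (.step [5, 5, 31, 31, 1, 30, 5, 29] .fail)), (11, .fail), (1, (.step [1, 31, 31, 31, 1, 1, 30, 29, 29] .fail)), (1, .fail), (1, (.step [5, 29, 5, 31, 5, 30, 1, 1] .fail)), (1, (.step [30, 1, 30, 29, 1, 1, 30, 1] .fail)), (1, (.step [1, 31, 28, 30, 5, 5, 5, 30, 1] (.step [28, 29, 5, 31, 1, 29, 30, 28, 5, 5, 31, 29, 31, 31, 31]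 (.step [30, 1, 30, 30, 30, 1, 29, 31, 5, 28, 5, 1, 29, 5, 30, 30, 30, 29, 28, 1, 30, 5, 28, 5, 5, 5, 5] .fail)))), (1, (.step [29, 30, 30, 29, 1, 29, 5, 28] (.step [28, 31, 29, 29, 5, 5, 5, 29, 28, 28, 28, 1, 1, 30, 30] (.step [5, 30, 29, 30, 30, 1, 1, 28, 28, 28, 29, 29, 30, 1, 28, 31, 31, 31, 31, 31, 1, 28, 1, 1, 30, 5, 30] .fail)))), (2, .fail), (1, (.step [1, 31, 28, 31, 28, 30, 5, 5, 5] .fail)), (5, .fail), (1, (.step [28, 1, 1, 28, 1, 31, 28] .fail)), (2, .fail), (1, (.step [31, 5, 31, 1, 29, 29, 29, 30, 28] (.step [1, 30, 29, 1, 30, 1, 1, 29, 29, 31, 31, 31] (.step [28, 30, 30, 29, 5, 30, 5, 29, 28, 31, 29, 30, 30, 29, 30, 1, 31, 31, 5, 31, 5, 31, 31, 28, 1, 1, 29] .fail)))), (2, .fail), (1, (.step [5, 28, 1, 31, 1, 30, 30, 1] .fail)), (1, (.step [30, 1, 29, 5, 30, 30, 30, 29] .fail)), (1, .fail), (1, (.step [29, 30, 5,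 5, 31, 28, 1, 31, 29] (.step [28, 28, 5, 31, 5, 31, 5, 29, 29, 29, 30, 1, 28, 30] (.step [1, 30, 30, 1, 28, 1, 28, 5, 29, 5, 5, 5, 28, 5, 28, 28, 5, 28, 29, 31, 29, 30, 30, 1, 29, 31, 31, 28] .fail)))), (1, (.step [1, 31, 31, 28, 28, 1] .fail)), (1, (.step [5, 5, 29, 1, 28, 31, 1] (.step [5, 31, 1, 28, 5, 30, 5, 28, 5, 5, 30, 28, 31, 31] (.step [1, 30, 29, 30, 1, 31, 5, 1, 1, 31, 5, 28, 28, 31, 1, 30, 1, 30, 29] .fail)))), (1, (.step [29, 1, 1, 1, 28, 5, 30, 29] .fail)), (3, .fail), (1, (.step [1, 29, 29, 31, 31, 5, 31, 5, 5] .fail)), (3, .fail), (1, (.step [31, 5, 29, 29, 30, 5, 5, 29, 5] .fail)), (1, (.step [30, 5, 29, 31, 28, 1, 28, 28] (.step [30, 1, 30, 5, 31, 28, 31, 29, 29, 29, 5, 31, 31, 31, 31] .fail))), (1, (.step [29, 31, 28, 28, 5, 30, 28] .fail)), (1, (.step [31, 1, 1, 31, 31, 5, 30, 5] .fail)), (1, .fail), (1, (.step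 [28, 1, 29, 5, 28, 5, 28, 30, 5] .fail)), (2, .fail), (1, (.step [30, 30, 5, 29, 29, 30, 30, 5] (.step [5, 30, 28, 28, 28, 31, 1, 1, 1, 28, 5, 31, 31, 30] (.step [1, 29, 30, 5, 30, 28, 31, 29, 1, 1, 28, 28, 28, 30, 28, 28, 31, 5, 30, 1, 1, 28, 28, 1, 29, 31, 29, 31, 28] .fail)))), (2, .fail), (1, (.step [31, 30, 30] .fail)), (5, .fail), (1, (.step [1, 1, 1, 30, 30, 29, 5] .fail)), (1, (.step [30, 28, 1, 29, 30, 29, 30, 28, 28] .fail)), (1, (.step [29, 5, 31, 28, 28, 30] (.step [5, 28, 29, 28, 30, 28, 1, 1, 31, 5, 31, 5, 30, 30] (.step [28, 28, 28, 5, 29, 1, 31, 31, 31, 31, 28, 28, 30, 28, 5, 5, 28, 1, 28] .fail)))), (1, (.step [29, 5, 31, 29, 31, 29, 31, 1] (.step [1, 1, 1, 28, 5, 28, 1, 28, 31, 5, 5, 28, 29, 30] (.step [28, 30, 29, 29, 28, 5, 29, 5, 31, 5, 5, 5, 5, 28, 31, 28, 30, 1, 1, 1, 29, 1, 29, 1, 31, 28, 30, 28, 1] .fail)))),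 (1, (.step [30, 28, 1, 1, 28, 1, 31, 28] .fail)), (1, (.step [1, 30, 5, 28, 1, 29, 29, 30, 29] .fail)), (1, .fail), (1, (.step [1, 31, 31, 1, 30, 1, 29, 31] .fail)), (5, .fail), (1, (.step [28, 5, 5, 29, 31, 1, 1, 1, 1] (.step [30, 29, 30, 30, 28, 1, 30, 29, 5, 5, 28, 31, 31] .fail))), (1, (.step [29, 5, 30, 28, 1, 31, 31, 29] (.step [1, 1, 1, 28, 30, 1, 30, 28, 5, 28, 5, 30, 28, 1, 1] (.step [29, 1, 30, 30, 30, 5, 5, 31, 5, 5, 5, 29, 31, 31, 5, 31, 1, 28, 30] .fail)))), (1, .fail), (1, (.step [1, 31, 28, 30, 5, 5, 5, 30, 1] (.step [29, 5, 29, 31, 1, 1, 31, 31, 5, 5, 29, 29, 30, 1, 28] (.step [31, 29, 5, 30, 5, 5, 31, 29, 30, 29, 5, 5, 5, 5, 30, 28, 1, 1, 29] .fail)))), (3, .fail), (1, (.step [1, 31, 5, 29, 29, 29, 1, 29] .fail)), (1, (.step [5, 31, 31, 1, 1, 28, 5, 31, 5] .fail)), (1, .fail), (1, (.step [30, 29, 1, 28, 28, 28,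 31, 29] .fail)), (1, (.step [28, 1, 29, 1, 30, 5, 30, 1, 1] (.step [29, 30, 29, 1, 29, 29, 5, 29, 1, 31, 31, 30] .fail))), (1, .fail), (1, (.step [1, 31, 5, 5, 29, 5, 31] (.step [30, 1, 29, 1, 29, 31, 5, 5, 31, 5, 29, 31, 31] (.step [28, 28, 28, 5, 29, 1, 31, 31, 31, 31, 28, 28, 30, 28, 5, 5, 28, 1, 28] .fail)))), (2, .fail), (1, (.step [29, 5, 28, 1, 31, 1, 30, 29, 29] .fail)), (1, (.step [28, 1, 1, 28, 1, 31, 28] .fail)), (6, .fail), (1, (.step [28, 31, 29, 29, 31, 29, 31, 31, 28] .fail)), (1, (.step [1, 30, 1, 31, 28, 28, 30, 30, 1] (.step [28, 1, 29, 31, 5, 31, 1, 30, 28, 28, 5, 30, 30] .fail))), (6, .fail), (1, (.step [1, 31, 31, 5, 5, 30, 30, 29, 29] .fail)), (3, .fail)])), (2299, (.badPow 23 1))]))]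

/-- the centralizer of the element of order 11, piece 1 -/
def cCh_1 : Cert := Cert.rl [(1, (Cert.rl [(1988, (.badPow 23 1)), (1, (Cert.rl [(3, .fail), (1, (.step [5, 5, 5, 30, 29, 30, 29, 5, 28] (.step [30, 1, 29, 1, 29, 31, 5, 5, 31, 5, 29, 31, 31] (.step [28, 28, 28, 5, 29, 1, 31, 31, 31, 31, 28, 28, 30, 28, 5, 5, 28, 1, 28] (.step [28, 1, 29, 30, 29, 1, 5, 30, 28, 28, 1, 29, 5, 30, 30, 30, 29, 1, 30, 30, 5, 30, 28, 30, 29, 5, 1, 1, 29, 31, 30, 28, 5, 5, 1, 28, 31, 29, 31, 1, 31, 31, 5, 30, 30, 5, 31, 1, 1, 28, 31, 5, 28, 1, 1, 1] (.done [1, 1, 1, 1, 1, 1, 1, 1, 20, 21, 20, 12, 18, 22, 3, 7, 15, 5, 7, 1, 9, 4, 7, 0, 0, 14, 24, 2, 17, 15, 9, 6, 25])))))), (1, (.step [30, 29, 30, 1, 31, 31, 1, 30, 1] (.step [30, 28, 29, 1, 28, 1, 31, 1, 29, 31, 29, 30, 30, 30] .fail))), (1, (.step [30, 1, 28, 28, 30, 5, 29, 1] .fail)), (2, .fail),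 (1, (.step [29, 31, 28, 30, 30, 30, 28] .fail)), (8, .fail), (1, (.step [30, 5, 30, 30, 28, 28, 5, 31, 5] (.step [28, 1, 5, 31, 29, 1, 31, 28, 31, 31, 5] .fail))), (10, .fail), (1, (.step [1, 29, 29, 29, 5, 31, 28] .fail)), (1, (.step [29, 31, 29, 29, 1, 30, 28] .fail)), (1, (.step [5, 30, 1, 30, 5, 29, 31, 28] (.step [] (.step [30, 1, 28, 5, 30, 1, 29, 31, 28, 5, 29, 5, 28, 5, 29, 5, 30, 1, 1, 1, 1, 1, 29, 1, 31, 5, 29] .fail)))), (1, .fail), (1, (.step [29, 5, 30, 1, 29, 31, 5, 29] .fail)), (1, (.step [28, 30, 28, 1, 1, 31, 29] .fail)), (5, .fail), (1, (.step [29, 5, 30, 29, 1, 28, 30, 1] .fail)), (1, (.step [5, 29, 29, 1, 30, 1, 29] .fail)), (1, (.step [28, 28, 30, 5, 28, 31, 28, 31, 28] (.step [28, 5, 5, 1, 29, 31, 29, 31, 28, 31, 1, 29, 31, 31, 30] (.step [5, 5, 29, 5, 29, 30, 28, 5, 29, 1, 31, 31, 28, 28, 1, 30, 28, 1, 30,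 5, 28, 5, 5, 5, 5] .fail)))), (1, (.step [1, 29, 5, 30, 30, 30, 29] .fail)), (2, .fail), (1, (.step [31, 29, 31, 29, 29, 1, 30, 28] .fail)), (3, .fail), (1, (.step [29, 31, 1, 29, 30, 30, 30, 28] .fail)), (1, .fail), (1, (.step [1, 1, 30, 30, 30, 29, 5, 29, 5] .fail)), (1, .fail), (1, (.step [29, 5, 5, 29, 31, 28, 31, 1] (.step [29, 30, 28, 30, 28, 5, 29, 29, 5, 5] (.step [] (.step [] (.done [1, 1, 1, 1, 20, 21, 20, 12, 18, 22, 3, 7, 15, 5, 7, 1, 9, 4, 7, 0, 0, 14, 24, 2, 17, 15, 9, 6, 25])))))), (1, (.step [31, 31, 31] .fail)), (1, (.step [1, 31, 28, 31, 31, 5, 29, 1] (.step [31, 29, 5, 5, 30, 30, 30, 30, 30, 29, 5, 5] (.step [] .fail)))), (2, .fail), (1, (.step [28, 1, 30, 1, 30, 1, 29, 29] (.step [31, 29, 5, 5, 30, 30, 30, 30, 30, 29, 5, 5] (.step [1, 30, 29, 30, 1, 31, 5, 1, 1, 31, 5, 28, 28, 31, 1, 30, 1, 30, 29] .fail)))),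 (8, .fail), (1, (.step [30, 28, 28, 30, 28, 28, 31, 5] .fail)), (2, .fail), (1, (.step [29, 5, 30, 28, 1, 31, 31, 29] (.step [28, 29, 5, 31, 1, 29, 30, 28, 5, 5, 31, 29, 31, 31, 31] (.step [29, 1, 30, 30, 30, 5, 5, 31, 5, 5, 5, 29, 31, 31, 5, 31, 1, 28, 30] (.step [1, 5, 30, 28, 1, 1, 31, 29, 31, 29, 1, 31, 31, 28, 28, 1, 30, 31, 31, 5, 29, 1, 1, 1, 1, 31, 28] (.done [1, 1, 1, 1, 1, 1, 20, 21, 20, 12, 18, 22, 3, 7, 15, 5, 7, 1, 9, 4, 7, 0, 0, 14, 24, 2, 17, 15, 9, 6, 25])))))), (3, .fail), (1, (.step [1, 30, 1, 28, 1, 28, 31, 29] .fail)), (3, .fail), (1, (.step [28, 1, 29, 1, 30, 5, 30, 1, 1] .fail)), (4, .fail), (1, (.step [5, 31, 31, 5, 29, 1, 1, 30, 5] .fail)), (1, (.step [28, 28, 1, 1, 31, 1, 1, 1] .fail)), (7, .fail), (1, (.step [30, 5, 28, 1, 29, 29, 29] (.step [29, 31, 31, 1, 28, 5, 28, 28, 30, 30, 30] (.step [29, 5, 5,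 29, 5, 31, 5, 28, 5, 28, 30, 29, 29, 29, 5, 28, 31, 28, 29, 5, 5, 29, 5, 30, 30, 30, 1] .fail)))), (5, .fail), (1, (.step [28, 1, 28, 30, 5, 30, 1, 29] .fail)), (2, .fail), (1, (.step [5, 30, 29, 5, 28, 1, 1] .fail)), (1, .fail), (1, (.step [28, 28, 1, 1, 31, 1, 1, 1] (.step [29, 29, 31, 1, 29, 1, 1, 29, 31, 5, 30, 30, 30] (.step [29, 29, 5, 31, 31, 1, 30, 29, 5, 1, 31, 31, 1, 30, 1, 29, 31, 31, 31, 31, 1, 28, 1, 1, 30, 5, 30] .fail)))), (1, (.step [1, 28, 1, 1, 30, 5] (.step [30, 30, 29, 29, 5, 29, 30, 28, 1, 29, 29, 30, 1, 28] .fail))), (1, .fail), (1, (.step [30, 29, 1, 28, 28, 28, 31, 29] (.step [30, 1, 30, 5, 31, 28, 31, 29, 29, 29, 5, 31, 31, 31, 31] .fail))), (1, .fail), (1, (.step [28, 28, 1, 1, 31, 1, 1, 1] .fail)), (1, (.step [28, 28, 30, 5, 28, 31, 28, 31, 28] (.step [30, 1, 1, 28, 30, 5, 31, 5, 30, 1, 28, 29, 30] (.step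 [30, 1, 30, 30, 30, 1, 29, 31, 5, 28, 5, 1, 29, 5, 30, 30, 30, 29, 28, 1, 30, 5, 28, 5, 5, 5, 5] .fail)))), (1, .fail), (1, (.step [29, 1, 30, 29, 31, 1, 1, 29] .fail)), (1, (.step [30, 28, 28, 28, 5, 29, 1] (.step [29, 1, 31, 31, 1, 28, 30, 28, 1, 5, 31, 1, 29, 5, 30, 28] .fail))), (1, (.step [28, 1, 28, 30, 28, 30, 5, 31, 5] (.step [5, 28, 29, 28, 30, 28, 1, 1, 31, 5, 31, 5, 30, 30] (.step [5, 30, 30, 29, 30, 1, 30, 30, 5, 28, 5, 5, 5, 5, 31, 5, 5, 29, 31, 29, 29] .fail)))), (2, .fail), (1, (.step [1, 30, 1, 28, 1, 28, 31, 29] .fail)), (1, .fail), (1, (.step [31, 31, 31, 31] .fail)), (2, .fail), (1, (.step [31, 30, 30] .fail)), (2, .fail), (1, (.step [30, 28, 30, 5, 5, 30, 5, 5, 29] .fail)), (2, .fail), (1, (.step [5, 29, 29, 1, 30, 1, 29] .fail)), (3, .fail), (1, (.step [30, 1, 30, 5, 5, 5, 31, 1] (.step [5, 28, 5, 31, 28,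 30, 1, 29, 5, 29, 29, 29, 30, 1, 28] (.step [29, 29, 5, 31, 31, 1, 30, 29, 5, 1, 31, 31, 1, 30, 1, 29, 31, 31, 31, 31, 1, 28, 1, 1, 30, 5, 30] .fail)))), (1, (.step [28, 5, 29, 5, 30, 5, 30, 5] .fail)), (1, .fail), (1, (.step [1, 28, 31, 1, 29, 5, 5] (.step [5, 30, 29, 31, 31, 1, 31, 31, 28, 1, 28, 29, 30] (.step [29, 31, 31, 28, 31, 31, 31, 28, 5, 29, 1, 28, 28, 28, 31, 29, 28, 5, 31, 28, 31, 1, 28, 28, 28, 28] .fail)))), (1, (.step [30, 28, 1, 29, 30, 29, 30, 28, 28] (.step [29, 5, 29, 30, 29, 5, 29, 5, 5, 5, 30, 30] (.step [28, 30, 29, 29, 28, 5, 29, 5, 31, 5, 5, 5, 5, 28, 31, 28, 30, 1, 1, 1, 29, 1, 29, 1, 31, 28, 30, 28, 1] .fail)))), (4, .fail), (1, (.step [1, 28, 31, 31, 5, 5, 5] .fail)), (2, .fail), (1, (.step [1, 1, 29, 5, 28, 30, 5, 28, 1] .fail)), (1, .fail), (1, (.step [29, 5, 5, 30, 5, 28, 5, 5] (.step [30, 28, 29,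 1, 28, 1, 31, 1, 29, 31, 29, 30, 30, 30] (.step [1, 28, 31, 28, 31, 29, 5, 29, 1, 28, 1, 30, 28, 30, 30, 28, 1, 31, 31, 28, 30, 30, 28, 28, 1, 1, 29, 5] .fail)))), (1, (.step [30, 5, 30, 30, 28, 28, 5, 31, 5] (.step [1, 31, 1, 28, 31, 31, 5, 5, 5, 5, 29, 31, 1, 29, 1] (.step [29, 29, 5, 5, 29, 30, 1, 1, 29, 1, 28, 28, 31, 1, 28, 28, 31, 31, 30, 30, 28, 30, 28, 30, 5, 5, 29, 30] .fail)))), (1, .fail), (1, (.step [1, 28, 28, 31, 1, 28, 28] (.step [1, 29, 5, 31, 5, 31, 28, 1, 31, 1, 1] (.step [5, 30, 29, 30, 30, 1, 1, 28, 28, 28, 29, 29, 30, 1, 28, 31, 31, 31, 31, 31, 1, 28, 1, 1, 30, 5, 30] .fail)))), (1, (.step [1, 28, 1, 1, 30, 5] (.step [5, 31, 1, 1, 29, 30, 1, 29, 30, 5, 31, 31, 31] .fail))), (2, .fail), (1, (.step [30, 29, 1, 1, 1, 28, 5, 30, 29] (.step [1, 1, 28, 30, 5, 31, 5, 30, 1, 29, 5, 31, 28, 28] (.step [29, 29, 31,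 30, 29, 30, 29, 30, 5, 29, 31, 5, 31, 31, 5, 29, 1, 1, 1, 1, 31, 28] (.step [] (.done [1, 1, 1, 1, 1, 1, 1, 1, 1, 1, 20, 21, 20, 12, 18, 22, 3, 7, 15, 5, 7, 1, 9, 4, 7, 0, 0, 14, 24, 2, 17, 15, 9, 6, 25])))))), (1, (.step [29, 5, 31, 29, 1, 29, 5, 28, 1] .fail)), (1, .fail), (1, (.step [29, 31, 31, 31, 28, 5, 30, 28] .fail)), (1, .fail), (1, (.step [1, 29, 30, 30, 28, 31, 28, 30, 28] .fail)), (2, .fail), (1, (.step [31, 1, 31, 31, 1, 30, 1, 29] (.step [5, 28, 31, 29, 30, 30, 28, 28, 1, 1, 1, 30, 30, 29, 5] (.step [1, 1, 28, 5, 1, 31, 29, 1, 1, 28, 5, 28, 1, 29, 30, 29, 30, 28, 28, 1, 1, 28, 28, 1, 29, 31, 29, 31, 28] .fail)))), (4, .fail), (1, (.step [29, 31, 5, 31, 29, 5, 5, 5] .fail)), (1, (.step [1, 1, 30, 30, 30, 29, 5, 29, 5] (.step [28, 5, 31, 29, 31, 5, 5, 29, 1, 5, 28, 1, 31, 29, 29, 5] .fail))), (1, (.step [29, 5, 30,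 28, 1, 31, 31, 29] (.step [5, 29, 5, 5, 5, 5, 28, 30, 1, 31, 31, 31] (.step [31, 1, 1, 1, 1, 29, 1, 31, 5, 29, 29, 29, 5, 30, 29, 29, 5, 31] (.step [1, 5, 30, 28, 1, 1, 31, 29, 31, 29, 1, 31, 31, 28, 28, 1, 30, 31, 31, 5, 29, 1, 1, 1, 1, 31, 28] (.done [1, 1, 1, 20, 21, 20, 12, 18, 22, 3, 7, 15, 5, 7, 1, 9, 4, 7, 0, 0, 14, 24, 2, 17, 15, 9, 6, 25])))))), (1, (.step [31, 29, 1, 28, 28, 28, 31, 29] (.step [1, 29, 31, 5, 5, 31, 5, 5, 5, 5, 5, 30, 5, 5, 29, 29] (.step [29, 29, 29, 1, 31, 28, 29, 1, 31, 31, 31, 1, 28, 30, 5, 5, 29, 31, 29] .fail)))), (1, .fail), (1, (.step [29, 1, 30, 30, 29, 31, 5, 30, 29] (.step [28, 5, 30, 30, 28, 5, 29, 5, 29, 5, 29, 1, 28, 28, 28, 31, 29] .fail))), (3, .fail), (1, (.step [31, 1, 31, 31, 1, 30, 1, 29] (.step [30, 28, 30, 1, 31, 31, 5, 5, 29, 29, 1, 30, 30] (.step [29, 5, 5, 29, 5, 31, 5, 28, 5,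 28, 30, 29, 29, 29, 5, 28, 31, 28, 29, 5, 5, 29, 5, 30, 30, 30, 1] .fail)))), (1, (.step [28, 5, 28, 28, 28, 5, 29, 5] .fail)), (6, .fail), (1, (.step [28, 5, 28, 28, 28, 5, 29, 5] .fail)), (1, (.step [30, 29, 29, 5, 30, 29, 29, 5] (.step [1, 31, 1, 28, 28, 28, 1, 29, 30, 29, 29, 29, 30, 1, 28, 31] (.step [31, 29, 1, 29, 31, 28, 5, 31, 28, 28, 5, 1, 31, 31, 28, 28, 1, 5, 29, 30, 1, 30, 28, 31, 29] .fail)))), (1, .fail), (1, (.step [1, 1, 1, 30, 1, 29, 5, 5] (.step [28, 5, 5, 30, 30, 30, 28, 30, 5, 1, 28, 5, 31, 5, 5, 29] .fail))), (1, (.step [31, 29, 29, 29, 31, 29, 31, 1] (.step [31, 1, 28, 1, 1, 30, 5, 29, 1, 28, 28, 28, 31, 29, 31] (.step [31, 1, 1, 1, 1, 29, 1, 31, 5, 29, 29, 29, 5, 30, 29, 29, 5, 31] .fail)))), (1, (.step [5, 30, 29, 5, 28, 1, 1] .fail)), (1, (.step [5, 5, 31, 31, 28, 28, 30, 5, 28] .fail)), (1, .fail), (1,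 (.step [31, 29, 5, 5, 30, 5, 28, 5, 5] .fail)), (1, (.step [28, 1, 1, 28, 1, 31, 28] .fail)), (1, (.step [5, 31, 31, 5, 29, 29, 5] .fail)), (1, .fail), (1, (.step [30, 29, 31, 1, 28, 5, 30, 1] .fail)), (1, (.step [1, 31, 5, 29, 29, 29, 1, 29] .fail)), (4, .fail), (1, (.step [28, 30, 28, 30, 5, 5, 29] (.step [28, 31, 28, 5, 31, 1, 28, 1, 1, 30, 28, 31, 31, 31, 31, 31] (.step [28, 5, 31, 5, 31, 1, 1, 30, 29, 29, 28, 30, 29, 29, 29, 5, 28] .fail)))), (1, (.step [28, 5, 30, 30, 5, 5, 31, 5, 29] .fail)), (1, .fail), (1, (.step [30, 1, 31, 5, 5, 29, 5] (.step [28, 5, 5, 29, 30, 30, 1, 30, 1, 30, 30] (.step [29, 31, 31, 28, 31, 31, 31, 28, 5, 29, 1, 28, 28, 28, 31, 29, 28, 5, 31, 28, 31, 1, 28, 28, 28, 28] (.step [28, 1, 29, 30, 29, 1, 5, 30, 28, 28, 1, 29, 5, 30, 30, 30, 29, 1, 30, 30, 5, 30, 28, 30, 29, 5, 1, 1, 29, 31, 30, 28, 5,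 5, 1, 28, 31, 29, 31, 1, 31, 31, 5, 30, 30, 5, 31, 1, 1, 28, 31, 5, 28, 1, 1, 1] (.done [1, 1, 1, 1, 1, 1, 1, 20, 21, 20, 12, 18, 22, 3, 7, 15, 5, 7, 1, 9, 4, 7, 0, 0, 14, 24, 2, 17, 15, 9, 6, 25])))))), (1, (.step [30, 28, 1, 29, 30, 29, 30, 28, 28] .fail)), (4, .fail), (1, (.step [29, 30, 5, 29, 5, 5, 29] (.step [28, 31, 1, 30, 5, 30, 30, 1, 31, 29, 5] (.step [1, 1, 28, 5, 1, 31, 29, 1, 1, 28, 5, 28, 1, 29, 30, 29, 30, 28, 28, 1, 1, 28, 28, 1, 29, 31, 29, 31, 28] .fail)))), (1, (.step [29, 1, 29, 30, 1, 29, 30, 28] .fail)), (1, (.step [31, 28, 31, 31, 31, 1, 28, 5] .fail)), (1, (.step [28, 28, 1, 1, 31, 1, 1, 1] .fail)), (1, (.step [29, 31, 28, 31, 29, 30, 1, 1] (.step [31, 28, 30, 5, 30, 1, 28, 1, 31, 5, 5] (.step [28, 28, 28, 5, 29, 1, 31, 31, 31, 31, 28, 28, 30, 28, 5, 5, 28, 1, 28] .fail)))), (4, .fail), (1, (.step [29,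 1, 1, 28, 28, 28, 5, 28] .fail)), (1, .fail), (1, (.step [28, 1, 1, 31, 29, 31, 29] .fail)), (3, .fail), (1, (.step [5, 5, 29, 31, 1, 29, 1] (.step [31, 28, 30, 5, 30, 1, 28, 1, 31, 5, 5] (.step [29, 31, 31, 28, 31, 31, 31, 28, 5, 29, 1, 28, 28, 28, 31, 29, 28, 5, 31, 28, 31, 1, 28, 28, 28, 28] .fail)))), (4, .fail), (1, (.step [29, 5, 5, 29, 31, 28, 31, 1] .fail)), (5, .fail), (1, (.step [31, 28, 31, 31, 31, 1, 28, 5] .fail)), (7, .fail), (1, (.step [30, 1, 1, 30, 1, 1, 30, 28, 5] (.step [1, 31, 1, 28, 31, 31, 5, 5, 5, 5, 29, 31, 1, 29, 1] (.step [29, 30, 28, 30, 29, 30, 1, 1, 28, 28, 28, 5, 29, 1, 30, 29, 29, 5, 30, 30, 29, 29, 29] .fail)))), (1, (.step [30, 29, 30, 1, 31, 1, 1, 29, 29] .fail)), (1, (.step [29, 5, 29, 30, 30, 29, 5, 28] .fail)), (1, (.step [31, 30, 30] .fail)), (1, .fail), (1, (.step [28, 1, 28, 30, 28, 30,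 5, 31, 5] (.step [31, 1, 28, 1, 1, 30, 5, 29, 1, 28, 28, 28, 31, 29, 31] .fail))), (6, .fail), (1, (.step [29, 1, 30, 30, 30, 30, 28, 5] (.step [29, 1, 31, 29, 30, 5, 29, 1, 29, 1, 31, 31, 31] (.step [29, 30, 28, 30, 29, 30, 1, 1, 28, 28, 28, 5, 29, 1, 30, 29, 29, 5, 30, 30, 29, 29, 29] (.step [28, 1, 29, 30, 29, 1, 5, 30, 28, 28, 1, 29, 5, 30, 30, 30, 29, 1, 30, 30, 5, 30, 28, 30, 29, 5, 1, 1, 29, 31, 30, 28, 5, 5, 1, 28, 31, 29, 31, 1, 31, 31, 5, 30, 30, 5, 31, 1, 1, 28, 31, 5, 28, 1, 1, 1] (.done [1, 20, 21, 20, 12, 18, 22, 3, 7, 15, 5, 7, 1, 9, 4, 7, 0, 0, 14, 24, 2, 17, 15, 9, 6, 25])))))), (2, .fail), (1, (.step [5, 28, 5, 30, 1, 28, 31, 1] (.step [28, 5, 31, 29, 31, 5, 5, 29, 1, 5, 28, 1, 31, 29, 29, 5] (.step [1, 30, 30, 1, 28, 1, 28, 5, 29, 5, 5, 5, 28, 5, 28, 28, 5, 28, 29, 31, 29, 30, 30, 1, 29, 31, 31, 28] .fail)))),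 (1, .fail), (1, (.step [29, 29, 30, 1, 29, 30, 1, 28] (.step [28, 28, 28, 28, 5, 1, 28, 30, 28, 1, 28, 31, 31] (.step [30, 1, 28, 5, 30, 1, 29, 31, 28, 5, 29, 5, 28, 5, 29, 5, 30, 1, 1, 1, 1, 1, 29, 1, 31, 5, 29] .fail)))), (4, .fail), (1, (.step [5, 29, 5, 29, 31, 28, 5, 5] .fail)), (1, .fail), (1, (.step [1, 1, 30, 30, 30, 29, 5, 29, 5] .fail)), (3, .fail), (1, (.step [28, 5, 28, 5, 31, 29, 29, 29, 1] (.step [30, 28, 30, 28, 30, 1, 5, 5, 5, 29, 28, 29, 30] .fail))), (1, .fail), (1, (.step [5, 29, 30, 1, 30, 28, 31, 29] .fail)), (1, (.step [31, 5, 31, 1, 29, 29, 29, 30, 28] .fail)), (1, (.step [29, 1, 29, 1, 30, 1, 28, 28] .fail)), (4, .fail), (1, (.step [5, 31, 1, 31, 29, 30, 28, 30, 1] (.step [1, 31, 29, 30, 29, 29, 5, 31, 1, 31, 29, 30, 30] (.step [5, 31, 1, 31, 30, 30, 1, 31, 29, 5, 5, 30, 30, 31, 31, 31, 1, 30, 1, 31, 29,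 5, 30, 1, 29, 30] .fail)))), (2, .fail), (1, (.step [30, 28, 28, 5, 31, 5, 31, 5, 29] .fail)), (1, (.step [30, 28, 28, 30, 28, 28, 31, 5] (.step [5, 28, 30, 29, 30, 5, 30, 28, 31, 5, 31, 29] .fail))), (1, (.step [1, 29, 30, 28, 5, 31, 1, 29, 5] .fail)), (5, .fail), (1, (.step [30, 28, 28, 30, 28, 28, 31, 5] .fail)), (1, .fail), (1, (.step [1, 28, 1, 1, 30, 5] .fail)), (2, .fail), (1, (.step [29, 29, 5, 30, 1, 30, 30, 1] .fail)), (1, (.step [29, 31, 28, 5, 28, 31, 28, 1, 29] (.step [28, 5, 28, 28, 1, 29, 29, 30, 5, 29, 31, 31, 31] (.step [29, 29, 31, 30, 29, 30, 29, 30, 5, 29, 31, 5, 31, 31, 5, 29, 1, 1, 1, 1, 31, 28] .fail)))), (10, .fail), (1, (.step [31, 29, 29, 5, 29, 30, 28, 1] (.step [28, 28, 28, 31, 31, 1, 28, 28] (.step [29, 5, 5, 29, 5, 31, 5, 28, 5, 28, 30, 29, 29, 29, 5, 28, 31, 28, 29, 5, 5, 29, 5, 30, 30, 30, 1] .fail)))),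 (3, .fail), (1, (.step [29, 29, 5, 30, 1, 30, 30, 1] .fail)), (2, .fail), (1, (.step [31, 28, 28, 31, 1, 30, 1, 30, 29] .fail)), (1, (.step [29, 1, 29, 30, 1, 29, 30, 28] .fail)), (1, .fail), (1, (.step [5, 29, 29, 30, 30, 5] (.step [1, 28, 1, 29, 29, 29, 1, 29, 31, 31, 31] (.step [29, 5, 5, 28, 5, 5, 5, 28, 5, 5, 5, 28, 5, 31, 31, 31, 29, 31, 29, 30, 30, 1, 29, 31, 31, 28] .fail)))), (1, (.step [5, 29, 30, 1, 30, 28, 31, 29] .fail)), (3, .fail), (1, (.step [31, 5, 31, 1, 29, 29, 29, 30, 28] .fail)), (1, .fail), (1, (.step [1, 28, 28, 30, 5, 29, 1] .fail)), (5, .fail), (1, (.step [1, 1, 29, 5, 28, 30, 5, 28, 1] (.step [1, 1, 28, 30, 5, 31, 5, 30, 1, 29, 5, 31, 28, 28] (.step [28, 30, 29, 29, 28, 5, 29, 5, 31, 5, 5, 5, 5, 28, 31, 28, 30, 1, 1, 1, 29, 1, 29, 1, 31, 28, 30, 28, 1] .fail)))), (2, .fail), (1, (.step [29, 31, 29, 29,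 1, 30, 28] (.step [29, 30, 28, 30, 28, 5, 29, 29, 5, 5] (.step [1, 28, 31, 28, 31, 29, 5, 29, 1, 28, 1, 30, 28, 30, 30, 28, 1, 31, 31, 28, 30, 30, 28, 28, 1, 1, 29, 5] .fail)))), (1, (.step [31, 31, 31, 31] .fail)), (4, .fail), (1, (.step [1, 28, 1, 31, 1, 29, 31, 29] .fail)), (5, .fail), (1, (.step [29, 30, 30, 29, 1, 29, 5, 28] .fail)), (11, .fail), (1, (.step [30, 1, 28, 28, 31, 1, 28, 28] (.step [28, 5, 31, 29, 31, 5, 5, 29, 1, 5, 28, 1, 31, 29, 29, 5] (.step [1, 29, 29, 1, 1, 28, 31, 31, 1, 1, 29, 1, 31, 31, 28, 1, 1, 1, 28, 1, 30, 5, 28, 5, 5, 5, 5] .fail)))), (1, (.step [30, 1, 30, 5, 5, 5, 31, 1] (.step [29, 31, 29, 5, 31, 31, 29, 1, 31, 28, 30, 30, 30] .fail))), (10, .fail), (1, (.step [28, 31, 5, 29, 5, 28, 31, 1] .fail)), (4, .fail), (1, (.step [1, 28, 1, 1, 30, 5] .fail)), (1, .fail), (1, (.step [28, 1, 1, 30, 1, 29,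 5] .fail)), (1, (.step [1, 28, 31, 1, 29, 5, 5] (.step [30, 29, 30, 30, 28, 1, 30, 29, 5, 5, 28, 31, 31] .fail))), (1, (.step [29, 30, 28, 31, 29, 31, 5, 28] (.step [28, 5, 31, 29, 31, 5, 5, 29, 1, 5, 28, 1, 31, 29, 29, 5] (.step [29, 30, 28, 1, 31, 5, 31, 1, 28, 30, 28, 30, 5, 5, 29, 1, 1, 29, 1, 30, 29, 28, 29, 30, 1, 28, 28, 1] .fail)))), (1, (.step [1, 1, 28, 5, 30, 29, 5] .fail)), (1, (.step [28, 5, 30, 30, 5, 5, 31, 5, 29] (.step [5, 28, 1, 30, 28, 28, 5, 30, 29, 1, 28, 28, 28, 5, 29, 1] .fail))), (2, .fail), (1, (.step [1, 30, 1, 31, 28, 28, 30, 30, 1] .fail)), (1, (.step [1, 30, 29, 29, 31, 29, 29] (.step [28, 28, 30, 30, 30, 30, 29, 29, 29, 1, 31, 31, 31] .fail))), (1, .fail), (1, (.step [31, 5, 29, 31, 28, 1, 28, 28] .fail)), (5, .fail), (1, (.step [28, 30, 5, 5, 30, 5, 5, 29] (.step [1, 1, 1, 1, 29, 1, 31, 5, 29] (.step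 [1, 1, 28, 30, 29, 29, 1, 31, 28, 1, 30, 28, 31, 31, 30, 28, 5, 31, 29, 31, 5, 31, 29, 29, 5] .fail)))), (2, .fail), (1, (.step [31, 1, 28, 28, 1, 30, 30, 1] .fail)), (1, .fail), (1, (.step [30, 29, 31, 1, 28, 5, 30, 1] (.step [29, 29, 1, 30, 30, 30, 29, 29, 31, 5, 28, 28, 28, 31, 29, 29, 5] (.step [1, 31, 1, 31, 28, 31, 5, 29, 30, 1, 29, 1, 31, 31, 31, 31, 31, 31, 1, 29, 31, 31, 31, 31, 5, 28, 30, 30] .fail)))), (1, .fail), (1, (.step [1, 31, 5, 5, 29, 5] .fail)), (2, .fail), (1, (.step [5, 5, 30, 5, 28, 5, 29, 29] .fail)), (1, .fail), (1, (.step [5, 30, 29, 5, 31, 1, 29, 1] (.step [28, 5, 31, 29, 31, 5, 5, 29, 1, 5, 28, 1, 31, 29, 29, 5] (.step [28, 31, 28, 30, 30, 28, 31, 5, 29, 1, 31, 5, 5, 28, 30, 5, 29, 1, 31, 29] .fail)))), (1, .fail), (1, (.step [28, 5, 5, 29, 31, 1, 1, 1, 1] .fail)), (4, .fail), (1, (.step [31, 5, 28,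 1, 29, 29, 29] (.step [5, 30, 29, 31, 31, 1, 31, 31, 28, 1, 28, 29, 30] .fail))), (1, .fail), (1, (.step [28, 28, 28, 1, 29, 5, 30, 28, 28] (.step [28, 5, 28, 28, 1, 29, 29, 30, 5, 29, 31, 31, 31] (.step [29, 31, 31, 28, 31, 31, 31, 28, 5, 29, 1, 28, 28, 28, 31, 29, 28, 5, 31, 28, 31, 1, 28, 28, 28, 28] .fail)))), (1, (.step [1, 31, 28, 30, 5, 5, 5, 30, 1] .fail)), (4, .fail), (1, (.step [31, 1, 28, 28, 1, 30, 30, 1] (.step [31, 29, 5, 30, 1, 31, 28, 28, 30, 29, 1, 29, 5, 31, 28, 28] (.step [28, 31, 31, 29, 31, 29, 5, 29, 5, 30, 30, 30, 30, 31, 31, 1, 30, 28, 1, 1, 28, 1, 30, 28, 28] .fail)))), (1, (.step [5, 5, 29, 30, 29, 5, 29, 29] .fail)), (1, (.step [28, 5, 28, 28, 28, 5, 29, 5] (.step [5, 30, 29, 30, 30, 28, 5, 30, 1, 30, 28, 1, 31, 31, 31, 31] (.step [29, 31, 31, 28, 31, 31, 31, 28, 5, 29, 1, 28, 28, 28, 31, 29, 28, 5,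 31, 28, 31, 1, 28, 28, 28, 28] .fail)))), (4, .fail), (1, (.step [30, 5, 30, 1, 29, 5, 31, 1, 1] .fail)), (1, (.step [31, 5, 30, 30, 28, 28, 5, 31, 5] .fail)), (1, .fail), (1, (.step [28, 30, 28, 1, 1, 31, 29] .fail)), (1, (.step [31, 29, 29, 5, 30, 29, 29, 5] (.step [5, 31, 29, 5, 5, 5, 31, 28, 1, 31, 31, 28, 28, 1] (.step [29, 30, 28, 30, 29, 30, 1, 1, 28, 28, 28, 5, 29, 1, 30, 29, 29, 5, 30, 30, 29, 29, 29] (.step [] (.done [1, 1, 20, 21, 20, 12, 18, 22, 3, 7, 15, 5, 7, 1, 9, 4, 7, 0, 0, 14, 24, 2, 17, 15, 9, 6, 25])))))), (4, .fail), (1, (.step [31, 29, 5, 31, 28, 28] .fail)), (3, .fail), (1, (.step [29, 30, 28, 31, 29, 31, 5, 28] .fail)), (1, .fail), (1, (.step [30, 29, 29, 30, 1, 28] .fail)), (3, .fail), (1, (.step [1, 31, 28, 5, 30, 5, 29, 30, 28] .fail)), (4, .fail), (1, (.step [31, 29, 5, 31, 28, 28] .fail)), (2, .fail),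 (1, (.step [31, 29, 29, 31, 31, 28, 30, 29, 1] (.step [30, 28, 5, 5, 1, 28, 31, 29, 31, 1, 31, 31, 5] (.step [29, 30, 28, 30, 29, 30, 1, 1, 28, 28, 28, 5, 29, 1, 30, 29, 29, 5, 30, 30, 29, 29, 29] .fail)))), (1, .fail), (1, (.step [31, 5, 29, 29, 30, 5, 5, 29, 5] .fail)), (1, .fail), (1, (.step [5, 5, 5, 30, 29, 30, 29, 5, 28] .fail)), (1, .fail), (1, (.step [5, 28, 5, 30, 28, 1, 1] (.step [31, 1, 31, 31, 5, 29, 30, 29, 31, 31, 5] (.step [28, 28, 28, 5, 29, 1, 31, 31, 31, 31, 28, 28, 30, 28, 5, 5, 28, 1, 28] .fail)))), (1, (.step [29, 1, 30, 29, 31, 1, 1, 29] .fail)), (2, .fail), (1, (.step [29, 30, 5, 5, 31, 28, 1, 31, 29] .fail)), (1, (.step [29, 31, 28, 5, 31, 28, 5, 28] .fail)), (1, .fail), (1, (.step [1, 29, 1, 1, 28, 30, 28, 1, 29] .fail)), (1, .fail), (1, (.step [28, 30, 1, 31, 29, 29, 31, 1] (.step [28, 30, 29, 30, 5,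 31, 28, 1, 31, 31, 5, 31, 31] (.step [31, 1, 1, 1, 1, 29, 1, 31, 5, 29, 29, 29, 5, 30, 29, 29, 5, 31] .fail)))), (6, .fail), (1, (.step [1, 31, 5, 29, 29, 29, 1, 29] .fail)), (8, .fail), (1, (.step [29, 5, 31, 1, 29, 5, 30, 30, 28] .fail)), (1, .fail), (1, (.step [28, 30, 5, 5, 29, 31, 29] .fail)), (1, .fail), (1, (.step [29, 5, 30, 5, 5, 31, 29, 30, 29] (.step [28, 28, 30, 30, 30, 30, 29, 29, 29, 1, 31, 31, 31] (.step [5, 30, 30, 29, 30, 1, 30, 30, 5, 28, 5, 5, 5, 5, 31, 5, 5, 29, 31, 29, 29] .fail)))), (1, (.step [28, 5, 29, 5, 30, 5, 30, 5] .fail)), (5, .fail), (1, (.step [29, 30, 1, 31, 1, 1, 29, 29] .fail)), (1, (.step [31, 29, 31, 5, 30, 5, 28, 30, 1] .fail)), (4, .fail), (1, (.step [29, 31, 28, 28, 5, 30, 28] .fail)), (2, .fail), (1, (.step [1, 28, 28, 31, 1, 28, 28] .fail)), (1, (.step [1, 31, 5, 29, 29, 29, 1, 29] .fail)),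 (2, .fail), (1, (.step [30, 28, 30, 5, 5, 29, 31, 29] .fail)), (1, (.step [5, 28, 5, 30, 1, 28, 31, 1] .fail)), (1, (.step [28, 1, 31, 5, 31, 31, 29, 5] (.step [28, 31, 29, 5, 28, 1, 30, 31, 29, 5, 31, 5, 30, 30] .fail))), (1, .fail), (1, (.step [28, 1, 30, 30, 29, 31, 28, 30, 28] .fail)), (1, (.step [28, 5, 31, 5, 28, 28, 1] .fail)), (1, .fail), (1, (.step [31, 5, 31, 1, 29, 29, 29, 30, 28] (.step [29, 30, 29, 31, 5, 31, 28, 5, 31, 31, 30] (.step [29, 29, 5, 31, 31, 1, 30, 29, 5, 1, 31, 31, 1, 30, 1, 29, 31, 31, 31, 31, 1, 28, 1, 1, 30, 5, 30] .fail)))), (1, (.step [30, 1, 28, 1, 1, 30, 5] .fail)), (1, (.step [1, 1, 29, 29, 29, 30, 5, 29, 5] (.step [31, 1, 31, 5, 5, 29, 5, 30, 30, 30, 30] (.step [29, 29, 5, 5, 29, 30, 1, 1, 29, 1, 28, 28, 31, 1, 28, 28, 31, 31, 30, 30, 28, 30, 28, 30, 5, 5, 29, 30] .fail)))), (1, (.step [5, 31,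 5, 5, 28, 31, 5] (.step [30, 1, 29, 1, 29, 31, 5, 5, 31, 5, 29, 31, 31] (.step [28, 5, 31, 5, 31, 1, 1, 30, 29, 29, 28, 30, 29, 29, 29, 5, 28] .fail)))), (1, (.step [1, 28, 28, 30, 5, 29, 1] (.step [28, 1, 30, 5, 28, 5, 5, 5, 5] (.step [29, 30, 28, 1, 31, 5, 31, 1, 28, 30, 28, 30, 5, 5, 29, 1, 1, 29, 1, 30, 29, 28, 29, 30, 1, 28, 28, 1] .fail)))), (1, (.step [5, 5, 5, 30, 29, 30, 29, 5, 28] .fail)), (1, (.step [30, 28, 28, 28, 5, 29, 1] .fail)), (1, (.step [30, 30, 30] .fail)), (1, (.step [1, 28, 28, 30, 5, 29, 1] .fail)), (1, (.step [30, 30, 30, 29, 5, 31, 28, 28] .fail)), (6, .fail), (1, (.step [5, 31, 29, 30, 5, 28, 28, 5, 28] .fail)), (1, (.step [31, 1, 30, 28, 30, 29, 1, 28] .fail)), (1, .fail), (1, (.step [30, 28, 1, 29, 30, 29, 30, 28, 28] .fail)), (1, (.step [5, 31, 29, 30, 5, 28, 28, 5, 28] (.step [1, 28, 28, 30, 1, 30,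 28, 30, 1, 29] (.step [29, 29, 31, 30, 29, 30, 29, 30, 5, 29, 31, 5, 31, 31, 5, 29, 1, 1, 1, 1, 31, 28] .fail)))), (4, .fail), (1, (.step [30, 28, 1, 29, 30, 29, 30, 28, 28] .fail)), (1, (.step [30, 29, 31, 1, 28, 5, 30, 1] (.step [29, 31, 31, 1, 28, 5, 28, 28, 30, 30, 30] (.step [5, 28, 28, 30, 28, 31, 28, 31, 1, 29, 5, 31, 28, 28, 30, 30, 31, 30, 30, 1, 29, 30, 1, 30, 28, 31, 28] (.step [1, 5, 30, 28, 1, 1, 31, 29, 31, 29, 1, 31, 31, 28, 28, 1, 30, 31, 31, 5, 29, 1, 1, 1, 1, 31, 28] (.done [1, 1, 1, 1, 1, 1, 1, 1, 1, 20, 21, 20, 12, 18, 22, 3, 7, 15, 5, 7, 1, 9, 4, 7, 0, 0, 14, 24, 2, 17, 15, 9, 6, 25])))))), (2, .fail), (1, (.step [29, 1, 29, 29, 1, 29, 1, 1, 1] .fail)), (1, .fail), (1, (.step [29, 29, 30, 1, 29, 30, 1, 28] (.step [31, 31, 31, 28, 30, 28, 5, 30, 5, 29, 5, 31, 31, 30] (.step [31, 29, 1, 28, 30, 29, 31, 1, 1,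 28, 5, 28, 28, 28, 5, 29, 1] .fail)))), (5, .fail), (1, (.step [29, 1, 31, 31, 5, 30, 5, 5] .fail)), (2, .fail), (1, (.step [31, 31, 1, 31, 5, 5, 29, 5] (.step [28, 28, 31, 29, 1, 29, 1, 29, 29, 31, 31, 28] (.step [29, 29, 5, 31, 31, 1, 30, 29, 5, 1, 31, 31, 1, 30, 1, 29, 31, 31, 31, 31, 1, 28, 1, 1, 30, 5, 30] .fail)))), (1, .fail), (1, (.step [5, 31, 29, 31, 29, 31, 1, 29] .fail)), (2, .fail), (1, (.step [31, 5, 29, 29, 30, 5, 5, 29, 5] .fail)), (1, (.step [1, 31, 5, 5, 29, 5] .fail)), (1, (.step [30, 30, 30, 29, 5, 31, 28, 28] (.step [1, 29, 31, 5, 5, 31, 5, 5, 5, 5, 5, 30, 5, 5, 29, 29] (.step [29, 30, 28, 30, 29, 30, 1, 1, 28, 28, 28, 5, 29, 1, 30, 29, 29, 5, 30, 30, 29, 29, 29] .fail)))), (1, (.step [31, 29, 31, 5, 30, 5, 28, 30, 1] .fail)), (1, (.step [1, 1, 31, 1, 30, 30, 5, 28] .fail)), (4, .fail), (1, (.step [29, 30,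 28, 31, 29, 31, 5, 28] (.step [30, 29, 30, 5, 29, 5, 5, 29, 1, 28, 1, 1, 30, 5] (.step [31, 28, 30, 29, 29, 30, 1, 29, 1, 28, 5, 29, 5, 28, 30, 28, 30, 5, 5, 29] .fail)))), (3, .fail), (1, (.step [31, 1, 30, 29, 29, 31, 29, 29] .fail)), (1, .fail), (1, (.step [29, 5, 30, 5, 5, 31, 29, 30, 29] (.step [28, 31, 29, 1, 28, 1, 28, 1, 30, 1, 30, 30, 30] (.step [5, 31, 29, 31, 1, 28, 30, 5, 30, 28, 5, 5, 28, 1, 29, 29, 29, 30, 1, 1, 29, 1, 29, 1, 31, 28, 30, 28, 1] .fail)))), (1, (.step [5, 5, 31, 28, 30, 29, 30, 28] (.step [5, 31, 31, 1, 1, 30, 5, 5, 5, 5, 30, 30] .fail))), (2, .fail), (1, (.step [29, 1, 30, 1, 29, 29, 31, 28, 1] .fail)), (1, (.step [1, 30, 29, 1, 1, 30, 1] .fail)), (2, .fail), (1, (.step [1, 1, 1, 30, 1, 29, 5, 5] (.step [28, 28, 30, 30, 30, 30, 29, 29, 29, 1, 31, 31, 31] (.step [1, 28, 31, 28, 31, 29, 5, 29, 1, 28,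 1, 30, 28, 30, 30, 28, 1, 31, 31, 28, 30, 30, 28, 28, 1, 1, 29, 5] .fail)))), (3, .fail), (1, (.step [28, 31, 1, 29, 5, 5, 5, 28] .fail)), (1, .fail), (1, (.step [1, 30, 29, 1, 1, 30, 1] (.step [31, 1, 28, 1, 1, 30, 5, 29, 1, 28, 28, 28, 31, 29, 31] (.step [31, 29, 1, 28, 30, 29, 31, 1, 1, 28, 5, 28, 28, 28, 5, 29, 1] .fail)))), (2, .fail), (1, (.step [29, 1, 31, 5, 5, 5, 31, 31, 5] .fail)), (1, .fail), (1, (.step [29, 31, 1, 31, 31, 1, 30, 28] .fail)), (2, .fail), (1, (.step [30, 28, 30, 5, 5, 30, 5, 5, 29] .fail)), (1, .fail), (1, (.step [5, 29, 1, 28, 5, 31, 29, 31, 1] (.step [28, 30, 29, 5, 5, 29, 30, 29, 29, 31, 28, 5] (.step [29, 5, 5, 28, 5, 5, 5, 28, 5, 5, 5, 28, 5, 31, 31, 31, 29, 31, 29, 30, 30, 1, 29, 31, 31, 28] .fail)))), (1, .fail), (1, (.step [29, 5, 5, 30, 5, 28, 5, 5] (.step [29, 30, 29, 1, 29, 29, 5, 29, 1, 31,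 31, 30] .fail))), (1, (.step [1, 1, 30, 30, 30, 29, 5, 29, 5] (.step [5, 29, 29, 5, 31, 28, 29, 28, 31, 5, 28, 5, 5] (.step [28, 28, 28, 5, 29, 1, 31, 31, 31, 31, 28, 28, 30, 28, 5, 5, 28, 1, 28] .fail)))), (4, .fail), (1, (.step [31, 1, 30, 29, 29, 31, 29, 29] (.step [29, 29, 29, 1, 30, 1, 1, 31, 1, 28, 30, 29, 29, 29, 5, 28] .fail))), (2, .fail), (1, (.step [1, 30, 1, 31, 28, 28, 30, 30, 1] (.step [28, 31, 29, 1, 28, 1, 28, 1, 30, 1, 30, 30, 30] (.step [31, 29, 5, 30, 5, 5, 31, 29, 30, 29, 5, 5, 5, 5, 30, 28, 1, 1, 29] .fail)))), (1, .fail), (1, (.step [5, 29, 29, 30, 5, 5, 29, 5] .fail)), (1, .fail), (1, (.step [29, 31, 29, 29, 1, 30, 28] (.step [5, 31, 29, 5, 5, 5, 31, 28, 1, 31, 31, 28, 28, 1] (.step [29, 29, 1, 5, 1, 29, 31, 5, 29, 30, 29, 30, 30, 30, 30, 30, 30, 29, 31, 31, 31, 29, 30, 28, 31] .fail)))), (8, .fail), (1,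 (.step [31, 28, 28, 31, 1, 30, 1, 30, 29] .fail)), (1, (.step [31, 1, 1, 1, 30, 30, 29, 5] .fail)), (4, .fail), (1, (.step [30, 5, 30, 28, 30, 28, 28, 28] (.step [29, 1, 1, 31, 29, 5, 31, 28, 5, 5, 29, 5, 31, 28, 28] (.step [31, 1, 31, 5, 29, 29, 29, 1, 29, 28, 29, 30, 31, 31, 31, 31, 1, 28, 1, 1, 30, 5, 30] .fail)))), (1, .fail), (1, (.step [5, 28, 31, 5, 28, 1, 28, 28, 5] (.step [28, 5, 5, 5, 29, 30, 1, 30, 28, 1, 30, 30] .fail))), (3, .fail), (1, (.step [1, 31, 5, 29, 30, 5, 29, 30, 29] (.step [30, 28, 5, 30, 29, 30, 28, 30, 28, 1, 29] .fail))), (1, (.step [29, 29, 29, 5, 31, 5, 5, 5, 29] .fail)), (1, .fail), (1, (.step [5, 31, 31, 5, 29, 1, 1, 30, 5] .fail)), (2, .fail), (1, (.step [5, 5, 29, 31, 1, 29, 1] (.step [28, 5, 29, 31, 29, 5, 28, 1, 28, 5, 5, 28, 29, 30] (.step [29, 30, 28, 30, 29, 30, 1, 1, 28, 28, 28, 5, 29, 1,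 30, 29, 29, 5, 30, 30, 29, 29, 29] .fail)))), (1, (.step [30, 1, 30, 5, 5, 5, 31, 1] .fail)), (1, (.step [5, 31, 31, 1, 1, 28, 5, 31, 5] (.step [5, 28, 28, 28, 5, 28, 31, 28, 31, 1, 30, 30] (.step [29, 29, 5, 5, 29, 30, 1, 1, 29, 1, 28, 28, 31, 1, 28, 28, 31, 31, 30, 30, 28, 30, 28, 30, 5, 5, 29, 30] .fail)))), (1, (.step [29, 30, 5, 5, 31, 28, 1, 31, 29] .fail)), (3, .fail), (1, (.step [30, 30, 5, 29, 29, 30, 30, 5] (.step [5, 28, 5, 31, 28, 30, 1, 29, 5, 29, 29, 29, 30, 1, 28] (.step [29, 29, 29, 30, 5, 31, 31, 29, 29, 29, 30, 1, 28, 30, 30, 1, 28, 30, 5, 31, 31, 1, 31, 5, 30, 29] .fail)))), (1, (.step [28, 5, 31, 5, 30, 30, 5] .fail)), (1, (.step [5, 5, 29, 31, 1, 29, 1] (.step [29, 30, 1, 1, 29, 31, 31, 5, 31, 5, 28, 28, 28, 5, 29, 1] .fail))), (1, (.step [5, 31, 1, 31, 29, 30, 28, 30, 1] (.step [28, 28, 28, 28, 5, 1, 28,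 30, 28, 1, 28, 31, 31] (.step [31, 1, 31, 5, 29, 29, 29, 1, 29, 28, 29, 30, 31, 31, 31, 31, 1, 28, 1, 1, 30, 5, 30] .fail)))), (1, .fail), (1, (.step [5, 5, 29, 1, 28, 31, 1] .fail)), (1, (.step [1, 29, 30, 28, 5, 31, 1, 29, 5] .fail)), (1, (.step [1, 1, 29, 29, 29, 30, 5, 29, 5] (.step [30, 28, 5, 30, 29, 30, 28, 30, 28, 1, 29] .fail))), (1, (.step [5, 28, 1, 31, 29, 29, 5] .fail)), (2, .fail), (1, (.step [31, 29, 31, 5, 30, 5, 28, 30, 1] (.step [1, 28, 30, 30, 28, 28, 30, 5, 28, 1, 28, 28, 31, 1, 28, 28] (.step [29, 29, 5, 5, 29, 30, 1, 1, 29, 1, 28, 28, 31, 1, 28, 28, 31, 31, 30, 30, 28, 30, 28, 30, 5, 5, 29, 30] .fail)))), (1, (.step [28, 1, 1, 31, 29, 31, 29] (.step [28, 31, 31, 29, 5, 5, 5, 29, 30, 1, 31, 31, 31] (.step [30, 30, 28, 28, 1, 28, 31, 28, 1, 1, 1, 30, 28, 30, 29, 1, 28, 31, 29, 29, 5, 30, 30, 29, 29, 29] .fail)))),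 (2, .fail), (1, (.step [29, 5, 5, 29, 31, 28, 31, 1] (.step [29, 30, 28, 30, 28, 5, 29, 29, 5, 5] (.step [29, 5, 5, 31, 5, 31, 1, 31, 1, 28, 31, 1, 29, 5, 5, 5, 28, 28, 5, 31, 28, 31, 1, 28, 28, 28, 28] .fail)))), (1, .fail), (1, (.step [29, 29, 5, 28, 31, 1, 28, 1, 28] .fail)), (2, .fail), (1, (.step [29, 31, 29, 29, 1, 30, 28] .fail)), (1, (.step [30, 29, 31, 1, 28, 5, 30, 1] (.step [1, 28, 1, 29, 29, 29, 1, 29, 31, 31, 31] (.step [29, 5, 5, 31, 5, 31, 1, 31, 1, 28, 31, 1, 29, 5, 5, 5, 28, 28, 5, 31, 28, 31, 1, 28, 28, 28, 28] .fail)))), (1, (.step [1, 29, 1, 1, 28, 30, 28, 1, 29] .fail)), (4, .fail), (1, (.step [29, 1, 29, 29, 1, 29, 1, 1, 1] .fail)), (1, (.step [30, 28, 28, 30, 28, 28, 31, 5] .fail)), (1, .fail), (1, (.step [5, 28, 1, 30, 30, 29, 30, 5] .fail)), (1, (.step [30, 1, 31, 1, 28, 31, 31, 5, 5] .fail)), (1, (.step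 [29, 1, 30, 1, 29, 29, 31, 28, 1] .fail)), (1, (.step [30, 29, 29, 30, 1, 28] .fail)), (1, (.step [29, 5, 28, 31, 29, 31, 5] (.step [5, 31, 31, 1, 31, 5, 28, 31, 31, 31, 5] (.step [29, 29, 29, 1, 31, 28, 29, 1, 31, 31, 31, 1, 28, 30, 5, 5, 29, 31, 29] .fail)))), (1, .fail), (1, (.step [28, 30, 1, 31, 29, 29, 31, 1] .fail)), (2, .fail), (1, (.step [31, 1, 30, 28, 30, 29, 1, 28] .fail)), (1, .fail), (1, (.step [29, 30, 1, 31, 31, 1, 30, 1] (.step [28, 5, 31, 31, 28, 31, 28, 31, 28, 31, 1, 29, 31, 31, 31] .fail))), (1, .fail), (1, (.step [5, 30, 29, 5, 28, 1, 1] .fail)), (1, (.step [28, 1, 31, 29, 30, 29, 29, 1] .fail)), (1, (.step [5, 30, 1, 31, 29, 31, 28, 28, 5] (.step [5, 31, 28, 31, 5, 1, 5, 31, 29, 5, 28, 31, 31, 31] .fail))), (1, .fail), (1, (.step [31, 29, 1, 28, 28, 28, 31, 29] .fail)), (1, (.step [31, 28, 28, 28, 31, 29,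 29, 5] .fail)), (1, (.step [29, 30, 28, 31, 29, 31, 5, 28] .fail)), (1, (.step [5, 29, 5, 29, 31, 28, 5, 5] .fail)), (1, (.step [1, 31, 28, 31, 31, 5, 29, 1] .fail)), (1, (.step [28, 5, 31, 5, 28, 28, 1] .fail)), (1, (.step [1, 31, 28, 31, 28, 30, 5, 5, 5] (.step [31, 31, 29, 1, 30, 30, 30, 30, 28, 5, 30, 30, 30] (.step [5, 30, 1, 1, 1, 31, 5, 5, 28, 5, 30, 28, 1, 1, 29, 30, 30, 28, 28, 5, 28, 5, 28, 30, 29, 29] .fail)))), (1, (.step [28, 31, 1, 29, 5, 5, 5, 28] (.step [28, 5, 31, 31, 31, 31, 31, 1, 29, 31, 31, 31, 31, 31] (.step [30, 29, 30, 28, 1, 31, 5, 31, 1, 29, 1, 29, 29, 29, 5, 5, 28, 31, 28, 29, 5, 5, 29, 5, 30, 30, 30, 1] .fail)))), (2, .fail), (1, (.step [1, 1, 1, 30, 30, 29, 5] (.step [1, 1, 1, 28, 30, 1, 30, 28, 5, 28, 5, 30, 28, 1, 1] (.step [31, 29, 5, 30, 5, 5, 31, 29, 30, 29, 5, 5, 5, 5, 30, 28, 1, 1, 29] .fail)))),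 (3, .fail), (1, (.step [5, 5, 30, 5, 28, 5, 29, 29] .fail)), (9, .fail), (1, (.step [1, 30, 29, 5, 29, 5, 30, 28, 5] .fail)), (1, .fail), (1, (.step [31, 31] .fail)), (4, .fail), (1, (.step [1, 1, 28, 5, 30, 29, 5] .fail)), (4, .fail), (1, (.step [29, 5, 5, 29, 31, 28, 31, 1] .fail)), (1, (.step [31, 5, 29, 29, 30, 30, 5] (.step [29, 29, 29, 29, 5, 31, 29, 30, 1, 29, 29, 5, 31, 28, 28, 30] (.step [5, 5, 29, 5, 29, 30, 28, 5, 29, 1, 31, 31, 28, 28, 1, 30, 28, 1, 30, 5, 28, 5, 5, 5, 5] .fail)))), (1, (.step [5, 29, 29, 1, 30, 1, 29] (.step [5, 31, 31, 1, 1, 30, 5, 5, 5, 5, 30, 30] (.step [1, 28, 31, 28, 31, 29, 5, 29, 1, 28, 1, 30, 28, 30, 30, 28, 1, 31, 31, 28, 30, 30, 28, 28, 1, 1, 29, 5] (.step [] (.done [20, 21, 20, 12, 18, 22, 3, 7, 15, 5, 7, 1, 9, 4, 7, 0, 0, 14, 24, 2, 17, 15, 9, 6, 25])))))), (1, (.step [29, 30, 29, 5, 29,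 29, 30, 1] .fail)), (1, (.step [5, 5, 29, 1, 28, 31, 1] .fail)), (1, (.step [5, 30, 1, 31, 29, 31, 28, 28, 5] .fail)), (1, .fail), (1, (.step [31, 5, 28, 1, 29, 29, 29] .fail)), (1, (.step [5, 29, 29, 1, 30, 1, 29] .fail)), (1, .fail), (1, (.step [31, 29, 29, 30, 1, 28] (.step [30, 29, 30, 5, 29, 5, 5, 29, 1, 28, 1, 1, 30, 5] (.step [28, 5, 31, 5, 31, 1, 1, 30, 29, 29, 28, 30, 29, 29, 29, 5, 28] .fail)))), (1, .fail), (1, (.step [5, 31, 1, 31, 29, 30, 28, 30, 1] .fail)), (1, (.step [5, 30, 29, 5, 31, 1, 29, 1] (.step [29, 29, 31, 5, 29, 5, 5, 29, 31, 5, 30, 30] (.step [30, 29, 30, 28, 1, 31, 5, 31, 1, 29, 1, 29, 29, 29, 5, 5, 28, 31, 28, 29, 5, 5, 29, 5, 30, 30, 30, 1] .fail)))), (9, .fail), (1, (.step [5, 31, 28, 28, 1, 28, 31, 28] .fail)), (2, .fail), (1, (.step [30, 28, 28, 28, 5, 29, 1] .fail)), (2, .fail), (1, (.step [29,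 29, 29, 31, 29, 31, 1] (.step [1, 31, 1, 28, 28, 28, 1, 29, 30, 29, 29, 29, 30, 1, 28, 31] (.step [1, 29, 1, 30, 5, 30, 1, 5, 28, 5, 29, 5, 5, 31, 1, 30, 1, 28, 1] (.step [28, 1, 29, 30, 29, 1, 5, 30, 28, 28, 1, 29, 5, 30, 30, 30, 29, 1, 30, 30, 5, 30, 28, 30, 29, 5, 1, 1, 29, 31, 30, 28, 5, 5, 1, 28, 31, 29, 31, 1, 31, 31, 5, 30, 30, 5, 31, 1, 1, 28, 31, 5, 28, 1, 1, 1] (.done [1, 1, 1, 1, 1, 20, 21, 20, 12, 18, 22, 3, 7, 15, 5, 7, 1, 9, 4, 7, 0, 0, 14, 24, 2, 17, 15, 9, 6, 25])))))), (1, .fail), (1, (.step [31, 29, 31, 5, 30, 5, 28, 30, 1] .fail)), (2, .fail), (1, (.step [5, 30, 1, 31, 29, 31, 28, 28, 5] (.step [5, 29, 29, 5, 31, 28, 29, 28, 31, 5, 28, 5, 5] .fail))), (3, .fail), (1, (.step [29, 5, 31, 28, 28, 30] (.step [31, 1, 31, 5, 5, 29, 5, 30, 30, 30, 30] .fail))), (1, .fail), (1, (.step [29, 29, 29, 5, 31, 5, 5, 5, 29]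 .fail)), (1, (.step [29, 1, 31, 31, 5, 30, 5, 5] (.step [28, 30, 29, 5, 5, 29, 30, 29, 29, 31, 28, 5] (.step [29, 29, 5, 31, 31, 1, 30, 29, 5, 1, 31, 31, 1, 30, 1, 29, 31, 31, 31, 31, 1, 28, 1, 1, 30, 5, 30] .fail)))), (4, .fail), (1, (.step [5, 29, 30, 1, 30, 28, 31, 29] .fail)), (1, (.step [1, 29, 1, 1, 28, 30, 28, 1, 29] .fail)), (4, .fail), (1, (.step [29, 30, 28, 31, 29, 31, 5, 28] (.step [1, 1, 28, 30, 5, 31, 5, 30, 1, 29, 5, 31, 28, 28] (.step [5, 31, 28, 1, 1, 1, 28, 30, 30, 29, 29, 5, 31, 28, 28, 31, 1, 30, 30, 5, 30, 28, 30, 29, 5, 1, 1, 29, 31] .fail)))), (7, .fail), (1, (.step [1, 28, 28, 30, 29, 29, 29] (.step [30, 28, 30, 1, 31, 31, 5, 5, 29, 29, 1, 30, 30] (.step [30, 1, 30, 30, 30, 1, 29, 31, 5, 28, 5, 1, 29, 5, 30, 30, 30, 29, 28, 1, 30, 5, 28, 5, 5, 5, 5] .fail)))), (3, .fail), (1, (.step [29, 29, 5, 29, 30,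 28, 1] (.step [5, 28, 31, 29, 30, 30, 28, 28, 1, 1, 1, 30, 30, 29, 5] (.step [1, 31, 1, 31, 28, 31, 5, 29, 30, 1, 29, 1, 31, 31, 31, 31, 31, 31, 1, 29, 31, 31, 31, 31, 5, 28, 30, 30] .fail)))), (1, (.step [30, 5, 29, 31, 28, 1, 28, 28] .fail)), (1, (.step [30, 5, 28, 5, 30, 28, 1, 1] .fail)), (3, .fail), (1, (.step [5, 30, 30, 30, 30, 28, 30, 29] .fail)), (1, (.step [1, 28, 28, 30, 29, 29, 29] .fail)), (1, (.step [1, 28, 28, 30, 29, 29, 29] (.step [5, 31, 29, 5, 5, 5, 31, 28, 1, 31, 31, 28, 28, 1] (.step [30, 5, 30, 1, 31, 31, 1, 1, 28, 28, 28, 29, 31, 5, 30, 30, 5, 30, 28, 28, 31, 29, 1, 31, 28, 31, 31, 5] .fail)))), (3, .fail), (1, (.step [5, 5, 5, 30, 29, 30, 29, 5, 28] (.step [29, 30, 1, 1, 29, 31, 31, 5, 31, 5, 28, 28, 28, 5, 29, 1] .fail))), (18, .fail), (1, (.step [28, 30, 5, 28, 1, 31, 29, 1] (.step [28, 28, 30, 30, 30,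 30, 29, 29, 29, 1, 31, 31, 31] (.step [5, 28, 28, 30, 5, 31, 5, 5, 28, 5, 28, 1, 30, 1, 30, 1, 29, 29, 31] .fail)))), (1, (.step [] (.step [5, 31, 28, 5, 31, 28, 31, 31, 29, 5, 30, 30] (.step [5, 5, 5, 29, 1, 30, 29, 5, 5, 30, 1, 31, 31, 1, 30, 30, 5, 30, 28, 30, 29, 5, 1, 1, 29, 31] .fail)))), (4, .fail), (1, (.step [28, 30, 29, 29, 29, 5, 28] .fail)), (3, .fail), (1, (.step [30, 5, 29, 31, 28, 1, 28, 28] (.step [31, 31, 5, 31, 5, 31, 31, 28, 1, 1, 29] (.step [28, 1, 30, 28, 1, 30, 5, 29, 29, 31, 29, 29, 30, 1, 28, 31, 31, 31, 1, 30, 1, 28, 1, 29, 29, 5, 28] .fail)))), (1, (.step [5, 29, 1, 28, 5, 28, 28, 28] .fail)), (3, .fail), (1, (.step [1, 1, 30, 30, 29, 5, 30, 5] .fail)), (6, .fail), (1, (.step [28, 31, 31, 31, 1, 28, 5] (.step [28, 31, 29, 5, 28, 1, 30, 31, 29, 5, 31, 5, 30, 30] .fail))), (2, .fail), (1, (.step [30, 5,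 30, 30, 28, 28, 5, 31, 5] .fail)), (1, (.step [28, 5, 28, 5, 31, 29, 29, 29, 1] .fail)), (1, (.step [5, 28, 1, 31, 1, 30, 30, 1] .fail)), (2, .fail), (1, (.step [31, 31, 31, 31] (.step [29, 31, 29, 5, 31, 31, 29, 1, 31, 28, 30, 30, 30] (.step [30, 1, 30, 30, 30, 1, 29, 31, 5, 28, 5, 1, 29, 5, 30, 30, 30, 29, 28, 1, 30, 5, 28, 5, 5, 5, 5] .fail)))), (1, (.step [5, 5, 5, 29, 30, 30, 5, 28] (.step [28, 28, 1, 28, 31, 28, 1, 1, 28, 1, 1, 28, 1, 31, 28] .fail))), (5, .fail), (1, (.step [5, 31, 1, 31, 1, 31, 29, 5, 5] .fail)), (1, (.step [31, 31, 29, 5, 31, 28, 28] .fail)), (3, .fail), (1, (.step [1, 31, 28, 1, 28, 31, 31, 31, 29] (.step [5, 29, 5, 5, 5, 5, 28, 30, 1, 31, 31, 31] (.step [1, 28, 5, 30, 5, 5, 30, 28, 1, 1, 1, 1, 30, 30, 29, 5, 1, 28, 30, 5, 31, 31, 1, 31, 5, 30, 29] .fail)))), (1, .fail), (1, (.step [31, 1, 28, 28, 1,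 30, 30, 1] .fail)), (1, (.step [28, 1, 31, 28, 5, 28, 30, 1, 1] .fail)), (1, (.step [31, 5, 28, 1, 29, 29, 29] (.step [1, 31, 5, 31, 28, 28, 28, 5, 5, 30, 30, 30] (.step [5, 5, 5, 29, 1, 30, 29, 5, 5, 30, 1, 31, 31, 1, 30, 30, 5, 30, 28, 30, 29, 5, 1, 1, 29, 31] .fail)))), (1, .fail), (1, (.step [5, 28, 30, 30, 29, 1, 28, 5] (.step [30, 29, 30, 30, 28, 1, 30, 29, 5, 5, 28, 31, 31] .fail))), (14, .fail), (1, (.step [31, 29, 29, 5, 30, 29, 29, 5] (.step [30, 28, 30, 1, 31, 31, 5, 5, 29, 29, 1, 30, 30] (.step [29, 30, 28, 30, 29, 30, 1, 1, 28, 28, 28, 5, 29, 1, 30, 29, 29, 5, 30, 30, 29, 29, 29] .fail))))])), (643, (.badPow 23 1)), (1, (Cert.rl [(2, .fail), (1, (.step [5, 5, 28, 5, 30, 29, 5, 29, 1] .fail)), (1, (.step [1, 31, 31, 31, 1, 1, 30, 29, 29] .fail)), (1, .fail), (1, (.step [1, 31, 5, 28, 30, 28, 30, 30, 29] .fail)), (4,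 .fail), (1, (.step [31, 29, 29, 30, 1, 28] .fail)), (2, .fail), (1, (.step [28, 1, 31, 5, 31, 31, 29, 5] .fail)), (2, .fail), (1, (.step [29, 5, 5, 30, 5, 28, 5, 5] .fail)), (1, (.step [28, 1, 31, 5, 30, 30, 1, 1] .fail)), (4, .fail), (1, (.step [5, 29, 31, 28, 1, 28, 28] (.step [5, 28, 30, 29, 30, 5, 30, 28, 31, 5, 31, 29] (.step [28, 31, 28, 30, 30, 28, 31, 5, 29, 1, 31, 5, 5, 28, 30, 5, 29, 1, 31, 29] .fail)))), (1, .fail), (1, (.step [29, 5, 31, 29, 1, 29, 5, 28, 1] .fail)), (2, .fail), (1, (.step [31, 1, 31, 31, 1, 30, 1, 29] .fail)), (3, .fail), (1, (.step [29, 5, 31, 28, 28, 30] (.step [30, 28, 28, 1, 1, 31, 1, 1, 1, 29, 5, 31, 28, 28] (.step [5, 5, 28, 31, 31, 29, 30, 29, 1, 29, 31, 29, 29, 1, 30, 28] .fail)))), (1, (.step [5, 5, 30, 5, 28, 5, 29, 29] .fail)), (4, .fail), (1, (.step [29, 5, 29, 30, 30, 29, 5, 28] (.step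 [5, 31, 31, 31, 1, 28, 1, 1, 28, 29, 30] .fail))), (1, (.step [1, 30, 29, 1, 1, 30, 1] (.step [28, 5, 5, 1, 29, 31, 29, 31, 28, 31, 1, 29, 31, 31, 30] (.step [5, 30, 29, 30, 30, 1, 1, 28, 28, 28, 29, 29, 30, 1, 28, 31, 31, 31, 31, 31, 1, 28, 1, 1, 30, 5, 30] .fail)))), (1, (.step [29, 1, 29, 30, 1, 29, 30, 28] (.step [31, 1, 28, 1, 1, 30, 5, 29, 1, 28, 28, 28, 31, 29, 31] (.step [5, 31, 1, 31, 30, 30, 1, 31, 29, 5, 5, 30, 30, 31, 31, 31, 1, 30, 1, 31, 29, 5, 30, 1, 29, 30] .fail)))), (1, (.step [31, 5, 28, 1, 29, 29, 29] .fail)), (4, .fail), (1, (.step [29, 5, 30, 5, 5, 31, 29, 30, 29] .fail)), (1, (.step [28, 1, 30, 1, 30, 1, 29, 29] .fail)), (3, .fail), (1, (.step [29, 31, 1, 31, 31, 1, 30, 28] .fail)), (2, .fail), (1, (.step [28, 5, 29, 5, 30, 5, 30, 5] (.step [1, 28, 30, 30, 28, 28, 30, 5, 28, 1, 28, 28, 31, 1, 28, 28] (.step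 [5, 31, 28, 1, 1, 1, 28, 30, 30, 29, 29, 5, 31, 28, 28, 31, 1, 30, 30, 5, 30, 28, 30, 29, 5, 1, 1, 29, 31] .fail)))), (1, (.step [29, 5, 28, 1, 31, 1, 30, 29, 29] .fail)), (5, .fail), (1, (.step [29, 5, 31, 28, 28, 30] (.step [31, 5, 30, 5, 29, 31, 29, 31, 28, 31, 5, 30, 30, 30] .fail))), (1, (.step [30, 28, 1, 1, 28, 1, 31, 28] .fail)), (4, .fail), (1, (.step [1, 31, 28, 5, 30, 5, 29, 30, 28] .fail)), (1, .fail), (1, (.step [31, 5, 28, 1, 29, 29, 29] .fail)), (1, .fail), (1, (.step [28, 30, 28, 30, 30, 1, 29, 5] .fail)), (4, .fail), (1, (.step [29, 31, 31, 5, 5, 31, 31, 28, 5] (.step [30, 28, 5, 30, 29, 30, 28, 30, 28, 1, 29] (.step [1, 1, 28, 30, 29, 29, 1, 31, 28, 1, 30, 28, 31, 31, 30, 28, 5, 31, 29, 31, 5, 31, 29, 29, 5] .fail)))), (1, (.step [29, 5, 28, 1, 31, 1, 30, 29, 29] (.step [1, 1, 29, 5, 5, 28, 5, 30, 29, 28, 28,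 28, 5, 29, 1, 31] (.step [30, 1, 28, 5, 30, 1, 29, 31, 28, 5, 29, 5, 28, 5, 29, 5, 30, 1, 1, 1, 1, 1, 29, 1, 31, 5, 29] .fail)))), (1, (.step [28, 1, 28, 30, 5, 30, 1, 29] .fail)), (6, .fail), (1, (.step [29, 31, 28, 30, 30, 30, 28] (.step [29, 1, 31, 31, 1, 28, 30, 28, 1, 5, 31, 1, 29, 5, 30, 28] (.step [29, 29, 1, 5, 1, 29, 31, 5, 29, 30, 29, 30, 30, 30, 30, 30, 30, 29, 31, 31, 31, 29, 30, 28, 31] .fail)))), (3, .fail), (1, (.step [29, 31, 5, 31, 29, 5, 5, 5] (.step [31, 31, 31, 28, 30, 28, 5, 30, 5, 29, 5, 31, 31, 30] (.step [29, 30, 28, 30, 29, 30, 1, 1, 28, 28, 28, 5, 29, 1, 30, 29, 29, 5, 30, 30, 29, 29, 29] .fail)))), (1, (.step [5, 5, 5, 29, 31, 29, 30, 30, 28] .fail)), (1, .fail), (1, (.step [30, 29, 30, 1, 31, 1, 1, 29, 29] (.step [31, 1, 31, 31, 5, 29, 30, 29, 31, 31, 5] (.step [5, 5, 29, 5, 29, 30, 28, 5, 29, 1, 31,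 31, 28, 28, 1, 30, 28, 1, 30, 5, 28, 5, 5, 5, 5] .fail)))), (3, .fail), (1, (.step [28, 30, 29, 29, 29, 5, 28] .fail)), (1, (.step [30, 5, 31, 31, 5, 29, 29, 5] (.step [28, 5, 5, 29, 30, 30, 1, 30, 1, 30, 30] (.step [28, 31, 31, 29, 31, 29, 5, 29, 5, 30, 30, 30, 30, 31, 31, 1, 30, 28, 1, 1, 28, 1, 30, 28, 28] .fail)))), (1, (.step [31, 1, 1, 28, 5, 30, 29, 5] (.step [28, 5, 29, 31, 29, 5, 28, 1, 28, 5, 5, 28, 29, 30] (.step [29, 29, 29, 1, 31, 28, 29, 1, 31, 31, 31, 1, 28, 30, 5, 5, 29, 31, 29] .fail)))), (1, (.step [30, 29, 30, 1, 31, 31, 1, 30, 1] .fail)), (1, .fail), (1, (.step [28, 30, 5, 28, 1, 31, 29, 1] .fail)), (10, .fail), (1, (.step [30, 28, 28, 30, 28, 28, 31, 5] (.step [29, 29, 29, 29, 5, 31, 29, 30, 1, 29, 29, 5, 31, 28, 28, 30] (.step [5, 5, 29, 5, 29, 30, 28, 5, 29, 1, 31, 31, 28, 28, 1, 30, 28, 1, 30, 5, 28, 5,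 5, 5, 5] .fail)))), (1, (.step [29, 31, 28, 31, 29, 30, 1, 1] .fail)), (1, .fail), (1, (.step [28, 30, 28, 30, 30, 1, 29, 5] (.step [5, 28, 1, 30, 28, 28, 5, 30, 29, 1, 28, 28, 28, 5, 29, 1] .fail))), (1, (.step [28, 5, 31, 5, 28, 28, 1] .fail)), (2, .fail), (1, (.step [29, 29, 30, 1, 29, 30, 1, 28] .fail)), (1, .fail), (1, (.step [30, 5, 5, 31, 31, 31, 31, 29, 5] (.step [29, 29, 29, 29, 5, 31, 29, 30, 1, 29, 29, 5, 31, 28, 28, 30] .fail))), (2, .fail), (1, (.step [29, 31, 1, 30, 28, 5, 5, 31, 29] (.step [28, 5, 5, 30, 30, 30, 28, 30, 5, 1, 28, 5, 31, 5, 5, 29] (.step [1, 30, 30, 1, 28, 1, 28, 5, 29, 5, 5, 5, 28, 5, 28, 28, 5, 28, 29, 31, 29, 30, 30, 1, 29, 31, 31, 28] .fail)))), (1, (.step [28, 1, 31, 29, 30, 29, 29, 1] .fail)), (5, .fail), (1, (.step [30, 29, 29, 29, 31, 29, 31, 1] .fail)), (1, .fail), (1, (.step [28, 1, 29,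 5, 29, 5, 31, 31, 5] .fail)), (1, (.step [28, 30, 5, 28, 5, 30, 5, 5, 28] .fail)), (1, (.step [31, 31, 29, 5, 31, 28, 28] .fail)), (1, (.step [5, 30, 29, 5, 31, 1, 29, 1] (.step [5, 30, 28, 28, 28, 31, 1, 1, 1, 28, 5, 31, 31, 30] (.step [1, 28, 5, 30, 5, 5, 30, 28, 1, 1, 1, 1, 30, 30, 29, 5, 1, 28, 30, 5, 31, 31, 1, 31, 5, 30, 29] (.step [] (.badAt 0)))))), (2, .fail), (1, (.step [31, 5, 29, 29, 30, 30, 5] .fail)), (1, (.step [30, 29, 5, 28, 31, 29, 31, 5] .fail)), (5, .fail), (1, (.step [29, 5, 31, 29, 1, 29, 5, 28, 1] .fail)), (3, .fail), (1, (.step [31, 29, 29, 29, 31, 29, 31, 1] (.step [1, 29, 5, 31, 28, 28, 1, 29, 5, 30, 1, 28, 29, 30] (.step [30, 5, 30, 1, 31, 31, 1, 1, 28, 28, 28, 29, 31, 5, 30, 30, 5, 30, 28, 28, 31, 29, 1, 31, 28, 31, 31, 5] .fail)))), (3, .fail), (1, (.step [1, 28, 30, 30, 30, 30, 1, 1] (.step [29, 31,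 29, 5, 31, 31, 29, 1, 31, 28, 30, 30, 30] (.step [30, 5, 30, 1, 31, 31, 1, 1, 28, 28, 28, 29, 31, 5, 30, 30, 5, 30, 28, 28, 31, 29, 1, 31, 28, 31, 31, 5] .fail)))), (1, .fail), (1, (.step [30, 30, 30, 30, 30] .fail)), (1, (.step [5, 5, 5, 5, 30, 28, 1, 1, 29] .fail)), (1, .fail), (1, (.step [5, 31, 1, 31, 31, 5, 30, 1] (.step [28, 30, 29, 31, 5, 31, 28, 1, 5, 29, 29, 30, 30, 5] .fail))), (8, .fail), (1, (.step [29, 29, 29, 31, 29, 31, 1] .fail)), (1, .fail), (1, (.step [31, 29, 5, 5, 30, 5, 28, 5, 5] (.step [29, 5, 31, 31, 28, 31, 28, 5, 29, 5, 28, 1, 29, 29, 29, 31] (.step [5, 31, 29, 30, 5, 29, 5, 5, 28, 29, 1, 28, 5, 28, 31, 31, 28, 31, 30, 30, 1, 29, 30, 1, 30, 28, 31, 28] .fail)))), (13, .fail), (1, (.step [31, 5, 31, 1, 29, 29, 29, 30, 28] (.step [1, 1, 28, 30, 30, 30, 30, 30, 1, 1, 28, 28, 29, 30] (.step [5, 28, 28, 30,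 5, 31, 5, 5, 28, 5, 28, 1, 30, 1, 30, 1, 29, 29, 31] .fail)))), (1, (.step [31, 28, 28, 28, 31, 29, 29, 5] .fail)), (8, .fail), (1, (.step [31, 1, 28, 31, 29, 1, 30, 5, 5] .fail)), (1, .fail), (1, (.step [30, 5, 28, 5, 30, 28, 1, 1] (.step [1, 31, 1, 28, 31, 31, 5, 5, 5, 5, 29, 31, 1, 29, 1] (.step [5, 31, 29, 31, 1, 28, 30, 5, 30, 28, 5, 5, 28, 1, 29, 29, 29, 30, 1, 1, 29, 1, 29, 1, 31, 28, 30, 28, 1] .fail)))), (1, .fail), (1, (.step [29, 5, 31, 29, 1, 29, 5, 28, 1] (.step [30, 30, 28, 1, 31, 5, 31, 31, 29, 5, 28, 28, 28, 5, 29, 1] .fail))), (1, (.step [1, 31, 28, 5, 30, 5, 29, 30, 28] (.step [29, 5, 31, 31, 28, 31, 28, 5, 29, 5, 28, 1, 29, 29, 29, 31] (.step [29, 29, 31, 31, 28, 30, 29, 1, 1, 28, 31, 31, 5, 5, 5, 1, 1, 29, 1, 29, 1, 31, 28, 30, 28, 1] .fail)))), (2, .fail), (1, (.step [1, 28, 30, 30, 30, 30, 1, 1] .fail)),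 (1, (.step [31, 5, 29, 31, 28, 1, 28, 28] (.step [29, 5, 31, 31, 28, 31, 28, 5, 29, 5, 28, 1, 29, 29, 29, 31] (.step [30, 1, 28, 5, 30, 1, 29, 31, 28, 5, 29, 5, 28, 5, 29, 5, 30, 1, 1, 1, 1, 1, 29, 1, 31, 5, 29] .fail)))), (1, (.step [29, 5, 31, 28, 28, 30] (.step [30, 28, 30, 28, 30, 1, 5, 5, 5, 29, 28, 29, 30] .fail))), (5, .fail), (1, (.step [1, 31, 1, 30, 30, 5, 5] .fail)), (1, .fail), (1, (.step [31, 5, 29, 31, 28, 1, 28, 28] .fail)), (1, .fail), (1, (.step [31, 31, 31, 31] .fail)), (1, .fail), (1, (.step [29, 31, 1, 31, 5, 28, 30, 1] (.step [28, 31, 5, 30, 28, 1, 30, 31, 29, 31, 28, 1, 31, 31, 31, 31] (.step [28, 28, 28, 5, 29, 1, 31, 31, 31, 31, 28, 28, 30, 28, 5, 5, 28, 1, 28] (.step [1, 5, 30, 28, 1, 1, 31, 29, 31, 29, 1, 31, 31, 28, 28, 1, 30, 31, 31, 5, 29, 1, 1, 1, 1, 31, 28] (.badAt 0)))))), (3, .fail), (1, (.step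 [29, 1, 1, 1, 28, 5, 30, 29] .fail)), (5, .fail), (1, (.step [31, 31, 1, 31, 5, 5, 29, 5] .fail)), (1, (.step [30, 28, 1, 1, 28, 1, 31, 28] (.step [28, 5, 31, 31, 31, 31, 31, 1, 29, 31, 31, 31, 31, 31] .fail))), (1, .fail), (1, (.step [29, 1, 29, 29, 1, 29, 1, 1, 1] (.step [31, 28, 5, 31, 1, 28, 30, 5, 31, 5, 30, 30, 30] (.step [29, 30, 28, 1, 31, 5, 31, 1, 28, 30, 28, 30, 5, 5, 29, 1, 1, 29, 1, 30, 29, 28, 29, 30, 1, 28, 28, 1] .fail)))), (3, .fail), (1, (.step [29, 5, 5, 29, 31, 28, 31, 1] .fail)), (1, .fail), (1, (.step [28, 1, 1, 30, 1, 29, 5] .fail)), (1, (.step [30, 1, 28, 28, 31, 1, 28, 28] (.step [31, 5, 30, 5, 29, 31, 29, 31, 28, 31, 5, 30, 30, 30] (.step [5, 31, 29, 31, 1, 28, 30, 5, 30, 28, 5, 5, 28, 1, 29, 29, 29, 30, 1, 1, 29, 1, 29, 1, 31, 28, 30, 28, 1] .fail)))), (4, .fail), (1, (.step [1, 31, 31, 1, 30, 1, 29,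 31] .fail)), (2, .fail), (1, (.step [28, 1, 31, 1, 29, 29, 5, 5] .fail)), (7, .fail), (1, (.step [28, 31, 5, 31, 5, 30, 29, 29] .fail)), (1, (.step [31, 5, 28, 1, 29, 29, 29] (.step [30, 29, 30, 30, 28, 1, 30, 29, 5, 5, 28, 31, 31] (.step [1, 30, 30, 1, 28, 1, 28, 5, 29, 5, 5, 5, 28, 5, 28, 28, 5, 28, 29, 31, 29, 30, 30, 1, 29, 31, 31, 28] .fail)))), (1, (.step [5, 28, 1, 31, 1, 30, 30, 1] .fail)), (2, .fail), (1, (.step [1, 31, 28, 1, 28, 31, 31, 31, 29] .fail)), (1, (.step [31, 5, 29, 29, 1, 30, 1, 29] (.step [29, 29, 29, 29, 5, 30, 29, 30, 1, 29] (.step [28, 31, 5, 5, 29, 5, 30, 1, 30, 5, 29, 5, 1, 1, 28, 28, 1, 29, 31, 29, 31, 28] .fail)))), (1, (.step [28, 31, 1, 29, 5, 5, 5, 28] .fail)), (1, (.step [5, 5, 31, 31, 1, 30, 5, 29] .fail)), (1, .fail), (1, (.step [30, 28, 30, 29, 29, 29, 5, 28] .fail)), (1, (.step [29, 30, 1,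 31, 31, 1, 30, 1] (.step [1, 1, 1, 1, 29, 1, 31, 5, 29] .fail))), (1, (.step [31, 29, 31, 29, 29, 1, 30, 28] (.step [1, 30, 30, 29, 30, 5, 28, 30, 29] .fail))), (4, .fail), (1, (.step [1, 28, 31, 31, 5, 5, 5] .fail)), (1, (.step [28, 1, 1, 31, 29, 31, 29] .fail)), (1, (.step [1, 29, 29, 31, 31, 5, 31, 5, 5] .fail)), (1, .fail), (1, (.step [1, 30, 28, 30, 29, 1, 28] .fail)), (1, (.step [30, 29, 5, 31, 28, 28] .fail)), (1, .fail), (1, (.step [29, 29, 5, 30, 1, 30, 30, 1] (.step [30, 28, 31, 31, 31, 1, 28, 5, 1, 1, 29, 1, 31, 1, 1, 28] (.step [5, 5, 5, 29, 1, 30, 29, 5, 5, 30, 1, 31, 31, 1, 30, 30, 5, 30, 28, 30, 29, 5, 1, 1, 29, 31] .fail)))), (5, .fail), (1, (.step [5, 31, 31, 5, 29, 1, 1, 30, 5] (.step [28, 30, 30, 29, 29, 29, 5, 5, 1, 30, 28, 30, 29, 1, 28] (.step [28, 31, 5, 5, 29, 5, 30, 1, 30, 5, 29, 5, 1, 1, 28, 28, 1, 29,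 31, 29, 31, 28] .fail)))), (1, .fail), (1, (.step [1, 30, 1, 31, 28, 28, 30, 30, 1] (.step [29, 1, 28, 28, 5, 29, 5, 31, 5, 30, 30, 30] (.step [28, 31, 31, 29, 31, 29, 5, 29, 5, 30, 30, 30, 30, 31, 31, 1, 30, 28, 1, 1, 28, 1, 30, 28, 28] .fail)))), (2, .fail), (1, (.step [28, 28, 30, 5, 28, 31, 28, 31, 28] (.step [29, 30, 5, 5, 5, 5, 28, 1, 30, 30] (.step [29, 28, 1, 1, 28, 28, 28, 31, 31, 29, 1, 30, 29, 1, 1, 30, 1, 31, 31, 31, 29, 29, 1, 29, 5, 30, 30, 28] .fail)))), (1, (.step [28, 28, 30, 5, 28, 31, 28, 31, 28] (.step [5, 31, 5, 30, 28, 31, 31, 29, 5, 28, 31, 31] (.step [29, 5, 5, 29, 5, 31, 5, 28, 5, 28, 30, 29, 29, 29, 5, 28, 31, 28, 29, 5, 5, 29, 5, 30, 30, 30, 1] .fail)))), (1, (.step [28, 1, 1, 31, 29, 31, 29] (.step [5, 28, 29, 28, 30, 28, 1, 1, 31, 5, 31, 5, 30, 30] (.step [31, 1, 1, 1, 1, 29, 1, 31, 5, 29, 29, 29,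 5, 30, 29, 29, 5, 31] .fail)))), (1, (.step [30, 5, 31, 31, 5, 29, 29, 5] .fail)), (1, (.step [5, 29, 31, 28, 1, 28, 28] (.step [28, 30, 29, 5, 5, 29, 30, 29, 29, 31, 28, 5] (.step [5, 29, 31, 31, 1, 1, 29, 31, 29, 1, 31, 31, 31, 31, 31, 31, 31, 1, 28, 30, 30, 29, 30, 1, 29, 30, 1] .fail)))), (1, (.step [29, 1, 1, 30, 5, 29, 31, 1] (.step [28, 28, 28, 28, 5, 1, 28, 30, 28, 1, 28, 31, 31] (.step [29, 29, 29, 5, 5, 30, 30, 5, 31, 1, 1, 28, 5, 29, 29, 1, 1, 29, 29, 29, 5, 30, 30, 29, 29, 29] .fail)))), (1, .fail), (1, (.step [30, 29, 31, 1, 28, 5, 30, 1] (.step [30, 30, 28, 1, 31, 5, 31, 31, 29, 5, 28, 28, 28, 5, 29, 1] (.step [5, 5, 28, 31, 31, 29, 30, 29, 1, 29, 31, 29, 29, 1, 30, 28] .fail)))), (3, .fail), (1, (.step [5, 28, 1, 30, 28, 30, 5, 5, 5] .fail)), (1, .fail), (1, (.step [29, 31, 28, 5, 28, 31, 28, 1, 29] (.step [30,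 30, 28, 1, 31, 5, 31, 31, 29, 5, 28, 28, 28, 5, 29, 1] (.step [29, 29, 5, 5, 29, 30, 1, 1, 29, 1, 28, 28, 31, 1, 28, 28, 31, 31, 30, 30, 28, 30, 28, 30, 5, 5, 29, 30] .fail)))), (10, .fail), (1, (.step [1, 31, 5, 29, 30, 5, 29, 30, 29] .fail)), (2, .fail), (1, (.step [29, 29, 5, 30, 1, 30, 30, 1] .fail)), (1, .fail), (1, (.step [5, 30, 28, 5, 29, 5, 5, 5, 28, 5] .fail)), (1, (.step [5, 29, 31, 28, 1, 28, 28] .fail)), (1, .fail), (1, (.step [31, 31, 1, 31, 5, 5, 29, 5] .fail)), (2, .fail), (1, (.step [29, 29, 5, 29, 30, 28, 1] .fail)), (2, .fail), (1, (.step [5, 5, 31, 31, 28, 28, 30, 5, 28] .fail)), (1, .fail), (1, (.step [1, 31, 28, 1, 28, 31, 31, 31, 29] .fail)), (1, (.step [31, 5, 31, 1, 29, 29, 29, 30, 28] (.step [31, 1, 31, 5, 5, 29, 5, 30, 30, 30, 30] (.step [29, 29, 5, 31, 31, 1, 30, 29, 5, 1, 31, 31, 1, 30, 1, 29, 31,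 31, 31, 31, 1, 28, 1, 1, 30, 5, 30] .fail)))), (2, .fail), (1, (.step [28, 28, 5, 31, 1, 31, 31, 1, 29] .fail)), (2, .fail), (1, (.step [31, 31, 29, 29, 30, 1, 28] (.step [5, 31, 31, 1, 31, 5, 28, 31, 31, 31, 5] (.step [5, 5, 29, 5, 29, 30, 28, 5, 29, 1, 31, 31, 28, 28, 1, 30, 28, 1, 30, 5, 28, 5, 5, 5, 5] .fail)))), (1, .fail), (1, (.step [1, 31, 31, 1, 30, 1, 29] .fail)), (1, (.step [1, 31, 31, 1, 30, 1, 29, 31] .fail)), (1, .fail), (1, (.step [28, 28, 30, 28, 1, 1, 30, 1] (.step [28, 5, 30, 28, 30, 28, 30, 1, 29, 30, 1, 28, 28, 28, 5] (.step [1, 29, 1, 30, 5, 30, 1, 5, 28, 5, 29, 5, 5, 31, 1, 30, 1, 28, 1] .fail)))), (2, .fail), (1, (.step [5, 5, 5, 5, 30, 28, 1, 1, 29] .fail)), (1, (.step [28, 30, 5, 5, 30, 5, 5, 29] .fail)), (1, .fail), (1, (.step [1, 31, 28, 30, 5, 5, 5, 30, 1] .fail)), (1, .fail), (1, (.step [5, 5, 29,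 30, 29, 5, 29, 29] (.step [31, 31, 31, 28, 30, 28, 5, 30, 5, 29, 5, 31, 31, 30] .fail))), (2, .fail), (1, (.step [5, 31, 28, 31, 31, 28, 30, 29] .fail)), (3, .fail), (1, (.step [30, 29, 31, 1, 28, 5, 30, 1] (.step [30, 29, 30, 5, 29, 5, 5, 29, 1, 28, 1, 1, 30, 5] (.step [29, 5, 5, 29, 5, 31, 5, 28, 5, 28, 30, 29, 29, 29, 5, 28, 31, 28, 29, 5, 5, 29, 5, 30, 30, 30, 1] .fail)))), (3, .fail), (1, (.step [5, 29, 30, 1, 30, 28, 31, 29] .fail)), (1, (.step [5, 29, 5, 31, 5, 30, 1, 1] (.step [30, 1, 29, 31, 28, 30, 30, 31, 5, 29, 1, 29, 5] (.step [1, 29, 29, 1, 1, 28, 31, 31, 1, 1, 29, 1, 31, 31, 28, 1, 1, 1, 28, 1, 30, 5, 28, 5, 5, 5, 5] .fail)))), (3, .fail), (1, (.step [30, 5, 5, 31, 31, 31, 31, 29, 5] (.step [5, 28, 30, 29, 30, 5, 30, 28, 31, 5, 31, 29] (.step [5, 31, 29, 30, 5, 29, 5, 5, 28, 29, 1, 28, 5, 28, 31, 31, 28, 31, 30,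 30, 1, 29, 30, 1, 30, 28, 31, 28] .fail)))), (2, .fail), (1, (.step [31, 29, 5, 5, 30, 5, 28, 5, 5] (.step [29, 30, 29, 1, 29, 29, 5, 29, 1, 31, 31, 30] .fail))), (1, (.step [29, 1, 1, 1, 28, 5, 30, 29] (.step [29, 31, 31, 28, 28, 30, 1, 1, 30, 28, 30, 5, 30, 30] .fail))), (1, .fail), (1, (.step [28, 1, 29, 29, 30, 5, 30, 28] .fail)), (5, .fail), (1, (.step [5, 29, 29, 1, 30, 1, 29] .fail)), (3, .fail), (1, (.step [5, 31, 28, 28, 1, 28, 31, 28] (.step [1, 29, 5, 31, 5, 31, 28, 1, 31, 1, 1] (.step [29, 5, 5, 28, 5, 5, 5, 28, 5, 5, 5, 28, 5, 31, 31, 31, 29, 31, 29, 30, 30, 1, 29, 31, 31, 28] .fail)))), (1, (.step [1, 30, 5, 28, 1, 29, 29, 30, 29] .fail)), (10, .fail), (1, (.step [1, 1, 30, 30, 29, 5, 30, 5] .fail)), (1, .fail), (1, (.step [1, 28, 28, 1, 30, 30, 1] .fail)), (2, .fail), (1, (.step [1, 28, 31, 31, 5, 5, 5] .fail)),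 (1, (.step [30, 1, 31, 5, 5, 29, 5] .fail)), (3, .fail), (1, (.step [29, 5, 31, 29, 1, 29, 5, 28, 1] .fail)), (1, (.step [29, 5, 31, 1, 29, 5, 30, 30, 28] .fail)), (1, .fail), (1, (.step [30, 29, 1, 28, 28, 28, 31, 29] (.step [30, 1, 1, 28, 30, 5, 31, 5, 30, 1, 28, 29, 30] (.step [5, 28, 28, 30, 5, 31, 5, 5, 28, 5, 28, 1, 30, 1, 30, 1, 29, 29, 31] .fail)))), (6, .fail), (1, (.step [29, 29, 5, 30, 29, 29, 5] (.step [5, 29, 29, 5, 31, 28, 29, 28, 31, 5, 28, 5, 5] (.step [1, 29, 31, 29, 5, 28, 5, 29, 5, 5, 5, 31, 28, 30, 29, 30, 28, 1, 30, 30, 30, 29, 1, 30, 5, 30, 30, 1] .fail)))), (1, .fail), (1, (.step [1, 1, 28, 5, 30, 29, 5] .fail)), (1, .fail), (1, (.step [31, 31, 31, 31] (.step [28, 28, 28, 31, 31, 1, 28, 28] .fail))), (1, (.step [1, 28, 28, 30, 5, 29, 1] (.step [30, 28, 29, 1, 28, 1, 31, 1, 29, 31, 29, 30, 30, 30] (.step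 [5, 31, 29, 30, 5, 29, 5, 5, 28, 29, 1, 28, 5, 28, 31, 31, 28, 31, 30, 30, 1, 29, 30, 1, 30, 28, 31, 28] .fail)))), (1, (.step [30, 5, 5, 31, 31, 31, 31, 29, 5] .fail)), (1, .fail), (1, (.step [1, 31, 28, 1, 28, 31, 31, 31, 29] .fail)), (1, (.step [5, 5, 31, 31, 28, 28, 30, 5, 28] (.step [28, 28, 1, 28, 31, 28, 1, 1, 28, 1, 1, 28, 1, 31, 28] (.step [28, 1, 30, 28, 1, 30, 5, 29, 29, 31, 29, 29, 30, 1, 28, 31, 31, 31, 1, 30, 1, 28, 1, 29, 29, 5, 28] .fail)))), (1, .fail), (1, (.step [1, 28, 5, 31, 28, 1, 31, 28] (.step [29, 5, 29, 1, 1, 29, 31, 29, 29] .fail))), (1, .fail), (1, (.step [1, 31, 31, 1, 30, 1, 29, 31] (.step [1, 28, 1, 28, 31, 31, 31, 5, 5, 31, 31] (.step [28, 31, 28, 30, 30, 28, 31, 5, 29, 1, 31, 5, 5, 28, 30, 5, 29, 1, 31, 29] .fail)))), (4, .fail), (1, (.step [1, 31, 31, 1, 30, 1, 29, 31] .fail)), (2, .fail), (1,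 (.step [1, 31, 31, 1, 30, 1, 29, 31] (.step [1, 31, 29, 30, 29, 29, 5, 31, 1, 31, 29, 30, 30] (.step [29, 29, 5, 5, 29, 30, 1, 1, 29, 1, 28, 28, 31, 1, 28, 28, 31, 31, 30, 30, 28, 30, 28, 30, 5, 5, 29, 30] .fail)))), (2, .fail), (1, (.step [30, 29, 5, 28, 31, 29, 31, 5] .fail)), (1, (.step [30, 28, 1, 1, 28, 1, 31, 28] .fail)), (4, .fail), (1, (.step [28, 1, 1, 31, 29, 31, 29] .fail)), (1, (.step [30, 28, 30, 5, 5, 30, 5, 5, 29] .fail)), (1, .fail), (1, (.step [31, 31, 29, 5, 31, 28, 28] .fail)), (3, .fail), (1, (.step [5, 29, 5, 31, 5, 30, 1, 1] (.step [30, 1, 29, 31, 28, 30, 30, 31, 5, 29, 1, 29, 5] (.step [5, 30, 29, 1, 28, 30, 5, 30, 30, 29, 1, 29, 5, 31, 5, 30, 30, 5, 31, 28, 29, 29, 5, 30, 30, 29, 29, 29] .fail)))), (2, .fail), (1, (.step [29, 31, 29, 29, 1, 30, 28] .fail)), (1, .fail), (1, (.step [28, 31, 5, 31, 5, 30,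 29, 29] .fail)), (6, .fail), (1, (.step [1, 31, 31, 1, 30, 1, 29, 31] .fail)), (1, .fail), (1, (.step [28, 5, 5, 29, 31, 1, 1, 1, 1] (.step [29, 29, 1, 30, 30, 30, 29, 29, 31, 5, 28, 28, 28, 31, 29, 29, 5] .fail))), (1, (.step [29, 1, 30, 30, 30, 30, 28, 5] .fail)), (2, .fail), (1, (.step [5, 31, 31, 31, 31, 29, 30, 1] (.step [28, 31, 29, 29, 5, 5, 5, 29, 28, 28, 28, 1, 1, 30, 30] .fail))), (1, .fail), (1, (.step [29, 31, 31, 31, 28, 5, 30, 28] .fail)), (3, .fail), (1, (.step [29, 29, 30, 1, 29, 30, 1, 28] .fail)), (1, .fail), (1, (.step [29, 5, 30, 29, 1, 28, 30, 1] .fail)), (1, (.step [5, 31, 31, 1, 1, 28, 5, 31, 5] (.step [29, 29, 1, 30, 30, 30, 29, 29, 31, 5, 28, 28, 28, 31, 29, 29, 5] (.step [28, 31, 31, 29, 31, 29, 5, 29, 5, 30, 30, 30, 30, 31, 31, 1, 30, 28, 1, 1, 28, 1, 30, 28, 28] .fail)))), (1, (.step [30, 30, 5, 29,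 29, 30, 30, 5] .fail)), (1, (.step [1, 29, 31, 31, 31, 31, 5, 28] .fail)), (1, .fail), (1, (.step [31, 31, 29, 5, 31, 28, 28] (.step [29, 30, 29, 31, 5, 31, 28, 5, 31, 31, 30] (.step [28, 31, 31, 29, 31, 29, 5, 29, 5, 30, 30, 30, 30, 31, 31, 1, 30, 28, 1, 1, 28, 1, 30, 28, 28] .fail)))), (1, (.step [29, 1, 30, 30, 29, 31, 5, 30, 29] (.step [1, 1, 28, 30, 5, 31, 5, 30, 1, 29, 5, 31, 28, 28] (.step [29, 29, 5, 5, 29, 30, 1, 1, 29, 1, 28, 28, 31, 1, 28, 28, 31, 31, 30, 30, 28, 30, 28, 30, 5, 5, 29, 30] .fail)))), (3, .fail), (1, (.step [28, 28, 1, 29, 1, 31, 1, 1] (.step [29, 1, 30, 5, 30, 30, 5, 29, 29, 31, 31, 31] .fail))), (1, .fail), (1, (.step [5, 31, 31, 1, 1, 28, 5, 31, 5] .fail)), (1, (.step [31, 31, 5, 29, 29, 30, 30, 5] .fail)), (2, .fail), (1, (.step [1, 1, 30, 1, 30, 30, 28, 28, 5] (.step [30, 1, 1, 28, 30, 5, 31, 5,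 30, 1, 28, 29, 30] (.step [5, 30, 29, 1, 28, 30, 5, 30, 30, 29, 1, 29, 5, 31, 5, 30, 30, 5, 31, 28, 29, 29, 5, 30, 30, 29, 29, 29] (.step [1, 5, 30, 28, 1, 1, 31, 29, 31, 29, 1, 31, 31, 28, 28, 1, 30, 31, 31, 5, 29, 1, 1, 1, 1, 31, 28] (.badAt 0)))))), (1, (.step [5, 30, 1, 30, 5, 29, 31, 28] .fail)), (1, .fail), (1, (.step [29, 5, 31, 1, 30, 1, 29, 31, 1] (.step [28, 30, 29, 5, 5, 29, 30, 29, 29, 31, 28, 5] (.step [30, 1, 28, 5, 30, 1, 29, 31, 28, 5, 29, 5, 28, 5, 29, 5, 30, 1, 1, 1, 1, 1, 29, 1, 31, 5, 29] .fail)))), (1, (.step [28, 5, 30, 5, 30, 1, 1, 29] .fail)), (1, (.step [30, 5, 30, 1, 1, 1, 31, 5] (.step [28, 31, 31, 30, 29, 5, 5, 29, 29, 5, 5, 29, 1] (.step [1, 30, 29, 30, 1, 31, 5, 1, 1, 31, 5, 28, 28, 31, 1, 30, 1, 30, 29] .fail)))), (1, (.step [1, 30, 30, 28, 5, 30, 30, 28, 5] (.step [1, 1, 28, 30, 30, 30, 30, 30,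 1, 1, 28, 28, 29, 30] .fail))), (2, .fail), (1, (.step [5, 28, 5, 30, 28, 1, 1] .fail)), (1, (.step [28, 31, 5, 31, 5, 30, 29, 29] .fail)), (1, (.step [5, 29, 1, 30, 5, 29, 1, 1] .fail)), (1, (.step [31, 5, 29, 29, 30, 30, 5] (.step [28, 5, 30, 30, 28, 5, 29, 5, 29, 5, 29, 1, 28, 28, 28, 31, 29] .fail))), (1, (.step [29, 30, 1, 31, 31, 1, 30, 1] (.step [5, 28, 28, 28, 5, 28, 31, 28, 31, 1, 30, 30] .fail))), (1, .fail), (1, (.step [1, 31, 31, 31, 1, 1, 30, 29, 29] (.step [28, 28, 5, 31, 5, 31, 5, 29, 29, 29, 30, 1, 28, 30] (.step [5, 29, 31, 31, 1, 1, 29, 31, 29, 1, 31, 31, 31, 31, 31, 31, 31, 1, 28, 30, 30, 29, 30, 1, 29, 30, 1] .fail)))), (1, .fail), (1, (.step [31, 1, 31, 31, 28, 28, 1] .fail)), (2, .fail), (1, (.step [28, 1, 31, 28, 5, 28, 30, 1, 1] .fail)), (3, .fail), (1, (.step [30, 5, 28, 5, 30, 28, 1, 1] .fail)), (1, .fail),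 (1, (.step [31, 28, 28, 31, 1, 30, 1, 30, 29] .fail)), (1, .fail), (1, (.step [5, 28, 1, 31, 29, 29, 5] .fail)), (1, (.step [31, 1, 30, 28, 30, 29, 1, 28] .fail)), (2, .fail), (1, (.step [29, 1, 28, 28, 28, 31, 29] (.step [28, 5, 5, 30, 30, 30, 28, 30, 5, 1, 28, 5, 31, 5, 5, 29] .fail))), (1, (.step [31, 29, 5, 31, 28, 28] (.step [29, 30, 28, 30, 28, 5, 29, 29, 5, 5] (.step [29, 29, 5, 5, 29, 30, 1, 1, 29, 1, 28, 28, 31, 1, 28, 28, 31, 31, 30, 30, 28, 30, 28, 30, 5, 5, 29, 30] (.step [1, 5, 30, 28, 1, 1, 31, 29, 31, 29, 1, 31, 31, 28, 28, 1, 30, 31, 31, 5, 29, 1, 1, 1, 1, 31, 28] (.badAt 0)))))), (7, .fail), (1, (.step [1, 31, 28, 1, 28, 31, 31, 31, 29] .fail)), (5, .fail), (1, (.step [1, 29, 30, 30, 28, 31, 28, 30, 28] (.step [29, 29, 1, 30, 30, 30, 29, 29, 31, 5, 28, 28, 28, 31, 29, 29, 5] (.step [1, 30, 29, 30, 1, 31, 5, 1,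 1, 31, 5, 28, 28, 31, 1, 30, 1, 30, 29] (.step [1, 5, 30, 28, 1, 1, 31, 29, 31, 29, 1, 31, 31, 28, 28, 1, 30, 31, 31, 5, 29, 1, 1, 1, 1, 31, 28] (.badAt 0)))))), (2, .fail), (1, (.step [28, 30, 29, 29, 29, 5, 28] (.step [28, 30, 29, 5, 5, 29, 30, 29, 29, 31, 28, 5] (.step [29, 30, 28, 1, 31, 5, 31, 1, 28, 30, 28, 30, 5, 5, 29, 1, 1, 29, 1, 30, 29, 28, 29, 30, 1, 28, 28, 1] (.step [] (.badAt 0)))))), (3, .fail), (1, (.step [1, 31, 28, 28, 28, 5, 31, 29, 29] .fail)), (1, .fail), (1, (.step [1, 31, 31, 28, 28, 1] (.step [1, 31, 5, 31, 28, 28, 28, 5, 5, 30, 30, 30] (.step [5, 31, 29, 30, 5, 29, 5, 5, 28, 29, 1, 28, 5, 28, 31, 31, 28, 31, 30, 30, 1, 29, 30, 1, 30, 28, 31, 28] (.step [] (.badAt 0)))))), (2, .fail), (1, (.step [5, 31, 31, 5, 29, 29, 5] (.step [29, 5, 29, 1, 1, 29, 31, 29, 29] (.step [1, 29, 1, 30, 5, 30, 1, 5, 28, 5,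 29, 5, 5, 31, 1, 30, 1, 28, 1] (.step [] (.badAt 0)))))), (3, .fail), (1, (.step [30, 30, 30, 29, 5, 31, 28, 28] .fail)), (1, (.step [1, 31, 31, 1, 30, 1, 29, 31] .fail)), (1, (.step [30, 5, 30, 1, 29, 5, 31, 1, 1] (.step [31, 1, 31, 31, 5, 29, 30, 29, 31, 31, 5] (.step [28, 30, 30, 29, 5, 30, 5, 29, 28, 31, 29, 30, 30, 29, 30, 1, 31, 31, 5, 31, 5, 31, 31, 28, 1, 1, 29] .fail)))), (1, (.step [5, 5, 31, 31, 28, 28, 30, 5, 28] (.step [30, 29, 5, 5, 30, 5, 28, 5, 5, 1, 28, 28, 30, 5, 29, 1] (.step [29, 28, 1, 1, 28, 28, 28, 31, 31, 29, 1, 30, 29, 1, 1, 30, 1, 31, 31, 31, 29, 29, 1, 29, 5, 30, 30, 28] .fail)))), (1, (.step [29, 1, 1, 28, 28, 28, 5, 28] (.step [29, 29, 29, 29, 5, 30, 29, 30, 1, 29] (.step [29, 5, 5, 28, 5, 5, 5, 28, 5, 5, 5, 28, 5, 31, 31, 31, 29, 31, 29, 30, 30, 1, 29, 31, 31, 28] .fail)))), (1, .fail), (1, (.step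 [29, 5, 5, 29, 31, 28, 31, 1] (.step [30, 30, 28, 1, 31, 5, 31, 31, 29, 5, 28, 28, 28, 5, 29, 1] (.step [1, 28, 31, 28, 31, 29, 5, 29, 1, 28, 1, 30, 28, 30, 30, 28, 1, 31, 31, 28, 30, 30, 28, 28, 1, 1, 29, 5] .fail)))), (1, (.step [29, 29, 30, 1, 29, 30, 1, 28] (.step [1, 28, 5, 5, 29, 29, 31, 31, 29, 30, 30] (.step [5, 30, 1, 1, 1, 31, 5, 5, 28, 5, 30, 28, 1, 1, 29, 30, 30, 28, 28, 5, 28, 5, 28, 30, 29, 29] .fail)))), (1, (.step [28, 28, 5, 31, 1, 31, 31, 1, 29] (.step [29, 1, 31, 31, 28, 1, 1, 1, 5, 28, 5, 30, 28, 1, 1] (.step [29, 1, 30, 30, 30, 5, 5, 31, 5, 5, 5, 29, 31, 31, 5, 31, 1, 28, 30] .fail)))), (1, (.step [29, 30, 1, 31, 31, 1, 30, 1] .fail)), (5, .fail), (1, (.step [1, 28, 31, 31, 5, 5, 5] (.step [1, 29, 5, 31, 5, 31, 28, 1, 31, 1, 1] (.step [1, 30, 30, 1, 28, 1, 28, 5, 29, 5, 5, 5, 28, 5, 28, 28, 5, 28, 29, 31,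 29, 30, 30, 1, 29, 31, 31, 28] .fail)))), (1, .fail), (1, (.step [29, 31, 31, 31, 29, 30, 28] .fail)), (2, .fail), (1, (.step [31, 28, 30, 29, 29, 29, 5, 28] .fail)), (1, (.step [5, 31, 1, 31, 31, 5, 30, 1] .fail)), (1, (.step [29, 1, 30, 30, 29, 31, 5, 30, 29] .fail)), (1, (.step [30, 28, 28, 5, 31, 5, 31, 5, 29] .fail)), (1, (.step [5, 29, 29, 30, 5, 5, 29, 5] .fail)), (1, (.step [30, 29, 29, 29, 31, 29, 31, 1] .fail)), (1, .fail), (1, (.step [1, 28, 1, 31, 1, 29, 31, 29] .fail)), (1, (.step [31, 5, 31, 1, 29, 29, 29, 30, 28] .fail)), (1, .fail), (1, (.step [5, 28, 1, 30, 30, 29, 30, 5] .fail)), (1, .fail), (1, (.step [1, 31, 28, 31, 31, 5, 29, 1] .fail)), (1, .fail), (1, (.step [30, 30, 30, 29, 5, 31, 28, 28] .fail)), (1, .fail), (1, (.step [31, 28, 31, 31, 31, 1, 28, 5] (.step [28, 31, 1, 30, 5, 30, 30, 1, 31, 29, 5] .fail))),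 (1, (.step [31, 29, 5, 31, 28, 28] .fail)), (3, .fail), (1, (.step [28, 28, 1, 29, 1, 31, 1, 1] .fail)), (1, (.step [30, 28, 1, 1, 28, 1, 31, 28] .fail)), (5, .fail), (1, (.step [31, 31, 31, 31] (.step [28, 28, 31, 29, 1, 29, 1, 29, 29, 31, 31, 28] (.step [5, 28, 28, 30, 5, 31, 5, 5, 28, 5, 28, 1, 30, 1, 30, 1, 29, 29, 31] (.step [28, 1, 29, 30, 29, 1, 5, 30, 28, 28, 1, 29, 5, 30, 30, 30, 29, 1, 30, 30, 5, 30, 28, 30, 29, 5, 1, 1, 29, 31, 30, 28, 5, 5, 1, 28, 31, 29, 31, 1, 31, 31, 5, 30, 30, 5, 31, 1, 1, 28, 31, 5, 28, 1, 1, 1] (.badAt 0)))))), (3, .fail), (1, (.step [31, 1, 31, 31, 1, 30, 1, 29] (.step [] (.step [1, 1, 28, 30, 29, 29, 1, 31, 28, 1, 30, 28, 31, 31, 30, 28, 5, 31, 29, 31, 5, 31, 29, 29, 5] .fail)))), (1, (.step [31, 5, 28, 1, 29, 29, 29] (.step [28, 28, 1, 28, 31, 28, 1, 1, 28, 1, 1, 28, 1, 31, 28] (.step [30,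 30, 28, 28, 1, 28, 31, 28, 1, 1, 1, 30, 28, 30, 29, 1, 28, 31, 29, 29, 5, 30, 30, 29, 29, 29] .fail)))), (4, .fail), (1, (.step [30, 29, 5, 31, 28, 28] (.step [31, 31, 5, 5, 29, 1, 28, 31, 1, 1, 28, 5, 31, 5, 5, 29] .fail))), (7, .fail), (1, (.step [1, 1, 28, 5, 30, 29, 5] .fail)), (1, .fail), (1, (.step [28, 28, 31, 1, 30, 1, 30, 29] .fail)), (1, (.step [28, 30, 28, 31, 29, 5, 28, 28] .fail)), (4, .fail), (1, (.step [1, 30, 5, 5, 5, 31, 1] .fail)), (1, .fail), (1, (.step [5, 31, 1, 31, 1, 31, 29, 5, 5] (.step [1, 1, 28, 30, 5, 31, 5, 30, 1, 29, 5, 31, 28, 28] (.step [29, 29, 29, 30, 5, 31, 31, 29, 29, 29, 30, 1, 28, 30, 30, 1, 28, 30, 5, 31, 31, 1, 31, 5, 30, 29] .fail)))), (6, .fail), (1, (.step [31, 29, 29, 5, 30, 29, 29, 5] .fail)), (2, .fail), (1, (.step [5, 28, 1, 30, 28, 30, 5, 5, 5] (.step [28, 1, 5, 31, 29, 1, 31, 28,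 31, 31, 5] .fail))), (1, .fail), (1, (.step [5, 5, 31, 28, 30, 29, 30, 28] (.step [29, 30, 29, 1, 29, 29, 5, 29, 1, 31, 31, 30] .fail))), (1, (.step [28, 30, 29, 29, 29, 5, 28] .fail)), (2, .fail), (1, (.step [28, 28, 31, 1, 30, 1, 30, 29] .fail)), (10, .fail), (1, (.step [1, 28, 1, 1, 30, 5] .fail)), (1, (.step [30, 5, 30, 1, 1, 1, 31, 5] (.step [31, 29, 5, 5, 30, 30, 30, 30, 30, 29, 5, 5] (.step [5, 31, 29, 30, 5, 29, 5, 5, 28, 29, 1, 28, 5, 28, 31, 31, 28, 31, 30, 30, 1, 29, 30, 1, 30, 28, 31, 28] .fail)))), (1, .fail), (1, (.step [28, 5, 31, 31, 28, 5, 28, 5] .fail)), (1, (.step [31, 29, 29, 5, 29, 30, 28, 1] .fail)), (1, (.step [1, 28, 28, 30, 5, 29, 1] (.step [31, 1, 31, 5, 5, 29, 5, 30, 30, 30, 30] .fail))), (1, .fail), (1, (.step [28, 28, 30, 5, 28, 31, 28, 31, 28] .fail)), (1, (.step [29, 31, 31, 31, 29, 30, 28] .fail)),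 (5, .fail), (1, (.step [30, 1, 28, 5, 31, 5, 5, 29] (.step [28, 30, 30, 29, 29, 29, 5, 5, 1, 30, 28, 30, 29, 1, 28] (.step [30, 1, 30, 30, 30, 1, 29, 31, 5, 28, 5, 1, 29, 5, 30, 30, 30, 29, 28, 1, 30, 5, 28, 5, 5, 5, 5] .fail)))), (1, .fail), (1, (.step [29, 5, 30, 5, 5, 31, 29, 30, 29] .fail)), (2, .fail), (1, (.step [1, 31, 5, 5, 29, 5, 31] .fail)), (3, .fail), (1, (.step [5, 5, 28, 5, 30, 29, 5, 29, 1] .fail)), (11, .fail), (1, (.step [5, 31, 31, 1, 1, 28, 5, 31, 5] (.step [28, 31, 31, 29, 5, 5, 5, 29, 30, 1, 31, 31, 31] (.step [28, 30, 29, 29, 28, 5, 29, 5, 31, 5, 5, 5, 5, 28, 31, 28, 30, 1, 1, 1, 29, 1, 29, 1, 31, 28, 30, 28, 1] .fail)))), (4, .fail), (1, (.step [1, 30, 29, 5, 29, 5, 30, 28, 5] (.step [1, 31, 5, 31, 28, 28, 28, 5, 5, 30, 30, 30] (.step [5, 5, 29, 5, 29, 30, 28, 5, 29, 1, 31, 31, 28, 28, 1, 30, 28, 1, 30,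 5, 28, 5, 5, 5, 5] .fail)))), (1, (.step [29, 30, 1, 31, 31, 1, 30, 1] (.step [1, 1, 1, 1, 29, 1, 31, 5, 29] (.step [28, 5, 31, 5, 31, 1, 1, 30, 29, 29, 28, 30, 29, 29, 29, 5, 28] .fail)))), (1, (.step [29, 30, 1, 31, 31, 1, 30, 1] .fail)), (1, .fail), (1, (.step [28, 31, 5, 29, 5, 28, 31, 1] .fail)), (1, (.step [31, 1, 1, 1, 30, 30, 29, 5] .fail)), (5, .fail), (1, (.step [5, 29, 29, 1, 30, 1, 29] .fail)), (4, .fail), (1, (.step [1, 31, 5, 28, 30, 28, 30, 30, 29] .fail)), (2, .fail), (1, (.step [5, 5, 31, 31, 28, 28, 30, 5, 28] .fail)), (1, .fail), (1, (.step [1, 31, 31, 1, 30, 1, 29] .fail)), (1, .fail), (1, (.step [30, 5, 30, 28, 30, 28, 28, 28] (.step [29, 30, 29, 1, 29, 29, 5, 29, 1, 31, 31, 30] (.step [1, 28, 5, 30, 5, 5, 30, 28, 1, 1, 1, 1, 30, 30, 29, 5, 1, 28, 30, 5, 31, 31, 1, 31, 5, 30, 29] .fail)))), (3, .fail), (1,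 (.step [31, 29, 31, 5, 30, 28, 28, 5, 29] (.step [29, 5, 29, 1, 1, 29, 31, 29, 29] (.step [5, 28, 28, 30, 28, 31, 28, 31, 1, 29, 5, 31, 28, 28, 30, 30, 31, 30, 30, 1, 29, 30, 1, 30, 28, 31, 28] .fail)))), (1, .fail), (1, (.step [31, 28, 30, 29, 29, 29, 5, 28] .fail)), (2, .fail), (1, (.step [28, 28, 28, 30, 30, 29, 30, 5] .fail)), (1, (.step [29, 5, 5, 30, 5, 28, 5, 5] (.step [1, 31, 29, 30, 29, 29, 5, 31, 1, 31, 29, 30, 30] (.step [1, 1, 28, 30, 29, 29, 1, 31, 28, 1, 30, 28, 31, 31, 30, 28, 5, 31, 29, 31, 5, 31, 29, 29, 5] .fail)))), (4, .fail), (1, (.step [1, 31, 28, 5, 30, 5, 29, 30, 28] .fail)), (1, (.step [1, 30, 1, 31, 28, 28, 30, 30, 1] .fail)), (2, .fail), (1, (.step [30, 5, 31, 31, 5, 29, 29, 5] .fail)), (5, .fail), (1, (.step [5, 5, 5, 5, 30, 28, 1, 1, 29] .fail)), (1, (.step [1, 29, 1, 28, 1, 28, 5, 5] (.step [30, 1,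 29, 1, 29, 31, 5, 5, 31, 5, 29, 31, 31] (.step [30, 5, 30, 1, 31, 31, 1, 1, 28, 28, 28, 29, 31, 5, 30, 30, 5, 30, 28, 28, 31, 29, 1, 31, 28, 31, 31, 5] .fail)))), (1, .fail), (1, (.step [28, 1, 31, 28, 5, 28, 30, 1, 1] (.step [29, 5, 31, 31, 28, 31, 28, 5, 29, 5, 28, 1, 29, 29, 29, 31] .fail))), (1, (.step [5, 31, 5, 5, 28, 31, 5] .fail)), (1, .fail), (1, (.step [1, 31, 28, 31, 31, 5, 29, 1] (.step [5, 31, 31, 1, 31, 5, 28, 31, 31, 31, 5] .fail))), (1, (.step [1, 1, 31, 1, 30, 30, 5, 28] .fail)), (2, .fail), (1, (.step [5, 5, 30, 5, 28, 5, 29, 29] (.step [28, 5, 30, 28, 30, 28, 30, 1, 29, 30, 1, 28, 28, 28, 5] (.step [29, 29, 29, 30, 5, 31, 31, 29, 29, 29, 30, 1, 28, 30, 30, 1, 28, 30, 5, 31, 31, 1, 31, 5, 30, 29] .fail)))), (2, .fail), (1, (.step [5, 31, 1, 28, 1, 29, 1, 28] .fail)), (1, .fail), (1, (.step [1, 31, 28, 31, 31,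 5, 29, 1] .fail)), (2, .fail), (1, (.step [1, 31, 5, 5, 29, 5] (.step [1, 1, 28, 1, 1, 1, 31, 29, 5, 5, 28, 29, 30] (.step [5, 28, 28, 30, 5, 31, 5, 5, 28, 5, 28, 1, 30, 1, 30, 1, 29, 29, 31] .fail)))), (2, .fail), (1, (.step [28, 1, 1, 31, 29, 31, 29] .fail)), (3, .fail), (1, (.step [5, 28, 1, 30, 30, 29, 30, 5] .fail)), (1, (.step [1, 1, 31, 1, 30, 30, 5, 28] .fail)), (1, .fail), (1, (.step [5, 5, 5, 29, 31, 29, 30, 30, 28] (.step [1, 1, 1, 1, 29, 1, 31, 5, 29] .fail))), (2, .fail), (1, (.step [30, 5, 29, 29, 30, 30, 5] .fail)), (1, .fail), (1, (.step [29, 1, 30, 1, 29, 29, 31, 28, 1] (.step [30, 1, 30, 30, 30, 30, 1, 31, 1, 29, 5, 31, 28, 28] .fail))), (3, .fail), (1, (.step [1, 28, 1, 1, 30, 5] (.step [29, 1, 28, 28, 5, 29, 5, 31, 5, 30, 30, 30] (.step [29, 29, 31, 31, 28, 30, 29, 1, 1, 28, 31, 31, 5, 5, 5, 1, 1, 29, 1, 29,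 1, 31, 28, 30, 28, 1] .fail)))), (1, (.step [1, 1, 30, 30, 30, 29, 5, 29, 5] .fail)), (1, (.step [1, 31, 31, 5, 5, 30, 30, 29, 29] .fail)), (5, .fail), (1, (.step [28, 30, 5, 5, 29, 31, 29] (.step [30, 28, 31, 31, 31, 1, 28, 5, 1, 1, 29, 1, 31, 1, 1, 28] (.step [5, 30, 29, 1, 28, 30, 5, 30, 30, 29, 1, 29, 5, 31, 5, 30, 30, 5, 31, 28, 29, 29, 5, 30, 30, 29, 29, 29] .fail)))), (1, .fail), (1, (.step [30, 5, 5, 31, 31, 31, 31, 29, 5] (.step [29, 31, 29, 5, 31, 31, 29, 1, 31, 28, 30, 30, 30] (.step [29, 29, 31, 31, 28, 30, 29, 1, 1, 28, 31, 31, 5, 5, 5, 1, 1, 29, 1, 29, 1, 31, 28, 30, 28, 1] .fail)))), (5, .fail), (1, (.step [29, 31, 1, 31, 5, 28, 30, 1] (.step [31, 31, 31, 28, 30, 28, 5, 30, 5, 29, 5, 31, 31, 30] .fail))), (4, .fail), (1, (.step [28, 30, 28, 1, 1, 31, 29] .fail)), (1, .fail), (1, (.step [1, 1, 30, 30, 30, 29, 5,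 29, 5] (.step [29, 30, 29, 31, 5, 31, 28, 5, 31, 31, 30] .fail))), (1, (.step [1, 31, 29, 31, 31, 31, 1, 1, 29] (.step [28, 1, 30, 30, 1, 30, 5, 5, 5, 30, 30, 30] (.step [31, 29, 1, 28, 30, 29, 31, 1, 1, 28, 5, 28, 28, 28, 5, 29, 1] (.step [28, 1, 29, 30, 29, 1, 5, 30, 28, 28, 1, 29, 5, 30, 30, 30, 29, 1, 30, 30, 5, 30, 28, 30, 29, 5, 1, 1, 29, 31, 30, 28, 5, 5, 1, 28, 31, 29, 31, 1, 31, 31, 5, 30, 30, 5, 31, 1, 1, 28, 31, 5, 28, 1, 1, 1] (.badAt 0)))))), (1, .fail), (1, (.step [28, 1, 31, 29, 30, 29, 29, 1] (.step [28, 30, 30, 29, 29, 29, 5, 5, 1, 30, 28, 30, 29, 1, 28] (.step [1, 29, 1, 30, 5, 30, 1, 5, 28, 5, 29, 5, 5, 31, 1, 30, 1, 28, 1] .fail)))), (1, .fail), (1, (.step [28, 28, 1, 1, 31, 1, 1, 1] (.step [28, 5, 30, 30, 28, 5, 29, 5, 29, 5, 29, 1, 28, 28, 28, 31, 29] (.step [5, 30, 1, 1, 1, 31, 5, 5, 28, 5, 30, 28, 1, 1,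 29, 30, 30, 28, 28, 5, 28, 5, 28, 30, 29, 29] .fail)))), (1, .fail), (1, (.step [30, 29, 30, 1, 31, 31, 1, 30, 1] (.step [28, 31, 29, 5, 28, 1, 30, 31, 29, 5, 31, 5, 30, 30] (.step [5, 28, 28, 30, 5, 31, 5, 5, 28, 5, 28, 1, 30, 1, 30, 1, 29, 29, 31] (.step [28, 1, 29, 30, 29, 1, 5, 30, 28, 28, 1, 29, 5, 30, 30, 30, 29, 1, 30, 30, 5, 30, 28, 30, 29, 5, 1, 1, 29, 31, 30, 28, 5, 5, 1, 28, 31, 29, 31, 1, 31, 31, 5, 30, 30, 5, 31, 1, 1, 28, 31, 5, 28, 1, 1, 1] (.badAt 0)))))), (1, (.step [30, 1, 28, 28, 31, 1, 28, 28] .fail)), (3, .fail), (1, (.step [1, 31, 1, 30, 30, 5, 5] .fail)), (1, (.step [1, 1, 1, 30, 1, 29, 5, 5] .fail)), (3, .fail), (1, (.step [1, 31, 29, 31, 31, 31, 1, 1, 29] (.step [28, 28, 28, 28, 5, 1, 28, 30, 28, 1, 28, 31, 31] (.step [28, 28, 28, 5, 29, 1, 31, 31, 31, 31, 28, 28, 30, 28, 5, 5, 28, 1, 28] .fail)))), (4,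 .fail), (1, (.step [5, 31, 31, 1, 1, 28, 5, 31, 5] .fail)), (2, .fail), (1, (.step [5, 31, 29, 31, 29, 31, 1, 29] .fail)), (4, .fail), (1, (.step [5, 28, 5, 30, 1, 28, 31, 1] (.step [29, 1, 31, 29, 30, 5, 29, 1, 29, 1, 31, 31, 31] (.step [29, 1, 30, 30, 30, 5, 5, 31, 5, 5, 5, 29, 31, 31, 5, 31, 1, 28, 30] .fail)))), (3, .fail), (1, (.step [30, 1, 1, 29, 30, 28, 1, 28, 1] (.step [5, 28, 30, 29, 30, 5, 30, 28, 31, 5, 31, 29] (.step [5, 31, 29, 31, 1, 28, 30, 5, 30, 28, 5, 5, 28, 1, 29, 29, 29, 30, 1, 1, 29, 1, 29, 1, 31, 28, 30, 28, 1] .fail)))), (1, (.step [1, 28, 28, 1, 30, 30, 1] (.step [29, 1, 31, 31, 1, 28, 30, 28, 1, 5, 31, 1, 29, 5, 30, 28] (.step [5, 30, 29, 30, 30, 1, 1, 28, 28, 28, 29, 29, 30, 1, 28, 31, 31, 31, 31, 31, 1, 28, 1, 1, 30, 5, 30] .fail)))), (1, (.step [29, 1, 28, 28, 28, 31, 29] .fail)), (2, .fail), (1, (.step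 [1, 31, 31, 28, 28, 1] .fail)), (1, .fail), (1, (.step [30, 1, 30, 29, 29, 31, 29, 29] .fail)), (1, (.step [5, 5, 30, 5, 28, 5, 29, 29] .fail)), (1, .fail), (1, (.step [5, 31, 28, 31, 31, 28, 30, 29] .fail)), (3, .fail), (1, (.step [1, 28, 30, 30, 30, 30, 1, 1] .fail)), (1, .fail), (1, (.step [29, 5, 28, 1, 31, 1, 30, 29, 29] .fail)), (2, .fail), (1, (.step [30, 30, 5, 29, 29, 30, 30, 5] .fail)), (8, .fail), (1, (.step [31, 28, 28, 31, 1, 30, 1, 30, 29] .fail)), (1, (.step [28, 1, 1, 31, 29, 31, 29] (.step [5, 28, 1, 30, 28, 28, 5, 30, 29, 1, 28, 28, 28, 5, 29, 1] (.step [5, 5, 5, 29, 1, 30, 29, 5, 5, 30, 1, 31, 31, 1, 30, 30, 5, 30, 28, 30, 29, 5, 1, 1, 29, 31] .fail)))), (3, .fail), (1, (.step [30, 29, 5, 31, 28, 28] .fail)), (1, .fail), (1, (.step [28, 5, 31, 31, 28, 5, 28, 5] (.step [29, 31, 29, 5, 31, 31, 29, 1, 31, 28, 30,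 30, 30] (.step [5, 31, 29, 30, 5, 29, 5, 5, 28, 29, 1, 28, 5, 28, 31, 31, 28, 31, 30, 30, 1, 29, 30, 1, 30, 28, 31, 28] .fail)))), (1, (.step [31, 30, 30] .fail)), (3, .fail), (1, (.step [30, 1, 31, 5, 5, 29, 5] (.step [30, 1, 29, 31, 28, 30, 30, 31, 5, 29, 1, 29, 5] (.step [28, 5, 31, 5, 31, 1, 1, 30, 29, 29, 28, 30, 29, 29, 29, 5, 28] .fail)))), (1, (.step [30, 29, 30, 1, 31, 1, 1, 29, 29] .fail)), (1, .fail), (1, (.step [1, 1, 31, 1, 30, 30, 5, 28] .fail)), (1, .fail), (1, (.step [5, 31, 1, 31, 1, 31, 29, 5, 5] .fail)), (1, (.step [28, 5, 28, 5, 31, 29, 29, 29, 1] .fail)), (7, .fail)])), (1967, (.badPow 23 1))]))]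

/-- the centralizer of the element of order 11, piece 2 -/
def cCh_2 : Cert := Cert.rl [(1986, (.badPow 2093 1))]

/-- the centralizer of the element of order 11, piece 3 -/
def cCh_3 : Cert := Cert.rl [(1, (Cert.rl [(1994, (.badPow 23 1)), (1, (Cert.rl [(1, (.step [31, 28, 28, 31, 1, 30, 1, 30, 29] .fail)), (1, .fail), (1, (.step [31, 5, 28, 1, 29, 29, 29] .fail)), (5, .fail), (1, (.step [29, 5, 30, 5, 5, 31, 29, 30, 29] (.step [1, 1, 28, 30, 30, 30, 30, 30, 1, 1, 28, 28, 29, 30] (.step [1, 29, 30, 5, 30, 28, 31, 29, 1, 1, 28, 28, 28, 30, 28, 28, 31, 5, 30, 1, 1, 28, 28, 1, 29, 31, 29, 31, 28] .fail)))), (1, (.step [29, 30, 1, 1, 1, 28, 30, 1] (.step [30, 1, 30, 30, 30, 30, 1, 31, 1, 29, 5, 31, 28, 28] (.step [28, 30, 30, 29, 5, 30, 5, 29, 28, 31, 29, 30, 30, 29, 30, 1, 31, 31, 5, 31, 5, 31, 31, 28, 1, 1, 29] .fail)))), (1,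 .fail), (1, (.step [1, 31, 29, 31, 29, 30, 30, 1] (.step [1, 28, 5, 5, 29, 29, 31, 31, 29, 30, 30] .fail))), (2, .fail), (1, (.step [1, 31, 31, 31, 1, 1, 30, 29, 29] .fail)), (2, .fail), (1, (.step [5, 5, 31, 29, 29, 1, 1, 30, 29] (.step [1, 28, 5, 5, 29, 29, 31, 31, 29, 30, 30] .fail))), (2, .fail), (1, (.step [29, 29, 29, 5, 31, 5, 5, 5, 29] .fail)), (3, .fail), (1, (.step [5, 5, 5, 5, 30, 28, 1, 1, 29] (.step [1, 29, 5, 31, 5, 31, 28, 1, 31, 1, 1] (.step [29, 31, 31, 28, 31, 31, 31, 28, 5, 29, 1, 28, 28, 28, 31, 29, 28, 5, 31, 28, 31, 1, 28, 28, 28, 28] .fail)))), (2, .fail), (1, (.step [29, 31, 1, 31, 5, 28, 30, 1] .fail)), (5, .fail), (1, (.step [5, 31, 1, 28, 1, 29, 1, 28] (.step [30, 1, 30, 30, 30, 30, 1, 31, 1, 29, 5, 31, 28, 28] .fail))), (1, (.step [28, 1, 1, 28, 1, 31, 28] (.step [5, 31, 1, 1, 29, 30, 1, 29, 30, 5,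 31, 31, 31] (.step [31, 1, 1, 1, 1, 29, 1, 31, 5, 29, 29, 29, 5, 30, 29, 29, 5, 31] .fail)))), (1, (.step [5, 30, 29, 1, 29, 1, 28, 28, 28] (.step [30, 1, 29, 31, 28, 30, 30, 31, 5, 29, 1, 29, 5] (.step [5, 30, 30, 29, 30, 1, 30, 30, 5, 28, 5, 5, 5, 5, 31, 5, 5, 29, 31, 29, 29] .fail)))), (1, .fail), (1, (.step [31, 5, 29, 29, 30, 5, 5, 29, 5] (.step [5, 29, 29, 5, 31, 1, 28, 31, 1, 31, 29] (.step [5, 5, 5, 29, 1, 30, 29, 5, 5, 30, 1, 31, 31, 1, 30, 30, 5, 30, 28, 30, 29, 5, 1, 1, 29, 31] (.step [28, 1, 29, 30, 29, 1, 5, 30, 28, 28, 1, 29, 5, 30, 30, 30, 29, 1, 30, 30, 5, 30, 28, 30, 29, 5, 1, 1, 29, 31, 30, 28, 5, 5, 1, 28, 31, 29, 31, 1, 31, 31, 5, 30, 30, 5, 31, 1, 1, 28, 31, 5, 28, 1, 1, 1] (.done [1, 1, 1, 1, 1, 25, 20, 21, 20, 12, 18, 22, 3, 7, 15, 5, 7, 1, 9, 4, 7, 0, 0, 14, 24, 2, 17, 15, 9, 6, 25])))))), (2, .fail), (1,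 (.step [5, 31, 28, 31, 31, 28, 30, 29] (.step [1, 1, 1, 1, 29, 1, 31, 5, 29] (.step [1, 29, 31, 29, 5, 28, 5, 29, 5, 5, 5, 31, 28, 30, 29, 30, 28, 1, 30, 30, 30, 29, 1, 30, 5, 30, 30, 1] (.step [28, 1, 29, 30, 29, 1, 5, 30, 28, 28, 1, 29, 5, 30, 30, 30, 29, 1, 30, 30, 5, 30, 28, 30, 29, 5, 1, 1, 29, 31, 30, 28, 5, 5, 1, 28, 31, 29, 31, 1, 31, 31, 5, 30, 30, 5, 31, 1, 1, 28, 31, 5, 28, 1, 1, 1] (.done [1, 1, 1, 1, 1, 1, 1, 1, 25, 20, 21, 20, 12, 18, 22, 3, 7, 15, 5, 7, 1, 9, 4, 7, 0, 0, 14, 24, 2, 17, 15, 9, 6, 25])))))), (2, .fail), (1, (.step [29, 5, 29, 30, 30, 29, 5, 28] (.step [5, 30, 30, 5, 30, 30, 29, 1, 28, 30, 28, 30, 5, 5, 29] (.step [1, 1, 28, 5, 1, 31, 29, 1, 1, 28, 5, 28, 1, 29, 30, 29, 30, 28, 28, 1, 1, 28, 28, 1, 29, 31, 29, 31, 28] .fail)))), (6, .fail), (1, (.step [28, 5, 29, 5, 30, 5, 30, 5] .fail)), (1, .fail),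 (1, (.step [29, 1, 29, 1, 30, 1, 28, 28] .fail)), (11, .fail), (1, (.step [28, 1, 29, 29, 5, 28, 30, 1] .fail)), (1, (.step [29, 31, 31, 31, 29, 30, 28] (.step [29, 29, 29, 1, 30, 1, 1, 31, 1, 28, 30, 29, 29, 29, 5, 28] .fail))), (3, .fail), (1, (.step [29, 5, 5, 30, 5, 28, 5, 5] .fail)), (1, (.step [29, 31, 5, 31, 29, 5, 5, 5] .fail)), (1, (.step [1, 29, 1, 28, 1, 28, 5, 5] (.step [1, 28, 30, 30, 28, 28, 30, 5, 28, 1, 28, 28, 31, 1, 28, 28] (.step [5, 30, 29, 30, 30, 1, 1, 28, 28, 28, 29, 29, 30, 1, 28, 31, 31, 31, 31, 31, 1, 28, 1, 1, 30, 5, 30] .fail)))), (1, .fail), (1, (.step [5, 31, 31, 5, 29, 1, 1, 30, 5] .fail)), (4, .fail), (1, (.step [29, 29, 5, 29, 30, 28, 1] (.step [30, 28, 30, 1, 31, 31, 5, 5, 29, 29, 1, 30, 30] (.step [1, 29, 29, 1, 1, 28, 31, 31, 1, 1, 29, 1, 31, 31, 28, 1, 1, 1, 28, 1, 30, 5, 28, 5, 5, 5, 5] .fail)))),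 (4, .fail), (1, (.step [29, 1, 30, 29, 31, 1, 1, 29] (.step [1, 28, 1, 29, 29, 29, 1, 29, 31, 31, 31] (.step [28, 5, 31, 5, 31, 1, 1, 30, 29, 29, 28, 30, 29, 29, 29, 5, 28] .fail)))), (1, (.step [28, 5, 28, 5, 31, 29, 29, 29, 1] .fail)), (1, (.step [30, 5, 5, 31, 31, 31, 31, 29, 5] (.step [28, 1, 5, 31, 29, 1, 31, 28, 31, 31, 5] (.step [5, 5, 29, 5, 29, 30, 28, 5, 29, 1, 31, 31, 28, 28, 1, 30, 28, 1, 30, 5, 28, 5, 5, 5, 5] .fail)))), (1, .fail), (1, (.step [5, 30, 1, 30, 5, 29, 31, 28] .fail)), (1, (.step [5, 28, 1, 31, 1, 30, 30, 1] .fail)), (1, .fail), (1, (.step [1, 28, 30, 30, 30, 30, 1, 1] .fail)), (1, (.step [29, 5, 31, 28, 28, 30] .fail)), (3, .fail), (1, (.step [29, 31, 31, 31, 29, 30, 28] .fail)), (1, .fail), (1, (.step [29, 5, 5, 30, 5, 28, 5, 5] (.step [5, 31, 5, 30, 28, 31, 31, 29, 5, 28, 31, 31] (.step [1, 30, 29,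 30, 1, 31, 5, 1, 1, 31, 5, 28, 28, 31, 1, 30, 1, 30, 29] .fail)))), (1, (.step [1, 1, 1, 30, 30, 29, 5] .fail)), (1, .fail), (1, (.step [1, 31, 28, 1, 28, 31, 31, 31, 29] .fail)), (3, .fail), (1, (.step [29, 31, 1, 28, 5, 30, 1] .fail)), (1, (.step [29, 29, 30, 1, 28] .fail)), (1, (.step [5, 28, 30, 30, 29, 1, 28, 5] .fail)), (6, .fail), (1, (.step [30, 5, 28, 1, 29, 29, 29] .fail)), (3, .fail), (1, (.step [5, 30, 28, 5, 29, 5, 5, 5, 28, 5] .fail)), (3, .fail), (1, (.step [5, 28, 5, 30, 1, 28, 31, 1] .fail)), (1, (.step [30, 5, 29, 29, 30, 30, 5] .fail)), (2, .fail), (1, (.step [1, 31, 28, 28, 28, 5, 31, 29, 29] .fail)), (5, .fail), (1, (.step [31, 29, 29, 30, 1, 28] (.step [28, 28, 30, 30, 30, 30, 29, 29, 29, 1, 31, 31, 31] (.step [29, 30, 28, 30, 29, 30, 1, 1, 28, 28, 28, 5, 29, 1, 30, 29, 29, 5, 30, 30, 29, 29, 29] .fail)))),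 (2, .fail), (1, (.step [29, 31, 1, 28, 5, 30, 1] .fail)), (1, (.step [31, 1, 30, 28, 30, 29, 1, 28] .fail)), (5, .fail), (1, (.step [28, 5, 28, 5, 31, 29, 29, 29, 1] .fail)), (1, (.step [1, 29, 1, 1, 28, 30, 28, 1, 29] .fail)), (2, .fail), (1, (.step [1, 1, 31, 1, 30, 30, 5, 28] (.step [28, 29, 5, 31, 1, 29, 30, 28, 5, 5, 31, 29, 31, 31, 31] (.step [31, 28, 30, 29, 29, 30, 1, 29, 1, 28, 5, 29, 5, 28, 30, 28, 30, 5, 5, 29] .fail)))), (1, (.step [30, 5, 30, 1, 29, 5, 31, 1, 1] (.step [28, 5, 28, 28, 1, 29, 29, 30, 5, 29, 31, 31, 31] (.step [30, 30, 1, 1, 29, 5, 30, 29, 1, 31, 1, 5, 5, 31, 1, 31, 5, 28, 5, 29] .fail)))), (1, .fail), (1, (.step [1, 1, 30, 30, 29, 5, 30, 5] .fail)), (1, (.step [31, 29, 5, 30, 1, 30, 30, 28, 1] .fail)), (1, (.step [31, 1, 1, 31, 31, 5, 30, 5] .fail)), (1, (.step [1, 31, 31, 1, 30, 1, 29] (.step [28,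 5, 30, 30, 28, 5, 29, 5, 29, 5, 29, 1, 28, 28, 28, 31, 29] (.step [5, 31, 29, 30, 5, 29, 5, 5, 28, 29, 1, 28, 5, 28, 31, 31, 28, 31, 30, 30, 1, 29, 30, 1, 30, 28, 31, 28] .fail)))), (5, .fail), (1, (.step [1, 1, 31, 31, 5, 30, 5] (.step [29, 31, 1, 30, 1, 1, 28, 29, 1, 31, 5, 29, 31, 31, 30] (.step [31, 1, 1, 1, 1, 29, 1, 31, 5, 29, 29, 29, 5, 30, 29, 29, 5, 31] .fail)))), (1, (.step [30, 28, 30, 5, 5, 30, 5, 5, 29] .fail)), (3, .fail), (1, (.step [1, 31, 5, 5, 29, 5] .fail)), (1, .fail), (1, (.step [31, 29, 29, 31, 31, 28, 30, 29, 1] .fail)), (2, .fail), (1, (.step [29, 30, 29, 5, 29, 29, 30, 1] .fail)), (1, .fail), (1, (.step [1, 31, 31, 5, 5, 30, 30, 29, 29] (.step [5, 31, 28, 5, 31, 28, 31, 31, 29, 5, 30, 30] .fail))), (1, (.step [31, 29, 29, 30, 1, 28] (.step [28, 1, 30, 30, 1, 30, 5, 5, 5, 30, 30, 30] (.step [29, 5, 5, 28,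 5, 5, 5, 28, 5, 5, 5, 28, 5, 31, 31, 31, 29, 31, 29, 30, 30, 1, 29, 31, 31, 28] (.step [28, 1, 29, 30, 29, 1, 5, 30, 28, 28, 1, 29, 5, 30, 30, 30, 29, 1, 30, 30, 5, 30, 28, 30, 29, 5, 1, 1, 29, 31, 30, 28, 5, 5, 1, 28, 31, 29, 31, 1, 31, 31, 5, 30, 30, 5, 31, 1, 1, 28, 31, 5, 28, 1, 1, 1] (.done [1, 1, 25, 20, 21, 20, 12, 18, 22, 3, 7, 15, 5, 7, 1, 9, 4, 7, 0, 0, 14, 24, 2, 17, 15, 9, 6, 25])))))), (2, .fail), (1, (.step [5, 29, 5, 31, 5, 30, 1, 1] .fail)), (1, .fail), (1, (.step [30, 29, 29, 5, 30, 29, 29, 5] .fail)), (1, (.step [30, 5, 30, 1, 1, 1, 31, 5] .fail)), (1, (.step [31, 30, 30] .fail)), (1, (.step [31, 1, 1, 31, 31, 5, 30, 5] (.step [5, 30, 28, 28, 28, 31, 1, 1, 1, 28, 5, 31, 31, 30] (.step [30, 29, 30, 28, 1, 31, 5, 31, 1, 29, 1, 29, 29, 29, 5, 5, 28, 31, 28, 29, 5, 5, 29, 5, 30, 30, 30, 1] (.step [] (.done [1, 1,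 1, 1, 25, 20, 21, 20, 12, 18, 22, 3, 7, 15, 5, 7, 1, 9, 4, 7, 0, 0, 14, 24, 2, 17, 15, 9, 6, 25])))))), (1, (.step [30, 30, 30, 29, 5, 31, 28, 28] .fail)), (1, (.step [1, 28, 28, 1, 30, 30, 1] (.step [28, 5, 5, 1, 29, 31, 29, 31, 28, 31, 1, 29, 31, 31, 30] (.step [5, 31, 28, 1, 1, 1, 28, 30, 30, 29, 29, 5, 31, 28, 28, 31, 1, 30, 30, 5, 30, 28, 30, 29, 5, 1, 1, 29, 31] .fail)))), (1, (.step [1, 28, 5, 31, 28, 1, 31, 28] (.step [29, 5, 29, 1, 1, 29, 31, 29, 29] (.step [29, 29, 29, 1, 31, 28, 29, 1, 31, 31, 31, 1, 28, 30, 5, 5, 29, 31, 29] .fail)))), (4, .fail), (1, (.step [31, 1, 1, 1, 30, 30, 29, 5] (.step [28, 5, 30, 30, 28, 5, 29, 5, 29, 5, 29, 1, 28, 28, 28, 31, 29] (.step [5, 5, 29, 5, 29, 30, 28, 5, 29, 1, 31, 31, 28, 28, 1, 30, 28, 1, 30, 5, 28, 5, 5, 5, 5] (.step [] (.done [1, 1, 1, 1, 1, 1, 25, 20, 21, 20, 12, 18, 22, 3,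 7, 15, 5, 7, 1, 9, 4, 7, 0, 0, 14, 24, 2, 17, 15, 9, 6, 25])))))), (1, (.step [30, 5, 30, 30, 28, 28, 5, 31, 5] .fail)), (1, (.step [29, 30, 1, 31, 1, 1, 29, 29] .fail)), (2, .fail), (1, (.step [1, 31, 29, 31, 29, 30, 30, 1] .fail)), (6, .fail), (1, (.step [] (.step [30, 1, 29, 31, 28, 30, 30, 31, 5, 29, 1, 29, 5] .fail))), (1, .fail), (1, (.step [1, 1, 28, 5, 30, 29, 5] (.step [29, 1, 28, 28, 5, 29, 5, 31, 5, 30, 30, 30] .fail))), (2, .fail), (1, (.step [29, 5, 5, 30, 5, 28, 5, 5] (.step [28, 5, 5, 30, 30, 30, 28, 30, 5, 1, 28, 5, 31, 5, 5, 29] (.step [31, 29, 5, 30, 5, 5, 31, 29, 30, 29, 5, 5, 5, 5, 30, 28, 1, 1, 29] .fail)))), (1, .fail), (1, (.step [30, 29, 1, 28, 28, 28, 31, 29] .fail)), (3, .fail), (1, (.step [29, 29, 30, 1, 28] .fail)), (9, .fail), (1, (.step [29, 5, 31, 28, 28, 30] .fail)), (1, (.step [31, 29, 29, 5, 29,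 30, 28, 1] .fail)), (1, (.step [31, 29, 5, 31, 28, 28] .fail)), (1, (.step [29, 31, 28, 31, 29, 30, 1, 1] (.step [5, 29, 5, 5, 5, 5, 28, 30, 1, 31, 31, 31] (.step [29, 5, 5, 28, 5, 5, 5, 28, 5, 5, 5, 28, 5, 31, 31, 31, 29, 31, 29, 30, 30, 1, 29, 31, 31, 28] .fail)))), (2, .fail), (1, (.step [31, 5, 29, 29, 1, 30, 1, 29] .fail)), (1, .fail), (1, (.step [29, 30, 5, 31, 1, 28, 5, 31, 28] .fail)), (1, .fail), (1, (.step [28, 30, 5, 28, 1, 31, 29, 1] (.step [29, 30, 5, 5, 5, 5, 28, 1, 30, 30] (.step [5, 31, 29, 31, 1, 28, 30, 5, 30, 28, 5, 5, 28, 1, 29, 29, 29, 30, 1, 1, 29, 1, 29, 1, 31, 28, 30, 28, 1] .fail)))), (1, (.step [29, 1, 30, 30, 30, 30, 28, 5] .fail)), (5, .fail), (1, (.step [29, 31, 29, 1, 31, 28, 28, 31, 1] .fail)), (1, (.step [30, 5, 28, 5, 30, 28, 1, 1] .fail)), (1, (.step [28, 5, 31, 31, 28, 5, 28, 5] .fail)), (1,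 .fail), (1, (.step [29, 30, 5, 29, 5, 5, 29] .fail)), (5, .fail), (1, (.step [31, 1, 28, 31, 29, 1, 30, 5, 5] (.step [29, 29, 5, 5, 5, 28, 31, 29, 5, 5, 5, 29, 29, 30, 30, 5] (.step [29, 5, 5, 28, 5, 5, 5, 28, 5, 5, 5, 28, 5, 31, 31, 31, 29, 31, 29, 30, 30, 1, 29, 31, 31, 28] .fail)))), (1, .fail), (1, (.step [30, 29, 5, 31, 28, 28] (.step [30, 5, 31, 5, 5, 28, 31, 5, 29, 29, 5, 29, 30, 28, 1, 30] (.step [1, 28, 31, 28, 31, 29, 5, 29, 1, 28, 1, 30, 28, 30, 30, 28, 1, 31, 31, 28, 30, 30, 28, 28, 1, 1, 29, 5] .fail)))), (2, .fail), (1, (.step [5, 31, 31, 5, 29, 1, 1, 30, 5] (.step [1, 1, 30, 1, 31, 1, 31, 31, 29, 1, 28, 31, 31] .fail))), (1, .fail), (1, (.step [30, 30, 30, 29, 5, 31, 28, 28] .fail)), (1, (.step [1, 31, 31, 5, 5, 30, 30, 29, 29] (.step [28, 5, 31, 31, 31, 31, 31, 1, 29, 31, 31, 31, 31, 31] (.step [5, 31, 1, 31, 30,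 30, 1, 31, 29, 5, 5, 30, 30, 31, 31, 31, 1, 30, 1, 31, 29, 5, 30, 1, 29, 30] .fail)))), (1, .fail), (1, (.step [30, 29, 31, 1, 28, 5, 30, 1] .fail)), (1, .fail), (1, (.step [29, 5, 28, 1, 31, 1, 30, 29, 29] .fail)), (1, .fail), (1, (.step [29, 29, 29, 5, 31, 5, 5, 5, 29] (.step [31, 5, 30, 5, 29, 31, 29, 31, 28, 31, 5, 30, 30, 30] (.step [30, 30, 1, 1, 29, 5, 30, 29, 1, 31, 1, 5, 5, 31, 1, 31, 5, 28, 5, 29] .fail)))), (1, (.step [30, 1, 31, 5, 5, 29, 5] (.step [29, 5, 31, 31, 28, 31, 28, 5, 29, 5, 28, 1, 29, 29, 29, 31] (.step [29, 28, 1, 1, 28, 28, 28, 31, 31, 29, 1, 30, 29, 1, 1, 30, 1, 31, 31, 31, 29, 29, 1, 29, 5, 30, 30, 28] .fail)))), (1, .fail), (1, (.step [29, 29, 30, 1, 28] (.step [5, 29, 29, 5, 31, 28, 29, 28, 31, 5, 28, 5, 5] (.step [5, 28, 28, 30, 5, 31, 5, 5, 28, 5, 28, 1, 30, 1, 30, 1, 29, 29, 31] .fail)))), (1,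 .fail), (1, (.step [5, 31, 1, 28, 1, 29, 1, 28] .fail)), (3, .fail), (1, (.step [28, 31, 29, 29, 31, 29, 31, 31, 28] .fail)), (1, .fail), (1, (.step [28, 5, 29, 5, 30, 5, 30, 5] .fail)), (1, (.step [31, 31, 31] (.step [28, 5, 5, 1, 29, 31, 29, 31, 28, 31, 1, 29, 31, 31, 30] (.step [28, 30, 30, 29, 5, 30, 5, 29, 28, 31, 29, 30, 30, 29, 30, 1, 31, 31, 5, 31, 5, 31, 31, 28, 1, 1, 29] .fail)))), (1, .fail), (1, (.step [1, 30, 28, 30, 29, 1, 28] (.step [30, 29, 30, 5, 29, 5, 5, 29, 1, 28, 1, 1, 30, 5] (.step [29, 30, 28, 1, 31, 5, 31, 1, 28, 30, 28, 30, 5, 5, 29, 1, 1, 29, 1, 30, 29, 28, 29, 30, 1, 28, 28, 1] .fail)))), (1, (.step [28, 28, 28, 30, 30, 29, 30, 5] .fail)), (1, (.step [1, 31, 31, 1, 30, 1, 29] .fail)), (2, .fail), (1, (.step [28, 30, 28, 30, 30, 1, 29, 5] .fail)), (6, .fail), (1, (.step [1, 29, 5, 30, 30, 30, 29] .fail)),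 (2, .fail), (1, (.step [31, 1, 30, 29, 29, 31, 29, 29] .fail)), (2, .fail), (1, (.step [29, 5, 30, 1, 29, 31, 5, 29] (.step [1, 28, 5, 28, 5, 28, 28, 30, 5, 29, 29, 31, 1] .fail))), (9, .fail), (1, (.step [1, 31, 28, 28, 28, 5, 31, 29, 29] (.step [29, 1, 30, 5, 30, 30, 5, 29, 29, 31, 31, 31] (.step [31, 1, 1, 1, 1, 29, 1, 31, 5, 29, 29, 29, 5, 30, 29, 29, 5, 31] .fail)))), (3, .fail), (1, (.step [30, 5, 28, 5, 30, 28, 1, 1] .fail)), (1, (.step [28, 30, 5, 28, 1, 31, 29, 1] (.step [1, 29, 5, 31, 28, 28, 1, 29, 5, 30, 1, 28, 29, 30] .fail))), (1, .fail), (1, (.step [30, 29, 30, 1, 31, 31, 1, 30, 1] (.step [28, 5, 31, 31, 31, 31, 31, 1, 29, 31, 31, 31, 31, 31] (.step [1, 29, 31, 29, 5, 28, 5, 29, 5, 5, 5, 31, 28, 30, 29, 30, 28, 1, 30, 30, 30, 29, 1, 30, 5, 30, 30, 1] .fail)))), (3, .fail), (1, (.step [30, 1, 30, 5, 5, 5, 31, 1]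 (.step [1, 1, 29, 5, 5, 28, 5, 30, 29, 28, 28, 28, 5, 29, 1, 31] .fail))), (1, .fail), (1, (.step [28, 1, 31, 29, 30, 29, 29, 1] .fail)), (2, .fail), (1, (.step [30, 5, 30, 28, 30, 28, 28, 28] .fail)), (5, .fail), (1, (.step [29, 29, 5, 28, 31, 1, 28, 1, 28] (.step [28, 5, 28, 28, 1, 29, 29, 30, 5, 29, 31, 31, 31] (.step [30, 30, 28, 28, 1, 28, 31, 28, 1, 1, 1, 30, 28, 30, 29, 1, 28, 31, 29, 29, 5, 30, 30, 29, 29, 29] .fail)))), (4, .fail), (1, (.step [29, 5, 30, 1, 29, 31, 5, 29] .fail)), (1, .fail), (1, (.step [28, 1, 1, 28, 1, 31, 28] .fail)), (4, .fail), (1, (.step [29, 29, 30, 1, 29, 30, 1, 28] .fail)), (1, (.step [31, 29, 5, 30, 1, 30, 30, 28, 1] (.step [5, 28, 1, 30, 28, 28, 5, 30, 29, 1, 28, 28, 28, 5, 29, 1] .fail))), (3, .fail), (1, (.step [29, 29, 5, 30, 29, 29, 5] (.step [28, 5, 31, 31, 31, 31, 31, 1, 29, 31, 31, 31,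 31, 31] (.step [28, 5, 31, 5, 31, 1, 1, 30, 29, 29, 28, 30, 29, 29, 29, 5, 28] .fail)))), (1, (.step [31, 28, 28, 31, 1, 30, 1, 30, 29] (.step [30, 28, 30, 30, 5, 31, 1, 30, 28, 1, 31, 31] (.step [5, 5, 5, 29, 1, 30, 29, 5, 5, 30, 1, 31, 31, 1, 30, 30, 5, 30, 28, 30, 29, 5, 1, 1, 29, 31] .fail)))), (1, (.step [5, 28, 5, 30, 1, 28, 31, 1] .fail)), (1, .fail), (1, (.step [1, 29, 31, 31, 31, 31, 5, 28] .fail)), (2, .fail), (1, (.step [31, 28, 31, 31, 31, 1, 28, 5] .fail)), (11, .fail), (1, (.step [30, 1, 1, 29, 30, 28, 1, 28, 1] (.step [29, 29, 1, 30, 30, 30, 29, 29, 31, 5, 28, 28, 28, 31, 29, 29, 5] (.step [1, 28, 31, 28, 31, 29, 5, 29, 1, 28, 1, 30, 28, 30, 30, 28, 1, 31, 31, 28, 30, 30, 28, 28, 1, 1, 29, 5] .fail)))), (10, .fail), (1, (.step [5, 30, 28, 5, 29, 5, 5, 5, 28, 5] (.step [28, 5, 30, 28, 30, 28, 30, 1, 29, 30, 1, 28,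 28, 28, 5] (.step [28, 1, 30, 28, 1, 30, 5, 29, 29, 31, 29, 29, 30, 1, 28, 31, 31, 31, 1, 30, 1, 28, 1, 29, 29, 5, 28] .fail)))), (1, .fail), (1, (.step [5, 30, 29, 1, 29, 1, 28, 28, 28] .fail)), (2, .fail), (1, (.step [31, 28, 29] (.step [5, 31, 5, 30, 28, 31, 31, 29, 5, 28, 31, 31] (.step [5, 29, 31, 31, 1, 1, 29, 31, 29, 1, 31, 31, 31, 31, 31, 31, 31, 1, 28, 30, 30, 29, 30, 1, 29, 30, 1] .fail)))), (2, .fail), (1, (.step [30, 28, 30, 5, 5, 30, 5, 5, 29] .fail)), (1, (.step [31, 5, 30, 29, 5, 28, 1, 1] .fail)), (1, .fail), (1, (.step [29, 5, 5, 29, 31, 28, 31, 1] .fail)), (2, .fail), (1, (.step [29, 5, 5, 29, 31, 28, 31, 1] (.step [1, 1, 1, 1, 29, 1, 31, 5, 29] (.step [5, 28, 28, 30, 28, 31, 28, 31, 1, 29, 5, 31, 28, 28, 30, 30, 31, 30, 30, 1, 29, 30, 1, 30, 28, 31, 28] (.step [] (.done [1, 1, 1, 1, 1, 1, 1, 1, 1, 1, 25, 20,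 21, 20, 12, 18, 22, 3, 7, 15, 5, 7, 1, 9, 4, 7, 0, 0, 14, 24, 2, 17, 15, 9, 6, 25])))))), (1, .fail), (1, (.step [29, 1, 30, 30, 30, 30, 28, 5] (.step [29, 30, 29, 1, 29, 29, 5, 29, 1, 31, 31, 30] (.step [1, 29, 31, 29, 5, 28, 5, 29, 5, 5, 5, 31, 28, 30, 29, 30, 28, 1, 30, 30, 30, 29, 1, 30, 5, 30, 30, 1] .fail)))), (1, (.step [30, 29, 29, 5, 30, 29, 29, 5] .fail)), (2, .fail), (1, (.step [30, 29, 29, 29, 31, 29, 31, 1] (.step [28, 29, 5, 31, 1, 29, 30, 28, 5, 5, 31, 29, 31, 31, 31] (.step [28, 5, 31, 5, 31, 1, 1, 30, 29, 29, 28, 30, 29, 29, 29, 5, 28] .fail)))), (8, .fail), (1, (.step [29, 31, 28, 31, 29, 30, 1, 1] .fail)), (1, .fail), (1, (.step [28, 31, 5, 29, 5, 28, 31, 1] .fail)), (1, .fail), (1, (.step [29, 5, 29, 30, 30, 29, 5, 28] (.step [29, 31, 1, 29, 29, 30, 28, 5, 31, 1, 29, 5, 30, 28] (.step [29, 5, 5, 28, 5, 5, 5,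 28, 5, 5, 5, 28, 5, 31, 31, 31, 29, 31, 29, 30, 30, 1, 29, 31, 31, 28] (.step [] (.done [1, 1, 1, 1, 1, 1, 1, 25, 20, 21, 20, 12, 18, 22, 3, 7, 15, 5, 7, 1, 9, 4, 7, 0, 0, 14, 24, 2, 17, 15, 9, 6, 25])))))), (1, (.step [5, 31, 29, 30, 5, 28, 28, 5, 28] (.step [28, 1, 1, 29, 30, 5, 5, 5, 29, 28, 29, 30] (.step [30, 30, 28, 28, 1, 28, 31, 28, 1, 1, 1, 30, 28, 30, 29, 1, 28, 31, 29, 29, 5, 30, 30, 29, 29, 29] .fail)))), (2, .fail), (1, (.step [29, 31, 31, 5, 5, 31, 31, 28, 5] .fail)), (4, .fail), (1, (.step [30, 28, 1, 29, 30, 29, 30, 28, 28] .fail)), (1, (.step [29, 29, 30, 28, 31, 29, 31, 5] (.step [1, 29, 31, 5, 5, 31, 5, 5, 5, 5, 5, 30, 5, 5, 29, 29] (.step [5, 5, 29, 5, 29, 30, 28, 5, 29, 1, 31, 31, 28, 28, 1, 30, 28, 1, 30, 5, 28, 5, 5, 5, 5] (.step [28, 1, 29, 30, 29, 1, 5, 30, 28, 28, 1, 29, 5, 30, 30, 30, 29, 1, 30, 30,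 5, 30, 28, 30, 29, 5, 1, 1, 29, 31, 30, 28, 5, 5, 1, 28, 31, 29, 31, 1, 31, 31, 5, 30, 30, 5, 31, 1, 1, 28, 31, 5, 28, 1, 1, 1] (.done [25, 20, 21, 20, 12, 18, 22, 3, 7, 15, 5, 7, 1, 9, 4, 7, 0, 0, 14, 24, 2, 17, 15, 9, 6, 25])))))), (1, .fail), (1, (.step [30, 5, 31, 31, 5, 29, 29, 5] .fail)), (1, .fail), (1, (.step [29, 31, 1, 31, 31, 1, 30, 28] (.step [29, 1, 31, 29, 30, 5, 29, 1, 29, 1, 31, 31, 31] .fail))), (7, .fail), (1, (.step [1, 28, 28, 30, 29, 29, 29] (.step [29, 29, 31, 1, 29, 1, 1, 29, 31, 5, 30, 30, 30] (.step [28, 31, 31, 29, 31, 29, 5, 29, 5, 30, 30, 30, 30, 31, 31, 1, 30, 28, 1, 1, 28, 1, 30, 28, 28] .fail)))), (1, (.step [5, 29, 31, 28, 1, 28, 28] .fail)), (3, .fail), (1, (.step [30, 1, 28, 5, 31, 5, 5, 29] .fail)), (2, .fail), (1, (.step [28, 30, 28, 5, 30, 5, 29, 5] (.step [29, 29, 31, 5, 29, 5, 5, 29, 31,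 5, 30, 30] .fail))), (1, (.step [31, 1, 28, 28, 31, 1, 28, 28] .fail)), (1, (.step [28, 5, 31, 1, 31, 29, 5, 29] .fail)), (1, .fail), (1, (.step [1, 31, 31, 1, 30, 1, 29, 31] .fail)), (1, (.step [1, 28, 31, 1, 29, 5, 5] (.step [1, 29, 31, 5, 5, 31, 5, 5, 5, 5, 5, 30, 5, 5, 29, 29] (.step [5, 30, 30, 29, 30, 1, 30, 30, 5, 28, 5, 5, 5, 5, 31, 5, 5, 29, 31, 29, 29] .fail)))), (1, (.step [5, 30, 28, 30, 28, 28, 28] (.step [29, 29, 30, 28, 5, 29, 5, 30, 1, 28, 29, 30] (.step [29, 5, 5, 28, 5, 5, 5, 28, 5, 5, 5, 28, 5, 31, 31, 31, 29, 31, 29, 30, 30, 1, 29, 31, 31, 28] .fail)))), (2, .fail), (1, (.step [5, 28, 30, 30, 29, 1, 28, 5] .fail)), (1, (.step [28, 5, 5, 28, 28, 1, 29, 5] .fail)), (1, (.step [28, 5, 29, 1, 29, 5, 29, 5] (.step [30, 5, 31, 5, 5, 28, 31, 5, 29, 29, 5, 29, 30, 28, 1, 30] .fail))), (6, .fail), (1, (.step [29, 31,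 28, 31, 29, 30, 1, 1] (.step [29, 5, 29, 31, 1, 1, 31, 31, 5, 5, 29, 29, 30, 1, 28] .fail))), (1, .fail), (1, (.step [29, 1, 1, 30, 5, 29, 31, 1] (.step [28, 31, 29, 5, 28, 1, 30, 31, 29, 5, 31, 5, 30, 30] .fail))), (1, (.step [31, 29, 29, 29, 31, 29, 31, 1] .fail)), (1, .fail), (1, (.step [28, 1, 29, 29, 30, 5, 30, 28] (.step [28, 30, 28, 5, 30, 1, 30, 5, 1, 31, 31, 28, 28, 1, 31] (.step [29, 29, 1, 5, 1, 29, 31, 5, 29, 30, 29, 30, 30, 30, 30, 30, 30, 29, 31, 31, 31, 29, 30, 28, 31] .fail)))), (10, .fail), (1, (.step [30, 1, 28, 28, 30, 5, 29, 1] .fail)), (1, .fail), (1, (.step [1, 1, 29, 5, 28, 30, 5, 28, 1] (.step [28, 28, 30, 5, 29, 31, 29, 5, 28, 1, 31, 5, 5, 29, 5, 31] .fail))), (1, (.step [5, 5, 31, 28, 30, 29, 30, 28] .fail)), (1, .fail), (1, (.step [5, 31, 31, 1, 1, 28, 5, 31, 5] .fail)), (1, (.step [5, 5, 31, 31, 28,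 28, 30, 5, 28] .fail)), (1, (.step [1, 31, 29, 31, 29, 30, 30, 1] .fail)), (1, .fail), (1, (.step [1, 30, 5, 5, 5, 31, 1] .fail)), (3, .fail), (1, (.step [29, 5, 31, 28, 28, 30] .fail)), (4, .fail), (1, (.step [31, 31, 31] .fail)), (1, (.step [28, 1, 28, 30, 28, 30, 5, 31, 5] .fail)), (1, (.step [29, 29, 5, 30, 29, 29, 5] (.step [29, 31, 1, 30, 1, 1, 28, 29, 1, 31, 5, 29, 31, 31, 30] .fail))), (1, (.step [29, 5, 5, 30, 5, 28, 5, 5] .fail)), (1, .fail), (1, (.step [31, 1, 28, 28, 31, 1, 28, 28] .fail)), (1, (.step [31, 1, 1, 28, 5, 30, 29, 5] .fail)), (1, (.step [30, 30, 30, 29, 5, 31, 28, 28] .fail)), (1, (.step [29, 31, 1, 29, 30, 30, 30, 28] (.step [30, 29, 31, 5, 31, 5, 31, 5, 5, 28, 5, 5, 31, 31] (.step [28, 31, 28, 30, 30, 28, 31, 5, 29, 1, 31, 5, 5, 28, 30, 5, 29, 1, 31, 29] .fail)))), (4, .fail), (1, (.step [28, 30, 28,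 30, 5, 5, 29] .fail)), (1, (.step [5, 5, 31, 31, 28, 28, 30, 5, 28] .fail)), (2, .fail), (1, (.step [29, 31, 1, 28, 5, 30, 1] .fail)), (2, .fail), (1, (.step [30, 28, 28, 28, 5, 29, 1] .fail)), (2, .fail), (1, (.step [28, 30, 29, 1, 28, 28, 30, 29, 1] .fail)), (1, .fail), (1, (.step [28, 30, 5, 5, 30, 5, 5, 29] .fail)), (1, .fail), (1, (.step [5, 31, 1, 31, 29, 30, 28, 30, 1] .fail)), (1, (.step [31, 5, 31, 1, 29, 29, 29, 30, 28] .fail)), (1, (.step [28, 30, 5, 5, 30, 5, 5, 29] (.step [5, 31, 31, 1, 31, 5, 28, 31, 31, 31, 5] .fail))), (1, (.step [1, 28, 31, 31, 5, 5, 5] (.step [29, 5, 29, 30, 29, 5, 29, 5, 5, 5, 30, 30] (.step [29, 29, 29, 30, 5, 31, 31, 29, 29, 29, 30, 1, 28, 30, 30, 1, 28, 30, 5, 31, 31, 1, 31, 5, 30, 29] .fail)))), (1, (.step [28, 1, 29, 5, 29, 5, 31, 31, 5] (.step [31, 1, 31, 31, 5, 29, 30, 29, 31, 31, 5]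 (.step [1, 29, 30, 5, 30, 28, 31, 29, 1, 1, 28, 28, 28, 30, 28, 28, 31, 5, 30, 1, 1, 28, 28, 1, 29, 31, 29, 31, 28] .fail)))), (1, (.step [1, 28, 5, 31, 28, 1, 31, 28] .fail)), (1, .fail), (1, (.step [31, 28, 28, 28, 5, 29, 1] .fail)), (1, .fail), (1, (.step [5, 28, 1, 31, 1, 30, 30, 1] (.step [1, 30, 30, 29, 30, 5, 28, 30, 29] .fail))), (1, .fail), (1, (.step [1, 28, 1, 31, 1, 29, 31, 29] .fail)), (2, .fail), (1, (.step [1, 1, 30, 30, 29, 5, 30, 5] .fail)), (1, .fail), (1, (.step [28, 31, 28, 28, 5, 29, 1, 31, 5] .fail)), (1, (.step [31, 28, 29] .fail)), (1, .fail), (1, (.step [30, 30, 30, 29, 5, 31, 28, 28] .fail)), (2, .fail), (1, (.step [1, 30, 1, 31, 28, 28, 30, 30, 1] (.step [28, 30, 5, 29, 29, 30, 28, 5, 28, 31, 31, 28, 1] (.step [28, 30, 29, 29, 28, 5, 29, 5, 31, 5, 5, 5, 5, 28, 31, 28, 30, 1, 1, 1, 29, 1, 29, 1, 31, 28,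 30, 28, 1] .fail)))), (1, .fail), (1, (.step [29, 30, 1, 31, 1, 1, 29, 29] .fail)), (1, (.step [29, 1, 1, 30, 5, 29, 31, 1] .fail)), (1, (.step [5, 31, 31, 31, 31, 29, 30, 1] .fail)), (1, .fail), (1, (.step [28, 28, 28, 30, 30, 29, 30, 5] .fail)), (1, (.step [30, 5, 29, 29, 30, 30, 5] (.step [28, 28, 28, 31, 31, 1, 28, 28] (.step [30, 1, 28, 5, 30, 1, 29, 31, 28, 5, 29, 5, 28, 5, 29, 5, 30, 1, 1, 1, 1, 1, 29, 1, 31, 5, 29] .fail)))), (2, .fail), (1, (.step [28, 1, 29, 5, 28, 5, 28, 30, 5] .fail)), (4, .fail), (1, (.step [5, 28, 1, 31, 1, 30, 30, 1] .fail)), (1, (.step [28, 1, 1, 28, 1, 31, 28] (.step [30, 28, 5, 5, 1, 28, 31, 29, 31, 1, 31, 31, 5] (.step [30, 1, 30, 30, 30, 1, 29, 31, 5, 28, 5, 1, 29, 5, 30, 30, 30, 29, 28, 1, 30, 5, 28, 5, 5, 5, 5] .fail)))), (1, (.step [31, 31, 29, 29, 30, 1, 28] (.step [28, 29, 5, 31, 1, 29,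 30, 28, 5, 5, 31, 29, 31, 31, 31] .fail))), (1, (.step [28, 5, 28, 28, 28, 5, 29, 5] (.step [31, 29, 5, 5, 30, 30, 30, 30, 30, 29, 5, 5] (.step [29, 29, 5, 31, 31, 1, 30, 29, 5, 1, 31, 31, 1, 30, 1, 29, 31, 31, 31, 31, 1, 28, 1, 1, 30, 5, 30] .fail)))), (1, .fail), (1, (.step [28, 28, 1, 29, 1, 31, 1, 1] (.step [28, 1, 1, 29, 30, 5, 5, 5, 29, 28, 29, 30] (.step [29, 29, 31, 31, 28, 30, 29, 1, 1, 28, 31, 31, 5, 5, 5, 1, 1, 29, 1, 29, 1, 31, 28, 30, 28, 1] .fail)))), (2, .fail), (1, (.step [28, 1, 1, 30, 1, 29, 5] .fail)), (6, .fail), (1, (.step [31, 29, 1, 28, 28, 28, 31, 29] .fail)), (1, (.step [29, 31, 1, 29, 30, 30, 30, 28] .fail)), (1, (.step [29, 1, 30, 29, 31, 1, 1, 29] .fail)), (1, (.step [1, 29, 1, 1, 28, 30, 28, 1, 29] (.step [29, 29, 29, 29, 5, 31, 29, 30, 1, 29, 29, 5, 31, 28, 28, 30] (.step [31, 29, 1, 28, 30, 29, 31,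 1, 1, 28, 5, 28, 28, 28, 5, 29, 1] .fail)))), (1, (.step [28, 31, 1, 29, 5, 5, 5, 28] (.step [28, 28, 30, 30, 30, 30, 29, 29, 29, 1, 31, 31, 31] (.step [1, 1, 28, 30, 29, 29, 1, 31, 28, 1, 30, 28, 31, 31, 30, 28, 5, 31, 29, 31, 5, 31, 29, 29, 5] (.step [28, 1, 29, 30, 29, 1, 5, 30, 28, 28, 1, 29, 5, 30, 30, 30, 29, 1, 30, 30, 5, 30, 28, 30, 29, 5, 1, 1, 29, 31, 30, 28, 5, 5, 1, 28, 31, 29, 31, 1, 31, 31, 5, 30, 30, 5, 31, 1, 1, 28, 31, 5, 28, 1, 1, 1] (.done [1, 25, 20, 21, 20, 12, 18, 22, 3, 7, 15, 5, 7, 1, 9, 4, 7, 0, 0, 14, 24, 2, 17, 15, 9, 6, 25])))))), (4, .fail), (1, (.step [30, 28, 28, 28, 5, 29, 1] (.step [28, 31, 29, 1, 28, 1, 28, 1, 30, 1, 30, 30, 30] (.step [28, 28, 28, 5, 29, 1, 31, 31, 31, 31, 28, 28, 30, 28, 5, 5, 28, 1, 28] .fail)))), (1, .fail), (1, (.step [1, 30, 30, 28, 5, 30, 30, 28, 5] .fail)), (1, .fail),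 (1, (.step [5, 31, 1, 31, 1, 31, 29, 5, 5] .fail)), (1, (.step [30, 1, 30, 29, 29, 31, 29, 29] (.step [29, 5, 29, 31, 1, 30, 1, 31, 1, 28, 31, 29, 29, 30, 1, 28] (.step [30, 1, 30, 30, 30, 1, 29, 31, 5, 28, 5, 1, 29, 5, 30, 30, 30, 29, 28, 1, 30, 5, 28, 5, 5, 5, 5] .fail)))), (1, .fail), (1, (.step [29, 1, 29, 1, 30, 1, 28, 28] (.step [30, 1, 29, 31, 28, 30, 30, 31, 5, 29, 1, 29, 5] (.step [5, 30, 30, 29, 30, 1, 30, 30, 5, 28, 5, 5, 5, 5, 31, 5, 5, 29, 31, 29, 29] .fail)))), (2, .fail), (1, (.step [5, 31, 1, 31, 1, 31, 29, 5, 5] .fail)), (1, (.step [1, 28, 28, 31, 1, 28, 28] (.step [28, 30, 5, 29, 29, 30, 28, 5, 28, 31, 31, 28, 1] (.step [31, 28, 30, 29, 29, 30, 1, 29, 1, 28, 5, 29, 5, 28, 30, 28, 30, 5, 5, 29] .fail)))), (1, (.step [28, 1, 1, 30, 1, 29, 5] .fail)), (1, .fail), (1, (.step [1, 29, 1, 1, 28, 30, 28, 1, 29] .fail)),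 (1, .fail), (1, (.step [28, 30, 1, 31, 29, 29, 31, 1] .fail)), (3, .fail), (1, (.step [1, 31, 5, 5, 29, 5] (.step [29, 29, 30, 28, 5, 29, 5, 30, 1, 28, 29, 30] .fail))), (1, (.step [28, 31, 5, 29, 5, 28, 31, 1] (.step [5, 30, 28, 28, 28, 31, 1, 1, 1, 28, 5, 31, 31, 30] (.step [1, 29, 30, 5, 30, 28, 31, 29, 1, 1, 28, 28, 28, 30, 28, 28, 31, 5, 30, 1, 1, 28, 28, 1, 29, 31, 29, 31, 28] .fail)))), (1, (.step [29, 31, 29, 29, 1, 30, 28] .fail)), (1, (.step [31, 29, 31, 29, 29, 1, 30, 28] (.step [30, 29, 30, 5, 29, 5, 5, 29, 1, 28, 1, 1, 30, 5] (.step [29, 5, 5, 28, 5, 5, 5, 28, 5, 5, 5, 28, 5, 31, 31, 31, 29, 31, 29, 30, 30, 1, 29, 31, 31, 28] .fail)))), (5, .fail), (1, (.step [5, 29, 1, 30, 5, 29, 1, 1] (.step [30, 30, 29, 29, 5, 29, 30, 28, 1, 29, 29, 30, 1, 28] (.step [30, 5, 30, 1, 31, 31, 1, 1, 28, 28, 28, 29, 31, 5, 30, 30, 5,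 30, 28, 28, 31, 29, 1, 31, 28, 31, 31, 5] .fail)))), (3, .fail), (1, (.step [31, 29, 31, 28, 30, 30, 30, 28] (.step [31, 28, 30, 28, 31, 31, 1, 29, 5, 29, 1, 28, 1, 1, 30, 5] .fail))), (5, .fail), (1, (.step [31, 31, 31, 31] (.step [29, 29, 5, 5, 5, 28, 31, 29, 5, 5, 5, 29, 29, 30, 30, 5] (.step [29, 5, 5, 28, 5, 5, 5, 28, 5, 5, 5, 28, 5, 31, 31, 31, 29, 31, 29, 30, 30, 1, 29, 31, 31, 28] .fail)))), (5, .fail), (1, (.step [31, 29, 29, 31, 31, 28, 30, 29, 1] .fail)), (1, .fail), (1, (.step [28, 30, 5, 28, 1, 31, 29, 1] .fail)), (2, .fail), (1, (.step [28, 28, 31, 1, 30, 1, 30, 29] .fail)), (2, .fail), (1, (.step [30, 30, 30, 29, 5, 31, 28, 28] (.step [28, 1, 1, 29, 30, 5, 5, 5, 29, 28, 29, 30] (.step [5, 5, 28, 31, 31, 29, 30, 29, 1, 29, 31, 29, 29, 1, 30, 28] .fail)))), (4, .fail), (1, (.step [5, 5, 31, 29, 29, 1, 1, 30, 29] (.step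 [1, 31, 5, 31, 28, 28, 28, 5, 5, 30, 30, 30] (.step [31, 29, 5, 30, 5, 5, 31, 29, 30, 29, 5, 5, 5, 5, 30, 28, 1, 1, 29] .fail)))), (2, .fail), (1, (.step [28, 5, 31, 5, 28, 28, 1] .fail)), (1, (.step [28, 5, 30, 5, 30, 1, 1, 29] .fail)), (1, .fail), (1, (.step [28, 5, 30, 5, 30, 1, 1, 29] .fail)), (1, (.step [5, 31, 29, 30, 29, 1, 1, 1] .fail)), (1, .fail), (1, (.step [1, 31, 5, 29, 29, 29, 1, 29] (.step [28, 31, 28, 5, 31, 1, 28, 1, 1, 30, 28, 31, 31, 31, 31, 31] .fail))), (2, .fail), (1, (.step [5, 30, 28, 5, 29, 5, 5, 5, 28, 5] .fail)), (1, .fail), (1, (.step [29, 31, 28, 5, 31, 28, 5, 28] .fail)), (1, (.step [28, 1, 31, 5, 31, 31, 29, 5] .fail)), (1, (.step [29, 29, 30, 28, 31, 29, 31, 5] .fail)), (3, .fail), (1, (.step [5, 28, 30, 30, 29, 1, 28, 5] .fail)), (1, (.step [1, 28, 28, 30, 5, 29, 1] (.step [30, 5, 31, 5, 5, 28,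 31, 5, 29, 29, 5, 29, 30, 28, 1, 30] (.step [5, 31, 28, 1, 1, 1, 28, 30, 30, 29, 29, 5, 31, 28, 28, 31, 1, 30, 30, 5, 30, 28, 30, 29, 5, 1, 1, 29, 31] .fail)))), (2, .fail), (1, (.step [31, 31] .fail)), (1, (.step [1, 28, 31, 1, 29, 5, 5] .fail)), (2, .fail), (1, (.step [28, 28, 5, 31, 1, 31, 31, 1, 29] .fail)), (1, .fail), (1, (.step [28, 5, 31, 5, 30, 30, 5] .fail)), (1, (.step [29, 31, 29, 1, 31, 28, 28, 31, 1] .fail)), (1, (.step [29, 1, 30, 29, 31, 1, 1, 29] (.step [28, 1, 30, 30, 1, 30, 5, 5, 5, 30, 30, 30] (.step [29, 29, 29, 5, 5, 30, 30, 5, 31, 1, 1, 28, 5, 29, 29, 1, 1, 29, 29, 29, 5, 30, 30, 29, 29, 29] .fail)))), (1, (.step [31, 29, 31, 5, 30, 5, 28, 30, 1] .fail)), (1, .fail), (1, (.step [28, 28, 5, 31, 1, 31, 31, 1, 29] (.step [29, 31, 1, 30, 1, 1, 28, 29, 1, 31, 5, 29, 31, 31, 30] (.step [1, 29, 29, 1, 1, 28, 31,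 31, 1, 1, 29, 1, 31, 31, 28, 1, 1, 1, 28, 1, 30, 5, 28, 5, 5, 5, 5] .fail)))), (10, .fail), (1, (.step [28, 1, 30, 30, 29, 31, 28, 30, 28] (.step [28, 31, 1, 30, 5, 30, 30, 1, 31, 29, 5] .fail))), (1, .fail), (1, (.step [29, 1, 30, 30, 29, 31, 5, 30, 29] (.step [5, 30, 29, 31, 31, 1, 31, 31, 28, 1, 28, 29, 30] (.step [5, 5, 29, 5, 29, 30, 28, 5, 29, 1, 31, 31, 28, 28, 1, 30, 28, 1, 30, 5, 28, 5, 5, 5, 5] .fail)))), (1, (.step [31, 1, 30, 29, 29, 31, 29, 29] .fail)), (1, (.step [30, 30, 30, 30] .fail)), (1, (.step [29, 30, 5, 29, 5, 5, 29] .fail)), (1, (.step [1, 1, 28, 5, 30, 29, 5] .fail)), (1, .fail), (1, (.step [28, 30, 28, 30, 5, 5, 29] (.step [28, 1, 5, 31, 29, 1, 31, 28, 31, 31, 5] (.step [29, 29, 29, 5, 5, 30, 30, 5, 31, 1, 1, 28, 5, 29, 29, 1, 1, 29, 29, 29, 5, 30, 30, 29, 29, 29] .fail)))), (1, .fail), (1, (.step [28,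 30, 1, 31, 29, 29, 31, 1] (.step [5, 28, 1, 30, 28, 28, 5, 30, 29, 1, 28, 28, 28, 5, 29, 1] (.step [5, 30, 29, 1, 28, 30, 5, 30, 30, 29, 1, 29, 5, 31, 5, 30, 30, 5, 31, 28, 29, 29, 5, 30, 30, 29, 29, 29] .fail)))), (1, (.step [1, 30, 28, 30, 29, 1, 28] (.step [29, 5, 29, 31, 1, 1, 31, 31, 5, 5, 29, 29, 30, 1, 28] (.step [29, 5, 5, 31, 5, 31, 1, 31, 1, 28, 31, 1, 29, 5, 5, 5, 28, 28, 5, 31, 28, 31, 1, 28, 28, 28, 28] .fail)))), (2, .fail), (1, (.step [30, 1, 28, 28, 31, 1, 28, 28] (.step [28, 30, 28, 5, 30, 1, 30, 5, 1, 31, 31, 28, 28, 1, 31] (.step [28, 31, 31, 29, 31, 29, 5, 29, 5, 30, 30, 30, 30, 31, 31, 1, 30, 28, 1, 1, 28, 1, 30, 28, 28] .fail)))), (1, (.step [1, 31, 5, 28, 30, 28, 30, 30, 29] (.step [5, 31, 31, 1, 1, 30, 5, 5, 5, 5, 30, 30] .fail))), (1, .fail), (1, (.step [5, 31, 31, 1, 1, 28, 5, 31, 5] .fail)), (1, (.step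 [31, 29, 29, 5, 30, 29, 29, 5] .fail)), (7, .fail), (1, (.step [30, 30, 5, 29, 29, 30, 30, 5] .fail)), (1, (.step [31, 29, 5, 30, 1, 30, 30, 28, 1] (.step [28, 28, 30, 30, 30, 30, 29, 29, 29, 1, 31, 31, 31] (.step [5, 30, 30, 29, 30, 1, 30, 30, 5, 28, 5, 5, 5, 5, 31, 5, 5, 29, 31, 29, 29] .fail)))), (1, (.step [29, 1, 1, 30, 5, 29, 31, 1] (.step [1, 1, 28, 30, 5, 31, 5, 30, 1, 29, 5, 31, 28, 28] .fail))), (1, .fail), (1, (.step [31, 31, 29, 5, 31, 28, 28] (.step [1, 1, 28, 30, 30, 30, 30, 30, 1, 1, 28, 28, 29, 30] (.step [5, 31, 28, 1, 1, 1, 28, 30, 30, 29, 29, 5, 31, 28, 28, 31, 1, 30, 30, 5, 30, 28, 30, 29, 5, 1, 1, 29, 31] .fail)))), (1, (.step [28, 31, 1, 29, 5, 5, 5, 28] (.step [5, 31, 28, 31, 5, 1, 5, 31, 29, 5, 28, 31, 31, 31] (.step [5, 5, 29, 5, 29, 30, 28, 5, 29, 1, 31, 31, 28, 28, 1, 30, 28, 1, 30, 5, 28, 5, 5, 5, 5]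 (.step [1, 5, 30, 28, 1, 1, 31, 29, 31, 29, 1, 31, 31, 28, 28, 1, 30, 31, 31, 5, 29, 1, 1, 1, 1, 31, 28] (.done [1, 1, 1, 1, 1, 1, 1, 1, 1, 25, 20, 21, 20, 12, 18, 22, 3, 7, 15, 5, 7, 1, 9, 4, 7, 0, 0, 14, 24, 2, 17, 15, 9, 6, 25])))))), (1, (.step [29, 1, 1, 1, 28, 5, 30, 29] .fail)), (1, .fail), (1, (.step [29, 5, 31, 28, 28, 30] .fail)), (8, .fail), (1, (.step [29, 31, 31, 5, 5, 31, 31, 28, 5] .fail)), (1, .fail), (1, (.step [1, 1, 29, 5, 28, 30, 5, 28, 1] (.step [30, 28, 5, 5, 1, 28, 31, 29, 31, 1, 31, 31, 5] (.step [31, 29, 1, 28, 30, 29, 31, 1, 1, 28, 5, 28, 28, 28, 5, 29, 1] .fail)))), (1, (.step [5, 31, 1, 31, 29, 30, 28, 30, 1] .fail)), (8, .fail), (1, (.step [30, 30, 30, 30, 30] .fail)), (1, (.step [1, 31, 5, 28, 30, 28, 30, 30, 29] .fail)), (2, .fail), (1, (.step [29, 31, 1, 28, 5, 30, 1] .fail)), (17, .fail), (1, (.step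 [1, 29, 30, 30, 28, 31, 28, 30, 28] .fail)), (8, .fail), (1, (.step [5, 28, 31, 5, 28, 1, 28, 28, 5] (.step [5, 30, 30, 5, 30, 30, 29, 1, 28, 30, 28, 30, 5, 5, 29] (.step [1, 29, 30, 5, 30, 28, 31, 29, 1, 1, 28, 28, 28, 30, 28, 28, 31, 5, 30, 1, 1, 28, 28, 1, 29, 31, 29, 31, 28] .fail)))), (1, (.step [30, 28, 30, 5, 5, 29, 31, 29] (.step [29, 29, 29, 29, 5, 31, 29, 30, 1, 29, 29, 5, 31, 28, 28, 30] .fail))), (1, (.step [30, 1, 1, 30, 1, 1, 30, 28, 5] (.step [29, 29, 29, 1, 30, 1, 1, 31, 1, 28, 30, 29, 29, 29, 5, 28] .fail))), (2, .fail), (1, (.step [29, 29, 5, 31, 5, 28, 5, 28] (.step [5, 31, 28, 5, 31, 28, 31, 31, 29, 5, 30, 30] (.step [1, 29, 29, 1, 1, 28, 31, 31, 1, 1, 29, 1, 31, 31, 28, 1, 1, 1, 28, 1, 30, 5, 28, 5, 5, 5, 5] .fail)))), (4, .fail), (1, (.step [1, 31, 29, 31, 31, 31, 1, 1, 29] .fail)), (1, .fail), (1, (.step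 [31, 31, 5, 29, 29, 30, 30, 5] .fail)), (1, .fail), (1, (.step [30, 28, 28, 28, 5, 29, 1] (.step [1, 1, 28, 30, 5, 31, 5, 30, 1, 29, 5, 31, 28, 28] (.step [29, 29, 31, 30, 29, 30, 29, 30, 5, 29, 31, 5, 31, 31, 5, 29, 1, 1, 1, 1, 31, 28] .fail)))), (1, .fail), (1, (.step [29, 31, 1, 28, 5, 30, 1] .fail)), (1, .fail), (1, (.step [1, 29, 30, 28, 5, 31, 1, 29, 5] .fail)), (1, (.step [1, 28, 28, 1, 30, 30, 1] .fail)), (2, .fail), (1, (.step [29, 29, 5, 30, 29, 29, 5] .fail)), (4, .fail), (1, (.step [1, 29, 29, 29, 5, 31, 28] .fail)), (5, .fail), (1, (.step [29, 1, 1, 28, 28, 28, 5, 28] (.step [30, 5, 29, 31, 28, 30, 29, 29, 5, 29, 29, 30, 1, 28] (.step [1, 29, 31, 29, 5, 28, 5, 29, 5, 5, 5, 31, 28, 30, 29, 30, 28, 1, 30, 30, 30, 29, 1, 30, 5, 30, 30, 1] .fail)))), (3, .fail), (1, (.step [5, 5, 29, 30, 29, 5, 29, 29] .fail)), (5, .fail),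 (1, (.step [29, 5, 30, 1, 29, 31, 5, 29] (.step [1, 1, 1, 1, 29, 1, 31, 5, 29] (.step [5, 31, 28, 1, 1, 1, 28, 30, 30, 29, 29, 5, 31, 28, 28, 31, 1, 30, 30, 5, 30, 28, 30, 29, 5, 1, 1, 29, 31] .fail)))), (1, .fail), (1, (.step [5, 5, 30, 5, 28, 5, 29, 29] (.step [28, 5, 5, 29, 30, 30, 1, 30, 1, 30, 30] (.step [1, 1, 28, 30, 29, 29, 1, 31, 28, 1, 30, 28, 31, 31, 30, 28, 5, 31, 29, 31, 5, 31, 29, 29, 5] .fail)))), (1, (.step [5, 31, 1, 31, 31, 5, 30, 1] (.step [1, 1, 1, 1, 29, 1, 31, 5, 29] (.step [1, 1, 28, 5, 1, 31, 29, 1, 1, 28, 5, 28, 1, 29, 30, 29, 30, 28, 28, 1, 1, 28, 28, 1, 29, 31, 29, 31, 28] .fail)))), (4, .fail), (1, (.step [31, 5, 29, 29, 30, 30, 5] (.step [30, 30, 29, 29, 5, 29, 30, 28, 1, 29, 29, 30, 1, 28] (.step [28, 1, 30, 28, 1, 30, 5, 29, 29, 31, 29, 29, 30, 1, 28, 31, 31, 31, 1, 30, 1, 28, 1, 29, 29, 5, 28] (.step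 [1, 5, 30, 28, 1, 1, 31, 29, 31, 29, 1, 31, 31, 28, 28, 1, 30, 31, 31, 5, 29, 1, 1, 1, 1, 31, 28] (.done [1, 1, 1, 25, 20, 21, 20, 12, 18, 22, 3, 7, 15, 5, 7, 1, 9, 4, 7, 0, 0, 14, 24, 2, 17, 15, 9, 6, 25])))))), (10, .fail), (1, (.step [5, 30, 29, 5, 31, 1, 29, 1] (.step [29, 31, 31, 1, 28, 5, 28, 28, 30, 30, 30] .fail))), (1, (.step [29, 31, 5, 28, 28, 30, 28] .fail)), (4, .fail), (1, (.step [31, 28, 29] .fail)), (2, .fail), (1, (.step [29, 29, 5, 30, 29, 29, 5] (.step [30, 29, 30, 30, 28, 1, 30, 29, 5, 5, 28, 31, 31] .fail))), (4, .fail), (1, (.step [28, 5, 31, 1, 31, 29, 5, 29] (.step [29, 30, 29, 31, 5, 31, 28, 5, 31, 31, 30] (.step [5, 31, 29, 30, 5, 29, 5, 5, 28, 29, 1, 28, 5, 28, 31, 31, 28, 31, 30, 30, 1, 29, 30, 1, 30, 28, 31, 28] .fail)))), (2, .fail), (1, (.step [31, 1, 1, 1, 30, 30, 29, 5] .fail)), (1, (.step [29,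 1, 30, 30, 29, 31, 5, 30, 29] .fail)), (1, .fail), (1, (.step [28, 1, 30, 28, 31, 5, 28, 31, 29] .fail)), (1, (.step [28, 1, 29, 5, 29, 5, 31, 31, 5] .fail)), (1, .fail), (1, (.step [31, 29, 29, 29, 31, 29, 31, 1] .fail)), (1, (.step [31, 1, 31, 31, 1, 30, 1, 29] .fail)), (9, .fail), (1, (.step [29, 5, 30, 29, 1, 28, 30, 1] (.step [29, 30, 29, 31, 5, 31, 28, 5, 31, 31, 30] (.step [30, 30, 1, 1, 29, 5, 30, 29, 1, 31, 1, 5, 5, 31, 1, 31, 5, 28, 5, 29] .fail)))), (1, (.step [1, 30, 29, 29, 31, 29, 29] .fail)), (1, .fail), (1, (.step [29, 29, 30, 1, 29, 30, 1, 28] .fail)), (1, .fail), (1, (.step [5, 31, 28, 31, 31, 28, 30, 29] .fail)), (4, .fail), (1, (.step [1, 29, 1, 1, 28, 30, 28, 1, 29] .fail)), (1, .fail), (1, (.step [28, 1, 29, 29, 5, 28, 30, 1] (.step [29, 1, 31, 31, 28, 1, 1, 1, 5, 28, 5, 30, 28, 1, 1] (.step [5, 5, 5, 29,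 1, 30, 29, 5, 5, 30, 1, 31, 31, 1, 30, 30, 5, 30, 28, 30, 29, 5, 1, 1, 29, 31] .fail)))), (1, (.step [29, 30, 5, 29, 5, 5, 29] (.step [30, 29, 31, 5, 31, 5, 31, 5, 5, 28, 5, 5, 31, 31] (.step [29, 5, 5, 31, 5, 31, 1, 31, 1, 28, 31, 1, 29, 5, 5, 5, 28, 28, 5, 31, 28, 31, 1, 28, 28, 28, 28] .fail)))), (1, (.step [29, 29, 30, 1, 29, 30, 1, 28] .fail)), (1, (.step [5, 28, 5, 30, 28, 1, 1] (.step [30, 1, 30, 30, 30, 30, 1, 31, 1, 29, 5, 31, 28, 28] (.step [29, 28, 1, 1, 28, 28, 28, 31, 31, 29, 1, 30, 29, 1, 1, 30, 1, 31, 31, 31, 29, 29, 1, 29, 5, 30, 30, 28] .fail)))), (1, .fail), (1, (.step [30, 1, 29, 5, 30, 30, 30, 29] .fail)), (1, (.step [30, 29, 29, 5, 30, 29, 29, 5] .fail)), (4, .fail), (1, (.step [31, 28, 30, 29, 29, 29, 5, 28] (.step [30, 28, 31, 31, 31, 1, 28, 5, 1, 1, 29, 1, 31, 1, 1, 28] .fail))), (2, .fail), (1, (.step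 [30, 1, 30, 5, 5, 5, 31, 1] .fail)), (1, .fail), (1, (.step [30, 5, 28, 5, 30, 28, 1, 1] (.step [28, 31, 29, 1, 28, 1, 28, 1, 30, 1, 30, 30, 30] (.step [31, 29, 1, 29, 31, 28, 5, 31, 28, 28, 5, 1, 31, 31, 28, 28, 1, 5, 29, 30, 1, 30, 28, 31, 29] .fail)))), (1, (.step [28, 31, 31, 31, 1, 28, 5] (.step [30, 29, 30, 5, 29, 5, 5, 29, 1, 28, 1, 1, 30, 5] (.step [5, 30, 30, 29, 30, 1, 30, 30, 5, 28, 5, 5, 5, 5, 31, 5, 5, 29, 31, 29, 29] .fail)))), (1, .fail)])), (631, (.badPow 23 1)), (1, (Cert.rl [(2, .fail), (1, (.step [5, 5, 31, 28, 30, 29, 30, 28] .fail)), (1, .fail), (1, (.step [29, 5, 30, 5, 5, 31, 29, 30, 29] .fail)), (5, .fail), (1, (.step [30, 30, 30] (.step [31, 1, 31, 31, 5, 29, 30, 29, 31, 31, 5] (.step [5, 31, 29, 30, 5, 29, 5, 5, 28, 29, 1, 28, 5, 28, 31, 31, 28, 31, 30, 30, 1, 29, 30, 1, 30, 28, 31, 28] .fail)))), (2,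 .fail), (1, (.step [31, 1, 29, 5, 30, 30, 30, 29] .fail)), (3, .fail), (1, (.step [31, 31, 5, 29, 29, 30, 30, 5] (.step [30, 29, 30, 30, 28, 1, 30, 29, 5, 5, 28, 31, 31] (.step [1, 29, 30, 5, 30, 28, 31, 29, 1, 1, 28, 28, 28, 30, 28, 28, 31, 5, 30, 1, 1, 28, 28, 1, 29, 31, 29, 31, 28] .fail)))), (1, (.step [5, 30, 1, 31, 29, 31, 28, 28, 5] .fail)), (5, .fail), (1, (.step [29, 29, 5, 28, 31, 1, 28, 1, 28] (.step [1, 28, 1, 28, 31, 31, 31, 5, 5, 31, 31] (.step [1, 30, 29, 30, 1, 31, 5, 1, 1, 31, 5, 28, 28, 31, 1, 30, 1, 30, 29] (.step [28, 1, 29, 30, 29, 1, 5, 30, 28, 28, 1, 29, 5, 30, 30, 30, 29, 1, 30, 30, 5, 30, 28, 30, 29, 5, 1, 1, 29, 31, 30, 28, 5, 5, 1, 28, 31, 29, 31, 1, 31, 31, 5, 30, 30, 5, 31, 1, 1, 28, 31, 5, 28, 1, 1, 1] (.badAt 0)))))), (1, .fail), (1, (.step [28, 31, 29, 29, 31, 29, 31, 31, 28] .fail)), (1, (.step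 [5, 31, 31, 1, 1, 28, 5, 31, 5] .fail)), (1, (.step [5, 5, 5, 5, 30, 28, 1, 1, 29] .fail)), (4, .fail), (1, (.step [30, 28, 30, 5, 5, 30, 5, 5, 29] .fail)), (1, (.step [1, 29, 1, 1, 28, 30, 28, 1, 29] .fail)), (1, .fail), (1, (.step [31, 31, 31, 31] .fail)), (1, (.step [29, 1, 30, 30, 30, 30, 28, 5] .fail)), (1, (.step [5, 29, 31, 31, 29, 31, 5, 29] (.step [] (.step [31, 29, 5, 30, 5, 5, 31, 29, 30, 29, 5, 5, 5, 5, 30, 28, 1, 1, 29] .fail)))), (1, (.step [5, 30, 29, 1, 29, 1, 28, 28, 28] .fail)), (2, .fail), (1, (.step [30, 29, 31, 1, 28, 5, 30, 1] .fail)), (2, .fail), (1, (.step [30, 1, 30, 29, 29, 31, 29, 29] .fail)), (1, (.step [1, 31, 28, 31, 28, 30, 5, 5, 5] .fail)), (4, .fail), (1, (.step [1, 1, 30, 30, 30, 29, 5, 29, 5] (.step [29, 29, 31, 1, 29, 1, 1, 29, 31, 5, 30, 30, 30] (.step [31, 28, 30, 29, 29, 30, 1, 29, 1, 28,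 5, 29, 5, 28, 30, 28, 30, 5, 5, 29] .fail)))), (1, (.step [29, 1, 1, 1, 28, 5, 30, 29] (.step [5, 29, 29, 5, 31, 1, 28, 31, 1, 31, 29] (.step [30, 1, 28, 5, 30, 1, 29, 31, 28, 5, 29, 5, 28, 5, 29, 5, 30, 1, 1, 1, 1, 1, 29, 1, 31, 5, 29] (.step [1, 5, 30, 28, 1, 1, 31, 29, 31, 29, 1, 31, 31, 28, 28, 1, 30, 31, 31, 5, 29, 1, 1, 1, 1, 31, 28] (.badAt 0)))))), (6, .fail), (1, (.step [30, 5, 30, 1, 1, 1, 31, 5] .fail)), (2, .fail), (1, (.step [31, 1, 1, 28, 5, 30, 29, 5] .fail)), (1, .fail), (1, (.step [5, 5, 29, 1, 28, 31, 1] (.step [1, 1, 1, 1, 29, 1, 31, 5, 29] (.step [28, 31, 28, 30, 30, 28, 31, 5, 29, 1, 31, 5, 5, 28, 30, 5, 29, 1, 31, 29] (.step [28, 1, 29, 30, 29, 1, 5, 30, 28, 28, 1, 29, 5, 30, 30, 30, 29, 1, 30, 30, 5, 30, 28, 30, 29, 5, 1, 1, 29, 31, 30, 28, 5, 5, 1, 28, 31, 29, 31, 1, 31, 31, 5, 30, 30, 5, 31, 1, 1, 28,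 31, 5, 28, 1, 1, 1] (.badAt 0)))))), (1, (.step [31, 5, 31, 1, 29, 29, 29, 30, 28] (.step [28, 31, 29, 1, 28, 1, 28, 1, 30, 1, 30, 30, 30] (.step [5, 29, 31, 31, 1, 1, 29, 31, 29, 1, 31, 31, 31, 31, 31, 31, 31, 1, 28, 30, 30, 29, 30, 1, 29, 30, 1] .fail)))), (1, (.step [29, 29, 29, 31, 29, 31, 1] (.step [31, 31, 31, 28, 30, 28, 5, 30, 5, 29, 5, 31, 31, 30] .fail))), (1, (.step [1, 31, 31, 31, 1, 1, 30, 29, 29] (.step [29, 29, 1, 30, 30, 30, 29, 29, 31, 5, 28, 28, 28, 31, 29, 29, 5] (.step [5, 5, 28, 31, 31, 29, 30, 29, 1, 29, 31, 29, 29, 1, 30, 28] .fail)))), (1, (.step [28, 30, 5, 5, 30, 5, 5, 29] .fail)), (1, .fail), (1, (.step [5, 29, 1, 28, 5, 31, 29, 31, 1] .fail)), (4, .fail), (1, (.step [31, 5, 29, 29, 1, 30, 1, 29] .fail)), (2, .fail), (1, (.step [1, 31, 31, 28, 28, 1] (.step [31, 28, 30, 28, 31, 31, 1, 29, 5, 29, 1, 28,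 1, 1, 30, 5] (.step [31, 28, 30, 29, 29, 30, 1, 29, 1, 28, 5, 29, 5, 28, 30, 28, 30, 5, 5, 29] .fail)))), (1, (.step [5, 28, 1, 30, 28, 30, 5, 5, 5] .fail)), (1, (.step [31, 31, 29, 29, 30, 1, 28] .fail)), (1, (.step [28, 30, 5, 28, 5, 30, 5, 5, 28] .fail)), (3, .fail), (1, (.step [1, 1, 29, 29, 29, 30, 5, 29, 5] (.step [1, 30, 30, 29, 30, 5, 28, 30, 29] .fail))), (1, .fail), (1, (.step [31, 29, 31, 5, 30, 28, 28, 5, 29] (.step [28, 1, 5, 31, 29, 1, 31, 28, 31, 31, 5] (.step [5, 28, 28, 30, 5, 31, 5, 5, 28, 5, 28, 1, 30, 1, 30, 1, 29, 29, 31] .fail)))), (1, (.step [5, 29, 31, 28, 1, 28, 28] (.step [29, 31, 1, 30, 1, 1, 28, 29, 1, 31, 5, 29, 31, 31, 30] (.step [1, 29, 31, 29, 5, 28, 5, 29, 5, 5, 5, 31, 28, 30, 29, 30, 28, 1, 30, 30, 30, 29, 1, 30, 5, 30, 30, 1] .fail)))), (1, (.step [29, 31, 28, 31, 29, 30, 1, 1] .fail)), (4, .fail),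 (1, (.step [28, 1, 29, 5, 29, 5, 31, 31, 5] .fail)), (1, .fail), (1, (.step [5, 5, 5, 29, 30, 30, 5, 28] (.step [29, 30, 1, 1, 29, 31, 31, 5, 31, 5, 28, 28, 28, 5, 29, 1] (.step [28, 31, 5, 5, 29, 5, 30, 1, 30, 5, 29, 5, 1, 1, 28, 28, 1, 29, 31, 29, 31, 28] .fail)))), (1, .fail), (1, (.step [28, 30, 5, 5, 30, 5, 5, 29] (.step [1, 29, 31, 5, 5, 31, 5, 5, 5, 5, 5, 30, 5, 5, 29, 29] (.step [1, 30, 30, 1, 28, 1, 28, 5, 29, 5, 5, 5, 28, 5, 28, 28, 5, 28, 29, 31, 29, 30, 30, 1, 29, 31, 31, 28] .fail)))), (6, .fail), (1, (.step [5, 30, 1, 31, 29, 31, 28, 28, 5] (.step [28, 5, 5, 30, 30, 30, 28, 30, 5, 1, 28, 5, 31, 5, 5, 29] (.step [5, 29, 31, 31, 1, 1, 29, 31, 29, 1, 31, 31, 31, 31, 31, 31, 31, 1, 28, 30, 30, 29, 30, 1, 29, 30, 1] (.step [] (.badAt 0)))))), (3, .fail), (1, (.step [5, 5, 5, 30, 29, 30, 29, 5, 28] .fail)), (1, .fail),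 (1, (.step [28, 28, 1, 1, 31, 1, 1, 1] .fail)), (1, (.step [28, 1, 28, 30, 5, 30, 1, 29] .fail)), (1, .fail), (1, (.step [31, 28, 29] .fail)), (3, .fail), (1, (.step [29, 1, 29, 29, 1, 29, 1, 1, 1] .fail)), (1, (.step [1, 28, 5, 31, 5, 5, 29] .fail)), (1, (.step [31, 31, 5, 29, 29, 30, 30, 5] .fail)), (6, .fail), (1, (.step [28, 1, 1, 31, 29, 31, 29] .fail)), (6, .fail), (1, (.step [29, 29, 5, 31, 5, 28, 5, 28] .fail)), (1, (.step [29, 29, 30, 1, 29, 30, 1, 28] .fail)), (3, .fail), (1, (.step [1, 29, 1, 1, 28, 30, 28, 1, 29] (.step [5, 30, 28, 28, 28, 31, 1, 1, 1, 28, 5, 31, 31, 30] (.step [28, 5, 31, 5, 31, 1, 1, 30, 29, 29, 28, 30, 29, 29, 29, 5, 28] .fail)))), (3, .fail), (1, (.step [29, 5, 30, 5, 5, 31, 29, 30, 29] .fail)), (1, .fail), (1, (.step [29, 5, 30, 29, 1, 28, 30, 1] (.step [30, 1, 29, 1, 29, 31, 5, 5, 31, 5, 29,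 31, 31] .fail))), (1, .fail), (1, (.step [] .fail)), (2, .fail), (1, (.step [5, 31, 31, 5, 29, 29, 5] .fail)), (1, (.step [5, 5, 5, 5, 30, 28, 1, 1, 29] .fail)), (1, .fail), (1, (.step [28, 1, 31, 5, 30, 30, 1, 1] (.step [1, 1, 30, 1, 31, 1, 31, 31, 29, 1, 28, 31, 31] (.step [1, 30, 30, 1, 28, 1, 28, 5, 29, 5, 5, 5, 28, 5, 28, 28, 5, 28, 29, 31, 29, 30, 30, 1, 29, 31, 31, 28] .fail)))), (3, .fail), (1, (.step [29, 1, 28, 28, 28, 31, 29] .fail)), (1, .fail), (1, (.step [31, 31, 29, 29, 30, 1, 28] .fail)), (1, .fail), (1, (.step [29, 29, 5, 28, 31, 1, 28, 1, 28] (.step [30, 28, 30, 28, 30, 1, 5, 5, 5, 29, 28, 29, 30] .fail))), (3, .fail), (1, (.step [1, 31, 31, 28, 28, 1] .fail)), (1, .fail), (1, (.step [1, 29, 1, 1, 28, 30, 28, 1, 29] .fail)), (1, (.step [29, 31, 28, 5, 28, 31, 28, 1, 29] .fail)), (1, .fail), (1, (.step [31, 5,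 28, 1, 29, 29, 29] (.step [29, 29, 1, 30, 30, 30, 29, 29, 31, 5, 28, 28, 28, 31, 29, 29, 5] (.step [28, 31, 5, 5, 29, 5, 30, 1, 30, 5, 29, 5, 1, 1, 28, 28, 1, 29, 31, 29, 31, 28] .fail)))), (1, .fail), (1, (.step [29, 5, 30, 1, 29, 31, 5, 29] .fail)), (1, .fail), (1, (.step [31, 1, 30, 29, 29, 31, 29, 29] .fail)), (15, .fail), (1, (.step [30, 1, 30, 29, 29, 31, 29, 29] .fail)), (1, .fail), (1, (.step [29, 1, 30, 30, 29, 31, 5, 30, 29] .fail)), (2, .fail), (1, (.step [31, 28, 31, 31, 31, 1, 28, 5] (.step [31, 29, 5, 5, 30, 30, 30, 30, 30, 29, 5, 5] (.step [29, 28, 1, 1, 28, 28, 28, 31, 31, 29, 1, 30, 29, 1, 1, 30, 1, 31, 31, 31, 29, 29, 1, 29, 5, 30, 30, 28] .fail)))), (1, (.step [28, 1, 1, 30, 1, 29, 5] (.step [30, 1, 1, 28, 30, 5, 31, 5, 30, 1, 28, 29, 30] (.step [5, 30, 29, 1, 28, 30, 5, 30, 30, 29, 1, 29, 5, 31, 5, 30, 30,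 5, 31, 28, 29, 29, 5, 30, 30, 29, 29, 29] .fail)))), (1, (.step [1, 28, 31, 1, 29, 5, 5] (.step [29, 1, 31, 29, 30, 5, 29, 1, 29, 1, 31, 31, 31] (.step [5, 5, 31, 31, 31, 31, 29, 5, 29, 5, 28, 31, 29, 31, 5, 1, 30, 30, 29, 30, 5, 28, 30, 1, 5, 29] .fail)))), (1, .fail), (1, (.step [28, 31, 5, 29, 5, 28, 31, 1] (.step [5, 28, 5, 31, 28, 30, 1, 29, 5, 29, 29, 29, 30, 1, 28] (.step [29, 29, 5, 31, 31, 1, 30, 29, 5, 1, 31, 31, 1, 30, 1, 29, 31, 31, 31, 31, 1, 28, 1, 1, 30, 5, 30] .fail)))), (2, .fail), (1, (.step [5, 29, 29, 1, 30, 1, 29] (.step [1, 30, 30, 29, 30, 5, 28, 30, 29] .fail))), (2, .fail), (1, (.step [31, 31, 28, 28, 28, 5, 29, 1] (.step [31, 28, 1, 1, 31, 29, 31, 29, 31, 31, 30] (.step [28, 30, 29, 29, 28, 5, 29, 5, 31, 5, 5, 5, 5, 28, 31, 28, 30, 1, 1, 1, 29, 1, 29, 1, 31, 28, 30, 28, 1] .fail)))), (1, (.step [1, 28,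 28, 31, 1, 28, 28] (.step [5, 31, 31, 1, 1, 30, 5, 5, 5, 5, 30, 30] .fail))), (1, .fail), (1, (.step [31, 28, 29] .fail)), (2, .fail), (1, (.step [29, 5, 28, 1, 31, 1, 30, 29, 29] .fail)), (2, .fail), (1, (.step [1, 1, 1, 30, 30, 29, 5] .fail)), (1, (.step [5, 5, 28, 5, 30, 29, 5, 29, 1] (.step [30, 29, 5, 5, 30, 5, 28, 5, 5, 1, 28, 28, 30, 5, 29, 1] .fail))), (1, .fail), (1, (.step [1, 31, 5, 5, 29, 5, 31] .fail)), (6, .fail), (1, (.step [31, 30, 30] .fail)), (1, .fail), (1, (.step [1, 31, 31, 28, 28, 1] (.step [30, 29, 31, 5, 31, 5, 31, 5, 5, 28, 5, 5, 31, 31] .fail))), (1, .fail), (1, (.step [29, 1, 29, 30, 1, 29, 30, 28] (.step [5, 28, 28, 28, 5, 28, 31, 28, 31, 1, 30, 30] .fail))), (3, .fail), (1, (.step [29, 5, 5, 30, 5, 28, 5, 5] (.step [29, 5, 29, 31, 1, 1, 31, 31, 5, 5, 29, 29, 30, 1, 28] (.step [31, 29, 5, 30, 5, 5,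 31, 29, 30, 29, 5, 5, 5, 5, 30, 28, 1, 1, 29] (.step [] (.badAt 0)))))), (1, (.step [28, 30, 28, 30, 30, 1, 29, 5] (.step [28, 5, 5, 1, 29, 31, 29, 31, 28, 31, 1, 29, 31, 31, 30] (.step [5, 31, 28, 1, 1, 1, 28, 30, 30, 29, 29, 5, 31, 28, 28, 31, 1, 30, 30, 5, 30, 28, 30, 29, 5, 1, 1, 29, 31] .fail)))), (1, (.step [30, 29, 29, 30, 1, 28] .fail)), (3, .fail), (1, (.step [29, 29, 29, 31, 29, 31, 1] .fail)), (1, (.step [30, 30, 5, 29, 29, 30, 30, 5] (.step [29, 31, 1, 30, 1, 1, 28, 29, 1, 31, 5, 29, 31, 31, 30] (.step [5, 28, 28, 30, 28, 31, 28, 31, 1, 29, 5, 31, 28, 28, 30, 30, 31, 30, 30, 1, 29, 30, 1, 30, 28, 31, 28] .fail)))), (1, .fail), (1, (.step [1, 29, 5, 30, 30, 30, 29] (.step [28, 1, 1, 29, 30, 5, 5, 5, 29, 28, 29, 30] (.step [5, 30, 29, 30, 30, 1, 1, 28, 28, 28, 29, 29, 30, 1, 28, 31, 31, 31, 31, 31, 1, 28, 1, 1, 30, 5,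 30] .fail)))), (3, .fail), (1, (.step [29, 30, 1, 1, 1, 28, 30, 1] (.step [31, 1, 31, 5, 5, 29, 5, 30, 30, 30, 30] .fail))), (1, .fail), (1, (.step [29, 30, 30, 29, 1, 29, 5, 28] .fail)), (2, .fail), (1, (.step [28, 30, 5, 28, 1, 31, 29, 1] .fail)), (1, (.step [1, 28, 28, 1, 30, 30, 1] (.step [30, 29, 30, 5, 29, 5, 5, 29, 1, 28, 1, 1, 30, 5] (.step [5, 30, 29, 1, 28, 30, 5, 30, 30, 29, 1, 29, 5, 31, 5, 30, 30, 5, 31, 28, 29, 29, 5, 30, 30, 29, 29, 29] .fail)))), (4, .fail), (1, (.step [31, 28, 30, 29, 29, 29, 5, 28] .fail)), (1, .fail), (1, (.step [28, 5, 5, 28, 28, 1, 29, 5] (.step [30, 30, 29, 29, 5, 29, 30, 28, 1, 29, 29, 30, 1, 28] (.step [28, 30, 30, 29, 5, 30, 5, 29, 28, 31, 29, 30, 30, 29, 30, 1, 31, 31, 5, 31, 5, 31, 31, 28, 1, 1, 29] .fail)))), (2, .fail), (1, (.step [1, 30, 29, 29, 31, 29, 29] .fail)), (1, (.step [28,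 28, 1, 29, 1, 31, 1, 1] (.step [28, 5, 28, 28, 1, 29, 29, 30, 5, 29, 31, 31, 31] (.step [5, 31, 29, 30, 5, 29, 5, 5, 28, 29, 1, 28, 5, 28, 31, 31, 28, 31, 30, 30, 1, 29, 30, 1, 30, 28, 31, 28] .fail)))), (1, .fail), (1, (.step [29, 1, 29, 1, 30, 1, 28, 28] .fail)), (1, (.step [5, 30, 30, 30, 30, 28, 30, 29] (.step [5, 30, 30, 5, 30, 30, 29, 1, 28, 30, 28, 30, 5, 5, 29] (.step [28, 31, 5, 5, 29, 5, 30, 1, 30, 5, 29, 5, 1, 1, 28, 28, 1, 29, 31, 29, 31, 28] .fail)))), (1, (.step [5, 31, 29, 30, 5, 28, 28, 5, 28] .fail)), (1, (.step [29, 30, 5, 5, 31, 28, 1, 31, 29] .fail)), (2, .fail), (1, (.step [5, 28, 1, 31, 1, 30, 30, 1] .fail)), (2, .fail), (1, (.step [1, 31, 5, 29, 29, 29, 1, 29] (.step [5, 31, 28, 31, 5, 1, 5, 31, 29, 5, 28, 31, 31, 31] (.step [31, 29, 5, 30, 5, 5, 31, 29, 30, 29, 5, 5, 5, 5, 30, 28, 1, 1, 29] .fail)))), (5,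 .fail), (1, (.step [5, 5, 5, 29, 31, 29, 30, 30, 28] (.step [31, 31, 31, 28, 30, 28, 5, 30, 5, 29, 5, 31, 31, 30] .fail))), (1, (.step [29, 29, 30, 28, 31, 29, 31, 5] (.step [5, 31, 28, 5, 31, 28, 31, 31, 29, 5, 30, 30] .fail))), (1, (.step [31, 29, 5, 31, 28, 28] (.step [29, 30, 29, 1, 29, 29, 5, 29, 1, 31, 31, 30] (.step [30, 1, 30, 30, 30, 1, 29, 31, 5, 28, 5, 1, 29, 5, 30, 30, 30, 29, 28, 1, 30, 5, 28, 5, 5, 5, 5] .fail)))), (2, .fail), (1, (.step [30, 28, 30, 5, 5, 29, 31, 29] .fail)), (1, .fail), (1, (.step [28, 31, 5, 29, 5, 28, 31, 1] .fail)), (1, .fail), (1, (.step [1, 28, 30, 30, 30, 30, 1, 1] .fail)), (3, .fail), (1, (.step [31, 29, 31, 28, 30, 30, 30, 28] (.step [30, 1, 30, 5, 31, 28, 31, 29, 29, 29, 5, 31, 31, 31, 31] (.step [29, 1, 30, 30, 30, 5, 5, 31, 5, 5, 5, 29, 31, 31, 5, 31, 1, 28, 30] (.step [1, 5, 30, 28,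 1, 1, 31, 29, 31, 29, 1, 31, 31, 28, 28, 1, 30, 31, 31, 5, 29, 1, 1, 1, 1, 31, 28] (.badAt 0)))))), (2, .fail), (1, (.step [1, 29, 30, 30, 28, 31, 28, 30, 28] (.step [5, 28, 30, 29, 30, 5, 30, 28, 31, 5, 31, 29] (.step [29, 29, 5, 31, 31, 1, 30, 29, 5, 1, 31, 31, 1, 30, 1, 29, 31, 31, 31, 31, 1, 28, 1, 1, 30, 5, 30] .fail)))), (1, (.step [1, 30, 29, 5, 29, 5, 30, 28, 5] (.step [30, 29, 5, 5, 30, 5, 28, 5, 5, 1, 28, 28, 30, 5, 29, 1] (.step [1, 1, 28, 5, 1, 31, 29, 1, 1, 28, 5, 28, 1, 29, 30, 29, 30, 28, 28, 1, 1, 28, 28, 1, 29, 31, 29, 31, 28] .fail)))), (3, .fail), (1, (.step [1, 31, 1, 30, 30, 5, 5] .fail)), (5, .fail), (1, (.step [1, 1, 31, 1, 30, 30, 5, 28] .fail)), (1, (.step [5, 29, 1, 28, 5, 28, 28, 28] .fail)), (1, .fail), (1, (.step [30, 30, 5, 29, 29, 30, 30, 5] .fail)), (9, .fail), (1, (.step [5, 28, 31, 5, 28, 1, 28,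 28, 5] (.step [5, 29, 5, 5, 5, 5, 28, 30, 1, 31, 31, 31] (.step [29, 29, 31, 30, 29, 30, 29, 30, 5, 29, 31, 5, 31, 31, 5, 29, 1, 1, 1, 1, 31, 28] .fail)))), (4, .fail), (1, (.step [31, 31] (.step [29, 5, 29, 1, 1, 29, 31, 29, 29] (.step [28, 31, 31, 29, 31, 29, 5, 29, 5, 30, 30, 30, 30, 31, 31, 1, 30, 28, 1, 1, 28, 1, 30, 28, 28] .fail)))), (1, .fail), (1, (.step [28, 28, 30, 28, 1, 1, 30, 1] .fail)), (1, .fail), (1, (.step [29, 1, 30, 1, 29, 29, 31, 28, 1] .fail)), (1, (.step [5, 28, 1, 31, 1, 30, 30, 1] .fail)), (1, .fail), (1, (.step [29, 30, 5, 5, 31, 28, 1, 31, 29] .fail)), (1, .fail), (1, (.step [31, 31, 29, 29, 30, 1, 28] (.step [31, 28, 30, 5, 30, 1, 28, 1, 31, 5, 5] (.step [1, 29, 31, 29, 5, 28, 5, 29, 5, 5, 5, 31, 28, 30, 29, 30, 28, 1, 30, 30, 30, 29, 1, 30, 5, 30, 30, 1] .fail)))), (1, (.step [1, 31, 31, 31, 1, 1,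 30, 29, 29] (.step [30, 28, 28, 1, 1, 31, 1, 1, 1, 29, 5, 31, 28, 28] .fail))), (3, .fail), (1, (.step [30, 29, 29, 29, 31, 29, 31, 1] .fail)), (5, .fail), (1, (.step [29, 5, 28, 1, 31, 1, 30, 29, 29] .fail)), (1, .fail), (1, (.step [28, 1, 29, 29, 5, 28, 30, 1] .fail)), (2, .fail), (1, (.step [31, 5, 31, 1, 29, 29, 29, 30, 28] (.step [30, 28, 5, 5, 1, 28, 31, 29, 31, 1, 31, 31, 5] .fail))), (1, (.step [1, 31, 28, 1, 28, 31, 31, 31, 29] .fail)), (1, .fail), (1, (.step [30, 29, 29, 29, 31, 29, 31, 1] .fail)), (3, .fail), (1, (.step [28, 28, 5, 31, 1, 31, 31, 1, 29] .fail)), (5, .fail), (1, (.step [28, 5, 28, 28, 28, 5, 29, 5] .fail)), (1, .fail), (1, (.step [29, 5, 31, 29, 31, 29, 31, 1] (.step [5, 31, 28, 31, 5, 1, 5, 31, 29, 5, 28, 31, 31, 31] (.step [31, 1, 31, 5, 29, 29, 29, 1, 29, 28, 29, 30, 31, 31, 31, 31, 1, 28, 1, 1, 30,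 5, 30] .fail)))), (2, .fail), (1, (.step [29, 29, 30, 1, 29, 30, 1, 28] .fail)), (2, .fail), (1, (.step [1, 29, 29, 29, 5, 31, 28] (.step [5, 30, 29, 31, 31, 1, 31, 31, 28, 1, 28, 29, 30] (.step [5, 5, 5, 29, 1, 30, 29, 5, 5, 30, 1, 31, 31, 1, 30, 30, 5, 30, 28, 30, 29, 5, 1, 1, 29, 31] (.step [] (.badAt 0)))))), (1, .fail), (1, (.step [5, 5, 28, 5, 30, 29, 5, 29, 1] .fail)), (1, (.step [1, 30, 30, 1, 1, 1, 30, 5, 28] (.step [29, 29, 31, 5, 29, 5, 5, 29, 31, 5, 30, 30] (.step [29, 29, 29, 30, 5, 31, 31, 29, 29, 29, 30, 1, 28, 30, 30, 1, 28, 30, 5, 31, 31, 1, 31, 5, 30, 29] .fail)))), (1, .fail), (1, (.step [29, 1, 1, 1, 28, 5, 30, 29] .fail)), (10, .fail), (1, (.step [31, 29, 29, 29, 31, 29, 31, 1] (.step [1, 30, 30, 29, 30, 5, 28, 30, 29] (.step [29, 29, 31, 30, 29, 30, 29, 30, 5, 29, 31, 5, 31, 31, 5, 29, 1, 1, 1, 1, 31, 28]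 .fail)))), (1, (.step [28, 1, 29, 1, 30, 5, 30, 1, 1] (.step [5, 28, 29, 28, 30, 28, 1, 1, 31, 5, 31, 5, 30, 30] (.step [5, 5, 5, 29, 1, 30, 29, 5, 5, 30, 1, 31, 31, 1, 30, 30, 5, 30, 28, 30, 29, 5, 1, 1, 29, 31] .fail)))), (1, (.step [31, 29, 31, 29, 29, 1, 30, 28] .fail)), (1, .fail), (1, (.step [29, 1, 29, 29, 29, 5, 5, 28] (.step [5, 31, 28, 31, 5, 1, 5, 31, 29, 5, 28, 31, 31, 31] .fail))), (1, .fail), (1, (.step [28, 5, 31, 1, 31, 29, 5, 29] .fail)), (1, .fail), (1, (.step [31, 1, 31, 31, 28, 28, 1] (.step [1, 1, 1, 1, 29, 1, 31, 5, 29] (.step [29, 30, 28, 1, 31, 5, 31, 1, 28, 30, 28, 30, 5, 5, 29, 1, 1, 29, 1, 30, 29, 28, 29, 30, 1, 28, 28, 1] .fail)))), (1, .fail), (1, (.step [31, 5, 29, 29, 30, 5, 5, 29, 5] (.step [29, 5, 29, 31, 1, 30, 1, 31, 1, 28, 31, 29, 29, 30, 1, 28] (.step [28, 5, 31, 5, 31, 1, 1, 30, 29, 29, 28,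 30, 29, 29, 29, 5, 28] .fail)))), (6, .fail), (1, (.step [31, 28, 28, 28, 5, 29, 1] .fail)), (1, (.step [28, 1, 29, 1, 30, 5, 30, 1, 1] .fail)), (1, (.step [5, 30, 1, 30, 5, 29, 31, 28] .fail)), (1, (.step [5, 5, 31, 29, 29, 1, 1, 30, 29] .fail)), (1, (.step [5, 31, 1, 31, 31, 5, 30, 1] (.step [30, 28, 28, 28, 31, 29, 29, 5, 1, 28, 1, 1, 30, 5] (.step [28, 1, 30, 28, 1, 30, 5, 29, 29, 31, 29, 29, 30, 1, 28, 31, 31, 31, 1, 30, 1, 28, 1, 29, 29, 5, 28] .fail)))), (1, (.step [30, 1, 31, 1, 28, 31, 31, 5, 5] .fail)), (2, .fail), (1, (.step [28, 28, 1, 1, 31, 1, 1, 1] .fail)), (1, (.step [5, 5, 28, 5, 30, 29, 5, 29, 1] .fail)), (1, (.step [1, 30, 5, 28, 1, 29, 29, 30, 29] (.step [1, 29, 31, 5, 5, 31, 5, 5, 5, 5, 5, 30, 5, 5, 29, 29] (.step [30, 30, 1, 1, 29, 5, 30, 29, 1, 31, 1, 5, 5, 31, 1, 31, 5, 28, 5, 29] .fail)))), (2, .fail),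 (1, (.step [5, 29, 1, 30, 5, 29, 1, 1] .fail)), (1, .fail), (1, (.step [5, 28, 1, 30, 28, 30, 5, 5, 5] (.step [28, 29, 5, 31, 1, 29, 30, 28, 5, 5, 31, 29, 31, 31, 31] (.step [30, 1, 28, 5, 30, 1, 29, 31, 28, 5, 29, 5, 28, 5, 29, 5, 30, 1, 1, 1, 1, 1, 29, 1, 31, 5, 29] .fail)))), (1, (.step [28, 28, 1, 1, 31, 1, 1, 1] .fail)), (1, .fail), (1, (.step [1, 1, 29, 5, 28, 30, 5, 28, 1] (.step [28, 31, 29, 5, 28, 1, 30, 31, 29, 5, 31, 5, 30, 30] (.step [31, 29, 5, 30, 5, 5, 31, 29, 30, 29, 5, 5, 5, 5, 30, 28, 1, 1, 29] .fail)))), (1, .fail), (1, (.step [29, 1, 28, 28, 28, 31, 29] (.step [1, 29, 5, 31, 28, 28, 1, 29, 5, 30, 1, 28, 29, 30] .fail))), (1, (.step [5, 28, 30, 30, 29, 1, 28, 5] .fail)), (4, .fail), (1, (.step [29, 1, 31, 5, 5, 5, 31, 31, 5] .fail)), (2, .fail), (1, (.step [28, 1, 29, 29, 5, 28, 30, 1] .fail)), (4, .fail), (1,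 (.step [1, 30, 29, 29, 31, 29, 29] .fail)), (2, .fail), (1, (.step [29, 30, 28, 31, 29, 31, 5, 28] .fail)), (1, (.step [30, 29, 29, 30, 1, 28] .fail)), (1, .fail), (1, (.step [30, 5, 31, 31, 5, 29, 29, 5] .fail)), (3, .fail), (1, (.step [29, 31, 31, 5, 5, 31, 31, 28, 5] (.step [1, 28, 5, 28, 5, 28, 28, 30, 5, 29, 29, 31, 1] (.step [31, 29, 5, 30, 5, 5, 31, 29, 30, 29, 5, 5, 5, 5, 30, 28, 1, 1, 29] .fail)))), (1, (.step [28, 31, 5, 29, 5, 28, 31, 1] (.step [5, 29, 5, 5, 5, 5, 28, 30, 1, 31, 31, 31] .fail))), (1, .fail), (1, (.step [28, 1, 29, 5, 29, 5, 31, 31, 5] (.step [28, 28, 28, 28, 5, 1, 28, 30, 28, 1, 28, 31, 31] .fail))), (5, .fail), (1, (.step [31, 29, 31, 29, 29, 1, 30, 28] (.step [1, 29, 5, 31, 28, 28, 1, 29, 5, 30, 1, 28, 29, 30] (.step [5, 30, 29, 30, 30, 1, 1, 28, 28, 28, 29, 29, 30, 1, 28, 31, 31, 31, 31, 31, 1, 28,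 1, 1, 30, 5, 30] .fail)))), (2, .fail), (1, (.step [1, 31, 28, 1, 28, 31, 31, 31, 29] .fail)), (14, .fail), (1, (.step [29, 31, 1, 31, 5, 28, 30, 1] .fail)), (4, .fail), (1, (.step [31, 29, 31, 28, 30, 30, 30, 28] (.step [29, 29, 1, 30, 28, 5, 28, 1, 29, 5, 28, 28, 29, 30] .fail))), (3, .fail), (1, (.step [28, 28, 30, 5, 28, 31, 28, 31, 28] (.step [30, 29, 31, 5, 31, 5, 31, 5, 5, 28, 5, 5, 31, 31] (.step [30, 30, 1, 1, 29, 5, 30, 29, 1, 31, 1, 5, 5, 31, 1, 31, 5, 28, 5, 29] .fail)))), (2, .fail), (1, (.step [29, 1, 30, 29, 31, 1, 1, 29] .fail)), (4, .fail), (1, (.step [30, 29, 5, 31, 28, 28] .fail)), (1, (.step [28, 5, 5, 29, 31, 1, 1, 1, 1] (.step [29, 29, 29, 1, 30, 1, 1, 31, 1, 28, 30, 29, 29, 29, 5, 28] .fail))), (1, .fail), (1, (.step [1, 28, 5, 31, 5, 5, 29] (.step [29, 5, 29, 30, 29, 5, 29, 5, 5, 5, 30, 30] (.step [] (.step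 [28, 1, 29, 30, 29, 1, 5, 30, 28, 28, 1, 29, 5, 30, 30, 30, 29, 1, 30, 30, 5, 30, 28, 30, 29, 5, 1, 1, 29, 31, 30, 28, 5, 5, 1, 28, 31, 29, 31, 1, 31, 31, 5, 30, 30, 5, 31, 1, 1, 28, 31, 5, 28, 1, 1, 1] (.badAt 0)))))), (4, .fail), (1, (.step [1, 1, 1, 30, 1, 29, 5, 5] (.step [5, 29, 29, 5, 31, 28, 29, 28, 31, 5, 28, 5, 5] (.step [29, 29, 31, 31, 28, 30, 29, 1, 1, 28, 31, 31, 5, 5, 5, 1, 1, 29, 1, 29, 1, 31, 28, 30, 28, 1] (.step [28, 1, 29, 30, 29, 1, 5, 30, 28, 28, 1, 29, 5, 30, 30, 30, 29, 1, 30, 30, 5, 30, 28, 30, 29, 5, 1, 1, 29, 31, 30, 28, 5, 5, 1, 28, 31, 29, 31, 1, 31, 31, 5, 30, 30, 5, 31, 1, 1, 28, 31, 5, 28, 1, 1, 1] (.badAt 0)))))), (2, .fail), (1, (.step [30, 1, 28, 5, 31, 5, 5, 29] .fail)), (2, .fail), (1, (.step [28, 28, 28, 1, 29, 5, 30, 28, 28] .fail)), (1, .fail), (1, (.step [28, 5, 28, 5, 31, 29, 29, 29, 1]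 .fail)), (2, .fail), (1, (.step [30, 29, 5, 31, 28, 28] (.step [28, 5, 5, 30, 30, 30, 28, 30, 5, 1, 28, 5, 31, 5, 5, 29] (.step [31, 1, 31, 5, 29, 29, 29, 1, 29, 28, 29, 30, 31, 31, 31, 31, 1, 28, 1, 1, 30, 5, 30] (.step [1, 5, 30, 28, 1, 1, 31, 29, 31, 29, 1, 31, 31, 28, 28, 1, 30, 31, 31, 5, 29, 1, 1, 1, 1, 31, 28] (.badAt 0)))))), (2, .fail), (1, (.step [1, 31, 1, 30, 30, 5, 5] .fail)), (1, .fail), (1, (.step [5, 5, 31, 31, 28, 28, 30, 5, 28] .fail)), (2, .fail), (1, (.step [5, 30, 29, 5, 31, 1, 29, 1] (.step [29, 29, 29, 29, 5, 30, 29, 30, 1, 29] (.step [5, 28, 28, 30, 28, 31, 28, 31, 1, 29, 5, 31, 28, 28, 30, 30, 31, 30, 30, 1, 29, 30, 1, 30, 28, 31, 28] (.step [] (.badAt 0)))))), (1, (.step [5, 29, 31, 28, 1, 28, 28] .fail)), (1, .fail), (1, (.step [29, 30, 1, 31, 31, 1, 30, 1] .fail)), (1, .fail), (1, (.step [28, 5, 31,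 5, 28, 28, 1] .fail)), (1, .fail), (1, (.step [5, 29, 30, 1, 30, 28, 31, 29] (.step [1, 30, 29, 1, 30, 1, 1, 29, 29, 31, 31, 31] (.step [28, 28, 28, 5, 29, 1, 31, 31, 31, 31, 28, 28, 30, 28, 5, 5, 28, 1, 28] .fail)))), (2, .fail), (1, (.step [1, 31, 5, 29, 29, 29, 1, 29] .fail)), (1, (.step [29, 5, 30, 29, 1, 28, 30, 1] .fail)), (3, .fail), (1, (.step [1, 31, 31, 1, 30, 1, 29, 31] .fail)), (4, .fail), (1, (.step [28, 1, 29, 1, 30, 5, 30, 1, 1] (.step [1, 1, 1, 1, 29, 1, 31, 5, 29] (.step [28, 31, 5, 5, 29, 5, 30, 1, 30, 5, 29, 5, 1, 1, 28, 28, 1, 29, 31, 29, 31, 28] .fail)))), (1, .fail), (1, (.step [5, 28, 31, 5, 28, 1, 28, 28, 5] .fail)), (1, (.step [29, 5, 30, 28, 1, 31, 31, 29] .fail)), (2, .fail), (1, (.step [28, 28, 28, 1, 29, 5, 30, 28, 28] .fail)), (1, (.step [29, 31, 28, 5, 31, 28, 5, 28] .fail)), (2, .fail), (1, (.step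 [30, 29, 1, 28, 28, 28, 31, 29] .fail)), (2, .fail), (1, (.step [29, 29, 31, 28, 31, 28, 5, 29] (.step [31, 1, 28, 1, 1, 30, 5, 29, 1, 28, 28, 28, 31, 29, 31] (.step [5, 30, 1, 1, 1, 31, 5, 5, 28, 5, 30, 28, 1, 1, 29, 30, 30, 28, 28, 5, 28, 5, 28, 30, 29, 29] .fail)))), (7, .fail), (1, (.step [30, 5, 30, 28, 30, 28, 28, 28] (.step [28, 30, 29, 31, 5, 31, 28, 1, 5, 29, 29, 30, 30, 5] (.step [1, 30, 29, 30, 1, 31, 5, 1, 1, 31, 5, 28, 28, 31, 1, 30, 1, 30, 29] .fail)))), (1, .fail), (1, (.step [1, 31, 5, 29, 30, 5, 29, 30, 29] (.step [1, 31, 31, 29, 5, 28, 5, 5, 29, 1, 31, 28, 30, 30] (.step [5, 31, 28, 1, 1, 1, 28, 30, 30, 29, 29, 5, 31, 28, 28, 31, 1, 30, 30, 5, 30, 28, 30, 29, 5, 1, 1, 29, 31] .fail)))), (1, .fail), (1, (.step [1, 30, 1, 28, 1, 28, 31, 29] (.step [29, 5, 31, 31, 28, 31, 28, 5, 29, 5, 28, 1, 29, 29, 29, 31] .fail))),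 (1, (.step [29, 5, 30, 5, 5, 31, 29, 30, 29] (.step [1, 28, 28, 30, 1, 30, 28, 30, 1, 29] (.step [28, 30, 29, 29, 28, 5, 29, 5, 31, 5, 5, 5, 5, 28, 31, 28, 30, 1, 1, 1, 29, 1, 29, 1, 31, 28, 30, 28, 1] .fail)))), (5, .fail), (1, (.step [28, 1, 31, 5, 30, 30, 1, 1] .fail)), (1, .fail), (1, (.step [31, 29, 29, 5, 29, 30, 28, 1] (.step [29, 5, 31, 31, 28, 31, 28, 5, 29, 5, 28, 1, 29, 29, 29, 31] (.step [1, 29, 30, 5, 30, 28, 31, 29, 1, 1, 28, 28, 28, 30, 28, 28, 31, 5, 30, 1, 1, 28, 28, 1, 29, 31, 29, 31, 28] .fail)))), (1, .fail), (1, (.step [30, 28, 28, 30, 28, 28, 31, 5] (.step [1, 28, 28, 30, 1, 30, 28, 30, 1, 29] (.step [1, 28, 31, 28, 31, 29, 5, 29, 1, 28, 1, 30, 28, 30, 30, 28, 1, 31, 31, 28, 30, 30, 28, 28, 1, 1, 29, 5] .fail)))), (1, (.step [1, 1, 29, 29, 29, 30, 5, 29, 5] .fail)), (2, .fail), (1, (.step [28, 30, 5, 5, 30,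 5, 5, 29] .fail)), (1, .fail), (1, (.step [1, 30, 5, 28, 1, 29, 29, 30, 29] (.step [31, 28, 30, 5, 30, 1, 28, 1, 31, 5, 5] (.step [29, 1, 30, 30, 30, 5, 5, 31, 5, 5, 5, 29, 31, 31, 5, 31, 1, 28, 30] .fail)))), (2, .fail), (1, (.step [29, 1, 30, 1, 29, 29, 31, 28, 1] (.step [29, 29, 1, 30, 30, 30, 29, 29, 31, 5, 28, 28, 28, 31, 29, 29, 5] .fail))), (1, (.step [5, 5, 31, 31, 1, 30, 5, 29] .fail)), (7, .fail), (1, (.step [29, 29, 29, 5, 31, 5, 5, 5, 29] .fail)), (1, (.step [1, 28, 30, 30, 30, 30, 1, 1] .fail)), (1, (.step [1, 31, 28, 5, 30, 5, 29, 30, 28] .fail)), (1, (.step [28, 5, 5, 29, 31, 1, 1, 1, 1] .fail)), (3, .fail), (1, (.step [1, 30, 5, 5, 5, 31, 1] (.step [29, 5, 29, 31, 1, 30, 1, 31, 1, 28, 31, 29, 29, 30, 1, 28] (.step [28, 1, 30, 28, 1, 30, 5, 29, 29, 31, 29, 29, 30, 1, 28, 31, 31, 31, 1, 30, 1, 28, 1, 29, 29, 5, 28]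 .fail)))), (1, .fail), (1, (.step [29, 5, 30, 29, 1, 28, 30, 1] .fail)), (1, (.step [5, 5, 29, 31, 1, 29, 1] .fail)), (1, (.step [1, 31, 5, 5, 29, 5] (.step [28, 5, 5, 5, 29, 30, 1, 30, 28, 1, 30, 30] (.step [31, 1, 31, 5, 29, 29, 29, 1, 29, 28, 29, 30, 31, 31, 31, 31, 1, 28, 1, 1, 30, 5, 30] .fail)))), (1, (.step [30, 28, 30, 5, 5, 30, 5, 5, 29] .fail)), (5, .fail), (1, (.step [5, 29, 31, 28, 1, 28, 28] .fail)), (1, (.step [31, 1, 1, 1, 30, 30, 29, 5] (.step [1, 28, 5, 5, 29, 29, 31, 31, 29, 30, 30] .fail))), (1, (.step [31, 28, 28, 31, 1, 30, 1, 30, 29] (.step [30, 29, 31, 28, 30, 30, 30, 28, 31, 31, 31] (.step [30, 5, 30, 1, 31, 31, 1, 1, 28, 28, 28, 29, 31, 5, 30, 30, 5, 30, 28, 28, 31, 29, 1, 31, 28, 31, 31, 5] .fail)))), (1, (.step [29, 1, 30, 30, 29, 31, 5, 30, 29] .fail)), (5, .fail), (1, (.step [28, 1, 28, 30, 28, 30,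 5, 31, 5] (.step [30, 5, 29, 31, 28, 30, 29, 29, 5, 29, 29, 30, 1, 28] (.step [1, 28, 5, 30, 5, 5, 30, 28, 1, 1, 1, 1, 30, 30, 29, 5, 1, 28, 30, 5, 31, 31, 1, 31, 5, 30, 29] .fail)))), (1, .fail), (1, (.step [28, 31, 5, 29, 5, 28, 31, 1] (.step [1, 31, 1, 28, 31, 31, 5, 5, 5, 5, 29, 31, 1, 29, 1] .fail))), (1, (.step [29, 30, 29, 5, 29, 29, 30, 1] (.step [1, 1, 30, 1, 31, 1, 31, 31, 29, 1, 28, 31, 31] (.step [31, 29, 1, 28, 30, 29, 31, 1, 1, 28, 5, 28, 28, 28, 5, 29, 1] .fail)))), (1, .fail), (1, (.step [29, 30, 28, 31, 29, 31, 5, 28] (.step [30, 28, 5, 5, 1, 28, 31, 29, 31, 1, 31, 31, 5] (.step [30, 30, 1, 1, 29, 5, 30, 29, 1, 31, 1, 5, 5, 31, 1, 31, 5, 28, 5, 29] .fail)))), (1, (.step [29, 30, 30, 29, 1, 29, 5, 28] (.step [30, 28, 5, 30, 29, 30, 28, 30, 28, 1, 29] .fail))), (1, (.step [28, 1, 29, 5, 28, 5, 28, 30, 5] (.step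 [29, 30, 29, 31, 5, 31, 28, 5, 31, 31, 30] (.step [31, 1, 1, 1, 1, 29, 1, 31, 5, 29, 29, 29, 5, 30, 29, 29, 5, 31] .fail)))), (1, .fail), (1, (.step [5, 31, 1, 31, 31, 5, 30, 1] .fail)), (1, (.step [5, 31, 29, 31, 29, 31, 1, 29] (.step [29, 30, 5, 30, 28, 1, 28, 30, 29, 5, 5, 28, 31, 31, 30] (.step [5, 5, 31, 31, 31, 31, 29, 5, 29, 5, 28, 31, 29, 31, 5, 1, 30, 30, 29, 30, 5, 28, 30, 1, 5, 29] .fail)))), (1, (.step [5, 31, 28, 30, 1, 28, 1, 1] .fail)), (1, .fail), (1, (.step [5, 5, 31, 1, 30, 1, 28, 1] .fail)), (1, (.step [31, 31, 31, 31] .fail)), (3, .fail), (1, (.step [29, 31, 31, 5, 5, 31, 31, 28, 5] .fail)), (1, (.step [29, 5, 31, 28, 28, 30] (.step [29, 5, 29, 1, 1, 29, 31, 29, 29] (.step [1, 31, 1, 31, 28, 31, 5, 29, 30, 1, 29, 1, 31, 31, 31, 31, 31, 31, 1, 29, 31, 31, 31, 31, 5, 28, 30, 30] .fail)))), (1, .fail), (1, (.step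 [28, 1, 29, 1, 30, 5, 30, 1, 1] .fail)), (2, .fail), (1, (.step [31, 1, 28, 28, 31, 1, 28, 28] .fail)), (1, .fail), (1, (.step [28, 5, 30, 5, 30, 1, 1, 29] .fail)), (4, .fail), (1, (.step [31, 5, 28, 1, 29, 29, 29] .fail)), (3, .fail), (1, (.step [29, 29, 29, 31, 29, 31, 1] (.step [29, 31, 1, 29, 29, 30, 28, 5, 31, 1, 29, 5, 30, 28] (.step [28, 1, 30, 28, 1, 30, 5, 29, 29, 31, 29, 29, 30, 1, 28, 31, 31, 31, 1, 30, 1, 28, 1, 29, 29, 5, 28] .fail)))), (3, .fail), (1, (.step [28, 28, 28, 1, 29, 5, 30, 28, 28] (.step [30, 5, 29, 31, 28, 30, 29, 29, 5, 29, 29, 30, 1, 28] .fail))), (3, .fail), (1, (.step [5, 30, 28, 30, 28, 28, 28] (.step [30, 28, 28, 1, 1, 31, 1, 1, 1, 29, 5, 31, 28, 28] .fail))), (1, (.step [5, 28, 5, 30, 28, 1, 1] .fail)), (2, .fail), (1, (.step [28, 5, 5, 28, 28, 1, 29, 5] .fail)), (1, (.step [28, 30, 29, 1, 28,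 28, 30, 29, 1] .fail)), (5, .fail), (1, (.step [28, 30, 5, 28, 1, 31, 29, 1] (.step [5, 30, 29, 30, 30, 28, 5, 30, 1, 30, 28, 1, 31, 31, 31, 31] (.step [29, 5, 5, 29, 5, 31, 5, 28, 5, 28, 30, 29, 29, 29, 5, 28, 31, 28, 29, 5, 5, 29, 5, 30, 30, 30, 1] .fail)))), (1, .fail), (1, (.step [1, 30, 30, 28, 5, 30, 30, 28, 5] (.step [31, 28, 5, 31, 1, 28, 30, 5, 31, 5, 30, 30, 30] (.step [28, 31, 5, 5, 29, 5, 30, 1, 30, 5, 29, 5, 1, 1, 28, 28, 1, 29, 31, 29, 31, 28] .fail)))), (1, (.step [5, 29, 1, 30, 5, 29, 1, 1] .fail)), (1, (.step [31, 29, 5, 30, 1, 30, 30, 28, 1] (.step [28, 5, 30, 30, 28, 5, 29, 5, 29, 5, 29, 1, 28, 28, 28, 31, 29] (.step [5, 5, 28, 31, 31, 29, 30, 29, 1, 29, 31, 29, 29, 1, 30, 28] .fail)))), (1, .fail), (1, (.step [28, 1, 1, 30, 1, 29, 5] .fail)), (1, (.step [1, 28, 1, 1, 30, 5] .fail)), (4, .fail), (1, (.step [1,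 29, 1, 28, 1, 28, 5, 5] .fail)), (1, .fail), (1, (.step [30, 1, 30, 29, 1, 1, 30, 1] .fail)), (1, .fail), (1, (.step [28, 1, 31, 29, 30, 29, 29, 1] (.step [29, 1, 1, 29, 1, 29, 5, 29, 30, 29, 30, 30, 30, 30] (.step [29, 5, 5, 29, 5, 31, 5, 28, 5, 28, 30, 29, 29, 29, 5, 28, 31, 28, 29, 5, 5, 29, 5, 30, 30, 30, 1] .fail)))), (1, (.step [30, 28, 1, 29, 30, 29, 30, 28, 28] (.step [1, 29, 5, 31, 28, 28, 1, 29, 5, 30, 1, 28, 29, 30] .fail))), (8, .fail), (1, (.step [5, 29, 29, 1, 30, 1, 29] (.step [29, 1, 31, 31, 1, 28, 30, 28, 1, 5, 31, 1, 29, 5, 30, 28] .fail))), (3, .fail), (1, (.step [29, 29, 30, 1, 29, 30, 1, 28] .fail)), (2, .fail), (1, (.step [28, 1, 31, 5, 30, 30, 1, 1] .fail)), (1, (.step [5, 28, 1, 31, 1, 30, 30, 1] .fail)), (3, .fail), (1, (.step [5, 30, 28, 30, 28, 28, 28] .fail)), (1, .fail), (1, (.step [29, 5, 31, 28,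 28] (.step [30, 28, 30, 28, 30, 1, 5, 5, 5, 29, 28, 29, 30] .fail))), (2, .fail), (1, (.step [1, 28, 28, 31, 1, 28, 28] .fail)), (1, .fail), (1, (.step [5, 29, 29, 1, 30, 1, 29] .fail)), (1, (.step [28, 30, 28, 30, 5, 5, 29] (.step [28, 31, 29, 5, 28, 1, 30, 31, 29, 5, 31, 5, 30, 30] (.step [] .fail)))), (1, (.step [29, 5, 28, 31, 29, 31, 5] .fail)), (7, .fail), (1, (.step [1, 29, 30, 28, 5, 31, 1, 29, 5] .fail)), (3, .fail), (1, (.step [1, 1, 28, 5, 30, 29, 5] .fail)), (1, (.step [1, 30, 1, 28, 1, 28, 31, 29] .fail)), (1, (.step [30, 5, 30, 30, 28, 28, 5, 31, 5] (.step [1, 30, 29, 1, 30, 1, 1, 29, 29, 31, 31, 31] (.step [5, 5, 28, 31, 31, 29, 30, 29, 1, 29, 31, 29, 29, 1, 30, 28] .fail)))), (9, .fail), (1, (.step [5, 31, 5, 5, 28, 31, 5] (.step [5, 30, 29, 30, 30, 28, 5, 30, 1, 30, 28, 1, 31, 31, 31, 31] (.step [28, 31, 28, 30,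 30, 28, 31, 5, 29, 1, 31, 5, 5, 28, 30, 5, 29, 1, 31, 29] .fail)))), (4, .fail), (1, (.step [5, 31, 31, 1, 1, 28, 5, 31, 5] .fail)), (1, .fail), (1, (.step [29, 29, 5, 30, 29, 29, 5] .fail)), (1, .fail), (1, (.step [5, 31, 29, 31, 29, 31, 1, 29] .fail)), (1, .fail), (1, (.step [28, 1, 29, 29, 30, 5, 30, 28] (.step [30, 28, 30, 1, 31, 31, 5, 5, 29, 29, 1, 30, 30] (.step [5, 31, 28, 1, 1, 1, 28, 30, 30, 29, 29, 5, 31, 28, 28, 31, 1, 30, 30, 5, 30, 28, 30, 29, 5, 1, 1, 29, 31] .fail)))), (1, .fail), (1, (.step [29, 31, 28, 30, 30, 30, 28] .fail)), (1, .fail), (1, (.step [5, 5, 31, 1, 30, 1, 28, 1] .fail)), (2, .fail), (1, (.step [29, 1, 29, 1, 30, 1, 28, 28] .fail)), (1, (.step [29, 1, 28, 28, 28, 31, 29] .fail)), (1, (.step [5, 31, 29, 30, 29, 1, 1, 1] .fail)), (1, .fail), (1, (.step [5, 31, 28, 28, 1, 28, 31, 28] .fail)), (1, .fail),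 (1, (.step [29, 31, 29, 1, 31, 28, 28, 31, 1] (.step [28, 5, 29, 31, 29, 5, 28, 1, 28, 5, 5, 28, 29, 30] (.step [30, 30, 28, 28, 1, 28, 31, 28, 1, 1, 1, 30, 28, 30, 29, 1, 28, 31, 29, 29, 5, 30, 30, 29, 29, 29] .fail)))), (1, (.step [30, 28, 28, 30, 28, 28, 31, 5] .fail)), (1, (.step [28, 1, 29, 29, 30, 5, 30, 28] .fail)), (6, .fail), (1, (.step [30, 1, 29, 5, 30, 30, 30, 29] .fail)), (1, .fail), (1, (.step [29, 1, 29, 29, 1, 29, 1, 1, 1] .fail)), (1, .fail), (1, (.step [30, 1, 28, 28, 31, 1, 28, 28] (.step [28, 31, 28, 5, 31, 1, 28, 1, 1, 30, 28, 31, 31, 31, 31, 31] (.step [29, 5, 5, 31, 5, 31, 1, 31, 1, 28, 31, 1, 29, 5, 5, 5, 28, 28, 5, 31, 28, 31, 1, 28, 28, 28, 28] .fail)))), (1, (.step [5, 31, 29, 30, 5, 28, 28, 5, 28] (.step [28, 30, 29, 31, 5, 31, 28, 1, 5, 29, 29, 30, 30, 5] (.step [28, 5, 29, 29, 1, 29, 1, 29, 1, 28,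 29, 30, 31, 31, 31, 31, 1, 28, 1, 1, 30, 5, 30] .fail)))), (1, .fail), (1, (.step [31, 1, 30, 29, 29, 31, 29, 29] .fail)), (1, (.step [1, 1, 1, 30, 1, 29, 5, 5] .fail)), (1, (.step [29, 1, 29, 29, 29, 5, 5, 28] .fail)), (4, .fail), (1, (.step [31, 31, 5, 29, 29, 30, 30, 5] .fail)), (1, .fail), (1, (.step [30, 5, 5, 31, 31, 31, 31, 29, 5] (.step [28, 5, 30, 28, 30, 28, 30, 1, 29, 30, 1, 28, 28, 28, 5] (.step [31, 29, 5, 30, 5, 5, 31, 29, 30, 29, 5, 5, 5, 5, 30, 28, 1, 1, 29] .fail)))), (1, (.step [30, 29, 1, 28, 28, 28, 31, 29] (.step [30, 29, 30, 30, 28, 1, 30, 29, 5, 5, 28, 31, 31] (.step [5, 31, 28, 1, 1, 1, 28, 30, 30, 29, 29, 5, 31, 28, 28, 31, 1, 30, 30, 5, 30, 28, 30, 29, 5, 1, 1, 29, 31] .fail)))), (6, .fail), (1, (.step [30, 1, 28, 1, 1, 30, 5] (.step [1, 28, 5, 28, 5, 28, 28, 30, 5, 29, 29, 31, 1] (.step [28, 31, 28,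 30, 30, 28, 31, 5, 29, 1, 31, 5, 5, 28, 30, 5, 29, 1, 31, 29] .fail)))), (4, .fail), (1, (.step [28, 1, 28, 30, 28, 30, 5, 31, 5] .fail)), (2, .fail), (1, (.step [28, 31, 29, 29, 31, 29, 31, 31, 28] .fail)), (1, (.step [1, 31, 31, 28, 28, 1] (.step [29, 1, 31, 31, 28, 1, 1, 1, 5, 28, 5, 30, 28, 1, 1] (.step [30, 30, 1, 1, 29, 5, 30, 29, 1, 31, 1, 5, 5, 31, 1, 31, 5, 28, 5, 29] .fail)))), (1, (.step [29, 1, 30, 29, 31, 1, 1, 29] .fail)), (2, .fail), (1, (.step [5, 31, 29, 30, 5, 28, 28, 5, 28] (.step [1, 31, 31, 29, 5, 28, 5, 5, 29, 1, 31, 28, 30, 30] .fail))), (1, .fail), (1, (.step [1, 30, 5, 5, 5, 31, 1] .fail)), (6, .fail), (1, (.step [29, 5, 5, 29, 31, 28, 31, 1] .fail)), (1, (.step [28, 30, 29, 1, 28, 28, 30, 29, 1] .fail)), (1, (.step [30, 5, 28, 1, 29, 29, 29] (.step [28, 30, 28, 5, 30, 1, 30, 5, 1, 31, 31, 28, 28, 1, 31]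 (.step [30, 29, 30, 28, 1, 31, 5, 31, 1, 29, 1, 29, 29, 29, 5, 5, 28, 31, 28, 29, 5, 5, 29, 5, 30, 30, 30, 1] .fail)))), (7, .fail), (1, (.step [28, 28, 5, 31, 1, 31, 31, 1, 29] (.step [28, 5, 5, 5, 29, 30, 1, 30, 28, 1, 30, 30] .fail))), (5, .fail), (1, (.step [28, 30, 1, 31, 29, 29, 31, 1] .fail)), (2, .fail), (1, (.step [28, 5, 30, 5, 30, 1, 1, 29] (.step [29, 30, 5, 5, 5, 5, 28, 1, 30, 30] (.step [29, 28, 1, 1, 28, 28, 28, 31, 31, 29, 1, 30, 29, 1, 1, 30, 1, 31, 31, 31, 29, 29, 1, 29, 5, 30, 30, 28] .fail)))), (1, (.step [31, 30, 30] (.step [5, 28, 31, 29, 30, 30, 28, 28, 1, 1, 1, 30, 30, 29, 5] (.step [5, 31, 28, 1, 1, 1, 28, 30, 30, 29, 29, 5, 31, 28, 28, 31, 1, 30, 30, 5, 30, 28, 30, 29, 5, 1, 1, 29, 31] .fail)))), (1, .fail), (1, (.step [28, 1, 29, 29, 5, 28, 30, 1] .fail)), (3, .fail), (1, (.step [28, 1, 31, 28, 5, 28,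 30, 1, 1] (.step [29, 31, 1, 30, 1, 1, 28, 29, 1, 31, 5, 29, 31, 31, 30] (.step [29, 29, 29, 5, 5, 30, 30, 5, 31, 1, 1, 28, 5, 29, 29, 1, 1, 29, 29, 29, 5, 30, 30, 29, 29, 29] .fail)))), (3, .fail), (1, (.step [30, 28, 28, 28, 5, 29, 1] .fail)), (1, .fail), (1, (.step [28, 5, 29, 1, 29, 5, 29, 5] (.step [31, 1, 28, 1, 1, 30, 5, 29, 1, 28, 28, 28, 31, 29, 31] (.step [28, 5, 31, 5, 31, 1, 1, 30, 29, 29, 28, 30, 29, 29, 29, 5, 28] .fail)))), (1, .fail), (1, (.step [5, 31, 29, 30, 29, 1, 1, 1] .fail)), (6, .fail), (1, (.step [1, 28, 5, 31, 5, 5, 29] (.step [1, 1, 28, 30, 30, 30, 30, 30, 1, 1, 28, 28, 29, 30] .fail))), (1, (.step [5, 31, 1, 29, 5, 30, 28] (.step [1, 28, 5, 5, 29, 29, 31, 31, 29, 30, 30] (.step [1, 31, 1, 31, 28, 31, 5, 29, 30, 1, 29, 1, 31, 31, 31, 31, 31, 31, 1, 29, 31, 31, 31, 31, 5, 28, 30, 30] .fail)))), (2, .fail),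 (1, (.step [5, 28, 31, 5, 28, 1, 28, 28, 5] .fail)), (1, .fail), (1, (.step [1, 1, 30, 30, 30, 29, 5, 29, 5] .fail)), (2, .fail), (1, (.step [5, 29, 5, 31, 5, 30, 1, 1] .fail)), (1, .fail), (1, (.step [28, 1, 28, 30, 28, 30, 5, 31, 5] (.step [31, 28, 1, 1, 31, 29, 31, 29, 31, 31, 30] (.step [1, 31, 1, 31, 28, 31, 5, 29, 30, 1, 29, 1, 31, 31, 31, 31, 31, 31, 1, 29, 31, 31, 31, 31, 5, 28, 30, 30] .fail)))), (1, (.step [1, 31, 31, 5, 5, 30, 30, 29, 29] .fail)), (1, .fail), (1, (.step [1, 30, 30, 1, 1, 1, 30, 5, 28] .fail)), (1, .fail), (1, (.step [28, 1, 30, 30, 29, 31, 28, 30, 28] .fail)), (1, (.step [5, 30, 1, 30, 5, 29, 31, 28] .fail)), (3, .fail), (1, (.step [30, 5, 31, 31, 5, 29, 29, 5] (.step [29, 1, 1, 29, 1, 29, 5, 29, 30, 29, 30, 30, 30, 30] (.step [30, 5, 30, 1, 31, 31, 1, 1, 28, 28, 28, 29, 31, 5, 30, 30, 5, 30, 28, 28,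 31, 29, 1, 31, 28, 31, 31, 5] .fail)))), (1, .fail), (1, (.step [30, 1, 30, 5, 5, 5, 31, 1] .fail)), (1, (.step [29, 29, 30, 1, 29, 30, 1, 28] .fail)), (2, .fail)])), (1973, (.badPow 23 1))])), (82, (.badPow 2093 1))]

/-- the centralizer of the element of order 11, piece 4 -/
def cCh_4 : Cert := Cert.rl [(1, (Cert.rl [(1, (Cert.rl [(1, (.step [] (.step [] (.step [] (.step [] (.done [])))))), (1, (.step [] (.step [] (.step [] (.step [] (.done [1])))))), (1, (.step [] (.step [] (.step [] (.step [] (.done [1, 1, 1, 1, 1, 1, 1, 1])))))), (1, (.step [] (.step [] (.step [] (.step [] (.done [1, 1])))))), (1, (.step [28, 28, 30, 5, 28, 31, 28, 31, 28] (.step [29, 1, 31, 31, 28, 1, 1, 1, 5, 28, 5, 30, 28, 1, 1] (.step [30, 30, 28, 28, 1, 28, 31, 28, 1, 1, 1, 30, 28, 30, 29, 1, 28, 31, 29, 29, 5, 30, 30, 29, 29, 29] .fail)))), (1, (.step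 [] (.step [] (.step [] (.step [] (.done [1, 1, 1, 1, 1, 1, 1, 1, 1])))))), (1, (.step [5, 30, 28, 5, 29, 5, 5, 5, 28, 5] (.step [29, 5, 29, 1, 1, 29, 31, 29, 29] (.step [28, 5, 31, 5, 31, 1, 1, 30, 29, 29, 28, 30, 29, 29, 29, 5, 28] .fail)))), (1, (.step [] (.step [] (.step [] (.step [] (.done [1, 1, 1])))))), (1, (.step [] (.step [] (.step [] (.step [] (.done [1, 1, 1, 1, 1])))))), (1, (.step [28, 30, 28, 5, 30, 5, 29, 5] (.step [30, 28, 5, 5, 1, 28, 31, 29, 31, 1, 31, 31, 5] (.step [5, 30, 29, 1, 28, 30, 5, 30, 30, 29, 1, 29, 5, 31, 5, 30, 30, 5, 31, 28, 29, 29, 5, 30, 30, 29, 29, 29] .fail)))), (1, (.step [29, 5, 29, 30, 30, 29, 5, 28] (.step [28, 30, 5, 29, 29, 30, 28, 5, 28, 31, 31, 28, 1] (.step [29, 29, 5, 31, 31, 1, 30, 29, 5, 1, 31, 31, 1, 30, 1, 29, 31, 31, 31, 31, 1, 28, 1, 1, 30, 5, 30] .fail)))), (1, (.step [] (.step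 [] (.step [] (.step [] (.done [1, 1, 1, 1, 1, 1, 1, 1, 1, 1])))))), (1, (.step [] (.step [] (.step [] (.step [] (.done [1, 1, 1, 1, 1, 1, 1])))))), (1, (.step [30, 5, 28, 5, 30, 28, 1, 1] (.step [1, 31, 31, 29, 5, 28, 5, 5, 29, 1, 31, 28, 30, 30] (.step [1, 1, 28, 5, 1, 31, 29, 1, 1, 28, 5, 28, 1, 29, 30, 29, 30, 28, 28, 1, 1, 28, 28, 1, 29, 31, 29, 31, 28] .fail)))), (1, (.step [1, 1, 29, 29, 29, 30, 5, 29, 5] (.step [28, 30, 5, 29, 29, 30, 28, 5, 28, 31, 31, 28, 1] (.step [29, 29, 31, 31, 28, 30, 29, 1, 1, 28, 31, 31, 5, 5, 5, 1, 1, 29, 1, 29, 1, 31, 28, 30, 28, 1] .fail)))), (1, (.step [] (.step [] (.step [] (.step [] (.done [1, 1, 1, 1])))))), (1, (.step [31, 1, 30, 29, 29, 31, 29, 29] (.step [31, 29, 5, 30, 1, 31, 28, 28, 30, 29, 1, 29, 5, 31, 28, 28] (.step [1, 29, 30, 5, 30, 28, 31, 29, 1, 1, 28, 28, 28, 30, 28, 28, 31,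 5, 30, 1, 1, 28, 28, 1, 29, 31, 29, 31, 28] .fail)))), (1, (.step [] (.step [] (.step [] (.step [] (.done [1, 1, 1, 1, 1, 1])))))), (1, (.step [1, 1, 29, 29, 29, 30, 5, 29, 5] (.step [28, 30, 5, 29, 29, 30, 28, 5, 28, 31, 31, 28, 1] (.step [29, 29, 31, 31, 28, 30, 29, 1, 1, 28, 31, 31, 5, 5, 5, 1, 1, 29, 1, 29, 1, 31, 28, 30, 28, 1] .fail)))), (1, (.step [29, 31, 1, 30, 28, 5, 5, 31, 29] (.step [5, 28, 31, 29, 30, 30, 28, 28, 1, 1, 1, 30, 30, 29, 5] (.step [30, 1, 28, 5, 30, 1, 29, 31, 28, 5, 29, 5, 28, 5, 29, 5, 30, 1, 1, 1, 1, 1, 29, 1, 31, 5, 29] .fail)))), (1, (.step [1, 1, 29, 29, 29, 30, 5, 29, 5] (.step [28, 30, 5, 29, 29, 30, 28, 5, 28, 31, 31, 28, 1] (.step [29, 29, 31, 31, 28, 30, 29, 1, 1, 28, 31, 31, 5, 5, 5, 1, 1, 29, 1, 29, 1, 31, 28, 30, 28, 1] .fail)))), (1, (.step [29, 5, 29, 30, 30, 29, 5, 28] (.step [28, 30,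 5, 29, 29, 30, 28, 5, 28, 31, 31, 28, 1] (.step [29, 29, 5, 31, 31, 1, 30, 29, 5, 1, 31, 31, 1, 30, 1, 29, 31, 31, 31, 31, 1, 28, 1, 1, 30, 5, 30] .fail)))), (1, .fail), (1, (.step [28, 28, 30, 28, 1, 1, 30, 1] .fail)), (1, (.step [31, 5, 30, 29, 5, 28, 1, 1] (.step [1, 31, 1, 28, 28, 28, 1, 29, 30, 29, 29, 29, 30, 1, 28, 31] (.step [29, 29, 29, 30, 5, 31, 31, 29, 29, 29, 30, 1, 28, 30, 30, 1, 28, 30, 5, 31, 31, 1, 31, 5, 30, 29] .fail)))), (1, .fail), (1, (.step [28, 30, 29, 1, 28, 28, 30, 29, 1] (.step [28, 5, 28, 28, 1, 29, 29, 30, 5, 29, 31, 31, 31] .fail))), (1, (.step [1, 1, 30, 30, 30, 29, 5, 29, 5] .fail)), (1, (.step [1, 29, 30, 28, 5, 31, 1, 29, 5] (.step [28, 5, 5, 30, 30, 30, 28, 30, 5, 1, 28, 5, 31, 5, 5, 29] (.step [28, 5, 31, 5, 31, 1, 1, 30, 29, 29, 28, 30, 29, 29, 29, 5, 28] .fail)))), (1, .fail), (1, (.step [29,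 31, 28, 5, 28, 31, 28, 1, 29] .fail)), (1, (.step [28, 1, 1, 30, 1, 29, 5] .fail)), (1, (.step [28, 31, 28, 28, 5, 29, 1, 31, 5] .fail)), (1, .fail), (1, (.step [1, 31, 31, 1, 30, 1, 29, 31] (.step [5, 31, 5, 30, 28, 31, 31, 29, 5, 28, 31, 31] .fail))), (1, (.step [30, 29, 29, 30, 1, 28] .fail)), (1, (.step [1, 31, 5, 29, 30, 5, 29, 30, 29] (.step [30, 28, 28, 28, 31, 29, 29, 5, 1, 28, 1, 1, 30, 5] (.step [28, 28, 28, 5, 29, 1, 31, 31, 31, 31, 28, 28, 30, 28, 5, 5, 28, 1, 28] .fail)))), (1, (.step [1, 31, 5, 28, 30, 28, 30, 30, 29] (.step [30, 5, 29, 31, 28, 30, 29, 29, 5, 29, 29, 30, 1, 28] (.step [30, 30, 28, 28, 1, 28, 31, 28, 1, 1, 1, 30, 28, 30, 29, 1, 28, 31, 29, 29, 5, 30, 30, 29, 29, 29] .fail)))), (1, (.step [31, 28, 28, 28, 5, 29, 1] .fail)), (1, .fail), (1, (.step [31, 28, 28, 28, 5, 29, 1] .fail)), (1, (.step [1, 29,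 29, 31, 31, 5, 31, 5, 5] .fail)), (1, (.step [29, 31, 28, 28, 5, 30, 28] .fail)), (1, .fail), (1, (.step [31, 29, 29, 29, 31, 29, 31, 1] .fail)), (1, (.step [1, 30, 5, 5, 5, 31, 1] .fail)), (8, .fail), (1, (.step [1, 31, 28, 28, 28, 5, 31, 29, 29] .fail)), (1, (.step [1, 31, 31, 31, 1, 1, 30, 29, 29] .fail)), (1, (.step [30, 30, 5, 29, 29, 30, 30, 5] .fail)), (3, .fail), (1, (.step [5, 30, 29, 5, 28, 1, 1] .fail)), (15, .fail), (1, (.step [31, 1, 28, 28, 31, 1, 28, 28] .fail)), (1, (.step [1, 1, 30, 30, 30, 29, 5, 29, 5] .fail)), (1, .fail), (1, (.step [1, 31, 31, 1, 30, 1, 29] .fail)), (1, (.step [29, 5, 28, 1, 31, 1, 30, 29, 29] (.step [30, 29, 5, 5, 30, 5, 28, 5, 5, 1, 28, 28, 30, 5, 29, 1] (.step [1, 30, 29, 30, 1, 31, 5, 1, 1, 31, 5, 28, 28, 31, 1, 30, 1, 30, 29] .fail)))), (4, .fail), (1, (.step [29, 29, 29, 31, 29, 31,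 1] .fail)), (2, .fail), (1, (.step [28, 31, 5, 31, 5, 30, 29, 29] (.step [31, 28, 1, 1, 31, 29, 31, 29, 31, 31, 30] (.step [1, 29, 31, 29, 5, 28, 5, 29, 5, 5, 5, 31, 28, 30, 29, 30, 28, 1, 30, 30, 30, 29, 1, 30, 5, 30, 30, 1] .fail)))), (4, .fail), (1, (.step [31, 29, 29, 5, 30, 29, 29, 5] .fail)), (8, .fail), (1, (.step [1, 30, 5, 5, 5, 31, 1] .fail)), (1, .fail), (1, (.step [28, 1, 29, 29, 5, 28, 30, 1] (.step [29, 5, 29, 1, 1, 29, 31, 29, 29] (.step [28, 31, 28, 30, 30, 28, 31, 5, 29, 1, 31, 5, 5, 28, 30, 5, 29, 1, 31, 29] .fail)))), (1, (.step [1, 31, 31, 1, 30, 1, 29, 31] (.step [5, 31, 5, 30, 28, 31, 31, 29, 5, 28, 31, 31] .fail))), (3, .fail), (1, (.step [1, 28, 28, 30, 29, 29, 29] (.step [30, 28, 31, 31, 31, 1, 28, 5, 1, 1, 29, 1, 31, 1, 1, 28] .fail))), (1, .fail), (1, (.step [5, 30, 29, 5, 28, 1, 1] .fail)), (2, .fail),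 (1, (.step [1, 30, 30, 1, 1, 1, 30, 5, 28] .fail)), (3, .fail), (1, (.step [31, 29, 1, 28, 28, 28, 31, 29] .fail)), (1, (.step [28, 28, 1, 29, 1, 31, 1, 1] .fail)), (3, .fail), (1, (.step [30, 30, 5, 29, 29, 30, 30, 5] .fail)), (2, .fail), (1, (.step [1, 30, 1, 31, 28, 28, 30, 30, 1] .fail)), (1, .fail), (1, (.step [1, 30, 30, 1, 1, 1, 30, 5, 28] .fail)), (3, .fail), (1, (.step [30, 30, 30, 30] .fail)), (1, .fail), (1, (.step [30, 5, 30, 1, 29, 5, 31, 1, 1] .fail)), (3, .fail), (1, (.step [5, 29, 29, 1, 30, 1, 29] (.step [30, 28, 30, 1, 31, 31, 5, 5, 29, 29, 1, 30, 30] (.step [1, 29, 30, 5, 30, 28, 31, 29, 1, 1, 28, 28, 28, 30, 28, 28, 31, 5, 30, 1, 1, 28, 28, 1, 29, 31, 29, 31, 28] .fail)))), (1, .fail), (1, (.step [28, 31, 28, 28, 5, 29, 1, 31, 5] .fail)), (2, .fail), (1, (.step [29, 30, 5, 31, 1, 28, 5, 31, 28] .fail)), (1,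 .fail), (1, (.step [28, 31, 28, 28, 5, 29, 1, 31, 5] .fail)), (1, .fail), (1, (.step [29, 5, 29, 30, 30, 29, 5, 28] .fail)), (5, .fail), (1, (.step [1, 31, 28, 31, 31, 5, 29, 1] .fail)), (4, .fail), (1, (.step [31, 1, 28, 28, 31, 1, 28, 28] .fail)), (2, .fail), (1, (.step [29, 29, 29, 31, 29, 31, 1] .fail)), (2, .fail), (1, (.step [28, 30, 28, 31, 29, 5, 28, 28] .fail)), (5, .fail), (1, (.step [1, 28, 28, 30, 29, 29, 29] .fail)), (1, .fail), (1, (.step [29, 31, 1, 30, 28, 5, 5, 31, 29] .fail)), (1, (.step [31, 31, 29, 29, 30, 1, 28] .fail)), (1, (.step [29, 5, 28, 31, 29, 31, 5] .fail)), (2, .fail), (1, (.step [28, 1, 31, 29, 30, 29, 29, 1] .fail)), (1, .fail), (1, (.step [29, 29, 29, 31, 29, 31, 1] .fail)), (1, .fail), (1, (.step [5, 29, 29, 30, 30, 5] (.step [28, 5, 29, 31, 29, 5, 28, 1, 28, 5, 5, 28, 29, 30] (.step [5, 30,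 29, 30, 30, 1, 1, 28, 28, 28, 29, 29, 30, 1, 28, 31, 31, 31, 31, 31, 1, 28, 1, 1, 30, 5, 30] .fail)))), (3, .fail), (1, (.step [1, 31, 31, 1, 30, 1, 29, 31] (.step [5, 31, 5, 30, 28, 31, 31, 29, 5, 28, 31, 31] .fail))), (1, (.step [28, 28, 5, 31, 1, 31, 31, 1, 29] .fail)), (9, .fail), (1, (.step [5, 29, 29, 1, 30, 1, 29] (.step [30, 28, 30, 1, 31, 31, 5, 5, 29, 29, 1, 30, 30] (.step [1, 29, 30, 5, 30, 28, 31, 29, 1, 1, 28, 28, 28, 30, 28, 28, 31, 5, 30, 1, 1, 28, 28, 1, 29, 31, 29, 31, 28] .fail)))), (1, (.step [28, 30, 28, 5, 30, 5, 29, 5] (.step [31, 28, 30, 1, 28, 28, 1, 29, 1, 28, 30, 29, 28, 29, 30] (.step [29, 31, 31, 28, 31, 31, 31, 28, 5, 29, 1, 28, 28, 28, 31, 29, 28, 5, 31, 28, 31, 1, 28, 28, 28, 28] .fail)))), (1, (.step [1, 31, 28, 1, 28, 31, 31, 31, 29] .fail)), (10, .fail), (1, (.step [29, 30, 5, 5, 31, 28, 1, 31,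 29] (.step [29, 29, 30, 28, 5, 29, 5, 30, 1, 28, 29, 30] (.step [31, 1, 31, 5, 29, 29, 29, 1, 29, 28, 29, 30, 31, 31, 31, 31, 1, 28, 1, 1, 30, 5, 30] .fail)))), (5, .fail), (1, (.step [1, 31, 31, 1, 30, 1, 29, 31] (.step [5, 31, 5, 30, 28, 31, 31, 29, 5, 28, 31, 31] .fail))), (2, .fail), (1, (.step [5, 31, 28, 28, 1, 28, 31, 28] .fail)), (3, .fail), (1, (.step [30, 30, 30, 30, 30] .fail)), (1, (.step [1, 31, 28, 31, 31, 5, 29, 1] .fail)), (4, .fail), (1, (.step [30, 28, 28, 28, 5, 29, 1] .fail)), (2, .fail), (1, (.step [5, 28, 1, 29, 29, 29] .fail)), (1, (.step [5, 30, 29, 5, 28, 1, 1] .fail)), (2, .fail), (1, (.step [30, 30, 30, 29, 5, 31, 28, 28] (.step [1, 1, 28, 30, 30, 30, 30, 30, 1, 1, 28, 28, 29, 30] (.step [29, 29, 29, 5, 5, 30, 30, 5, 31, 1, 1, 28, 5, 29, 29, 1, 1, 29, 29, 29, 5, 30, 30, 29, 29, 29] .fail)))), (1, (.step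 [30, 28, 1, 29, 30, 29, 30, 28, 28] .fail)), (3, .fail), (1, (.step [5, 31, 31, 5, 29, 29, 5] .fail)), (1, (.step [29, 31, 1, 28, 5, 30, 1] (.step [29, 30, 29, 31, 5, 31, 28, 5, 31, 31, 30] .fail))), (1, (.step [29, 30, 1, 31, 31, 1, 30, 1] .fail)), (1, .fail), (1, (.step [29, 5, 31, 1, 29, 5, 30, 30, 28] (.step [29, 5, 29, 1, 1, 29, 31, 29, 29] (.step [29, 1, 30, 30, 30, 5, 5, 31, 5, 5, 5, 29, 31, 31, 5, 31, 1, 28, 30] .fail)))), (1, .fail), (1, (.step [28, 1, 1, 31, 29, 31, 29] (.step [29, 29, 30, 28, 5, 29, 5, 30, 1, 28, 29, 30] (.step [28, 1, 30, 28, 1, 30, 5, 29, 29, 31, 29, 29, 30, 1, 28, 31, 31, 31, 1, 30, 1, 28, 1, 29, 29, 5, 28] .fail)))), (6, .fail), (1, (.step [31, 1, 31, 31, 1, 30, 1, 29] .fail)), (1, (.step [5, 31, 28, 30, 1, 28, 1, 1] .fail)), (1, (.step [29, 31, 1, 28, 5, 30, 1] (.step [29, 30, 29, 31, 5, 31, 28,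 5, 31, 31, 30] .fail))), (1, (.step [30, 5, 28, 1, 29, 29, 29] .fail)), (1, (.step [5, 31, 28, 30, 1, 28, 1, 1] (.step [5, 28, 28, 28, 5, 28, 31, 28, 31, 1, 30, 30] (.step [1, 1, 28, 5, 1, 31, 29, 1, 1, 28, 5, 28, 1, 29, 30, 29, 30, 28, 28, 1, 1, 28, 28, 1, 29, 31, 29, 31, 28] .fail)))), (1, (.step [5, 31, 31, 5, 29, 29, 5] .fail)), (2, .fail), (1, (.step [5, 29, 5, 29, 31, 28, 5, 5] .fail)), (1, (.step [28, 5, 30, 30, 5, 5, 31, 5, 29] .fail)), (2, .fail), (1, (.step [29, 30, 1, 1, 1, 28, 30, 1] .fail)), (5, .fail), (1, (.step [31, 29, 5, 31, 28, 28] .fail)), (1, .fail), (1, (.step [31, 5, 29, 29, 1, 30, 1, 29] (.step [5, 29, 29, 5, 31, 1, 28, 31, 1, 31, 29] .fail))), (1, .fail), (1, (.step [30, 5, 31, 31, 5, 29, 29, 5] .fail)), (6, .fail), (1, (.step [29, 5, 28, 31, 29, 31, 5] .fail)), (1, .fail), (1, (.step [29, 30, 1, 1, 1,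 28, 30, 1] .fail)), (2, .fail), (1, (.step [29, 30, 5, 31, 1, 28, 5, 31, 28] .fail)), (7, .fail), (1, (.step [29, 1, 28, 28, 28, 31, 29] .fail)), (1, (.step [28, 28, 28, 30, 30, 29, 30, 5] (.step [29, 5, 29, 31, 1, 30, 1, 31, 1, 28, 31, 29, 29, 30, 1, 28] (.step [31, 1, 1, 1, 1, 29, 1, 31, 5, 29, 29, 29, 5, 30, 29, 29, 5, 31] .fail)))), (1, .fail), (1, (.step [29, 31, 28, 31, 29, 30, 1, 1] .fail)), (1, (.step [5, 29, 29, 1, 30, 1, 29] (.step [30, 28, 30, 1, 31, 31, 5, 5, 29, 29, 1, 30, 30] (.step [1, 29, 30, 5, 30, 28, 31, 29, 1, 1, 28, 28, 28, 30, 28, 28, 31, 5, 30, 1, 1, 28, 28, 1, 29, 31, 29, 31, 28] .fail)))), (1, (.step [29, 29, 29, 31, 29, 31, 1] .fail)), (3, .fail), (1, (.step [1, 30, 5, 5, 5, 31, 1] (.step [1, 28, 1, 28, 31, 31, 31, 5, 5, 31, 31] .fail))), (3, .fail), (1, (.step [28, 5, 30, 30, 5, 5, 31, 5, 29] .fail)),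 (2, .fail), (1, (.step [31, 1, 31, 31, 1, 30, 1, 29] .fail)), (1, .fail), (1, (.step [28, 1, 1, 31, 29, 31, 29] (.step [29, 29, 30, 28, 5, 29, 5, 30, 1, 28, 29, 30] (.step [28, 1, 30, 28, 1, 30, 5, 29, 29, 31, 29, 29, 30, 1, 28, 31, 31, 31, 1, 30, 1, 28, 1, 29, 29, 5, 28] .fail)))), (1, (.step [30, 5, 30, 28, 30, 28, 28, 28] .fail)), (1, .fail), (1, (.step [30, 1, 1, 29, 30, 28, 1, 28, 1] .fail)), (1, (.step [28, 1, 1, 31, 29, 31, 29] (.step [29, 29, 30, 28, 5, 29, 5, 30, 1, 28, 29, 30] (.step [28, 1, 30, 28, 1, 30, 5, 29, 29, 31, 29, 29, 30, 1, 28, 31, 31, 31, 1, 30, 1, 28, 1, 29, 29, 5, 28] .fail)))), (1, .fail), (1, (.step [28, 1, 1, 31, 29, 31, 29] (.step [29, 29, 30, 28, 5, 29, 5, 30, 1, 28, 29, 30] (.step [28, 1, 30, 28, 1, 30, 5, 29, 29, 31, 29, 29, 30, 1, 28, 31, 31, 31, 1, 30, 1, 28, 1, 29, 29, 5, 28] .fail)))), (1, (.step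 [29, 30, 5, 31, 1, 28, 5, 31, 28] .fail)), (1, (.step [29, 30, 1, 1, 1, 28, 30, 1] .fail)), (1, .fail), (1, (.step [31, 1, 28, 28, 31, 1, 28, 28] .fail)), (1, .fail), (1, (.step [28, 1, 1, 31, 29, 31, 29] (.step [29, 29, 30, 28, 5, 29, 5, 30, 1, 28, 29, 30] (.step [28, 1, 30, 28, 1, 30, 5, 29, 29, 31, 29, 29, 30, 1, 28, 31, 31, 31, 1, 30, 1, 28, 1, 29, 29, 5, 28] .fail)))), (1, (.step [29, 30, 1, 1, 1, 28, 30, 1] .fail)), (5, .fail), (1, (.step [1, 30, 5, 28, 1, 29, 29, 30, 29] .fail)), (1, (.step [29, 31, 5, 28, 28, 30, 28] .fail)), (4, .fail), (1, (.step [28, 5, 31, 31, 28, 5, 28, 5] .fail)), (1, .fail), (1, (.step [31, 5, 29, 29, 1, 30, 1, 29] (.step [5, 29, 29, 5, 31, 1, 28, 31, 1, 31, 29] .fail))), (1, (.step [31, 1, 31, 31, 1, 30, 1, 29] .fail)), (1, (.step [29, 30, 1, 1, 1, 28, 30, 1] .fail)), (1, (.step [29, 31, 5, 28,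 28, 30, 28] .fail)), (3, .fail), (1, (.step [29, 5, 28, 31, 29, 31, 5] .fail)), (2, .fail), (1, (.step [29, 30, 1, 1, 1, 28, 30, 1] .fail)), (1, (.step [28, 28, 1, 1, 31, 1, 1, 1] .fail)), (1, .fail), (1, (.step [5, 29, 31, 31, 29, 31, 5, 29] .fail)), (1, (.step [31, 29, 29, 30, 1, 28] (.step [30, 1, 29, 31, 28, 30, 30, 31, 5, 29, 1, 29, 5] .fail))), (1, .fail), (1, (.step [30, 28, 28, 30, 28, 28, 31, 5] (.step [30, 5, 31, 5, 5, 28, 31, 5, 29, 29, 5, 29, 30, 28, 1, 30] (.step [29, 29, 31, 30, 29, 30, 29, 30, 5, 29, 31, 5, 31, 31, 5, 29, 1, 1, 1, 1, 31, 28] .fail)))), (7, .fail), (1, (.step [1, 31, 5, 5, 29, 5] .fail)), (1, (.step [28, 1, 29, 29, 5, 28, 30, 1] .fail)), (1, .fail), (1, (.step [1, 31, 31, 1, 30, 1, 29, 31] .fail)), (5, .fail), (1, (.step [31, 1, 1, 1, 30, 30, 29, 5] (.step [29, 30, 29, 31, 5, 31, 28, 5, 31, 31, 30]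 (.step [5, 30, 29, 30, 30, 1, 1, 28, 28, 28, 29, 29, 30, 1, 28, 31, 31, 31, 31, 31, 1, 28, 1, 1, 30, 5, 30] .fail)))), (1, .fail), (1, (.step [5, 29, 31, 31, 29, 31, 5, 29] .fail)), (2, .fail), (1, (.step [29, 31, 28, 30, 30, 30, 28] .fail)), (2, .fail), (1, (.step [28, 1, 29, 29, 5, 28, 30, 1] .fail)), (3, .fail), (1, (.step [5, 30, 29, 1, 29, 1, 28, 28, 28] (.step [30, 30, 28, 1, 31, 5, 31, 31, 29, 5, 28, 28, 28, 5, 29, 1] .fail))), (1, .fail), (1, (.step [1, 31, 5, 5, 29, 5] .fail)), (2, .fail), (1, (.step [31, 29, 5, 31, 28, 28] .fail)), (1, .fail), (1, (.step [1, 29, 5, 30, 30, 30, 29] (.step [30, 28, 30, 30, 5, 31, 1, 30, 28, 1, 31, 31] (.step [5, 31, 28, 1, 1, 1, 28, 30, 30, 29, 29, 5, 31, 28, 28, 31, 1, 30, 30, 5, 30, 28, 30, 29, 5, 1, 1, 29, 31] .fail)))), (1, (.step [28, 30, 29, 1, 28, 28, 30, 29, 1] .fail)), (10, .fail),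 (1, (.step [1, 28, 28, 1, 30, 30, 1] .fail)), (1, .fail), (1, (.step [1, 31, 5, 5, 29, 5] .fail)), (1, (.step [5, 5, 31, 31, 28, 28, 30, 5, 28] .fail)), (1, (.step [1, 31, 1, 30, 30, 5, 5] (.step [29, 1, 31, 31, 28, 1, 1, 1, 5, 28, 5, 30, 28, 1, 1] (.step [31, 29, 5, 30, 5, 5, 31, 29, 30, 29, 5, 5, 5, 5, 30, 28, 1, 1, 29] .fail)))), (1, .fail), (1, (.step [29, 5, 28, 31, 29, 31, 5] (.step [28, 5, 29, 31, 29, 5, 28, 1, 28, 5, 5, 28, 29, 30] .fail))), (2, .fail), (1, (.step [30, 1, 1, 29, 30, 28, 1, 28, 1] .fail)), (2, .fail), (1, (.step [30, 28, 28, 30, 28, 28, 31, 5] (.step [30, 5, 31, 5, 5, 28, 31, 5, 29, 29, 5, 29, 30, 28, 1, 30] (.step [29, 29, 31, 30, 29, 30, 29, 30, 5, 29, 31, 5, 31, 31, 5, 29, 1, 1, 1, 1, 31, 28] .fail)))), (1, (.step [31, 29, 5, 31, 28, 28] .fail)), (10, .fail), (1, (.step [31, 29, 5, 31, 28, 28] .fail)),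 (1, .fail), (1, (.step [30, 29, 31, 1, 28, 5, 30, 1] .fail)), (3, .fail), (1, (.step [1, 1, 29, 29, 29, 30, 5, 29, 5] (.step [31, 28, 30, 1, 28, 28, 1, 29, 1, 28, 30, 29, 28, 29, 30] (.step [29, 29, 31, 30, 29, 30, 29, 30, 5, 29, 31, 5, 31, 31, 5, 29, 1, 1, 1, 1, 31, 28] .fail)))), (1, (.step [30, 28, 28, 30, 28, 28, 31, 5] (.step [30, 29, 30, 29, 1, 28, 5, 31, 5, 28, 30, 5, 31, 31, 31, 31] .fail))), (2, .fail), (1, (.step [30, 5, 28, 5, 30, 28, 1, 1] .fail)), (8, .fail), (1, (.step [5, 28, 1, 29, 29, 29] .fail)), (1, .fail), (1, (.step [29, 5, 5, 30, 5, 28, 5, 5] .fail)), (1, (.step [5, 29, 31, 31, 29, 31, 5, 29] .fail)), (2, .fail), (1, (.step [29, 31, 28, 5, 28, 31, 28, 1, 29] .fail)), (1, (.step [1, 31, 1, 30, 30, 5, 5] (.step [29, 1, 31, 31, 28, 1, 1, 1, 5, 28, 5, 30, 28, 1, 1] (.step [31, 29, 5, 30, 5, 5, 31, 29, 30, 29,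 5, 5, 5, 5, 30, 28, 1, 1, 29] .fail)))), (2, .fail), (1, (.step [28, 1, 29, 29, 5, 28, 30, 1] .fail)), (2, .fail), (1, (.step [29, 1, 1, 1, 28, 5, 30, 29] .fail)), (1, .fail), (1, (.step [30, 5, 30, 30, 28, 28, 5, 31, 5] .fail)), (1, (.step [29, 1, 30, 1, 29, 29, 31, 28, 1] (.step [5, 31, 5, 30, 28, 31, 31, 29, 5, 28, 31, 31] .fail))), (8, .fail), (1, (.step [31, 31, 31, 31] .fail)), (1, .fail), (1, (.step [31, 1, 31, 31, 28, 28, 1] (.step [31, 1, 28, 1, 1, 30, 5, 29, 1, 28, 28, 28, 31, 29, 31] .fail))), (1, .fail), (1, (.step [29, 30, 1, 31, 1, 1, 29, 29] .fail)), (1, .fail), (1, (.step [29, 31, 28, 5, 28, 31, 28, 1, 29] .fail)), (1, .fail), (1, (.step [29, 29, 5, 28, 31, 1, 28, 1, 28] .fail)), (13, .fail), (1, (.step [5, 31, 5, 5, 28, 31, 5] .fail)), (2, .fail), (1, (.step [28, 1, 31, 5, 31, 31, 29, 5] (.step [30, 1, 30, 30,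 30, 30, 1, 31, 1, 29, 5, 31, 28, 28] (.step [1, 28, 31, 28, 31, 29, 5, 29, 1, 28, 1, 30, 28, 30, 30, 28, 1, 31, 31, 28, 30, 30, 28, 28, 1, 1, 29, 5] .fail)))), (2, .fail), (1, (.step [30, 28, 28, 30, 28, 28, 31, 5] (.step [30, 5, 31, 5, 5, 28, 31, 5, 29, 29, 5, 29, 30, 28, 1, 30] (.step [29, 29, 31, 30, 29, 30, 29, 30, 5, 29, 31, 5, 31, 31, 5, 29, 1, 1, 1, 1, 31, 28] .fail)))), (1, (.step [28, 31, 28, 28, 5, 29, 1, 31, 5] .fail)), (2, .fail), (1, (.step [30, 28, 28, 5, 31, 5, 31, 5, 29] .fail)), (1, (.step [1, 1, 29, 29, 29, 30, 5, 29, 5] (.step [31, 28, 30, 1, 28, 28, 1, 29, 1, 28, 30, 29, 28, 29, 30] (.step [29, 29, 31, 30, 29, 30, 29, 30, 5, 29, 31, 5, 31, 31, 5, 29, 1, 1, 1, 1, 31, 28] .fail)))), (1, (.step [30, 29, 29, 5, 30, 29, 29, 5] (.step [1, 1, 1, 1, 29, 1, 31, 5, 29] .fail))), (3, .fail), (1, (.step [30, 5, 30, 30,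 28, 28, 5, 31, 5] .fail)), (1, (.step [28, 1, 31, 28, 5, 28, 30, 1, 1] (.step [1, 1, 28, 30, 5, 31, 5, 30, 1, 29, 5, 31, 28, 28] .fail))), (1, .fail), (1, (.step [31, 29, 5, 31, 28, 28] .fail)), (3, .fail), (1, (.step [28, 1, 31, 5, 31, 31, 29, 5] (.step [30, 1, 30, 30, 30, 30, 1, 31, 1, 29, 5, 31, 28, 28] (.step [1, 28, 31, 28, 31, 29, 5, 29, 1, 28, 1, 30, 28, 30, 30, 28, 1, 31, 31, 28, 30, 30, 28, 28, 1, 1, 29, 5] .fail)))), (1, (.step [30, 5, 30, 30, 28, 28, 5, 31, 5] .fail)), (1, (.step [29, 5, 30, 28, 1, 31, 31, 29] (.step [28, 31, 28, 5, 31, 1, 28, 1, 1, 30, 28, 31, 31, 31, 31, 31] .fail))), (2, .fail), (1, (.step [28, 1, 30, 28, 31, 5, 28, 31, 29] .fail)), (1, .fail), (1, (.step [29, 31, 5, 28, 28, 30, 28] (.step [30, 1, 29, 1, 29, 31, 5, 5, 31, 5, 29, 31, 31] (.step [28, 30, 30, 29, 5, 30, 5, 29, 28, 31, 29, 30, 30, 29,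 30, 1, 31, 31, 5, 31, 5, 31, 31, 28, 1, 1, 29] .fail)))), (1, (.step [29, 30, 29, 5, 29, 29, 30, 1] .fail)), (3, .fail), (1, (.step [29, 1, 29, 30, 1, 29, 30, 28] .fail)), (7, .fail), (1, (.step [1, 31, 5, 28, 30, 28, 30, 30, 29] .fail)), (1, (.step [28, 5, 28, 28, 28, 5, 29, 5] .fail)), (1, .fail), (1, (.step [1, 1, 31, 1, 30, 30, 5, 28] .fail)), (1, .fail), (1, (.step [29, 1, 1, 30, 5, 29, 31, 1] .fail)), (13, .fail), (1, (.step [31, 5, 29, 29, 30, 5, 5, 29, 5] .fail)), (1, (.step [5, 29, 31, 31, 29, 31, 5, 29] .fail)), (2, .fail), (1, (.step [29, 31, 28, 30, 30, 30, 28] (.step [29, 31, 31, 1, 28, 5, 28, 28, 30, 30, 30] .fail))), (3, .fail), (1, (.step [5, 29, 29, 1, 30, 1, 29] (.step [28, 28, 28, 28, 5, 1, 28, 30, 28, 1, 28, 31, 31] .fail))), (3, .fail), (1, (.step [29, 31, 28, 5, 28, 31, 28, 1, 29] .fail)), (2, .fail), (1,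 (.step [31, 31, 29, 5, 31, 28, 28] (.step [1, 1, 30, 1, 31, 1, 31, 31, 29, 1, 28, 31, 31] .fail))), (2, .fail), (1, (.step [28, 30, 1, 31, 29, 29, 31, 1] .fail)), (1, .fail), (1, (.step [5, 29, 30, 1, 30, 28, 31, 29] (.step [28, 28, 30, 29, 30, 29, 30, 28, 29, 5, 29, 1, 31, 31, 31, 31] .fail))), (1, .fail), (1, (.step [5, 30, 29, 5, 28, 1, 1] .fail)), (6, .fail), (1, (.step [1, 1, 1, 30, 1, 29, 5, 5] .fail)), (4, .fail), (1, (.step [29, 1, 29, 30, 1, 29, 30, 28] .fail)), (6, .fail), (1, (.step [29, 30, 1, 31, 1, 1, 29, 29] .fail)), (2, .fail), (1, (.step [29, 1, 30, 30, 30, 30, 28, 5] .fail)), (1, (.step [28, 1, 29, 29, 5, 28, 30, 1] (.step [29, 29, 1, 30, 28, 5, 28, 1, 29, 5, 28, 28, 29, 30] .fail))), (1, (.step [29, 30, 5, 31, 1, 28, 5, 31, 28] (.step [1, 1, 28, 30, 5, 31, 5, 30, 1, 29, 5, 31, 28, 28] (.step [1, 1, 28, 30, 29,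 29, 1, 31, 28, 1, 30, 28, 31, 31, 30, 28, 5, 31, 29, 31, 5, 31, 29, 29, 5] .fail)))), (1, .fail), (1, (.step [29, 5, 30, 1, 29, 31, 5, 29] .fail)), (1, .fail), (1, (.step [28, 1, 30, 28, 31, 5, 28, 31, 29] .fail)), (5, .fail), (1, (.step [31, 1, 31, 31, 28, 28, 1] .fail)), (1, .fail), (1, (.step [5, 30, 29, 5, 28, 1, 1] .fail)), (11, .fail), (1, (.step [29, 31, 31, 5, 5, 31, 31, 28, 5] .fail)), (1, .fail), (1, (.step [28, 30, 5, 28, 5, 30, 5, 5, 28] (.step [28, 1, 30, 5, 28, 5, 5, 5, 5] (.step [28, 31, 28, 30, 30, 28, 31, 5, 29, 1, 31, 5, 5, 28, 30, 5, 29, 1, 31, 29] .fail)))), (3, .fail), (1, (.step [28, 31, 1, 29, 5, 5, 5, 28] .fail)), (5, .fail), (1, (.step [28, 1, 30, 28, 31, 5, 28, 31, 29] .fail)), (1, .fail), (1, (.step [29, 31, 28, 30, 30, 30, 28] (.step [29, 31, 31, 1, 28, 5, 28, 28, 30, 30, 30] .fail))), (3, .fail), (1,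 (.step [28, 31, 28, 28, 5, 29, 1, 31, 5] .fail)), (2, .fail), (1, (.step [1, 31, 29, 31, 29, 30, 30, 1] (.step [28, 30, 28, 5, 30, 1, 30, 5, 1, 31, 31, 28, 28, 1, 31] .fail))), (6, .fail), (1, (.step [5, 5, 28, 5, 30, 29, 5, 29, 1] .fail)), (12, .fail), (1, (.step [28, 1, 29, 5, 28, 5, 28, 30, 5] (.step [30, 29, 30, 29, 1, 28, 5, 31, 5, 28, 30, 5, 31, 31, 31, 31] (.step [5, 31, 28, 1, 1, 1, 28, 30, 30, 29, 29, 5, 31, 28, 28, 31, 1, 30, 30, 5, 30, 28, 30, 29, 5, 1, 1, 29, 31] .fail)))), (13, .fail), (1, (.step [1, 1, 30, 30, 30, 29, 5, 29, 5] .fail)), (1, .fail), (1, (.step [1, 31, 5, 28, 30, 28, 30, 30, 29] .fail)), (1, (.step [31, 29, 5, 31, 28, 28] .fail)), (2, .fail), (1, (.step [31, 31, 5, 29, 29, 30, 30, 5] .fail)), (1, (.step [29, 31, 28, 30, 30, 30, 28] (.step [29, 31, 31, 1, 28, 5, 28, 28, 30, 30, 30] .fail))), (1, (.step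 [28, 31, 5, 31, 5, 30, 29, 29] (.step [31, 28, 30, 1, 28, 28, 1, 29, 1, 28, 30, 29, 28, 29, 30] (.step [1, 29, 31, 29, 5, 28, 5, 29, 5, 5, 5, 31, 28, 30, 29, 30, 28, 1, 30, 30, 30, 29, 1, 30, 5, 30, 30, 1] .fail)))), (1, (.step [1, 1, 31, 1, 30, 30, 5, 28] .fail)), (6, .fail), (1, (.step [30, 28, 28, 5, 31, 5, 31, 5, 29] .fail)), (1, .fail), (1, (.step [29, 29, 30, 1, 28] (.step [28, 31, 1, 30, 5, 30, 30, 1, 31, 29, 5] (.step [5, 30, 30, 29, 30, 1, 30, 30, 5, 28, 5, 5, 5, 5, 31, 5, 5, 29, 31, 29, 29] .fail)))), (5, .fail), (1, (.step [31, 5, 29, 29, 30, 5, 5, 29, 5] .fail)), (1, .fail), (1, (.step [29, 31, 28, 5, 28, 31, 28, 1, 29] .fail)), (9, .fail), (1, (.step [29, 31, 28, 30, 30, 30, 28] (.step [29, 31, 31, 1, 28, 5, 28, 28, 30, 30, 30] .fail))), (1, (.step [28, 5, 28, 28, 28, 5, 29, 5] .fail)), (7, .fail), (1, (.step [28,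 31, 28, 28, 5, 29, 1, 31, 5] .fail)), (1, (.step [1, 31, 31, 31, 1, 1, 30, 29, 29] .fail)), (8, .fail), (1, (.step [30, 1, 30, 29, 29, 31, 29, 29] .fail)), (2, .fail), (1, (.step [1, 1, 30, 30, 30, 29, 5, 29, 5] (.step [30, 29, 5, 5, 30, 5, 28, 5, 5, 1, 28, 28, 30, 5, 29, 1] (.step [30, 5, 30, 1, 31, 31, 1, 1, 28, 28, 28, 29, 31, 5, 30, 30, 5, 30, 28, 28, 31, 29, 1, 31, 28, 31, 31, 5] .fail)))), (2, .fail), (1, (.step [1, 31, 29, 31, 29, 30, 30, 1] (.step [28, 30, 28, 5, 30, 1, 30, 5, 1, 31, 31, 28, 28, 1, 31] .fail))), (2, .fail), (1, (.step [31, 31, 31, 31] .fail)), (1, (.step [29, 31, 28, 5, 28, 31, 28, 1, 29] .fail)), (5, .fail), (1, (.step [29, 5, 30, 1, 29, 31, 5, 29] .fail)), (1, (.step [28, 1, 29, 29, 5, 28, 30, 1] (.step [29, 29, 1, 30, 28, 5, 28, 1, 29, 5, 28, 28, 29, 30] .fail))), (1, (.step [29, 30, 5, 31, 1, 28, 5,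 31, 28] (.step [1, 1, 28, 30, 5, 31, 5, 30, 1, 29, 5, 31, 28, 28] (.step [1, 1, 28, 30, 29, 29, 1, 31, 28, 1, 30, 28, 31, 31, 30, 28, 5, 31, 29, 31, 5, 31, 29, 29, 5] .fail)))), (4, .fail), (1, (.step [5, 28, 1, 31, 1, 30, 30, 1] .fail)), (2, .fail), (1, (.step [30, 28, 30, 29, 29, 29, 5, 28] .fail)), (5, .fail), (1, (.step [30, 5, 30, 1, 1, 1, 31, 5] .fail)), (12, .fail), (1, (.step [31, 29, 31, 5, 30, 28, 28, 5, 29] .fail)), (4, .fail), (1, (.step [28, 1, 30, 28, 31, 5, 28, 31, 29] .fail)), (4, .fail), (1, (.step [29, 31, 1, 31, 31, 1, 30, 28] (.step [28, 30, 29, 31, 5, 31, 28, 1, 5, 29, 29, 30, 30, 5] (.step [29, 29, 1, 5, 1, 29, 31, 5, 29, 30, 29, 30, 30, 30, 30, 30, 30, 29, 31, 31, 31, 29, 30, 28, 31] .fail)))), (2, .fail), (1, (.step [29, 5, 31, 1, 30, 1, 29, 31, 1] .fail)), (3, .fail), (1, (.step [1, 31, 5, 28, 30, 28,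 30, 30, 29] .fail)), (1, .fail), (1, (.step [29, 31, 29, 1, 31, 28, 28, 31, 1] .fail)), (1, .fail), (1, (.step [31, 31, 31, 31] .fail)), (1, .fail), (1, (.step [29, 31, 28, 5, 28, 31, 28, 1, 29] .fail)), (1, .fail), (1, (.step [30, 28, 30, 29, 29, 29, 5, 28] .fail)), (1, (.step [5, 28, 1, 31, 1, 30, 30, 1] .fail)), (1, (.step [5, 29, 5, 31, 5, 30, 1, 1] .fail)), (1, (.step [28, 31, 5, 29, 5, 28, 31, 1] (.step [5, 28, 29, 28, 30, 28, 1, 1, 31, 5, 31, 5, 30, 30] .fail))), (1, (.step [29, 31, 1, 30, 28, 5, 5, 31, 29] (.step [5, 28, 29, 28, 30, 28, 1, 1, 31, 5, 31, 5, 30, 30] (.step [30, 1, 30, 30, 30, 1, 29, 31, 5, 28, 5, 1, 29, 5, 30, 30, 30, 29, 28, 1, 30, 5, 28, 5, 5, 5, 5] .fail)))), (1, (.step [28, 30, 5, 28, 5, 30, 5, 5, 28] (.step [31, 1, 28, 1, 1, 30, 5, 29, 1, 28, 28, 28, 31, 29, 31] .fail))), (1, .fail), (1, (.step [29,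 31, 1, 30, 28, 5, 5, 31, 29] (.step [5, 28, 29, 28, 30, 28, 1, 1, 31, 5, 31, 5, 30, 30] (.step [30, 1, 30, 30, 30, 1, 29, 31, 5, 28, 5, 1, 29, 5, 30, 30, 30, 29, 28, 1, 30, 5, 28, 5, 5, 5, 5] .fail)))), (1, (.step [1, 30, 29, 5, 29, 5, 30, 28, 5] (.step [30, 29, 30, 5, 29, 5, 5, 29, 1, 28, 1, 1, 30, 5] (.step [29, 29, 31, 31, 28, 30, 29, 1, 1, 28, 31, 31, 5, 5, 5, 1, 1, 29, 1, 29, 1, 31, 28, 30, 28, 1] .fail)))), (1, (.step [31, 1, 1, 1, 30, 30, 29, 5] (.step [31, 31, 29, 1, 30, 30, 30, 30, 28, 5, 30, 30, 30] (.step [1, 29, 1, 30, 5, 30, 1, 5, 28, 5, 29, 5, 5, 31, 1, 30, 1, 28, 1] .fail)))), (1, (.step [31, 29, 5, 5, 30, 5, 28, 5, 5] .fail)), (1, (.step [1, 31, 28, 28, 28, 5, 31, 29, 29] .fail)), (1, (.step [1, 31, 31, 1, 30, 1, 29] (.step [5, 30, 29, 31, 31, 1, 31, 31, 28, 1, 28, 29, 30] (.step [29, 5, 5, 29, 5, 31, 5, 28, 5,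 28, 30, 29, 29, 29, 5, 28, 31, 28, 29, 5, 5, 29, 5, 30, 30, 30, 1] .fail)))), (1, (.step [1, 28, 31, 1, 29, 5, 5] (.step [31, 28, 1, 1, 31, 29, 31, 29, 31, 31, 30] (.step [5, 5, 5, 29, 1, 30, 29, 5, 5, 30, 1, 31, 31, 1, 30, 30, 5, 30, 28, 30, 29, 5, 1, 1, 29, 31] .fail)))), (1, .fail), (1, (.step [28, 1, 31, 1, 29, 29, 5, 5] (.step [28, 28, 31, 29, 1, 29, 1, 29, 29, 31, 31, 28] (.step [5, 31, 1, 31, 30, 30, 1, 31, 29, 5, 5, 30, 30, 31, 31, 31, 1, 30, 1, 31, 29, 5, 30, 1, 29, 30] .fail)))), (1, (.step [5, 31, 31, 5, 29, 1, 1, 30, 5] .fail)), (2, .fail), (1, (.step [1, 31, 31, 1, 30, 1, 29] (.step [5, 30, 29, 31, 31, 1, 31, 31, 28, 1, 28, 29, 30] (.step [29, 5, 5, 29, 5, 31, 5, 28, 5, 28, 30, 29, 29, 29, 5, 28, 31, 28, 29, 5, 5, 29, 5, 30, 30, 30, 1] .fail)))), (1, .fail), (1, (.step [31, 1, 1, 1, 30, 30, 29, 5] .fail)), (1, .fail),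 (1, (.step [31, 1, 28, 28, 1, 30, 30, 1] (.step [29, 30, 29, 31, 5, 31, 28, 5, 31, 31, 30] (.step [5, 31, 29, 30, 5, 29, 5, 5, 28, 29, 1, 28, 5, 28, 31, 31, 28, 31, 30, 30, 1, 29, 30, 1, 30, 28, 31, 28] .fail)))), (1, (.step [5, 29, 5, 29, 31, 28, 5, 5] (.step [31, 1, 28, 1, 1, 30, 5, 29, 1, 28, 28, 28, 31, 29, 31] (.step [1, 30, 29, 30, 1, 31, 5, 1, 1, 31, 5, 28, 28, 31, 1, 30, 1, 30, 29] .fail)))), (1, (.step [5, 28, 1, 30, 28, 30, 5, 5, 5] .fail)), (1, (.step [29, 31, 5, 28, 28, 30, 28] (.step [29, 29, 5, 5, 5, 28, 31, 29, 5, 5, 5, 29, 29, 30, 30, 5] (.step [5, 28, 28, 30, 5, 31, 5, 5, 28, 5, 28, 1, 30, 1, 30, 1, 29, 29, 31] .fail)))), (1, (.step [5, 5, 31, 1, 30, 1, 28, 1] .fail)), (1, .fail), (1, (.step [29, 5, 31, 28, 28] .fail)), (1, (.step [1, 31, 31, 1, 30, 1, 29] .fail)), (1, .fail), (1, (.step [28, 5, 29, 5, 30, 5,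 30, 5] (.step [28, 28, 30, 29, 30, 29, 30, 28, 29, 5, 29, 1, 31, 31, 31, 31] (.step [30, 30, 28, 28, 1, 28, 31, 28, 1, 1, 1, 30, 28, 30, 29, 1, 28, 31, 29, 29, 5, 30, 30, 29, 29, 29] .fail)))), (1, (.step [30, 29, 29, 29, 31, 29, 31, 1] .fail)), (1, (.step [29, 1, 29, 1, 30, 1, 28, 28] (.step [31, 28, 5, 31, 1, 28, 30, 5, 31, 5, 30, 30, 30] (.step [5, 30, 29, 1, 28, 30, 5, 30, 30, 29, 1, 29, 5, 31, 5, 30, 30, 5, 31, 28, 29, 29, 5, 30, 30, 29, 29, 29] .fail)))), (1, (.step [28, 28, 28, 30, 30, 29, 30, 5] (.step [1, 29, 5, 31, 28, 28, 1, 29, 5, 30, 1, 28, 29, 30] (.step [28, 31, 31, 29, 31, 29, 5, 29, 5, 30, 30, 30, 30, 31, 31, 1, 30, 28, 1, 1, 28, 1, 30, 28, 28] .fail)))), (1, (.step [29, 30, 5, 5, 31, 28, 1, 31, 29] (.step [29, 30, 29, 31, 5, 31, 28, 5, 31, 31, 30] (.step [5, 31, 28, 1, 1, 1, 28, 30, 30, 29, 29, 5, 31, 28, 28,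 31, 1, 30, 30, 5, 30, 28, 30, 29, 5, 1, 1, 29, 31] .fail)))), (2, .fail), (1, (.step [5, 5, 28, 5, 30, 29, 5, 29, 1] (.step [31, 29, 5, 30, 1, 31, 28, 28, 30, 29, 1, 29, 5, 31, 28, 28] (.step [28, 5, 29, 29, 1, 29, 1, 29, 1, 28, 29, 30, 31, 31, 31, 31, 1, 28, 1, 1, 30, 5, 30] .fail)))), (2, .fail), (1, (.step [1, 28, 1, 1, 30, 5] .fail)), (1, .fail), (1, (.step [31, 1, 1, 1, 30, 30, 29, 5] (.step [28, 5, 31, 31, 28, 31, 28, 31, 28, 31, 1, 29, 31, 31, 31] (.step [1, 29, 29, 1, 1, 28, 31, 31, 1, 1, 29, 1, 31, 31, 28, 1, 1, 1, 28, 1, 30, 5, 28, 5, 5, 5, 5] .fail)))), (1, (.step [28, 5, 29, 5, 30, 5, 30, 5] (.step [28, 28, 30, 29, 30, 29, 30, 28, 29, 5, 29, 1, 31, 31, 31, 31] (.step [30, 30, 28, 28, 1, 28, 31, 28, 1, 1, 1, 30, 28, 30, 29, 1, 28, 31, 29, 29, 5, 30, 30, 29, 29, 29] .fail)))), (2, .fail), (1, (.step [29, 5, 31, 28, 28,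 30] .fail)), (1, (.step [30, 1, 30, 5, 5, 5, 31, 1] (.step [29, 5, 29, 31, 1, 30, 1, 31, 1, 28, 31, 29, 29, 30, 1, 28] (.step [30, 5, 30, 1, 31, 31, 1, 1, 28, 28, 28, 29, 31, 5, 30, 30, 5, 30, 28, 28, 31, 29, 1, 31, 28, 31, 31, 5] .fail)))), (1, .fail), (1, (.step [28, 5, 29, 5, 30, 5, 30, 5] (.step [28, 28, 30, 29, 30, 29, 30, 28, 29, 5, 29, 1, 31, 31, 31, 31] (.step [30, 30, 28, 28, 1, 28, 31, 28, 1, 1, 1, 30, 28, 30, 29, 1, 28, 31, 29, 29, 5, 30, 30, 29, 29, 29] .fail)))), (1, (.step [30, 1, 1, 29, 30, 28, 1, 28, 1] (.step [28, 30, 29, 31, 5, 31, 28, 1, 5, 29, 29, 30, 30, 5] (.step [28, 31, 31, 29, 31, 29, 5, 29, 5, 30, 30, 30, 30, 31, 31, 1, 30, 28, 1, 1, 28, 1, 30, 28, 28] .fail)))), (1, (.step [1, 1, 30, 30, 30, 29, 5, 29, 5] (.step [28, 31, 31, 29, 5, 5, 5, 29, 30, 1, 31, 31, 31] (.step [5, 5, 31, 31, 31, 31, 29, 5, 29,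 5, 28, 31, 29, 31, 5, 1, 30, 30, 29, 30, 5, 28, 30, 1, 5, 29] .fail)))), (1, (.step [29, 5, 31, 28, 28, 30] .fail)), (1, (.step [1, 30, 30, 28, 5, 30, 30, 28, 5] .fail)), (1, .fail), (1, (.step [29, 5, 31, 28, 28] .fail)), (1, (.step [28, 30, 1, 31, 29, 29, 31, 1] (.step [1, 1, 29, 5, 5, 28, 5, 30, 29, 28, 28, 28, 5, 29, 1, 31] (.step [29, 1, 30, 30, 30, 5, 5, 31, 5, 5, 5, 29, 31, 31, 5, 31, 1, 28, 30] .fail)))), (1, (.step [29, 30, 5, 5, 31, 28, 1, 31, 29] (.step [28, 31, 28, 5, 31, 1, 28, 1, 1, 30, 28, 31, 31, 31, 31, 31] (.step [1, 31, 1, 31, 28, 31, 5, 29, 30, 1, 29, 1, 31, 31, 31, 31, 31, 31, 1, 29, 31, 31, 31, 31, 5, 28, 30, 30] .fail)))), (1, (.step [1, 31, 31, 1, 30, 1, 29] .fail)), (1, .fail), (1, (.step [28, 28, 1, 29, 1, 31, 1, 1] .fail)), (1, (.step [1, 30, 29, 5, 29, 5, 30, 28, 5] (.step [28, 28, 30, 30, 30, 30, 29,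 29, 29, 1, 31, 31, 31] (.step [5, 5, 28, 31, 31, 29, 30, 29, 1, 29, 31, 29, 29, 1, 30, 28] .fail)))), (1, (.step [] .fail)), (1, .fail), (1, (.step [5, 28, 1, 30, 30, 29, 30, 5] (.step [1, 1, 1, 28, 5, 28, 1, 28, 31, 5, 5, 28, 29, 30] (.step [5, 28, 28, 30, 28, 31, 28, 31, 1, 29, 5, 31, 28, 28, 30, 30, 31, 30, 30, 1, 29, 30, 1, 30, 28, 31, 28] .fail)))), (1, (.step [5, 28, 1, 31, 1, 30, 30, 1] (.step [28, 1, 30, 5, 28, 5, 5, 5, 5] (.step [5, 30, 29, 30, 30, 1, 1, 28, 28, 28, 29, 29, 30, 1, 28, 31, 31, 31, 31, 31, 1, 28, 1, 1, 30, 5, 30] .fail)))), (1, (.step [] .fail)), (1, (.step [28, 1, 31, 28, 5, 28, 30, 1, 1] (.step [28, 31, 29, 29, 5, 5, 5, 29, 28, 28, 28, 1, 1, 30, 30] (.step [30, 1, 30, 30, 30, 1, 29, 31, 5, 28, 5, 1, 29, 5, 30, 30, 30, 29, 28, 1, 30, 5, 28, 5, 5, 5, 5] .fail)))), (1, (.step [5, 28, 1, 30, 28, 30, 5, 5,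 5] (.step [5, 31, 1, 28, 5, 30, 5, 28, 5, 5, 30, 28, 31, 31] (.step [29, 29, 29, 30, 5, 31, 31, 29, 29, 29, 30, 1, 28, 30, 30, 1, 28, 30, 5, 31, 31, 1, 31, 5, 30, 29] .fail)))), (1, (.step [5, 31, 5, 5, 28, 31, 5] (.step [5, 31, 29, 5, 5, 5, 31, 28, 1, 31, 31, 28, 28, 1] (.step [29, 30, 28, 1, 31, 5, 31, 1, 28, 30, 28, 30, 5, 5, 29, 1, 1, 29, 1, 30, 29, 28, 29, 30, 1, 28, 28, 1] .fail)))), (2, .fail), (1, (.step [5, 28, 1, 30, 28, 30, 5, 5, 5] .fail)), (1, (.step [30, 30, 30] .fail)), (1, (.step [29, 30, 28, 31, 29, 31, 5, 28] (.step [31, 31, 5, 5, 29, 1, 28, 31, 1, 1, 28, 5, 31, 5, 5, 29] (.step [1, 30, 29, 30, 1, 31, 5, 1, 1, 31, 5, 28, 28, 31, 1, 30, 1, 30, 29] .fail)))), (1, .fail), (1, (.step [28, 30, 1, 31, 29, 29, 31, 1] (.step [1, 1, 29, 5, 5, 28, 5, 30, 29, 28, 28, 28, 5, 29, 1, 31] (.step [29, 1, 30, 30, 30, 5, 5, 31,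 5, 5, 5, 29, 31, 31, 5, 31, 1, 28, 30] .fail)))), (1, (.step [29, 5, 31, 1, 29, 5, 30, 30, 28] (.step [1, 29, 5, 31, 28, 28, 1, 29, 5, 30, 1, 28, 29, 30] (.step [29, 30, 28, 30, 29, 30, 1, 1, 28, 28, 28, 5, 29, 1, 30, 29, 29, 5, 30, 30, 29, 29, 29] .fail)))), (1, (.step [29, 5, 31, 28, 28] .fail)), (1, (.step [5, 29, 29, 30, 5, 5, 29, 5] (.step [29, 1, 31, 31, 28, 1, 1, 1, 5, 28, 5, 30, 28, 1, 1] (.step [29, 29, 29, 5, 5, 30, 30, 5, 31, 1, 1, 28, 5, 29, 29, 1, 1, 29, 29, 29, 5, 30, 30, 29, 29, 29] .fail)))), (1, .fail), (1, (.step [1, 31, 31, 5, 5, 30, 30, 29, 29] (.step [29, 31, 29, 5, 31, 31, 29, 1, 31, 28, 30, 30, 30] (.step [1, 30, 30, 1, 28, 1, 28, 5, 29, 5, 5, 5, 28, 5, 28, 28, 5, 28, 29, 31, 29, 30, 30, 1, 29, 31, 31, 28] .fail)))), (1, (.step [1, 1, 1, 30, 30, 29, 5] .fail))])), (2299, (.badPow 23 1)), (1, (Cert.rl [(3,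 .fail), (1, (.step [1, 31, 29, 31, 31, 31, 1, 1, 29] (.step [5, 29, 29, 5, 31, 28, 29, 28, 31, 5, 28, 5, 5] (.step [28, 31, 5, 5, 29, 5, 30, 1, 30, 5, 29, 5, 1, 1, 28, 28, 1, 29, 31, 29, 31, 28] .fail)))), (1, (.step [31, 1, 1, 28, 5, 30, 29, 5] .fail)), (1, .fail), (1, (.step [30, 29, 5, 28, 31, 29, 31, 5] .fail)), (3, .fail), (1, (.step [31, 31, 31, 31] .fail)), (1, .fail), (1, (.step [28, 31, 28, 28, 5, 29, 1, 31, 5] .fail)), (1, (.step [28, 1, 29, 5, 28, 5, 28, 30, 5] (.step [29, 31, 31, 1, 28, 5, 28, 28, 30, 30, 30] (.step [29, 29, 5, 31, 31, 1, 30, 29, 5, 1, 31, 31, 1, 30, 1, 29, 31, 31, 31, 31, 1, 28, 1, 1, 30, 5, 30] .fail)))), (1, .fail), (1, (.step [5, 5, 5, 29, 30, 30, 5, 28] (.step [1, 28, 1, 29, 29, 29, 1, 29, 31, 31, 31] .fail))), (1, (.step [5, 29, 1, 30, 5, 29, 1, 1] .fail)), (1, (.step [31, 31] .fail)), (2, .fail),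 (1, (.step [1, 1, 30, 1, 30, 30, 28, 28, 5] .fail)), (1, (.step [5, 29, 29, 30, 30, 5] .fail)), (1, (.step [28, 28, 28, 1, 29, 5, 30, 28, 28] (.step [1, 31, 5, 31, 28, 28, 28, 5, 5, 30, 30, 30] .fail))), (6, .fail), (1, (.step [28, 1, 28, 30, 28, 30, 5, 31, 5] .fail)), (1, .fail), (1, (.step [5, 30, 30, 30, 30, 28, 30, 29] (.step [30, 29, 31, 5, 31, 5, 31, 5, 5, 28, 5, 5, 31, 31] (.step [29, 30, 28, 30, 29, 30, 1, 1, 28, 28, 28, 5, 29, 1, 30, 29, 29, 5, 30, 30, 29, 29, 29] .fail)))), (9, .fail), (1, (.step [31, 29, 31, 28, 30, 30, 30, 28] .fail)), (2, .fail), (1, (.step [29, 31, 1, 31, 31, 1, 30, 28] (.step [28, 5, 31, 31, 31, 31, 31, 1, 29, 31, 31, 31, 31, 31] (.step [28, 31, 31, 29, 31, 29, 5, 29, 5, 30, 30, 30, 30, 31, 31, 1, 30, 28, 1, 1, 28, 1, 30, 28, 28] .fail)))), (2, .fail), (1, (.step [29, 5, 31, 28, 28, 30] .fail)),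 (1, (.step [30, 5, 5, 31, 31, 31, 31, 29, 5] .fail)), (1, .fail), (1, (.step [5, 31, 1, 28, 1, 29, 1, 28] (.step [1, 1, 28, 30, 5, 31, 5, 30, 1, 29, 5, 31, 28, 28] (.step [30, 29, 30, 28, 1, 31, 5, 31, 1, 29, 1, 29, 29, 29, 5, 5, 28, 31, 28, 29, 5, 5, 29, 5, 30, 30, 30, 1] (.step [28, 1, 29, 30, 29, 1, 5, 30, 28, 28, 1, 29, 5, 30, 30, 30, 29, 1, 30, 30, 5, 30, 28, 30, 29, 5, 1, 1, 29, 31, 30, 28, 5, 5, 1, 28, 31, 29, 31, 1, 31, 31, 5, 30, 30, 5, 31, 1, 1, 28, 31, 5, 28, 1, 1, 1] (.badAt 0)))))), (1, (.step [1, 31, 5, 28, 30, 28, 30, 30, 29] .fail)), (2, .fail), (1, (.step [28, 30, 28, 30, 5, 5, 29] .fail)), (1, .fail), (1, (.step [1, 31, 29, 31, 29, 30, 30, 1] (.step [1, 30, 29, 1, 30, 1, 1, 29, 29, 31, 31, 31] (.step [1, 29, 29, 1, 1, 28, 31, 31, 1, 1, 29, 1, 31, 31, 28, 1, 1, 1, 28, 1, 30, 5, 28, 5, 5, 5, 5] .fail)))), (1, .fail),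 (1, (.step [28, 1, 30, 1, 30, 1, 29, 29] .fail)), (1, (.step [29, 1, 1, 28, 28, 28, 5, 28] (.step [29, 29, 1, 30, 30, 30, 29, 29, 31, 5, 28, 28, 28, 31, 29, 29, 5] (.step [1, 1, 28, 30, 29, 29, 1, 31, 28, 1, 30, 28, 31, 31, 30, 28, 5, 31, 29, 31, 5, 31, 29, 29, 5] .fail)))), (1, (.step [28, 5, 31, 5, 28, 28, 1] .fail)), (1, (.step [29, 1, 29, 29, 1, 29, 1, 1, 1] (.step [28, 1, 1, 29, 30, 5, 5, 5, 29, 28, 29, 30] (.step [31, 29, 5, 30, 5, 5, 31, 29, 30, 29, 5, 5, 5, 5, 30, 28, 1, 1, 29] .fail)))), (1, .fail), (1, (.step [30, 29, 1, 28, 28, 28, 31, 29] .fail)), (2, .fail), (1, (.step [28, 5, 28, 28, 28, 5, 29, 5] .fail)), (1, (.step [31, 1, 30, 28, 30, 29, 1, 28] (.step [28, 28, 28, 31, 31, 1, 28, 28] (.step [5, 30, 29, 30, 30, 1, 1, 28, 28, 28, 29, 29, 30, 1, 28, 31, 31, 31, 31, 31, 1, 28, 1, 1, 30, 5, 30] (.step [1, 5, 30, 28,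 1, 1, 31, 29, 31, 29, 1, 31, 31, 28, 28, 1, 30, 31, 31, 5, 29, 1, 1, 1, 1, 31, 28] (.badAt 0)))))), (1, (.step [1, 29, 31, 31, 31, 31, 5, 28] .fail)), (3, .fail), (1, (.step [1, 31, 5, 29, 30, 5, 29, 30, 29] .fail)), (1, .fail), (1, (.step [28, 28, 1, 1, 31, 1, 1, 1] (.step [30, 30, 29, 29, 5, 29, 30, 28, 1, 29, 29, 30, 1, 28] .fail))), (1, (.step [30, 1, 1, 30, 1, 1, 30, 28, 5] .fail)), (7, .fail), (1, (.step [5, 30, 30, 30, 30, 28, 30, 29] .fail)), (1, (.step [5, 31, 1, 29, 5, 30, 28] .fail)), (3, .fail), (1, (.step [30, 28, 1, 1, 28, 1, 31, 28] .fail)), (1, (.step [1, 29, 30, 30, 28, 31, 28, 30, 28] (.step [28, 28, 28, 28, 5, 1, 28, 30, 28, 1, 28, 31, 31] .fail))), (4, .fail), (1, (.step [5, 28, 5, 30, 28, 1, 1] .fail)), (1, .fail), (1, (.step [28, 30, 28, 30, 30, 1, 29, 5] .fail)), (1, .fail), (1, (.step [1, 1, 1, 30, 1, 29,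 5, 5] (.step [1, 28, 5, 28, 5, 28, 28, 30, 5, 29, 29, 31, 1] .fail))), (5, .fail), (1, (.step [1, 1, 1, 30, 1, 29, 5, 5] .fail)), (1, (.step [5, 28, 5, 30, 1, 28, 31, 1] (.step [1, 30, 29, 1, 30, 1, 1, 29, 29, 31, 31, 31] .fail))), (1, .fail), (1, (.step [28, 1, 31, 1, 29, 29, 5, 5] (.step [28, 5, 29, 31, 29, 5, 28, 1, 28, 5, 5, 28, 29, 30] (.step [29, 29, 29, 5, 5, 30, 30, 5, 31, 1, 1, 28, 5, 29, 29, 1, 1, 29, 29, 29, 5, 30, 30, 29, 29, 29] .fail)))), (2, .fail), (1, (.step [29, 31, 5, 28, 28, 30, 28] (.step [29, 5, 29, 30, 29, 5, 29, 5, 5, 5, 30, 30] (.step [29, 29, 31, 31, 28, 30, 29, 1, 1, 28, 31, 31, 5, 5, 5, 1, 1, 29, 1, 29, 1, 31, 28, 30, 28, 1] .fail)))), (5, .fail), (1, (.step [30, 1, 28, 5, 31, 5, 5, 29] (.step [29, 1, 30, 5, 30, 30, 5, 29, 29, 31, 31, 31] .fail))), (5, .fail), (1, (.step [31, 1, 28, 31, 29, 1, 30, 5,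 5] .fail)), (5, .fail), (1, (.step [29, 29, 29, 31, 29, 31, 1] (.step [1, 1, 1, 28, 5, 28, 1, 28, 31, 5, 5, 28, 29, 30] (.step [1, 1, 28, 30, 29, 29, 1, 31, 28, 1, 30, 28, 31, 31, 30, 28, 5, 31, 29, 31, 5, 31, 29, 29, 5] .fail)))), (1, (.step [1, 1, 29, 5, 28, 30, 5, 28, 1] (.step [1, 1, 28, 1, 1, 1, 31, 29, 5, 5, 28, 29, 30] (.step [29, 5, 5, 28, 5, 5, 5, 28, 5, 5, 5, 28, 5, 31, 31, 31, 29, 31, 29, 30, 30, 1, 29, 31, 31, 28] .fail)))), (5, .fail), (1, (.step [30, 1, 30, 29, 1, 1, 30, 1] .fail)), (1, (.step [5, 29, 31, 28, 1, 28, 28] .fail)), (2, .fail), (1, (.step [1, 30, 5, 5, 5, 31, 1] (.step [29, 5, 29, 30, 29, 5, 29, 5, 5, 5, 30, 30] (.step [1, 1, 28, 5, 1, 31, 29, 1, 1, 28, 5, 28, 1, 29, 30, 29, 30, 28, 28, 1, 1, 28, 28, 1, 29, 31, 29, 31, 28] .fail)))), (1, .fail), (1, (.step [29, 5, 29, 30, 30, 29, 5, 28] .fail)), (5,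 .fail), (1, (.step [5, 5, 29, 1, 28, 31, 1] .fail)), (4, .fail), (1, (.step [28, 30, 28, 30, 5, 5, 29] .fail)), (1, (.step [28, 30, 28, 30, 30, 1, 29, 5] (.step [30, 28, 5, 5, 1, 28, 31, 29, 31, 1, 31, 31, 5] .fail))), (4, .fail), (1, (.step [1, 1, 31, 1, 30, 30, 5, 28] .fail)), (3, .fail), (1, (.step [1, 28, 1, 31, 1, 29, 31, 29] .fail)), (1, (.step [28, 30, 5, 5, 30, 5, 5, 29] .fail)), (2, .fail), (1, (.step [31, 1, 28, 28, 1, 30, 30, 1] .fail)), (1, .fail), (1, (.step [28, 5, 31, 1, 31, 29, 5, 29] (.step [5, 28, 28, 28, 5, 28, 31, 28, 31, 1, 30, 30] .fail))), (1, (.step [1, 29, 1, 1, 28, 30, 28, 1, 29] .fail)), (1, .fail), (1, (.step [1, 31, 28, 30, 5, 5, 5, 30, 1] (.step [29, 29, 1, 30, 28, 5, 28, 1, 29, 5, 28, 28, 29, 30] (.step [28, 31, 28, 30, 30, 28, 31, 5, 29, 1, 31, 5, 5, 28, 30, 5, 29, 1, 31, 29] (.step [28, 1, 29,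 30, 29, 1, 5, 30, 28, 28, 1, 29, 5, 30, 30, 30, 29, 1, 30, 30, 5, 30, 28, 30, 29, 5, 1, 1, 29, 31, 30, 28, 5, 5, 1, 28, 31, 29, 31, 1, 31, 31, 5, 30, 30, 5, 31, 1, 1, 28, 31, 5, 28, 1, 1, 1] (.badAt 0)))))), (1, .fail), (1, (.step [29, 1, 29, 1, 30, 1, 28, 28] .fail)), (1, (.step [28, 31, 29, 29, 31, 29, 31, 31, 28] .fail)), (1, .fail), (1, (.step [5, 5, 29, 1, 28, 31, 1] .fail)), (6, .fail), (1, (.step [28, 31, 28, 28, 5, 29, 1, 31, 5] .fail)), (4, .fail), (1, (.step [29, 31, 1, 30, 28, 5, 5, 31, 29] (.step [30, 29, 31, 28, 30, 30, 30, 28, 31, 31, 31] (.step [1, 31, 1, 31, 28, 31, 5, 29, 30, 1, 29, 1, 31, 31, 31, 31, 31, 31, 1, 29, 31, 31, 31, 31, 5, 28, 30, 30] (.step [1, 5, 30, 28, 1, 1, 31, 29, 31, 29, 1, 31, 31, 28, 28, 1, 30, 31, 31, 5, 29, 1, 1, 1, 1, 31, 28] (.badAt 0)))))), (7, .fail), (1, (.step [1, 31, 28, 28, 28, 5,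 31, 29, 29] .fail)), (1, (.step [5, 30, 29, 5, 31, 1, 29, 1] .fail)), (5, .fail), (1, (.step [1, 31, 28, 28, 28, 5, 31, 29, 29] .fail)), (2, .fail), (1, (.step [28, 1, 1, 31, 29, 31, 29] .fail)), (1, .fail), (1, (.step [29, 29, 5, 31, 5, 28, 5, 28] (.step [31, 28, 5, 31, 1, 28, 30, 5, 31, 5, 30, 30, 30] .fail))), (1, (.step [1, 31, 28, 5, 30, 5, 29, 30, 28] .fail)), (3, .fail), (1, (.step [31, 31, 29, 29, 30, 1, 28] .fail)), (1, (.step [28, 5, 28, 5, 31, 29, 29, 29, 1] .fail)), (1, (.step [29, 5, 30, 29, 1, 28, 30, 1] (.step [28, 28, 30, 5, 29, 31, 29, 5, 28, 1, 31, 5, 5, 29, 5, 31] (.step [30, 30, 1, 1, 29, 5, 30, 29, 1, 31, 1, 5, 5, 31, 1, 31, 5, 28, 5, 29] .fail)))), (1, .fail), (1, (.step [1, 1, 29, 29, 29, 30, 5, 29, 5] (.step [28, 28, 30, 5, 29, 31, 29, 5, 28, 1, 31, 5, 5, 29, 5, 31] .fail))), (5, .fail), (1, (.step [29,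 31, 1, 28, 5, 30, 1] (.step [28, 5, 5, 30, 30, 30, 28, 30, 5, 1, 28, 5, 31, 5, 5, 29] (.step [30, 30, 28, 28, 1, 28, 31, 28, 1, 1, 1, 30, 28, 30, 29, 1, 28, 31, 29, 29, 5, 30, 30, 29, 29, 29] .fail)))), (1, (.step [28, 1, 29, 5, 29, 5, 31, 31, 5] .fail)), (2, .fail), (1, (.step [31, 31, 31, 31] .fail)), (4, .fail), (1, (.step [1, 28, 5, 31, 28, 1, 31, 28] (.step [1, 31, 1, 28, 28, 28, 1, 29, 30, 29, 29, 29, 30, 1, 28, 31] (.step [29, 29, 5, 5, 29, 30, 1, 1, 29, 1, 28, 28, 31, 1, 28, 28, 31, 31, 30, 30, 28, 30, 28, 30, 5, 5, 29, 30] .fail)))), (1, .fail), (1, (.step [1, 30, 29, 1, 1, 30, 1] (.step [30, 29, 5, 5, 30, 5, 28, 5, 5, 1, 28, 28, 30, 5, 29, 1] (.step [] .fail)))), (1, .fail), (1, (.step [5, 5, 5, 30, 29, 30, 29, 5, 28] .fail)), (1, .fail), (1, (.step [31, 1, 28, 31, 29, 1, 30, 5, 5] (.step [28, 1, 30, 30, 1, 30, 5, 5,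 5, 30, 30, 30] (.step [] .fail)))), (1, .fail), (1, (.step [28, 28, 1, 1, 31, 1, 1, 1] (.step [29, 31, 31, 1, 28, 5, 28, 28, 30, 30, 30] (.step [5, 31, 28, 1, 1, 1, 28, 30, 30, 29, 29, 5, 31, 28, 28, 31, 1, 30, 30, 5, 30, 28, 30, 29, 5, 1, 1, 29, 31] .fail)))), (1, (.step [29, 30, 1, 31, 1, 1, 29, 29] .fail)), (1, .fail), (1, (.step [5, 5, 31, 1, 30, 1, 28, 1] .fail)), (6, .fail), (1, (.step [29, 5, 31, 1, 30, 1, 29, 31, 1] (.step [31, 5, 5, 30, 30, 29, 5, 5, 28, 28, 5, 31, 31, 31] (.step [1, 28, 5, 30, 5, 5, 30, 28, 1, 1, 1, 1, 30, 30, 29, 5, 1, 28, 30, 5, 31, 31, 1, 31, 5, 30, 29] .fail)))), (1, (.step [1, 31, 28, 31, 31, 5, 29, 1] .fail)), (1, (.step [1, 29, 30, 28, 5, 31, 1, 29, 5] .fail)), (7, .fail), (1, (.step [28, 28, 5, 31, 1, 31, 31, 1, 29] .fail)), (1, .fail), (1, (.step [30, 5, 31, 31, 5, 29, 29, 5] .fail)), (1, .fail),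 (1, (.step [1, 30, 5, 28, 1, 29, 29, 30, 29] .fail)), (1, (.step [5, 29, 30, 1, 30, 28, 31, 29] .fail)), (1, (.step [28, 1, 29, 29, 5, 28, 30, 1] (.step [30, 1, 29, 1, 29, 31, 5, 5, 31, 5, 29, 31, 31] (.step [1, 1, 28, 5, 1, 31, 29, 1, 1, 28, 5, 28, 1, 29, 30, 29, 30, 28, 28, 1, 1, 28, 28, 1, 29, 31, 29, 31, 28] .fail)))), (2, .fail), (1, (.step [] (.step [31, 31, 5, 31, 5, 31, 31, 28, 1, 1, 29] (.step [28, 31, 5, 5, 29, 5, 30, 1, 30, 5, 29, 5, 1, 1, 28, 28, 1, 29, 31, 29, 31, 28] .fail)))), (1, .fail), (1, (.step [31, 29, 29, 5, 30, 29, 29, 5] .fail)), (1, (.step [5, 31, 29, 31, 29, 31, 1, 29] .fail)), (3, .fail), (1, (.step [28, 28, 30, 5, 28, 31, 28, 31, 28] (.step [29, 1, 30, 5, 30, 30, 5, 29, 29, 31, 31, 31] (.step [1, 28, 31, 28, 31, 29, 5, 29, 1, 28, 1, 30, 28, 30, 30, 28, 1, 31, 31, 28, 30, 30, 28, 28, 1, 1, 29, 5] .fail)))),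 (3, .fail), (1, (.step [28, 30, 28, 31, 29, 5, 28, 28] (.step [29, 30, 29, 31, 5, 31, 28, 5, 31, 31, 30] (.step [28, 30, 29, 29, 28, 5, 29, 5, 31, 5, 5, 5, 5, 28, 31, 28, 30, 1, 1, 1, 29, 1, 29, 1, 31, 28, 30, 28, 1] .fail)))), (1, (.step [29, 31, 28, 5, 28, 31, 28, 1, 29] (.step [30, 29, 31, 28, 30, 30, 30, 28, 31, 31, 31] (.step [29, 28, 1, 1, 28, 28, 28, 31, 31, 29, 1, 30, 29, 1, 1, 30, 1, 31, 31, 31, 29, 29, 1, 29, 5, 30, 30, 28] .fail)))), (1, (.step [1, 30, 29, 29, 31, 29, 29] .fail)), (1, (.step [1, 31, 31, 1, 30, 1, 29, 31] (.step [5, 30, 29, 30, 30, 28, 5, 30, 1, 30, 28, 1, 31, 31, 31, 31] .fail))), (2, .fail), (1, (.step [28, 31, 29, 29, 31, 29, 31, 31, 28] .fail)), (1, .fail), (1, (.step [1, 30, 29, 1, 1, 30, 1] .fail)), (1, (.step [5, 30, 1, 30, 5, 29, 31, 28] (.step [31, 31, 5, 5, 29, 1, 28, 31, 1, 1, 28, 5, 31, 5,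 5, 29] (.step [5, 29, 31, 31, 1, 1, 29, 31, 29, 1, 31, 31, 31, 31, 31, 31, 31, 1, 28, 30, 30, 29, 30, 1, 29, 30, 1] .fail)))), (1, .fail), (1, (.step [28, 5, 30, 5, 30, 1, 1, 29] (.step [1, 31, 29, 30, 29, 29, 5, 31, 1, 31, 29, 30, 30] (.step [29, 1, 30, 30, 30, 5, 5, 31, 5, 5, 5, 29, 31, 31, 5, 31, 1, 28, 30] .fail)))), (1, (.step [29, 1, 31, 5, 5, 5, 31, 31, 5] (.step [28, 28, 28, 31, 31, 1, 28, 28] (.step [31, 29, 1, 29, 31, 28, 5, 31, 28, 28, 5, 1, 31, 31, 28, 28, 1, 5, 29, 30, 1, 30, 28, 31, 29] .fail)))), (1, .fail), (1, (.step [29, 5, 31, 29, 1, 29, 5, 28, 1] (.step [29, 31, 31, 28, 28, 30, 1, 1, 30, 28, 30, 5, 30, 30] (.step [5, 5, 28, 31, 31, 29, 30, 29, 1, 29, 31, 29, 29, 1, 30, 28] .fail)))), (1, (.step [1, 1, 29, 5, 28, 30, 5, 28, 1] (.step [30, 28, 31, 31, 31, 1, 28, 5, 1, 1, 29, 1, 31, 1, 1, 28] (.step [29, 29, 29,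 1, 31, 28, 29, 1, 31, 31, 31, 1, 28, 30, 5, 5, 29, 31, 29] .fail)))), (3, .fail), (1, (.step [30, 1, 1, 30, 1, 1, 30, 28, 5] (.step [29, 29, 31, 1, 29, 1, 1, 29, 31, 5, 30, 30, 30] (.step [29, 5, 5, 28, 5, 5, 5, 28, 5, 5, 5, 28, 5, 31, 31, 31, 29, 31, 29, 30, 30, 1, 29, 31, 31, 28] .fail)))), (1, (.step [1, 29, 30, 30, 28, 31, 28, 30, 28] .fail)), (1, (.step [30, 28, 28, 5, 31, 5, 31, 5, 29] .fail)), (1, .fail), (1, (.step [5, 31, 31, 1, 1, 28, 5, 31, 5] .fail)), (1, (.step [29, 31, 1, 31, 31, 1, 30, 28] .fail)), (1, (.step [5, 31, 1, 31, 29, 30, 28, 30, 1] .fail)), (2, .fail), (1, (.step [29, 5, 30, 29, 1, 28, 30, 1] .fail)), (2, .fail), (1, (.step [31, 31] .fail)), (1, (.step [31, 28, 29] .fail)), (2, .fail), (1, (.step [30, 1, 30, 29, 1, 1, 30, 1] .fail)), (4, .fail), (1, (.step [29, 5, 31, 29, 1, 29, 5, 28, 1] .fail)), (1,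 (.step [28, 1, 28, 30, 28, 30, 5, 31, 5] (.step [28, 30, 29, 30, 5, 31, 28, 1, 31, 31, 5, 31, 31] .fail))), (1, (.step [28, 30, 5, 28, 1, 31, 29, 1] .fail)), (2, .fail), (1, (.step [29, 1, 28, 28, 28, 31, 29] (.step [28, 28, 30, 5, 29, 31, 29, 5, 28, 1, 31, 5, 5, 29, 5, 31] (.step [28, 5, 31, 5, 31, 1, 1, 30, 29, 29, 28, 30, 29, 29, 29, 5, 28] .fail)))), (1, (.step [29, 31, 28, 28, 5, 30, 28] (.step [5, 31, 1, 28, 5, 30, 5, 28, 5, 5, 30, 28, 31, 31] (.step [5, 31, 29, 30, 5, 29, 5, 5, 28, 29, 1, 28, 5, 28, 31, 31, 28, 31, 30, 30, 1, 29, 30, 1, 30, 28, 31, 28] .fail)))), (2, .fail), (1, (.step [31, 28, 30, 29, 29, 29, 5, 28] (.step [30, 28, 28, 1, 1, 31, 1, 1, 1, 29, 5, 31, 28, 28] .fail))), (4, .fail), (1, (.step [1, 28, 5, 31, 28, 1, 31, 28] .fail)), (2, .fail), (1, (.step [1, 31, 5, 5, 29, 5] (.step [1, 1, 28, 1, 1, 1, 31, 29,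 5, 5, 28, 29, 30] (.step [29, 29, 31, 30, 29, 30, 29, 30, 5, 29, 31, 5, 31, 31, 5, 29, 1, 1, 1, 1, 31, 28] .fail)))), (2, .fail), (1, (.step [28, 30, 29, 29, 29, 5, 28] (.step [29, 1, 30, 5, 30, 30, 5, 29, 29, 31, 31, 31] (.step [29, 29, 5, 31, 31, 1, 30, 29, 5, 1, 31, 31, 1, 30, 1, 29, 31, 31, 31, 31, 1, 28, 1, 1, 30, 5, 30] (.step [28, 1, 29, 30, 29, 1, 5, 30, 28, 28, 1, 29, 5, 30, 30, 30, 29, 1, 30, 30, 5, 30, 28, 30, 29, 5, 1, 1, 29, 31, 30, 28, 5, 5, 1, 28, 31, 29, 31, 1, 31, 31, 5, 30, 30, 5, 31, 1, 1, 28, 31, 5, 28, 1, 1, 1] (.badAt 0)))))), (2, .fail), (1, (.step [5, 28, 30, 30, 29, 1, 28, 5] .fail)), (1, (.step [31, 1, 29, 5, 30, 30, 30, 29] (.step [28, 30, 5, 29, 29, 30, 28, 5, 28, 31, 31, 28, 1] (.step [1, 1, 28, 5, 1, 31, 29, 1, 1, 28, 5, 28, 1, 29, 30, 29, 30, 28, 28, 1, 1, 28, 28, 1, 29, 31, 29, 31, 28] (.step [28,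 1, 29, 30, 29, 1, 5, 30, 28, 28, 1, 29, 5, 30, 30, 30, 29, 1, 30, 30, 5, 30, 28, 30, 29, 5, 1, 1, 29, 31, 30, 28, 5, 5, 1, 28, 31, 29, 31, 1, 31, 31, 5, 30, 30, 5, 31, 1, 1, 28, 31, 5, 28, 1, 1, 1] (.badAt 0)))))), (7, .fail), (1, (.step [30, 1, 28, 5, 31, 5, 5, 29] .fail)), (3, .fail), (1, (.step [5, 30, 28, 30, 28, 28, 28] .fail)), (3, .fail), (1, (.step [29, 31, 1, 31, 5, 28, 30, 1] .fail)), (1, (.step [1, 28, 28, 30, 5, 29, 1] (.step [28, 31, 29, 5, 28, 1, 30, 31, 29, 5, 31, 5, 30, 30] (.step [29, 31, 31, 28, 31, 31, 31, 28, 5, 29, 1, 28, 28, 28, 31, 29, 28, 5, 31, 28, 31, 1, 28, 28, 28, 28] .fail)))), (1, .fail), (1, (.step [1, 28, 28, 30, 29, 29, 29] (.step [28, 28, 1, 28, 31, 28, 1, 1, 28, 1, 1, 28, 1, 31, 28] (.step [30, 30, 28, 28, 1, 28, 31, 28, 1, 1, 1, 30, 28, 30, 29, 1, 28, 31, 29, 29, 5, 30, 30, 29, 29, 29] .fail)))),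 (1, (.step [5, 29, 1, 28, 5, 31, 29, 31, 1] (.step [30, 29, 30, 30, 28, 1, 30, 29, 5, 5, 28, 31, 31] (.step [1, 29, 1, 30, 5, 30, 1, 5, 28, 5, 29, 5, 5, 31, 1, 30, 1, 28, 1] .fail)))), (1, (.step [1, 31, 28, 1, 28, 31, 31, 31, 29] .fail)), (3, .fail), (1, (.step [30, 1, 29, 5, 30, 30, 30, 29] .fail)), (1, (.step [1, 29, 30, 30, 28, 31, 28, 30, 28] .fail)), (4, .fail), (1, (.step [28, 28, 1, 29, 1, 31, 1, 1] .fail)), (1, (.step [29, 29, 31, 28, 31, 28, 5, 29] .fail)), (1, (.step [28, 31, 5, 31, 5, 30, 29, 29] (.step [29, 29, 1, 30, 30, 30, 29, 29, 31, 5, 28, 28, 28, 31, 29, 29, 5] (.step [29, 29, 31, 31, 28, 30, 29, 1, 1, 28, 31, 31, 5, 5, 5, 1, 1, 29, 1, 29, 1, 31, 28, 30, 28, 1] .fail)))), (1, .fail), (1, (.step [29, 31, 5, 28, 28, 30, 28] (.step [28, 30, 30, 29, 29, 29, 5, 5, 1, 30, 28, 30, 29, 1, 28] (.step [30, 29, 30, 28,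 1, 31, 5, 31, 1, 29, 1, 29, 29, 29, 5, 5, 28, 31, 28, 29, 5, 5, 29, 5, 30, 30, 30, 1] .fail)))), (1, (.step [31, 28, 28, 28, 5, 29, 1] (.step [29, 30, 5, 30, 28, 1, 28, 30, 29, 5, 5, 28, 31, 31, 30] .fail))), (1, (.step [31, 5, 29, 29, 30, 30, 5] .fail)), (1, .fail), (1, (.step [5, 29, 1, 30, 5, 29, 1, 1] (.step [5, 30, 29, 31, 31, 1, 31, 31, 28, 1, 28, 29, 30] (.step [30, 5, 30, 1, 31, 31, 1, 1, 28, 28, 28, 29, 31, 5, 30, 30, 5, 30, 28, 28, 31, 29, 1, 31, 28, 31, 31, 5] .fail)))), (4, .fail), (1, (.step [28, 5, 28, 28, 28, 5, 29, 5] (.step [28, 31, 28, 5, 31, 1, 28, 1, 1, 30, 28, 31, 31, 31, 31, 31] (.step [30, 29, 30, 28, 1, 31, 5, 31, 1, 29, 1, 29, 29, 29, 5, 5, 28, 31, 28, 29, 5, 5, 29, 5, 30, 30, 30, 1] .fail)))), (1, .fail), (1, (.step [1, 28, 28, 30, 29, 29, 29] .fail)), (2, .fail), (1, (.step [28, 28, 5, 31, 1, 31, 31,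 1, 29] (.step [1, 31, 29, 30, 29, 29, 5, 31, 1, 31, 29, 30, 30] (.step [29, 29, 1, 5, 1, 29, 31, 5, 29, 30, 29, 30, 30, 30, 30, 30, 30, 29, 31, 31, 31, 29, 30, 28, 31] .fail)))), (1, (.step [31, 29, 29, 5, 30, 29, 29, 5] .fail)), (1, (.step [30, 5, 28, 1, 30, 30, 29, 30, 5] (.step [28, 5, 5, 5, 29, 30, 1, 30, 28, 1, 30, 30] .fail))), (9, .fail), (1, (.step [29, 5, 31, 28, 28, 30] .fail)), (1, .fail), (1, (.step [31, 1, 31, 31, 1, 30, 1, 29] .fail)), (3, .fail), (1, (.step [31, 5, 28, 1, 29, 29, 29] (.step [28, 31, 31, 29, 5, 5, 5, 29, 30, 1, 31, 31, 31] (.step [5, 29, 31, 31, 1, 1, 29, 31, 29, 1, 31, 31, 31, 31, 31, 31, 31, 1, 28, 30, 30, 29, 30, 1, 29, 30, 1] .fail)))), (1, .fail), (1, (.step [29, 30, 1, 31, 1, 1, 29, 29] .fail)), (8, .fail), (1, (.step [1, 28, 28, 31, 1, 28, 28] (.step [29, 30, 5, 30, 28, 1, 28, 30, 29, 5, 5,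 28, 31, 31, 30] (.step [29, 29, 5, 31, 31, 1, 30, 29, 5, 1, 31, 31, 1, 30, 1, 29, 31, 31, 31, 31, 1, 28, 1, 1, 30, 5, 30] .fail)))), (1, .fail), (1, (.step [5, 28, 31, 5, 28, 1, 28, 28, 5] (.step [28, 1, 30, 5, 28, 5, 5, 5, 5] (.step [28, 31, 28, 30, 30, 28, 31, 5, 29, 1, 31, 5, 5, 28, 30, 5, 29, 1, 31, 29] .fail)))), (1, (.step [29, 1, 30, 29, 31, 1, 1, 29] .fail)), (1, (.step [1, 31, 5, 29, 29, 29, 1, 29] (.step [31, 31, 31, 28, 30, 28, 5, 30, 5, 29, 5, 31, 31, 30] (.step [1, 30, 29, 30, 1, 31, 5, 1, 1, 31, 5, 28, 28, 31, 1, 30, 1, 30, 29] .fail)))), (2, .fail), (1, (.step [1, 31, 28, 30, 5, 5, 5, 30, 1] (.step [31, 31, 5, 31, 5, 31, 31, 28, 1, 1, 29] .fail))), (2, .fail), (1, (.step [31, 30, 30] (.step [30, 1, 30, 30, 30, 30, 1, 31, 1, 29, 5, 31, 28, 28] (.step [5, 29, 31, 31, 1, 1, 29, 31, 29, 1, 31, 31, 31, 31, 31, 31, 31,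 1, 28, 30, 30, 29, 30, 1, 29, 30, 1] .fail)))), (1, (.step [1, 29, 30, 30, 28, 31, 28, 30, 28] .fail)), (11, .fail), (1, (.step [29, 31, 1, 28, 5, 30, 1] (.step [30, 28, 30, 30, 5, 31, 1, 30, 28, 1, 31, 31] (.step [30, 30, 1, 1, 29, 5, 30, 29, 1, 31, 1, 5, 5, 31, 1, 31, 5, 28, 5, 29] .fail)))), (1, (.step [29, 31, 28, 30, 30, 30, 28] .fail)), (1, (.step [5, 5, 31, 31, 28, 28, 30, 5, 28] (.step [31, 31, 5, 31, 5, 31, 31, 28, 1, 1, 29] .fail))), (1, (.step [29, 30, 5, 5, 31, 28, 1, 31, 29] .fail)), (2, .fail), (1, (.step [29, 1, 29, 30, 1, 29, 30, 28] .fail)), (5, .fail), (1, (.step [1, 29, 29, 31, 31, 5, 31, 5, 5] .fail)), (1, .fail), (1, (.step [29, 29, 5, 29, 30, 28, 1] .fail)), (1, (.step [1, 31, 28, 30, 5, 5, 5, 30, 1] .fail)), (7, .fail), (1, (.step [30, 5, 31, 31, 5, 29, 29, 5] .fail)), (1, (.step [31, 1, 28, 28, 1, 30, 30,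 1] .fail)), (1, .fail), (1, (.step [31, 1, 31, 31, 1, 30, 1, 29] .fail)), (2, .fail), (1, (.step [29, 31, 1, 31, 5, 28, 30, 1] (.step [29, 30, 29, 1, 29, 29, 5, 29, 1, 31, 31, 30] (.step [1, 29, 29, 1, 1, 28, 31, 31, 1, 1, 29, 1, 31, 31, 28, 1, 1, 1, 28, 1, 30, 5, 28, 5, 5, 5, 5] .fail)))), (7, .fail), (1, (.step [30, 29, 31, 1, 28, 5, 30, 1] .fail)), (1, (.step [28, 30, 29, 1, 28, 28, 30, 29, 1] .fail)), (1, (.step [31, 31, 28, 28, 28, 5, 29, 1] .fail)), (1, (.step [29, 5, 28, 31, 29, 31, 5] (.step [1, 1, 28, 1, 1, 1, 31, 29, 5, 5, 28, 29, 30] (.step [29, 29, 31, 31, 28, 30, 29, 1, 1, 28, 31, 31, 5, 5, 5, 1, 1, 29, 1, 29, 1, 31, 28, 30, 28, 1] (.step [28, 1, 29, 30, 29, 1, 5, 30, 28, 28, 1, 29, 5, 30, 30, 30, 29, 1, 30, 30, 5, 30, 28, 30, 29, 5, 1, 1, 29, 31, 30, 28, 5, 5, 1, 28, 31, 29, 31, 1, 31, 31, 5, 30, 30, 5, 31, 1, 1,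 28, 31, 5, 28, 1, 1, 1] (.badAt 0)))))), (1, (.step [29, 5, 5, 30, 5, 28, 5, 5] .fail)), (1, (.step [5, 31, 29, 30, 5, 28, 28, 5, 28] .fail)), (1, (.step [29, 5, 31, 1, 30, 1, 29, 31, 1] .fail)), (6, .fail), (1, (.step [29, 1, 28, 28, 28, 31, 29] .fail)), (2, .fail), (1, (.step [5, 29, 29, 1, 30, 1, 29] .fail)), (1, .fail), (1, (.step [28, 30, 29, 1, 28, 28, 30, 29, 1] .fail)), (2, .fail), (1, (.step [28, 30, 5, 28, 1, 31, 29, 1] .fail)), (1, .fail), (1, (.step [31, 31] .fail)), (4, .fail), (1, (.step [29, 31, 1, 31, 5, 28, 30, 1] .fail)), (3, .fail), (1, (.step [30, 1, 30, 29, 1, 1, 30, 1] (.step [29, 1, 31, 31, 28, 1, 1, 1, 5, 28, 5, 30, 28, 1, 1] (.step [5, 29, 31, 31, 1, 1, 29, 31, 29, 1, 31, 31, 31, 31, 31, 31, 31, 1, 28, 30, 30, 29, 30, 1, 29, 30, 1] .fail)))), (8, .fail), (1, (.step [1, 30, 30, 1, 1, 1, 30, 5, 28] (.step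 [30, 28, 5, 5, 1, 28, 31, 29, 31, 1, 31, 31, 5] (.step [1, 29, 1, 30, 5, 30, 1, 5, 28, 5, 29, 5, 5, 31, 1, 30, 1, 28, 1] .fail)))), (4, .fail), (1, (.step [1, 28, 28, 30, 5, 29, 1] .fail)), (1, (.step [29, 30, 5, 31, 1, 28, 5, 31, 28] (.step [1, 28, 5, 5, 29, 29, 31, 31, 29, 30, 30] (.step [5, 31, 29, 31, 1, 28, 30, 5, 30, 28, 5, 5, 28, 1, 29, 29, 29, 30, 1, 1, 29, 1, 29, 1, 31, 28, 30, 28, 1] .fail)))), (1, .fail), (1, (.step [30, 29, 1, 1, 1, 28, 5, 30, 29] .fail)), (1, (.step [5, 31, 1, 31, 1, 31, 29, 5, 5] .fail)), (2, .fail), (1, (.step [29, 31, 28, 5, 31, 28, 5, 28] (.step [5, 29, 31, 29, 30, 5, 28, 5, 28, 5, 5] (.step [28, 28, 28, 5, 29, 1, 31, 31, 31, 31, 28, 28, 30, 28, 5, 5, 28, 1, 28] .fail)))), (1, (.step [5, 29, 5, 31, 5, 30, 1, 1] .fail)), (1, (.step [28, 30, 28, 30, 5, 5, 29] (.step [28, 5, 31, 31, 28, 31, 28, 31,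 28, 31, 1, 29, 31, 31, 31] (.step [29, 1, 30, 30, 30, 5, 5, 31, 5, 5, 5, 29, 31, 31, 5, 31, 1, 28, 30] .fail)))), (5, .fail), (1, (.step [1, 30, 29, 1, 1, 30, 1] .fail)), (1, (.step [28, 31, 31, 31, 1, 28, 5] (.step [5, 30, 28, 28, 28, 31, 1, 1, 1, 28, 5, 31, 31, 30] (.step [5, 30, 29, 30, 30, 1, 1, 28, 28, 28, 29, 29, 30, 1, 28, 31, 31, 31, 31, 31, 1, 28, 1, 1, 30, 5, 30] .fail)))), (1, (.step [5, 30, 1, 30, 5, 29, 31, 28] (.step [5, 28, 1, 30, 28, 28, 5, 30, 29, 1, 28, 28, 28, 5, 29, 1] (.step [5, 30, 29, 30, 30, 1, 1, 28, 28, 28, 29, 29, 30, 1, 28, 31, 31, 31, 31, 31, 1, 28, 1, 1, 30, 5, 30] .fail)))), (1, .fail), (1, (.step [28, 1, 29, 29, 30, 5, 30, 28] (.step [5, 31, 31, 1, 1, 30, 5, 5, 5, 5, 30, 30] (.step [31, 1, 31, 5, 29, 29, 29, 1, 29, 28, 29, 30, 31, 31, 31, 31, 1, 28, 1, 1, 30, 5, 30] .fail)))), (1, (.step [28, 30,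 5, 28, 1, 31, 29, 1] (.step [5, 31, 5, 30, 28, 31, 31, 29, 5, 28, 31, 31] (.step [5, 5, 28, 31, 31, 29, 30, 29, 1, 29, 31, 29, 29, 1, 30, 28] .fail)))), (3, .fail), (1, (.step [5, 30, 29, 1, 29, 1, 28, 28, 28] (.step [29, 31, 31, 28, 28, 30, 1, 1, 30, 28, 30, 5, 30, 30] (.step [28, 30, 29, 29, 28, 5, 29, 5, 31, 5, 5, 5, 5, 28, 31, 28, 30, 1, 1, 1, 29, 1, 29, 1, 31, 28, 30, 28, 1] .fail)))), (4, .fail), (1, (.step [5, 31, 29, 30, 29, 1, 1, 1] .fail)), (1, .fail), (1, (.step [30, 1, 1, 30, 1, 1, 30, 28, 5] .fail)), (1, (.step [29, 1, 29, 29, 1, 29, 1, 1, 1] .fail)), (1, (.step [28, 30, 28, 5, 30, 5, 29, 5] (.step [29, 30, 29, 31, 5, 31, 28, 5, 31, 31, 30] .fail))), (1, (.step [28, 1, 31, 29, 30, 29, 29, 1] .fail)), (1, .fail), (1, (.step [1, 31, 31, 1, 30, 1, 29, 31] (.step [31, 31, 5, 5, 29, 1, 28, 31, 1, 1, 28, 5, 31, 5, 5, 29]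 (.step [28, 30, 30, 29, 5, 30, 5, 29, 28, 31, 29, 30, 30, 29, 30, 1, 31, 31, 5, 31, 5, 31, 31, 28, 1, 1, 29] .fail)))), (8, .fail), (1, (.step [28, 5, 28, 28, 28, 5, 29, 5] .fail)), (2, .fail), (1, (.step [1, 29, 1, 1, 28, 30, 28, 1, 29] (.step [5, 30, 29, 31, 31, 1, 31, 31, 28, 1, 28, 29, 30] (.step [5, 5, 29, 5, 29, 30, 28, 5, 29, 1, 31, 31, 28, 28, 1, 30, 28, 1, 30, 5, 28, 5, 5, 5, 5] .fail)))), (2, .fail), (1, (.step [1, 31, 29, 31, 29, 30, 30, 1] (.step [1, 28, 30, 30, 28, 28, 30, 5, 28, 1, 28, 28, 31, 1, 28, 28] .fail))), (1, (.step [1, 31, 28, 5, 30, 5, 29, 30, 28] .fail)), (1, .fail), (1, (.step [28, 1, 29, 1, 30, 5, 30, 1, 1] .fail)), (3, .fail), (1, (.step [30, 1, 30, 5, 5, 5, 31, 1] .fail)), (4, .fail), (1, (.step [30, 1, 30, 29, 29, 31, 29, 29] .fail)), (1, .fail), (1, (.step [30, 28, 28, 28, 5, 29, 1] (.step [5, 30,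 28, 28, 28, 31, 1, 1, 1, 28, 5, 31, 31, 30] (.step [29, 5, 5, 31, 5, 31, 1, 31, 1, 28, 31, 1, 29, 5, 5, 5, 28, 28, 5, 31, 28, 31, 1, 28, 28, 28, 28] .fail)))), (1, (.step [31, 1, 28, 28, 31, 1, 28, 28] .fail)), (3, .fail), (1, (.step [29, 29, 5, 28, 31, 1, 28, 1, 28] (.step [1, 1, 30, 1, 31, 1, 31, 31, 29, 1, 28, 31, 31] (.step [1, 31, 1, 31, 28, 31, 5, 29, 30, 1, 29, 1, 31, 31, 31, 31, 31, 31, 1, 29, 31, 31, 31, 31, 5, 28, 30, 30] .fail)))), (1, (.step [30, 28, 30, 29, 29, 29, 5, 28] .fail)), (1, (.step [28, 28, 1, 1, 31, 1, 1, 1] .fail)), (4, .fail), (1, (.step [5, 30, 1, 31, 29, 31, 28, 28, 5] .fail)), (2, .fail), (1, (.step [29, 5, 31, 29, 1, 29, 5, 28, 1] .fail)), (1, .fail), (1, (.step [28, 31, 29, 29, 31, 29, 31, 31, 28] (.step [5, 31, 31, 31, 1, 28, 1, 1, 28, 29, 30] .fail))), (1, (.step [1, 29, 30, 30, 28, 31, 28, 30,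 28] .fail)), (3, .fail), (1, (.step [30, 29, 1, 1, 1, 28, 5, 30, 29] (.step [29, 30, 28, 30, 28, 5, 29, 29, 5, 5] (.step [5, 5, 29, 5, 29, 30, 28, 5, 29, 1, 31, 31, 28, 28, 1, 30, 28, 1, 30, 5, 28, 5, 5, 5, 5] (.step [] (.badAt 0)))))), (2, .fail), (1, (.step [29, 31, 1, 28, 5, 30, 1] (.step [31, 29, 5, 30, 1, 31, 28, 28, 30, 29, 1, 29, 5, 31, 28, 28] .fail))), (1, (.step [5, 29, 30, 1, 30, 28, 31, 29] .fail)), (3, .fail), (1, (.step [5, 31, 5, 5, 28, 31, 5] .fail)), (1, (.step [5, 5, 29, 30, 29, 5, 29, 29] .fail)), (1, .fail), (1, (.step [29, 31, 28, 5, 28, 31, 28, 1, 29] (.step [29, 30, 29, 31, 5, 31, 28, 5, 31, 31, 30] (.step [1, 30, 29, 30, 1, 31, 5, 1, 1, 31, 5, 28, 28, 31, 1, 30, 1, 30, 29] .fail)))), (6, .fail), (1, (.step [29, 31, 28, 28, 5, 30, 28] (.step [5, 28, 1, 30, 28, 28, 5, 30, 29, 1, 28, 28, 28, 5, 29, 1] (.step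 [1, 1, 28, 30, 29, 29, 1, 31, 28, 1, 30, 28, 31, 31, 30, 28, 5, 31, 29, 31, 5, 31, 29, 29, 5] .fail)))), (1, .fail), (1, (.step [29, 1, 1, 1, 28, 5, 30, 29] .fail)), (1, (.step [28, 30, 28, 30, 5, 5, 29] (.step [30, 5, 29, 31, 28, 30, 29, 29, 5, 29, 29, 30, 1, 28] (.step [1, 29, 1, 30, 5, 30, 1, 5, 28, 5, 29, 5, 5, 31, 1, 30, 1, 28, 1] .fail)))), (1, (.step [28, 5, 30, 5, 30, 1, 1, 29] .fail)), (1, (.step [5, 5, 29, 31, 1, 29, 1] (.step [1, 28, 1, 28, 31, 31, 31, 5, 5, 31, 31] .fail))), (1, .fail), (1, (.step [1, 30, 29, 29, 31, 29, 29] .fail)), (1, (.step [29, 30, 29, 5, 29, 29, 30, 1] .fail)), (1, (.step [1, 31, 5, 29, 29, 29, 1, 29] .fail)), (3, .fail), (1, (.step [1, 30, 1, 28, 1, 28, 31, 29] (.step [29, 5, 29, 31, 1, 30, 1, 31, 1, 28, 31, 29, 29, 30, 1, 28] (.step [] (.step [1, 5, 30, 28, 1, 1, 31, 29, 31, 29, 1, 31, 31,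 28, 28, 1, 30, 31, 31, 5, 29, 1, 1, 1, 1, 31, 28] (.badAt 0)))))), (2, .fail), (1, (.step [1, 30, 29, 5, 29, 5, 30, 28, 5] .fail)), (1, .fail), (1, (.step [31, 29, 5, 30, 1, 30, 30, 28, 1] .fail)), (4, .fail), (1, (.step [5, 31, 28, 30, 1, 28, 1, 1] .fail)), (1, (.step [28, 1, 31, 1, 29, 29, 5, 5] (.step [29, 30, 5, 30, 28, 1, 28, 30, 29, 5, 5, 28, 31, 31, 30] (.step [29, 29, 29, 30, 5, 31, 31, 29, 29, 29, 30, 1, 28, 30, 30, 1, 28, 30, 5, 31, 31, 1, 31, 5, 30, 29] .fail)))), (1, (.step [28, 31, 5, 29, 5, 28, 31, 1] (.step [5, 28, 31, 29, 30, 30, 28, 28, 1, 1, 1, 30, 30, 29, 5] (.step [5, 30, 30, 29, 30, 1, 30, 30, 5, 28, 5, 5, 5, 5, 31, 5, 5, 29, 31, 29, 29] .fail)))), (1, (.step [5, 31, 1, 28, 1, 29, 1, 28] .fail)), (1, .fail), (1, (.step [5, 28, 1, 31, 29, 29, 5] .fail)), (2, .fail), (1, (.step [29, 5, 5, 30, 5, 28, 5, 5] .fail)),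 (1, (.step [] (.step [31, 31, 5, 5, 29, 1, 28, 31, 1, 1, 28, 5, 31, 5, 5, 29] .fail))), (4, .fail), (1, (.step [1, 29, 1, 1, 28, 30, 28, 1, 29] .fail)), (1, (.step [28, 30, 28, 30, 30, 1, 29, 5] .fail)), (1, (.step [31, 31, 28, 28, 28, 5, 29, 1] (.step [31, 29, 5, 30, 1, 31, 28, 28, 30, 29, 1, 29, 5, 31, 28, 28] (.step [29, 5, 5, 29, 5, 31, 5, 28, 5, 28, 30, 29, 29, 29, 5, 28, 31, 28, 29, 5, 5, 29, 5, 30, 30, 30, 1] .fail)))), (2, .fail), (1, (.step [30, 29, 30, 1, 31, 31, 1, 30, 1] .fail)), (8, .fail), (1, (.step [29, 31, 28, 30, 30, 30, 28] .fail)), (2, .fail), (1, (.step [1, 28, 5, 31, 28, 1, 31, 28] .fail)), (6, .fail), (1, (.step [1, 28, 31, 1, 29, 5, 5] .fail)), (1, .fail), (1, (.step [5, 5, 31, 29, 29, 1, 1, 30, 29] (.step [28, 5, 5, 1, 29, 31, 29, 31, 28, 31, 1, 29, 31, 31, 30] (.step [1, 30, 29, 30, 1, 31, 5, 1, 1, 31,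 5, 28, 28, 31, 1, 30, 1, 30, 29] .fail)))), (1, .fail), (1, (.step [30, 5, 28, 5, 30, 28, 1, 1] .fail)), (3, .fail), (1, (.step [5, 28, 1, 29, 29, 29] (.step [28, 5, 30, 30, 28, 5, 29, 5, 29, 5, 29, 1, 28, 28, 28, 31, 29] (.step [29, 5, 5, 29, 5, 31, 5, 28, 5, 28, 30, 29, 29, 29, 5, 28, 31, 28, 29, 5, 5, 29, 5, 30, 30, 30, 1] (.step [28, 1, 29, 30, 29, 1, 5, 30, 28, 28, 1, 29, 5, 30, 30, 30, 29, 1, 30, 30, 5, 30, 28, 30, 29, 5, 1, 1, 29, 31, 30, 28, 5, 5, 1, 28, 31, 29, 31, 1, 31, 31, 5, 30, 30, 5, 31, 1, 1, 28, 31, 5, 28, 1, 1, 1] (.badAt 0)))))), (4, .fail), (1, (.step [30, 29, 1, 28, 28, 28, 31, 29] (.step [31, 28, 5, 31, 1, 28, 30, 5, 31, 5, 30, 30, 30] .fail))), (4, .fail), (1, (.step [5, 30, 1, 30, 5, 29, 31, 28] .fail)), (1, (.step [28, 5, 31, 1, 31, 29, 5, 29] .fail)), (1, (.step [28, 5, 28, 28, 28, 5, 29, 5] (.step [28,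 1, 1, 29, 30, 5, 5, 5, 29, 28, 29, 30] (.step [28, 31, 5, 5, 29, 5, 30, 1, 30, 5, 29, 5, 1, 1, 28, 28, 1, 29, 31, 29, 31, 28] .fail)))), (3, .fail), (1, (.step [5, 5, 28, 5, 30, 29, 5, 29, 1] (.step [1, 29, 31, 5, 5, 31, 5, 5, 5, 5, 5, 30, 5, 5, 29, 29] .fail))), (3, .fail), (1, (.step [30, 28, 1, 29, 30, 29, 30, 28, 28] .fail)), (1, .fail), (1, (.step [31, 29, 5, 31, 28, 28] .fail)), (1, .fail), (1, (.step [5, 5, 5, 5, 30, 28, 1, 1, 29] .fail)), (1, .fail), (1, (.step [29, 5, 30, 29, 1, 28, 30, 1] .fail)), (1, (.step [28, 31, 5, 31, 5, 30, 29, 29] (.step [1, 31, 1, 28, 28, 28, 1, 29, 30, 29, 29, 29, 30, 1, 28, 31] (.step [1, 30, 30, 1, 28, 1, 28, 5, 29, 5, 5, 5, 28, 5, 28, 28, 5, 28, 29, 31, 29, 30, 30, 1, 29, 31, 31, 28] .fail)))), (1, (.step [1, 31, 31, 1, 30, 1, 29] (.step [28, 30, 28, 5, 30, 1, 30, 5, 1, 31, 31, 28, 28, 1,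 31] .fail))), (3, .fail), (1, (.step [29, 5, 31, 29, 1, 29, 5, 28, 1] .fail)), (1, (.step [30, 5, 30, 1, 1, 1, 31, 5] (.step [28, 31, 29, 5, 28, 1, 30, 31, 29, 5, 31, 5, 30, 30] (.step [31, 29, 5, 30, 5, 5, 31, 29, 30, 29, 5, 5, 5, 5, 30, 28, 1, 1, 29] .fail)))), (1, (.step [28, 28, 5, 31, 1, 31, 31, 1, 29] (.step [5, 31, 5, 30, 28, 31, 31, 29, 5, 28, 31, 31] (.step [5, 28, 28, 30, 28, 31, 28, 31, 1, 29, 5, 31, 28, 28, 30, 30, 31, 30, 30, 1, 29, 30, 1, 30, 28, 31, 28] .fail)))), (1, (.step [30, 30, 30, 29, 5, 31, 28, 28] (.step [1, 1, 28, 1, 1, 1, 31, 29, 5, 5, 28, 29, 30] (.step [29, 29, 29, 30, 5, 31, 31, 29, 29, 29, 30, 1, 28, 30, 30, 1, 28, 30, 5, 31, 31, 1, 31, 5, 30, 29] .fail)))), (1, .fail), (1, (.step [28, 1, 29, 5, 29, 5, 31, 31, 5] .fail)), (1, (.step [1, 29, 29, 31, 31, 5, 31, 5, 5] .fail)), (1, (.step [30, 1, 1, 29,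 30, 28, 1, 28, 1] .fail)), (1, (.step [29, 31, 5, 28, 28, 30, 28] (.step [5, 31, 29, 5, 5, 5, 31, 28, 1, 31, 31, 28, 28, 1] (.step [1, 30, 29, 30, 1, 31, 5, 1, 1, 31, 5, 28, 28, 31, 1, 30, 1, 30, 29] .fail)))), (1, .fail), (1, (.step [31, 1, 28, 28, 1, 30, 30, 1] (.step [29, 1, 30, 5, 30, 30, 5, 29, 29, 31, 31, 31] .fail))), (3, .fail), (1, (.step [30, 29, 1, 1, 1, 28, 5, 30, 29] (.step [5, 31, 31, 1, 31, 5, 28, 31, 31, 31, 5] (.step [30, 1, 28, 5, 30, 1, 29, 31, 28, 5, 29, 5, 28, 5, 29, 5, 30, 1, 1, 1, 1, 1, 29, 1, 31, 5, 29] .fail)))), (8, .fail), (1, (.step [31, 29, 31, 5, 30, 28, 28, 5, 29] .fail)), (3, .fail), (1, (.step [29, 31, 1, 28, 5, 30, 1] .fail)), (1, (.step [29, 31, 1, 28, 5, 30, 1] (.step [30, 28, 5, 30, 29, 30, 28, 30, 28, 1, 29] (.step [28, 31, 31, 29, 31, 29, 5, 29, 5, 30, 30, 30, 30, 31, 31, 1, 30, 28, 1, 1,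 28, 1, 30, 28, 28] (.step [1, 5, 30, 28, 1, 1, 31, 29, 31, 29, 1, 31, 31, 28, 28, 1, 30, 31, 31, 5, 29, 1, 1, 1, 1, 31, 28] (.badAt 0)))))), (1, (.step [28, 1, 30, 1, 30, 1, 29, 29] (.step [29, 31, 1, 29, 29, 30, 28, 5, 31, 1, 29, 5, 30, 28] .fail))), (1, .fail), (1, (.step [28, 1, 29, 1, 30, 5, 30, 1, 1] (.step [29, 29, 5, 5, 5, 28, 31, 29, 5, 5, 5, 29, 29, 30, 30, 5] (.step [5, 28, 28, 30, 28, 31, 28, 31, 1, 29, 5, 31, 28, 28, 30, 30, 31, 30, 30, 1, 29, 30, 1, 30, 28, 31, 28] .fail)))), (2, .fail), (1, (.step [28, 30, 28, 5, 30, 5, 29, 5] .fail)), (6, .fail), (1, (.step [31, 28, 30, 29, 29, 29, 5, 28] .fail)), (3, .fail), (1, (.step [5, 5, 31, 31, 1, 30, 5, 29] .fail)), (11, .fail), (1, (.step [1, 31, 31, 31, 1, 1, 30, 29, 29] .fail)), (1, .fail), (1, (.step [5, 29, 5, 31, 5, 30, 1, 1] .fail)), (1, (.step [30, 1, 30, 29, 1,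 1, 30, 1] .fail)), (1, (.step [1, 31, 28, 30, 5, 5, 5, 30, 1] (.step [28, 29, 5, 31, 1, 29, 30, 28, 5, 5, 31, 29, 31, 31, 31] (.step [30, 1, 30, 30, 30, 1, 29, 31, 5, 28, 5, 1, 29, 5, 30, 30, 30, 29, 28, 1, 30, 5, 28, 5, 5, 5, 5] .fail)))), (1, (.step [29, 30, 30, 29, 1, 29, 5, 28] (.step [28, 31, 29, 29, 5, 5, 5, 29, 28, 28, 28, 1, 1, 30, 30] (.step [5, 30, 29, 30, 30, 1, 1, 28, 28, 28, 29, 29, 30, 1, 28, 31, 31, 31, 31, 31, 1, 28, 1, 1, 30, 5, 30] .fail)))), (2, .fail), (1, (.step [1, 31, 28, 31, 28, 30, 5, 5, 5] .fail)), (5, .fail), (1, (.step [28, 1, 1, 28, 1, 31, 28] .fail)), (2, .fail), (1, (.step [31, 5, 31, 1, 29, 29, 29, 30, 28] (.step [1, 30, 29, 1, 30, 1, 1, 29, 29, 31, 31, 31] (.step [28, 30, 30, 29, 5, 30, 5, 29, 28, 31, 29, 30, 30, 29, 30, 1, 31, 31, 5, 31, 5, 31, 31, 28, 1, 1, 29] .fail)))), (2, .fail), (1, (.step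 [5, 28, 1, 31, 1, 30, 30, 1] .fail)), (1, (.step [30, 1, 29, 5, 30, 30, 30, 29] .fail)), (1, .fail), (1, (.step [29, 30, 5, 5, 31, 28, 1, 31, 29] (.step [28, 28, 5, 31, 5, 31, 5, 29, 29, 29, 30, 1, 28, 30] (.step [1, 30, 30, 1, 28, 1, 28, 5, 29, 5, 5, 5, 28, 5, 28, 28, 5, 28, 29, 31, 29, 30, 30, 1, 29, 31, 31, 28] .fail)))), (1, (.step [1, 31, 31, 28, 28, 1] .fail)), (1, (.step [5, 5, 29, 1, 28, 31, 1] (.step [5, 31, 1, 28, 5, 30, 5, 28, 5, 5, 30, 28, 31, 31] (.step [1, 30, 29, 30, 1, 31, 5, 1, 1, 31, 5, 28, 28, 31, 1, 30, 1, 30, 29] .fail)))), (1, (.step [29, 1, 1, 1, 28, 5, 30, 29] .fail)), (3, .fail), (1, (.step [1, 29, 29, 31, 31, 5, 31, 5, 5] .fail)), (3, .fail), (1, (.step [31, 5, 29, 29, 30, 5, 5, 29, 5] .fail)), (1, (.step [30, 5, 29, 31, 28, 1, 28, 28] (.step [30, 1, 30, 5, 31, 28, 31, 29, 29, 29, 5, 31, 31, 31, 31] .fail))),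 (1, (.step [29, 31, 28, 28, 5, 30, 28] .fail)), (1, (.step [31, 1, 1, 31, 31, 5, 30, 5] .fail)), (1, .fail), (1, (.step [28, 1, 29, 5, 28, 5, 28, 30, 5] .fail)), (2, .fail), (1, (.step [30, 30, 5, 29, 29, 30, 30, 5] (.step [5, 30, 28, 28, 28, 31, 1, 1, 1, 28, 5, 31, 31, 30] (.step [1, 29, 30, 5, 30, 28, 31, 29, 1, 1, 28, 28, 28, 30, 28, 28, 31, 5, 30, 1, 1, 28, 28, 1, 29, 31, 29, 31, 28] .fail)))), (2, .fail), (1, (.step [31, 30, 30] .fail)), (5, .fail), (1, (.step [1, 1, 1, 30, 30, 29, 5] .fail)), (1, (.step [30, 28, 1, 29, 30, 29, 30, 28, 28] .fail)), (1, (.step [29, 5, 31, 28, 28, 30] (.step [5, 28, 29, 28, 30, 28, 1, 1, 31, 5, 31, 5, 30, 30] (.step [28, 28, 28, 5, 29, 1, 31, 31, 31, 31, 28, 28, 30, 28, 5, 5, 28, 1, 28] .fail)))), (1, (.step [29, 5, 31, 29, 31, 29, 31, 1] (.step [1, 1, 1, 28, 5, 28, 1, 28, 31, 5, 5, 28, 29,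 30] (.step [28, 30, 29, 29, 28, 5, 29, 5, 31, 5, 5, 5, 5, 28, 31, 28, 30, 1, 1, 1, 29, 1, 29, 1, 31, 28, 30, 28, 1] .fail)))), (1, (.step [30, 28, 1, 1, 28, 1, 31, 28] .fail)), (1, (.step [1, 30, 5, 28, 1, 29, 29, 30, 29] .fail)), (1, .fail), (1, (.step [1, 31, 31, 1, 30, 1, 29, 31] .fail)), (5, .fail), (1, (.step [28, 5, 5, 29, 31, 1, 1, 1, 1] (.step [30, 29, 30, 30, 28, 1, 30, 29, 5, 5, 28, 31, 31] .fail))), (1, (.step [29, 5, 30, 28, 1, 31, 31, 29] (.step [1, 1, 1, 28, 30, 1, 30, 28, 5, 28, 5, 30, 28, 1, 1] (.step [29, 1, 30, 30, 30, 5, 5, 31, 5, 5, 5, 29, 31, 31, 5, 31, 1, 28, 30] .fail)))), (1, .fail), (1, (.step [1, 31, 28, 30, 5, 5, 5, 30, 1] (.step [29, 5, 29, 31, 1, 1, 31, 31, 5, 5, 29, 29, 30, 1, 28] (.step [31, 29, 5, 30, 5, 5, 31, 29, 30, 29, 5, 5, 5, 5, 30, 28, 1, 1, 29] .fail)))), (3, .fail), (1, (.step [1, 31, 5,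 29, 29, 29, 1, 29] .fail)), (1, (.step [5, 31, 31, 1, 1, 28, 5, 31, 5] .fail)), (1, .fail), (1, (.step [30, 29, 1, 28, 28, 28, 31, 29] .fail)), (1, (.step [28, 1, 29, 1, 30, 5, 30, 1, 1] (.step [29, 30, 29, 1, 29, 29, 5, 29, 1, 31, 31, 30] .fail))), (1, .fail), (1, (.step [1, 31, 5, 5, 29, 5, 31] (.step [30, 1, 29, 1, 29, 31, 5, 5, 31, 5, 29, 31, 31] (.step [28, 28, 28, 5, 29, 1, 31, 31, 31, 31, 28, 28, 30, 28, 5, 5, 28, 1, 28] .fail)))), (2, .fail), (1, (.step [29, 5, 28, 1, 31, 1, 30, 29, 29] .fail)), (1, (.step [28, 1, 1, 28, 1, 31, 28] .fail)), (6, .fail), (1, (.step [28, 31, 29, 29, 31, 29, 31, 31, 28] .fail)), (1, (.step [1, 30, 1, 31, 28, 28, 30, 30, 1] (.step [28, 1, 29, 31, 5, 31, 1, 30, 28, 28, 5, 30, 30] .fail))), (6, .fail), (1, (.step [1, 31, 31, 5, 5, 30, 30, 29, 29] .fail)), (3, .fail)])), (2299, (.badPow 23 1))])),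 (6980, (.badPow 2093 1))]

/-- the centralizer of the element of order 11, piece 5 -/
def cCh_5 : Cert := Cert.rl [(8190, (.badPow 2093 1))]

/-- the centralizer of the element of order 11, piece 6 -/
def cCh_6 : Cert := Cert.rl [(3069, (.badPow 2093 1))]

/-- the centralizer of the element of order 11, piece 7 -/
def cCh_7 : Cert := Cert.rl [(1, (Cert.rl [(548, (.badPow 23 1)), (1, (Cert.rl [(3, .fail), (1, (.step [29, 29, 5, 31, 5, 28, 5, 28] (.step [28, 30, 29, 5, 5, 29, 30, 29, 29, 31, 28, 5] .fail))), (4, .fail), (1, (.step [29, 5, 5, 30, 5, 28, 5, 5] .fail)), (4, .fail), (1, (.step [29, 29, 30, 1, 29, 30, 1, 28] (.step [1, 28, 5, 5, 29, 29, 31, 31, 29, 30, 30] (.step [5, 30, 29, 30, 30, 1, 1, 28, 28, 28, 29, 29, 30, 1, 28, 31, 31, 31, 31, 31, 1, 28, 1, 1, 30, 5, 30] (.step [] (.done [25, 20, 21, 20, 12, 18, 22, 3, 7, 15,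 5, 7, 1, 9, 4, 7, 0, 0, 14, 24, 2, 17, 15, 9, 6])))))), (4, .fail), (1, (.step [1, 30, 29, 1, 1, 30, 1] .fail)), (2, .fail), (1, (.step [31, 1, 29, 5, 30, 30, 30, 29] .fail)), (5, .fail), (1, (.step [31, 28, 29] .fail)), (9, .fail), (1, (.step [5, 29, 1, 28, 5, 31, 29, 31, 1] (.step [28, 5, 30, 28, 30, 28, 30, 1, 29, 30, 1, 28, 28, 28, 5] (.step [5, 28, 28, 30, 28, 31, 28, 31, 1, 29, 5, 31, 28, 28, 30, 30, 31, 30, 30, 1, 29, 30, 1, 30, 28, 31, 28] .fail)))), (1, (.step [28, 5, 30, 30, 5, 5, 31, 5, 29] .fail)), (1, (.step [28, 30, 29, 1, 28, 28, 30, 29, 1] (.step [30, 28, 30, 1, 31, 31, 5, 5, 29, 29, 1, 30, 30] .fail))), (1, .fail), (1, (.step [28, 1, 31, 1, 29, 29, 5, 5] (.step [28, 29, 5, 31, 1, 29, 30, 28, 5, 5, 31, 29, 31, 31, 31] (.step [28, 30, 29, 29, 28, 5, 29, 5, 31, 5, 5, 5, 5, 28, 31, 28, 30, 1, 1, 1, 29, 1, 29, 1, 31,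 28, 30, 28, 1] .fail)))), (1, (.step [30, 28, 28, 5, 31, 5, 31, 5, 29] .fail)), (1, .fail), (1, (.step [31, 5, 28, 1, 29, 29, 29] (.step [28, 5, 5, 29, 30, 30, 1, 30, 1, 30, 30] .fail))), (2, .fail), (1, (.step [1, 30, 28, 30, 29, 1, 28] .fail)), (3, .fail), (1, (.step [31, 31, 31, 31] .fail)), (1, .fail), (1, (.step [30, 1, 1, 30, 1, 1, 30, 28, 5] .fail)), (8, .fail), (1, (.step [28, 30, 28, 30, 30, 1, 29, 5] .fail)), (1, .fail), (1, (.step [30, 5, 30, 30, 28, 28, 5, 31, 5] (.step [28, 5, 5, 29, 30, 30, 1, 30, 1, 30, 30] (.step [5, 30, 1, 1, 1, 31, 5, 5, 28, 5, 30, 28, 1, 1, 29, 30, 30, 28, 28, 5, 28, 5, 28, 30, 29, 29] .fail)))), (1, .fail), (1, (.step [31, 29, 5, 5, 30, 5, 28, 5, 5] (.step [28, 31, 31, 30, 29, 5, 5, 29, 29, 5, 5, 29, 1] (.step [1, 29, 1, 30, 5, 30, 1, 5, 28, 5, 29, 5, 5, 31, 1, 30, 1, 28, 1] .fail)))), (1,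 .fail), (1, (.step [1, 28, 28, 1, 30, 30, 1] (.step [29, 1, 1, 29, 1, 29, 5, 29, 30, 29, 30, 30, 30, 30] (.step [5, 31, 29, 31, 1, 28, 30, 5, 30, 28, 5, 5, 28, 1, 29, 29, 29, 30, 1, 1, 29, 1, 29, 1, 31, 28, 30, 28, 1] .fail)))), (11, .fail), (1, (.step [29, 5, 30, 1, 29, 31, 5, 29] (.step [1, 1, 1, 1, 29, 1, 31, 5, 29] .fail))), (1, (.step [5, 31, 29, 30, 29, 1, 1, 1] .fail)), (1, .fail), (1, (.step [29, 29, 30, 1, 28] (.step [5, 29, 29, 5, 31, 28, 29, 28, 31, 5, 28, 5, 5] (.step [30, 29, 30, 28, 1, 31, 5, 31, 1, 29, 1, 29, 29, 29, 5, 5, 28, 31, 28, 29, 5, 5, 29, 5, 30, 30, 30, 1] .fail)))), (1, .fail), (1, (.step [1, 1, 1, 30, 30, 29, 5] .fail)), (1, (.step [28, 1, 29, 5, 28, 5, 28, 30, 5] .fail)), (2, .fail), (1, (.step [29, 1, 29, 1, 30, 1, 28, 28] .fail)), (1, .fail), (1, (.step [29, 5, 31, 29, 31, 29, 31, 1] .fail)), (6,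 .fail), (1, (.step [29, 31, 29, 29, 1, 30, 28] .fail)), (1, .fail), (1, (.step [30, 29, 30, 1, 31, 31, 1, 30, 1] .fail)), (1, (.step [30, 29, 29, 30, 1, 28] (.step [28, 28, 30, 29, 30, 29, 30, 28, 29, 5, 29, 1, 31, 31, 31, 31] (.step [1, 31, 1, 31, 28, 31, 5, 29, 30, 1, 29, 1, 31, 31, 31, 31, 31, 31, 1, 29, 31, 31, 31, 31, 5, 28, 30, 30] .fail)))), (1, (.step [1, 31, 28, 30, 5, 5, 5, 30, 1] (.step [1, 28, 1, 28, 31, 31, 31, 5, 5, 31, 31] .fail))), (2, .fail), (1, (.step [1, 1, 1, 30, 1, 29, 5, 5] .fail)), (2, .fail), (1, (.step [31, 1, 30, 28, 30, 29, 1, 28] .fail)), (2, .fail), (1, (.step [1, 30, 29, 29, 31, 29, 29] .fail)), (1, (.step [28, 5, 31, 5, 28, 28, 1] .fail)), (1, .fail), (1, (.step [29, 5, 31, 28, 28] .fail)), (1, (.step [30, 1, 1, 30, 1, 1, 30, 28, 5] .fail)), (1, (.step [5, 31, 1, 29, 5, 30, 28] (.step [30, 28, 31,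 31, 31, 1, 28, 5, 1, 1, 29, 1, 31, 1, 1, 28] (.step [29, 29, 31, 30, 29, 30, 29, 30, 5, 29, 31, 5, 31, 31, 5, 29, 1, 1, 1, 1, 31, 28] .fail)))), (3, .fail), (1, (.step [29, 29, 30, 1, 28] (.step [31, 5, 30, 5, 29, 31, 29, 31, 28, 31, 5, 30, 30, 30] (.step [29, 5, 5, 29, 5, 31, 5, 28, 5, 28, 30, 29, 29, 29, 5, 28, 31, 28, 29, 5, 5, 29, 5, 30, 30, 30, 1] .fail)))), (1, (.step [30, 29, 29, 5, 30, 29, 29, 5] (.step [29, 29, 31, 5, 29, 5, 5, 29, 31, 5, 30, 30] .fail))), (1, .fail), (1, (.step [31, 1, 28, 28, 31, 1, 28, 28] (.step [5, 31, 1, 1, 29, 30, 1, 29, 30, 5, 31, 31, 31] .fail))), (1, (.step [28, 1, 28, 30, 28, 30, 5, 31, 5] .fail)), (1, (.step [5, 31, 5, 5, 28, 31, 5] .fail)), (1, (.step [30, 1, 28, 5, 31, 5, 5, 29] .fail)), (1, (.step [5, 29, 5, 29, 31, 28, 5, 5] .fail)), (1, (.step [5, 31, 1, 28, 1, 29, 1, 28] (.step [29,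 29, 29, 29, 5, 30, 29, 30, 1, 29] (.step [30, 30, 28, 28, 1, 28, 31, 28, 1, 1, 1, 30, 28, 30, 29, 1, 28, 31, 29, 29, 5, 30, 30, 29, 29, 29] .fail)))), (3, .fail), (1, (.step [28, 5, 31, 31, 28, 5, 28, 5] (.step [5, 31, 1, 28, 5, 30, 5, 28, 5, 5, 30, 28, 31, 31] (.step [5, 30, 1, 1, 1, 31, 5, 5, 28, 5, 30, 28, 1, 1, 29, 30, 30, 28, 28, 5, 28, 5, 28, 30, 29, 29] .fail)))), (1, (.step [29, 31, 31, 5, 5, 31, 31, 28, 5] .fail)), (1, .fail), (1, (.step [30, 30, 30] (.step [5, 30, 29, 30, 30, 28, 5, 30, 1, 30, 28, 1, 31, 31, 31, 31] (.step [29, 29, 29, 5, 5, 30, 30, 5, 31, 1, 1, 28, 5, 29, 29, 1, 1, 29, 29, 29, 5, 30, 30, 29, 29, 29] .fail)))), (6, .fail), (1, (.step [1, 31, 28, 28, 28, 5, 31, 29, 29] .fail)), (4, .fail), (1, (.step [1, 1, 31, 31, 5, 30, 5] .fail)), (1, (.step [1, 31, 29, 31, 31, 31, 1, 1, 29] .fail)), (3, .fail), (1,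 (.step [29, 31, 1, 29, 30, 30, 30, 28] (.step [30, 29, 31, 28, 30, 30, 30, 28, 31, 31, 31] (.step [29, 29, 29, 1, 31, 28, 29, 1, 31, 31, 31, 1, 28, 30, 5, 5, 29, 31, 29] .fail)))), (1, (.step [30, 28, 28, 5, 31, 5, 31, 5, 29] .fail)), (7, .fail), (1, (.step [1, 31, 5, 29, 29, 29, 1, 29] .fail)), (1, (.step [31, 29, 31, 28, 30, 30, 30, 28] .fail)), (1, (.step [5, 30, 1, 31, 29, 31, 28, 28, 5] (.step [1, 31, 31, 29, 5, 28, 5, 5, 29, 1, 31, 28, 30, 30] .fail))), (1, .fail), (1, (.step [1, 31, 5, 5, 29, 5, 31] (.step [29, 31, 31, 28, 28, 30, 1, 1, 30, 28, 30, 5, 30, 30] (.step [5, 28, 28, 30, 28, 31, 28, 31, 1, 29, 5, 31, 28, 28, 30, 30, 31, 30, 30, 1, 29, 30, 1, 30, 28, 31, 28] .fail)))), (4, .fail), (1, (.step [29, 5, 5, 30, 5, 28, 5, 5] (.step [28, 30, 29, 5, 5, 29, 30, 29, 29, 31, 28, 5] (.step [29, 31, 31, 28, 31, 31, 31, 28,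 5, 29, 1, 28, 28, 28, 31, 29, 28, 5, 31, 28, 31, 1, 28, 28, 28, 28] (.step [] (.done [1, 1, 1, 1, 1, 1, 1, 1, 1, 25, 20, 21, 20, 12, 18, 22, 3, 7, 15, 5, 7, 1, 9, 4, 7, 0, 0, 14, 24, 2, 17, 15, 9, 6])))))), (2, .fail), (1, (.step [1, 30, 1, 28, 1, 28, 31, 29] (.step [31, 31, 31, 28, 30, 28, 5, 30, 5, 29, 5, 31, 31, 30] (.step [30, 5, 30, 1, 31, 31, 1, 1, 28, 28, 28, 29, 31, 5, 30, 30, 5, 30, 28, 28, 31, 29, 1, 31, 28, 31, 31, 5] .fail)))), (1, .fail), (1, (.step [29, 5, 5, 29, 31, 28, 31, 1] .fail)), (1, (.step [31, 31, 1, 31, 5, 5, 29, 5] (.step [28, 5, 31, 31, 28, 31, 28, 31, 28, 31, 1, 29, 31, 31, 31] (.step [31, 29, 1, 29, 31, 28, 5, 31, 28, 28, 5, 1, 31, 31, 28, 28, 1, 5, 29, 30, 1, 30, 28, 31, 29] .fail)))), (1, .fail), (1, (.step [30, 1, 28, 5, 31, 5, 5, 29] (.step [28, 30, 29, 30, 5, 31, 28, 1, 31, 31, 5, 31, 31] (.step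 [28, 31, 28, 30, 30, 28, 31, 5, 29, 1, 31, 5, 5, 28, 30, 5, 29, 1, 31, 29] .fail)))), (6, .fail), (1, (.step [1, 30, 30, 1, 1, 1, 30, 5, 28] (.step [28, 5, 28, 28, 1, 29, 29, 30, 5, 29, 31, 31, 31] (.step [29, 29, 5, 31, 31, 1, 30, 29, 5, 1, 31, 31, 1, 30, 1, 29, 31, 31, 31, 31, 1, 28, 1, 1, 30, 5, 30] .fail)))), (1, (.step [5, 5, 31, 31, 28, 28, 30, 5, 28] (.step [28, 5, 5, 30, 30, 30, 28, 30, 5, 1, 28, 5, 31, 5, 5, 29] (.step [29, 29, 31, 31, 28, 30, 29, 1, 1, 28, 31, 31, 5, 5, 5, 1, 1, 29, 1, 29, 1, 31, 28, 30, 28, 1] .fail)))), (3, .fail), (1, (.step [29, 31, 28, 5, 28, 31, 28, 1, 29] (.step [30, 28, 5, 5, 1, 28, 31, 29, 31, 1, 31, 31, 5] (.step [28, 30, 29, 29, 28, 5, 29, 5, 31, 5, 5, 5, 5, 28, 31, 28, 30, 1, 1, 1, 29, 1, 29, 1, 31, 28, 30, 28, 1] (.step [1, 5, 30, 28, 1, 1, 31, 29, 31, 29, 1, 31, 31, 28, 28, 1, 30, 31, 31,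 5, 29, 1, 1, 1, 1, 31, 28] (.done [1, 1, 1, 1, 1, 1, 1, 25, 20, 21, 20, 12, 18, 22, 3, 7, 15, 5, 7, 1, 9, 4, 7, 0, 0, 14, 24, 2, 17, 15, 9, 6])))))), (1, .fail), (1, (.step [30, 5, 30, 1, 29, 5, 31, 1, 1] .fail)), (1, (.step [1, 29, 29, 29, 5, 31, 28] (.step [5, 30, 29, 30, 30, 28, 5, 30, 1, 30, 28, 1, 31, 31, 31, 31] .fail))), (1, .fail), (1, (.step [29, 31, 31, 5, 5, 31, 31, 28, 5] .fail)), (4, .fail), (1, (.step [1, 29, 30, 28, 5, 31, 1, 29, 5] (.step [5, 31, 31, 1, 31, 5, 28, 31, 31, 31, 5] (.step [31, 29, 1, 29, 31, 28, 5, 31, 28, 28, 5, 1, 31, 31, 28, 28, 1, 5, 29, 30, 1, 30, 28, 31, 29] .fail)))), (4, .fail), (1, (.step [28, 1, 29, 29, 30, 5, 30, 28] .fail)), (1, (.step [29, 1, 28, 28, 28, 31, 29] .fail)), (1, .fail), (1, (.step [28, 5, 29, 1, 29, 5, 29, 5] (.step [28, 28, 30, 30, 30, 30, 29, 29, 29, 1, 31, 31, 31] (.step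 [30, 29, 30, 28, 1, 31, 5, 31, 1, 29, 1, 29, 29, 29, 5, 5, 28, 31, 28, 29, 5, 5, 29, 5, 30, 30, 30, 1] (.step [28, 1, 29, 30, 29, 1, 5, 30, 28, 28, 1, 29, 5, 30, 30, 30, 29, 1, 30, 30, 5, 30, 28, 30, 29, 5, 1, 1, 29, 31, 30, 28, 5, 5, 1, 28, 31, 29, 31, 1, 31, 31, 5, 30, 30, 5, 31, 1, 1, 28, 31, 5, 28, 1, 1, 1] (.done [1, 1, 1, 1, 1, 1, 25, 20, 21, 20, 12, 18, 22, 3, 7, 15, 5, 7, 1, 9, 4, 7, 0, 0, 14, 24, 2, 17, 15, 9, 6])))))), (2, .fail), (1, (.step [31, 5, 29, 29, 1, 30, 1, 29] .fail)), (3, .fail), (1, (.step [5, 28, 1, 30, 28, 30, 5, 5, 5] .fail)), (1, .fail), (1, (.step [28, 30, 28, 30, 30, 1, 29, 5] .fail)), (9, .fail), (1, (.step [30, 1, 30, 29, 29, 31, 29, 29] .fail)), (1, (.step [1, 1, 30, 30, 29, 5, 30, 5] .fail)), (2, .fail), (1, (.step [1, 31, 28, 30, 5, 5, 5, 30, 1] .fail)), (1, .fail), (1, (.step [1, 31, 29, 31,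 29, 30, 30, 1] (.step [29, 5, 29, 1, 1, 29, 31, 29, 29] (.step [1, 30, 30, 1, 28, 1, 28, 5, 29, 5, 5, 5, 28, 5, 28, 28, 5, 28, 29, 31, 29, 30, 30, 1, 29, 31, 31, 28] .fail)))), (1, (.step [28, 5, 30, 5, 30, 1, 1, 29] (.step [28, 28, 30, 5, 29, 31, 29, 5, 28, 1, 31, 5, 5, 29, 5, 31] (.step [29, 28, 1, 1, 28, 28, 28, 31, 31, 29, 1, 30, 29, 1, 1, 30, 1, 31, 31, 31, 29, 29, 1, 29, 5, 30, 30, 28] .fail)))), (3, .fail), (1, (.step [1, 30, 30, 28, 5, 30, 30, 28, 5] (.step [28, 30, 5, 29, 29, 30, 28, 5, 28, 31, 31, 28, 1] (.step [1, 30, 29, 30, 1, 31, 5, 1, 1, 31, 5, 28, 28, 31, 1, 30, 1, 30, 29] .fail)))), (1, .fail), (1, (.step [28, 28, 1, 1, 31, 1, 1, 1] (.step [28, 5, 5, 29, 30, 30, 1, 30, 1, 30, 30] (.step [5, 31, 1, 31, 30, 30, 1, 31, 29, 5, 5, 30, 30, 31, 31, 31, 1, 30, 1, 31, 29, 5, 30, 1, 29, 30] .fail)))), (1, (.step [29, 29,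 5, 30, 29, 29, 5] .fail)), (1, .fail), (1, (.step [5, 29, 29, 30, 5, 5, 29, 5] (.step [28, 5, 5, 30, 30, 30, 28, 30, 5, 1, 28, 5, 31, 5, 5, 29] .fail))), (1, (.step [1, 29, 29, 31, 31, 5, 31, 5, 5] .fail)), (2, .fail), (1, (.step [31, 1, 31, 31, 28, 28, 1] .fail)), (4, .fail), (1, (.step [31, 30, 30] (.step [30, 28, 31, 31, 31, 1, 28, 5, 1, 1, 29, 1, 31, 1, 1, 28] (.step [29, 29, 5, 5, 29, 30, 1, 1, 29, 1, 28, 28, 31, 1, 28, 28, 31, 31, 30, 30, 28, 30, 28, 30, 5, 5, 29, 30] .fail)))), (1, (.step [1, 29, 5, 30, 30, 30, 29] .fail)), (1, .fail), (1, (.step [28, 30, 29, 29, 29, 5, 28] (.step [30, 29, 30, 5, 29, 5, 5, 29, 1, 28, 1, 1, 30, 5] (.step [28, 30, 29, 29, 28, 5, 29, 5, 31, 5, 5, 5, 5, 28, 31, 28, 30, 1, 1, 1, 29, 1, 29, 1, 31, 28, 30, 28, 1] .fail)))), (1, .fail), (1, (.step [28, 1, 1, 31, 29, 31, 29] .fail)), (1, (.step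 [28, 5, 30, 5, 30, 1, 1, 29] .fail)), (1, (.step [1, 31, 31, 5, 5, 30, 30, 29, 29] .fail)), (3, .fail), (1, (.step [30, 28, 28, 5, 31, 5, 31, 5, 29] .fail)), (1, (.step [29, 31, 28, 5, 28, 31, 28, 1, 29] .fail)), (1, (.step [31, 29, 29, 29, 31, 29, 31, 1] .fail)), (2, .fail), (1, (.step [28, 28, 30, 5, 28, 31, 28, 31, 28] (.step [28, 31, 29, 5, 28, 1, 30, 31, 29, 5, 31, 5, 30, 30] (.step [5, 5, 5, 29, 1, 30, 29, 5, 5, 30, 1, 31, 31, 1, 30, 30, 5, 30, 28, 30, 29, 5, 1, 1, 29, 31] .fail)))), (2, .fail), (1, (.step [1, 28, 28, 31, 1, 28, 28] .fail)), (4, .fail), (1, (.step [31, 29, 31, 28, 30, 30, 30, 28] .fail)), (4, .fail), (1, (.step [1, 28, 28, 31, 1, 28, 28] .fail)), (4, .fail), (1, (.step [29, 1, 29, 29, 1, 29, 1, 1, 1] (.step [28, 30, 28, 5, 30, 1, 30, 5, 1, 31, 31, 28, 28, 1, 31] .fail))), (1, .fail), (1, (.step [5, 31, 28,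 30, 1, 28, 1, 1] (.step [31, 5, 5, 30, 30, 29, 5, 5, 28, 28, 5, 31, 31, 31] (.step [5, 5, 29, 5, 29, 30, 28, 5, 29, 1, 31, 31, 28, 28, 1, 30, 28, 1, 30, 5, 28, 5, 5, 5, 5] .fail)))), (1, .fail), (1, (.step [5, 28, 1, 29, 29, 29] .fail)), (1, (.step [1, 31, 28, 28, 28, 5, 31, 29, 29] (.step [30, 28, 28, 28, 31, 29, 29, 5, 1, 28, 1, 1, 30, 5] (.step [5, 31, 1, 31, 30, 30, 1, 31, 29, 5, 5, 30, 30, 31, 31, 31, 1, 30, 1, 31, 29, 5, 30, 1, 29, 30] .fail)))), (1, (.step [31, 1, 28, 31, 29, 1, 30, 5, 5] (.step [28, 28, 31, 29, 1, 29, 1, 29, 29, 31, 31, 28] (.step [28, 31, 28, 30, 30, 28, 31, 5, 29, 1, 31, 5, 5, 28, 30, 5, 29, 1, 31, 29] .fail)))), (1, (.step [30, 28, 30, 29, 29, 29, 5, 28] .fail)), (1, (.step [28, 30, 1, 31, 29, 29, 31, 1] .fail)), (4, .fail), (1, (.step [30, 1, 31, 5, 5, 29, 5] .fail)), (1, (.step [31, 5, 29, 29, 30,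 5, 5, 29, 5] .fail)), (4, .fail), (1, (.step [29, 5, 29, 30, 30, 29, 5, 28] (.step [1, 31, 31, 29, 5, 28, 5, 5, 29, 1, 31, 28, 30, 30] (.step [29, 29, 29, 1, 31, 28, 29, 1, 31, 31, 31, 1, 28, 30, 5, 5, 29, 31, 29] (.step [28, 1, 29, 30, 29, 1, 5, 30, 28, 28, 1, 29, 5, 30, 30, 30, 29, 1, 30, 30, 5, 30, 28, 30, 29, 5, 1, 1, 29, 31, 30, 28, 5, 5, 1, 28, 31, 29, 31, 1, 31, 31, 5, 30, 30, 5, 31, 1, 1, 28, 31, 5, 28, 1, 1, 1] (.done [1, 1, 25, 20, 21, 20, 12, 18, 22, 3, 7, 15, 5, 7, 1, 9, 4, 7, 0, 0, 14, 24, 2, 17, 15, 9, 6])))))), (4, .fail), (1, (.step [1, 28, 28, 30, 5, 29, 1] (.step [29, 29, 1, 30, 28, 5, 28, 1, 29, 5, 28, 28, 29, 30] .fail))), (1, (.step [1, 31, 5, 29, 30, 5, 29, 30, 29] .fail)), (1, (.step [31, 31, 31] .fail)), (1, .fail), (1, (.step [31, 31, 29, 5, 31, 28, 28] .fail)), (3, .fail), (1, (.step [29, 30, 1, 31, 31,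 1, 30, 1] .fail)), (1, (.step [5, 5, 31, 29, 29, 1, 1, 30, 29] (.step [28, 28, 28, 28, 5, 1, 28, 30, 28, 1, 28, 31, 31] (.step [29, 30, 28, 1, 31, 5, 31, 1, 28, 30, 28, 30, 5, 5, 29, 1, 1, 29, 1, 30, 29, 28, 29, 30, 1, 28, 28, 1] .fail)))), (4, .fail), (1, (.step [1, 30, 1, 28, 1, 28, 31, 29] (.step [1, 30, 30, 29, 30, 5, 28, 30, 29] (.step [5, 28, 28, 30, 28, 31, 28, 31, 1, 29, 5, 31, 28, 28, 30, 30, 31, 30, 30, 1, 29, 30, 1, 30, 28, 31, 28] .fail)))), (1, .fail), (1, (.step [28, 5, 31, 5, 28, 28, 1] .fail)), (2, .fail), (1, (.step [1, 31, 31, 1, 30, 1, 29] (.step [30, 28, 31, 31, 31, 1, 28, 5, 1, 1, 29, 1, 31, 1, 1, 28] (.step [28, 31, 31, 29, 31, 29, 5, 29, 5, 30, 30, 30, 30, 31, 31, 1, 30, 28, 1, 1, 28, 1, 30, 28, 28] .fail)))), (2, .fail), (1, (.step [5, 30, 29, 1, 29, 1, 28, 28, 28] .fail)), (1, (.step [30, 5, 31, 31, 5,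 29, 29, 5] .fail)), (1, (.step [29, 31, 1, 28, 5, 30, 1] .fail)), (3, .fail), (1, (.step [28, 1, 30, 30, 29, 31, 28, 30, 28] (.step [1, 29, 5, 31, 5, 31, 28, 1, 31, 1, 1] .fail))), (1, (.step [29, 31, 31, 5, 5, 31, 31, 28, 5] .fail)), (1, (.step [31, 29, 29, 30, 1, 28] (.step [1, 29, 5, 31, 28, 28, 1, 29, 5, 30, 1, 28, 29, 30] (.step [28, 31, 5, 5, 29, 5, 30, 1, 30, 5, 29, 5, 1, 1, 28, 28, 1, 29, 31, 29, 31, 28] .fail)))), (1, (.step [31, 5, 30, 30, 28, 28, 5, 31, 5] .fail)), (3, .fail), (1, (.step [5, 31, 31, 31, 31, 29, 30, 1] .fail)), (6, .fail), (1, (.step [28, 1, 29, 5, 29, 5, 31, 31, 5] .fail)), (1, (.step [31, 29, 31, 5, 30, 5, 28, 30, 1] .fail)), (1, .fail), (1, (.step [29, 5, 30, 5, 5, 31, 29, 30, 29] .fail)), (1, (.step [31, 31, 31, 31] .fail)), (1, (.step [5, 31, 28, 30, 1, 28, 1, 1] .fail)), (1, (.step [1, 29, 1, 28,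 1, 28, 5, 5] .fail)), (2, .fail), (1, (.step [31, 31, 29, 5, 31, 28, 28] .fail)), (1, .fail), (1, (.step [28, 1, 29, 29, 5, 28, 30, 1] .fail)), (2, .fail), (1, (.step [30, 29, 29, 5, 30, 29, 29, 5] .fail)), (1, .fail), (1, (.step [29, 5, 31, 28, 28, 30] .fail)), (1, .fail), (1, (.step [28, 28, 28, 1, 29, 5, 30, 28, 28] (.step [5, 31, 28, 5, 31, 28, 31, 31, 29, 5, 30, 30] (.step [1, 30, 30, 1, 28, 1, 28, 5, 29, 5, 5, 5, 28, 5, 28, 28, 5, 28, 29, 31, 29, 30, 30, 1, 29, 31, 31, 28] .fail)))), (1, (.step [29, 31, 28, 5, 31, 28, 5, 28] (.step [1, 29, 31, 5, 5, 31, 5, 5, 5, 5, 5, 30, 5, 5, 29, 29] (.step [1, 29, 29, 1, 1, 28, 31, 31, 1, 1, 29, 1, 31, 31, 28, 1, 1, 1, 28, 1, 30, 5, 28, 5, 5, 5, 5] .fail)))), (1, (.step [28, 5, 30, 5, 30, 1, 1, 29] .fail)), (5, .fail), (1, (.step [29, 30, 29, 30, 29, 1, 31, 29, 29] .fail)), (1, (.step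 [28, 30, 29, 1, 28, 28, 30, 29, 1] (.step [] (.step [30, 29, 30, 28, 1, 31, 5, 31, 1, 29, 1, 29, 29, 29, 5, 5, 28, 31, 28, 29, 5, 5, 29, 5, 30, 30, 30, 1] (.step [] (.done [1, 1, 1, 25, 20, 21, 20, 12, 18, 22, 3, 7, 15, 5, 7, 1, 9, 4, 7, 0, 0, 14, 24, 2, 17, 15, 9, 6])))))), (3, .fail), (1, (.step [30, 5, 5, 31, 31, 31, 31, 29, 5] .fail)), (5, .fail), (1, (.step [29, 29, 30, 1, 28] (.step [31, 5, 5, 30, 30, 29, 5, 5, 28, 28, 5, 31, 31, 31] (.step [29, 30, 28, 30, 29, 30, 1, 1, 28, 28, 28, 5, 29, 1, 30, 29, 29, 5, 30, 30, 29, 29, 29] .fail)))), (4, .fail), (1, (.step [31, 29, 31, 28, 30, 30, 30, 28] .fail)), (8, .fail), (1, (.step [1, 28, 28, 30, 5, 29, 1] .fail)), (1, (.step [5, 5, 5, 29, 31, 29, 30, 30, 28] .fail)), (1, (.step [5, 28, 5, 30, 28, 1, 1] .fail)), (1, (.step [28, 1, 1, 28, 1, 31, 28] (.step [1, 1, 1, 1, 29, 1, 31,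 5, 29] .fail))), (1, (.step [28, 30, 5, 5, 29, 31, 29] .fail)), (1, (.step [31, 31, 1, 31, 5, 5, 29, 5] .fail)), (1, (.step [31, 31, 31] .fail)), (2, .fail), (1, (.step [1, 29, 29, 29, 5, 31, 28] .fail)), (1, (.step [1, 31, 5, 29, 29, 29, 1, 29] .fail)), (2, .fail), (1, (.step [29, 29, 29, 31, 29, 31, 1] .fail)), (1, (.step [29, 1, 31, 31, 5, 30, 5, 5] (.step [30, 1, 30, 5, 31, 28, 31, 29, 29, 29, 5, 31, 31, 31, 31] (.step [29, 29, 1, 5, 1, 29, 31, 5, 29, 30, 29, 30, 30, 30, 30, 30, 30, 29, 31, 31, 31, 29, 30, 28, 31] .fail)))), (1, .fail), (1, (.step [5, 30, 29, 1, 29, 1, 28, 28, 28] .fail)), (1, (.step [28, 5, 28, 5, 31, 29, 29, 29, 1] .fail)), (8, .fail), (1, (.step [30, 29, 29, 30, 1, 28] .fail)), (2, .fail), (1, (.step [29, 29, 5, 29, 30, 28, 1] (.step [31, 1, 31, 31, 5, 29, 30, 29, 31, 31, 5] (.step [5, 5, 31, 31, 31, 31,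 29, 5, 29, 5, 28, 31, 29, 31, 5, 1, 30, 30, 29, 30, 5, 28, 30, 1, 5, 29] .fail)))), (7, .fail), (1, (.step [1, 31, 5, 5, 29, 5] (.step [28, 31, 29, 29, 5, 5, 5, 29, 28, 28, 28, 1, 1, 30, 30] (.step [5, 30, 29, 30, 30, 1, 1, 28, 28, 28, 29, 29, 30, 1, 28, 31, 31, 31, 31, 31, 1, 28, 1, 1, 30, 5, 30] (.step [1, 5, 30, 28, 1, 1, 31, 29, 31, 29, 1, 31, 31, 28, 28, 1, 30, 31, 31, 5, 29, 1, 1, 1, 1, 31, 28] (.done [1, 1, 1, 1, 1, 25, 20, 21, 20, 12, 18, 22, 3, 7, 15, 5, 7, 1, 9, 4, 7, 0, 0, 14, 24, 2, 17, 15, 9, 6])))))), (1, .fail), (1, (.step [28, 1, 29, 5, 29, 5, 31, 31, 5] .fail)), (2, .fail), (1, (.step [1, 1, 30, 1, 30, 30, 28, 28, 5] .fail)), (5, .fail), (1, (.step [5, 28, 1, 29, 29, 29] (.step [29, 1, 30, 5, 30, 30, 5, 29, 29, 31, 31, 31] (.step [1, 28, 5, 30, 5, 5, 30, 28, 1, 1, 1, 1, 30, 30, 29, 5, 1, 28, 30, 5, 31, 31, 1,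 31, 5, 30, 29] .fail)))), (1, .fail), (1, (.step [29, 30, 1, 31, 31, 1, 30, 1] .fail)), (1, (.step [1, 1, 28, 5, 30, 29, 5] (.step [29, 30, 28, 30, 28, 5, 29, 29, 5, 5] (.step [31, 29, 5, 30, 5, 5, 31, 29, 30, 29, 5, 5, 5, 5, 30, 28, 1, 1, 29] .fail)))), (4, .fail), (1, (.step [28, 5, 30, 30, 5, 5, 31, 5, 29] (.step [1, 1, 28, 1, 1, 1, 31, 29, 5, 5, 28, 29, 30] (.step [30, 1, 28, 5, 30, 1, 29, 31, 28, 5, 29, 5, 28, 5, 29, 5, 30, 1, 1, 1, 1, 1, 29, 1, 31, 5, 29] .fail)))), (1, (.step [1, 28, 30, 30, 30, 30, 1, 1] (.step [30, 1, 30, 30, 30, 30, 1, 31, 1, 29, 5, 31, 28, 28] (.step [5, 5, 29, 5, 29, 30, 28, 5, 29, 1, 31, 31, 28, 28, 1, 30, 28, 1, 30, 5, 28, 5, 5, 5, 5] .fail)))), (1, (.step [1, 28, 28, 31, 1, 28, 28] .fail)), (5, .fail), (1, (.step [5, 31, 29, 30, 29, 1, 1, 1] .fail)), (1, (.step [5, 31, 31, 5, 29, 1, 1, 30, 5] .fail)),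 (1, (.step [31, 29, 29, 31, 31, 28, 30, 29, 1] (.step [5, 31, 1, 28, 5, 30, 5, 28, 5, 5, 30, 28, 31, 31] (.step [31, 29, 1, 29, 31, 28, 5, 31, 28, 28, 5, 1, 31, 31, 28, 28, 1, 5, 29, 30, 1, 30, 28, 31, 29] .fail)))), (1, (.step [31, 29, 29, 30, 1, 28] (.step [28, 1, 30, 5, 28, 5, 5, 5, 5] .fail))), (1, (.step [31, 1, 31, 31, 28, 28, 1] (.step [28, 28, 5, 31, 5, 31, 5, 29, 29, 29, 30, 1, 28, 30] (.step [1, 31, 1, 31, 28, 31, 5, 29, 30, 1, 29, 1, 31, 31, 31, 31, 31, 31, 1, 29, 31, 31, 31, 31, 5, 28, 30, 30] .fail)))), (1, (.step [5, 31, 1, 28, 1, 29, 1, 28] (.step [28, 5, 5, 29, 30, 30, 1, 30, 1, 30, 30] (.step [] .fail)))), (1, .fail), (1, (.step [31, 1, 28, 31, 29, 1, 30, 5, 5] .fail)), (1, .fail), (1, (.step [28, 28, 31, 1, 30, 1, 30, 29] .fail)), (1, .fail), (1, (.step [30, 30, 30] .fail)), (1, (.step [1, 1, 31, 31, 5, 30, 5]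 .fail)), (1, (.step [29, 5, 30, 29, 1, 28, 30, 1] .fail)), (1, .fail), (1, (.step [31, 29, 31, 29, 29, 1, 30, 28] .fail)), (1, .fail), (1, (.step [28, 5, 28, 5, 31, 29, 29, 29, 1] (.step [28, 31, 28, 5, 31, 1, 28, 1, 1, 30, 28, 31, 31, 31, 31, 31] .fail))), (1, (.step [5, 5, 5, 29, 30, 30, 5, 28] (.step [30, 28, 5, 5, 1, 28, 31, 29, 31, 1, 31, 31, 5] .fail))), (4, .fail), (1, (.step [5, 30, 28, 5, 29, 5, 5, 5, 28, 5] .fail)), (1, .fail), (1, (.step [28, 31, 5, 29, 5, 28, 31, 1] .fail)), (1, .fail), (1, (.step [1, 31, 28, 1, 28, 31, 31, 31, 29] (.step [1, 30, 30, 29, 30, 5, 28, 30, 29] (.step [31, 29, 5, 30, 5, 5, 31, 29, 30, 29, 5, 5, 5, 5, 30, 28, 1, 1, 29] .fail)))), (1, (.step [5, 28, 5, 30, 28, 1, 1] (.step [31, 5, 30, 5, 29, 31, 29, 31, 28, 31, 5, 30, 30, 30] (.step [5, 31, 1, 31, 30, 30, 1, 31, 29, 5, 5, 30, 30, 31, 31,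 31, 1, 30, 1, 31, 29, 5, 30, 1, 29, 30] .fail)))), (1, (.step [28, 1, 29, 1, 30, 5, 30, 1, 1] .fail)), (1, (.step [28, 5, 28, 28, 28, 5, 29, 5] (.step [31, 31, 29, 1, 30, 30, 30, 30, 28, 5, 30, 30, 30] (.step [28, 30, 30, 29, 5, 30, 5, 29, 28, 31, 29, 30, 30, 29, 30, 1, 31, 31, 5, 31, 5, 31, 31, 28, 1, 1, 29] .fail)))), (1, (.step [31, 28, 31, 31, 31, 1, 28, 5] .fail)), (1, .fail), (1, (.step [30, 1, 28, 31, 1, 29, 5, 5] .fail)), (1, .fail), (1, (.step [31, 29, 29, 5, 29, 30, 28, 1] .fail)), (1, (.step [31, 28, 28, 28, 5, 29, 1] .fail)), (16, .fail), (1, (.step [31, 29, 29, 31, 31, 28, 30, 29, 1] (.step [30, 30, 29, 29, 5, 29, 30, 28, 1, 29, 29, 30, 1, 28] (.step [28, 30, 30, 29, 5, 30, 5, 29, 28, 31, 29, 30, 30, 29, 30, 1, 31, 31, 5, 31, 5, 31, 31, 28, 1, 1, 29] .fail)))), (1, (.step [31, 5, 29, 29, 1, 30, 1, 29] .fail)), (1,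 .fail), (1, (.step [29, 29, 30, 1, 28] .fail)), (2, .fail), (1, (.step [29, 1, 30, 30, 29, 31, 5, 30, 29] (.step [30, 30, 29, 29, 5, 29, 30, 28, 1, 29, 29, 30, 1, 28] (.step [1, 1, 28, 30, 29, 29, 1, 31, 28, 1, 30, 28, 31, 31, 30, 28, 5, 31, 29, 31, 5, 31, 29, 29, 5] .fail)))), (1, (.step [28, 5, 5, 29, 31, 1, 1, 1, 1] .fail)), (1, (.step [29, 5, 31, 28, 28, 30] (.step [28, 28, 30, 5, 29, 31, 29, 5, 28, 1, 31, 5, 5, 29, 5, 31] .fail))), (1, (.step [5, 5, 5, 29, 30, 30, 5, 28] (.step [30, 1, 29, 1, 29, 31, 5, 5, 31, 5, 29, 31, 31] .fail))), (1, .fail), (1, (.step [31, 5, 30, 30, 28, 28, 5, 31, 5] .fail)), (4, .fail), (1, (.step [5, 5, 31, 1, 30, 1, 28, 1] .fail)), (1, (.step [5, 29, 1, 28, 5, 28, 28, 28] (.step [5, 31, 29, 5, 5, 5, 31, 28, 1, 31, 31, 28, 28, 1] (.step [29, 30, 28, 30, 29, 30, 1, 1, 28, 28, 28, 5, 29, 1, 30, 29,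 29, 5, 30, 30, 29, 29, 29] .fail)))), (1, (.step [31, 28, 31, 31, 31, 1, 28, 5] (.step [29, 29, 1, 30, 30, 30, 29, 29, 31, 5, 28, 28, 28, 31, 29, 29, 5] (.step [1, 29, 29, 1, 1, 28, 31, 31, 1, 1, 29, 1, 31, 31, 28, 1, 1, 1, 28, 1, 30, 5, 28, 5, 5, 5, 5] .fail)))), (1, (.step [1, 31, 28, 1, 28, 31, 31, 31, 29] .fail)), (1, (.step [5, 5, 29, 31, 1, 29, 1] .fail)), (1, (.step [29, 1, 29, 29, 1, 29, 1, 1, 1] .fail)), (1, (.step [29, 5, 31, 1, 30, 1, 29, 31, 1] (.step [29, 1, 1, 31, 29, 5, 31, 28, 5, 5, 29, 5, 31, 28, 28] (.step [5, 28, 28, 30, 5, 31, 5, 5, 28, 5, 28, 1, 30, 1, 30, 1, 29, 29, 31] .fail)))), (1, (.step [1, 31, 5, 29, 29, 29, 1, 29] (.step [29, 1, 31, 31, 28, 1, 1, 1, 5, 28, 5, 30, 28, 1, 1] (.step [1, 1, 28, 30, 29, 29, 1, 31, 28, 1, 30, 28, 31, 31, 30, 28, 5, 31, 29, 31, 5, 31, 29, 29, 5] .fail)))), (1, (.step [31,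 29, 31, 29, 29, 1, 30, 28] (.step [28, 28, 30, 30, 30, 30, 29, 29, 29, 1, 31, 31, 31] (.step [30, 5, 30, 1, 31, 31, 1, 1, 28, 28, 28, 29, 31, 5, 30, 30, 5, 30, 28, 28, 31, 29, 1, 31, 28, 31, 31, 5] .fail)))), (2, .fail), (1, (.step [28, 28, 1, 1, 31, 1, 1, 1] .fail)), (1, .fail), (1, (.step [29, 29, 30, 1, 29, 30, 1, 28] .fail)), (5, .fail), (1, (.step [1, 28, 5, 31, 28, 1, 31, 28] (.step [1, 31, 1, 28, 28, 28, 1, 29, 30, 29, 29, 29, 30, 1, 28, 31] (.step [1, 30, 30, 1, 28, 1, 28, 5, 29, 5, 5, 5, 28, 5, 28, 28, 5, 28, 29, 31, 29, 30, 30, 1, 29, 31, 31, 28] .fail)))), (2, .fail), (1, (.step [28, 5, 28, 5, 31, 29, 29, 29, 1] .fail)), (1, (.step [30, 5, 5, 31, 31, 31, 31, 29, 5] (.step [1, 28, 30, 30, 28, 28, 30, 5, 28, 1, 28, 28, 31, 1, 28, 28] (.step [28, 28, 28, 5, 29, 1, 31, 31, 31, 31, 28, 28, 30, 28, 5, 5, 28, 1, 28] .fail)))),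 (7, .fail), (1, (.step [30, 28, 30, 5, 5, 29, 31, 29] (.step [1, 31, 31, 29, 5, 28, 5, 5, 29, 1, 31, 28, 30, 30] .fail))), (2, .fail), (1, (.step [28, 28, 31, 1, 30, 1, 30, 29] (.step [5, 30, 28, 28, 28, 31, 1, 1, 1, 28, 5, 31, 31, 30] .fail))), (1, (.step [30, 28, 28, 5, 31, 5, 31, 5, 29] .fail)), (1, .fail), (1, (.step [29, 5, 30, 29, 1, 28, 30, 1] .fail)), (4, .fail), (1, (.step [28, 5, 5, 29, 31, 1, 1, 1, 1] .fail)), (1, .fail), (1, (.step [1, 29, 30, 30, 28, 31, 28, 30, 28] .fail)), (4, .fail), (1, (.step [28, 28, 30, 28, 1, 1, 30, 1] (.step [28, 30, 29, 30, 5, 31, 28, 1, 31, 31, 5, 31, 31] (.step [29, 30, 28, 1, 31, 5, 31, 1, 28, 30, 28, 30, 5, 5, 29, 1, 1, 29, 1, 30, 29, 28, 29, 30, 1, 28, 28, 1] (.step [1, 5, 30, 28, 1, 1, 31, 29, 31, 29, 1, 31, 31, 28, 28, 1, 30, 31, 31, 5, 29, 1, 1, 1, 1, 31, 28] (.done [1, 1, 1, 1,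 25, 20, 21, 20, 12, 18, 22, 3, 7, 15, 5, 7, 1, 9, 4, 7, 0, 0, 14, 24, 2, 17, 15, 9, 6])))))), (4, .fail), (1, (.step [29, 30, 29, 30, 29, 1, 31, 29, 29] (.step [1, 1, 1, 28, 5, 28, 1, 28, 31, 5, 5, 28, 29, 30] (.step [31, 1, 1, 1, 1, 29, 1, 31, 5, 29, 29, 29, 5, 30, 29, 29, 5, 31] .fail)))), (1, (.step [1, 31, 1, 30, 30, 5, 5] .fail)), (3, .fail), (1, (.step [28, 30, 28, 5, 30, 5, 29, 5] (.step [30, 1, 29, 31, 28, 30, 30, 31, 5, 29, 1, 29, 5] (.step [5, 30, 29, 1, 28, 30, 5, 30, 30, 29, 1, 29, 5, 31, 5, 30, 30, 5, 31, 28, 29, 29, 5, 30, 30, 29, 29, 29] .fail)))), (1, (.step [31, 31, 29, 29, 30, 1, 28] .fail)), (1, .fail), (1, (.step [5, 5, 29, 30, 29, 5, 29, 29] .fail)), (1, (.step [30, 28, 28, 5, 31, 5, 31, 5, 29] (.step [30, 1, 29, 31, 28, 30, 30, 31, 5, 29, 1, 29, 5] (.step [29, 29, 5, 5, 29, 30, 1, 1, 29, 1, 28, 28, 31, 1,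 28, 28, 31, 31, 30, 30, 28, 30, 28, 30, 5, 5, 29, 30] (.step [28, 1, 29, 30, 29, 1, 5, 30, 28, 28, 1, 29, 5, 30, 30, 30, 29, 1, 30, 30, 5, 30, 28, 30, 29, 5, 1, 1, 29, 31, 30, 28, 5, 5, 1, 28, 31, 29, 31, 1, 31, 31, 5, 30, 30, 5, 31, 1, 1, 28, 31, 5, 28, 1, 1, 1] (.done [1, 1, 1, 1, 1, 1, 1, 1, 1, 1, 25, 20, 21, 20, 12, 18, 22, 3, 7, 15, 5, 7, 1, 9, 4, 7, 0, 0, 14, 24, 2, 17, 15, 9, 6])))))), (1, (.step [5, 28, 1, 31, 29, 29, 5] .fail)), (1, .fail), (1, (.step [28, 1, 29, 5, 28, 5, 28, 30, 5] .fail)), (4, .fail), (1, (.step [31, 1, 1, 28, 5, 30, 29, 5] (.step [31, 31, 29, 1, 30, 30, 30, 30, 28, 5, 30, 30, 30] (.step [31, 1, 31, 5, 29, 29, 29, 1, 29, 28, 29, 30, 31, 31, 31, 31, 1, 28, 1, 1, 30, 5, 30] .fail)))), (6, .fail), (1, (.step [31, 5, 29, 29, 30, 30, 5] .fail)), (1, .fail), (1, (.step [28, 28, 30, 5, 28, 31, 28, 31, 28]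 (.step [28, 5, 31, 31, 31, 31, 31, 1, 29, 31, 31, 31, 31, 31] (.step [29, 30, 28, 30, 29, 30, 1, 1, 28, 28, 28, 5, 29, 1, 30, 29, 29, 5, 30, 30, 29, 29, 29] .fail)))), (1, (.step [31, 5, 30, 30, 28, 28, 5, 31, 5] .fail)), (1, (.step [28, 31, 5, 31, 5, 30, 29, 29] .fail)), (1, (.step [30, 5, 28, 1, 29, 29, 29] (.step [30, 28, 30, 30, 5, 31, 1, 30, 28, 1, 31, 31] (.step [1, 31, 1, 31, 28, 31, 5, 29, 30, 1, 29, 1, 31, 31, 31, 31, 31, 31, 1, 29, 31, 31, 31, 31, 5, 28, 30, 30] .fail)))), (3, .fail), (1, (.step [29, 31, 29, 29, 1, 30, 28] (.step [5, 31, 28, 5, 31, 28, 31, 31, 29, 5, 30, 30] (.step [31, 1, 31, 5, 29, 29, 29, 1, 29, 28, 29, 30, 31, 31, 31, 31, 1, 28, 1, 1, 30, 5, 30] .fail)))), (2, .fail), (1, (.step [5, 31, 1, 28, 1, 29, 1, 28] .fail)), (1, .fail), (1, (.step [28, 1, 1, 30, 1, 29, 5] .fail)), (1, .fail), (1, (.step [30,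 29, 30, 1, 31, 31, 1, 30, 1] (.step [31, 31, 29, 1, 30, 30, 30, 30, 28, 5, 30, 30, 30] (.step [31, 29, 1, 28, 30, 29, 31, 1, 1, 28, 5, 28, 28, 28, 5, 29, 1] .fail)))), (4, .fail), (1, (.step [29, 29, 5, 31, 5, 28, 5, 28] .fail)), (1, .fail), (1, (.step [5, 29, 30, 1, 30, 28, 31, 29] (.step [29, 30, 29, 31, 5, 31, 28, 5, 31, 31, 30] (.step [31, 1, 1, 1, 1, 29, 1, 31, 5, 29, 29, 29, 5, 30, 29, 29, 5, 31] .fail)))), (4, .fail), (1, (.step [1, 29, 30, 28, 5, 31, 1, 29, 5] (.step [5, 31, 28, 5, 31, 28, 31, 31, 29, 5, 30, 30] (.step [28, 30, 30, 29, 5, 30, 5, 29, 28, 31, 29, 30, 30, 29, 30, 1, 31, 31, 5, 31, 5, 31, 31, 28, 1, 1, 29] .fail)))), (1, .fail), (1, (.step [1, 31, 31, 1, 30, 1, 29, 31] .fail)), (1, .fail), (1, (.step [30, 1, 1, 29, 30, 28, 1, 28, 1] .fail)), (2, .fail), (1, (.step [5, 30, 28, 30, 28, 28, 28] .fail)), (1, (.step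 [5, 31, 28, 28, 1, 28, 31, 28] .fail)), (1, .fail), (1, (.step [29, 1, 1, 1, 28, 5, 30, 29] (.step [29, 30, 30, 28, 5, 31, 31, 28, 30, 28] (.step [5, 5, 28, 31, 31, 29, 30, 29, 1, 29, 31, 29, 29, 1, 30, 28] .fail)))), (8, .fail), (1, (.step [30, 1, 28, 31, 1, 29, 5, 5] .fail)), (1, .fail), (1, (.step [31, 5, 29, 29, 30, 30, 5] .fail)), (1, (.step [30, 29, 29, 30, 1, 28] .fail)), (1, .fail), (1, (.step [31, 29, 29, 29, 31, 29, 31, 1] (.step [5, 30, 28, 28, 28, 31, 1, 1, 1, 28, 5, 31, 31, 30] (.step [28, 31, 28, 30, 30, 28, 31, 5, 29, 1, 31, 5, 5, 28, 30, 5, 29, 1, 31, 29] .fail)))), (1, (.step [30, 30, 5, 29, 29, 30, 30, 5] (.step [28, 31, 28, 5, 31, 1, 28, 1, 1, 30, 28, 31, 31, 31, 31, 31] .fail))), (2, .fail), (1, (.step [28, 31, 1, 29, 5, 5, 5, 28] (.step [30, 29, 30, 29, 1, 28, 5, 31, 5, 28, 30, 5, 31, 31, 31, 31] (.step [30,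 1, 30, 30, 30, 1, 29, 31, 5, 28, 5, 1, 29, 5, 30, 30, 30, 29, 28, 1, 30, 5, 28, 5, 5, 5, 5] .fail)))), (1, (.step [31, 31, 31, 31] .fail)), (1, (.step [1, 31, 28, 31, 31, 5, 29, 1] (.step [28, 31, 29, 5, 28, 1, 30, 31, 29, 5, 31, 5, 30, 30] .fail))), (2, .fail), (1, (.step [5, 5, 31, 1, 30, 1, 28, 1] (.step [5, 31, 28, 31, 5, 1, 5, 31, 29, 5, 28, 31, 31, 31] .fail))), (3, .fail), (1, (.step [29, 5, 31, 29, 31, 29, 31, 1] .fail)), (1, (.step [30, 1, 31, 31, 5, 30, 30, 5, 29] (.step [30, 29, 30, 30, 28, 1, 30, 29, 5, 5, 28, 31, 31] (.step [1, 29, 31, 29, 5, 28, 5, 29, 5, 5, 5, 31, 28, 30, 29, 30, 28, 1, 30, 30, 30, 29, 1, 30, 5, 30, 30, 1] .fail)))), (2, .fail), (1, (.step [5, 30, 29, 5, 28, 1, 1] (.step [1, 31, 31, 29, 5, 28, 5, 5, 29, 1, 31, 28, 30, 30] (.step [28, 30, 29, 29, 28, 5, 29, 5, 31, 5, 5, 5, 5, 28, 31, 28, 30, 1, 1,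 1, 29, 1, 29, 1, 31, 28, 30, 28, 1] .fail)))), (1, .fail), (1, (.step [5, 30, 28, 5, 29, 5, 5, 5, 28, 5] (.step [29, 29, 30, 28, 5, 29, 5, 30, 1, 28, 29, 30] .fail))), (1, (.step [28, 5, 31, 1, 31, 29, 5, 29] .fail)), (2, .fail), (1, (.step [31, 31, 29, 5, 31, 28, 28] (.step [28, 30, 30, 29, 29, 29, 5, 5, 1, 30, 28, 30, 29, 1, 28] (.step [29, 5, 5, 31, 5, 31, 1, 31, 1, 28, 31, 1, 29, 5, 5, 5, 28, 28, 5, 31, 28, 31, 1, 28, 28, 28, 28] .fail)))), (1, (.step [1, 28, 28, 30, 5, 29, 1] .fail)), (4, .fail), (1, (.step [5, 29, 1, 30, 5, 29, 1, 1] .fail)), (13, .fail), (1, (.step [29, 30, 29, 5, 29, 29, 30, 1] .fail)), (1, (.step [5, 31, 1, 31, 31, 5, 30, 1] (.step [28, 1, 30, 5, 28, 5, 5, 5, 5] .fail))), (2, .fail), (1, (.step [30, 30, 5, 29, 29, 30, 30, 5] (.step [28, 5, 29, 31, 29, 5, 28, 1, 28, 5, 5, 28, 29, 30] (.step [31, 1, 1,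 1, 1, 29, 1, 31, 5, 29, 29, 29, 5, 30, 29, 29, 5, 31] .fail)))), (4, .fail), (1, (.step [1, 1, 30, 30, 30, 29, 5, 29, 5] .fail)), (1, (.step [28, 30, 28, 1, 1, 31, 29] (.step [28, 5, 31, 31, 31, 31, 31, 1, 29, 31, 31, 31, 31, 31] (.step [5, 28, 28, 30, 5, 31, 5, 5, 28, 5, 28, 1, 30, 1, 30, 1, 29, 29, 31] .fail)))), (2, .fail), (1, (.step [29, 31, 28, 5, 28, 31, 28, 1, 29] (.step [28, 28, 28, 31, 31, 1, 28, 28] (.step [28, 5, 29, 29, 1, 29, 1, 29, 1, 28, 29, 30, 31, 31, 31, 31, 1, 28, 1, 1, 30, 5, 30] .fail)))), (8, .fail), (1, (.step [5, 5, 28, 5, 30, 29, 5, 29, 1] .fail)), (1, .fail), (1, (.step [1, 1, 30, 30, 30, 29, 5, 29, 5] .fail)), (1, .fail), (1, (.step [29, 29, 30, 1, 29, 30, 1, 28] (.step [30, 28, 28, 28, 31, 29, 29, 5, 1, 28, 1, 1, 30, 5] (.step [1, 29, 1, 30, 5, 30, 1, 5, 28, 5, 29, 5, 5, 31, 1, 30, 1, 28, 1] (.step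 [1, 5, 30, 28, 1, 1, 31, 29, 31, 29, 1, 31, 31, 28, 28, 1, 30, 31, 31, 5, 29, 1, 1, 1, 1, 31, 28] (.done [1, 25, 20, 21, 20, 12, 18, 22, 3, 7, 15, 5, 7, 1, 9, 4, 7, 0, 0, 14, 24, 2, 17, 15, 9, 6])))))), (1, .fail), (1, (.step [30, 5, 28, 1, 29, 29, 29] .fail)), (1, (.step [29, 5, 31, 29, 31, 29, 31, 1] .fail)), (1, (.step [5, 30, 28, 30, 28, 28, 28] .fail)), (1, .fail), (1, (.step [28, 1, 31, 28, 5, 28, 30, 1, 1] (.step [29, 5, 29, 31, 1, 1, 31, 31, 5, 5, 29, 29, 30, 1, 28] (.step [29, 29, 31, 30, 29, 30, 29, 30, 5, 29, 31, 5, 31, 31, 5, 29, 1, 1, 1, 1, 31, 28] .fail)))), (3, .fail), (1, (.step [29, 31, 28, 5, 28, 31, 28, 1, 29] .fail)), (1, (.step [28, 5, 28, 5, 31, 29, 29, 29, 1] .fail)), (1, (.step [31, 28, 31, 31, 31, 1, 28, 5] .fail)), (1, (.step [1, 31, 28, 31, 28, 30, 5, 5, 5] .fail)), (1, (.step [29, 31, 31, 31, 29, 30,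 28] (.step [28, 5, 5, 30, 30, 30, 28, 30, 5, 1, 28, 5, 31, 5, 5, 29] .fail))), (1, (.step [5, 31, 5, 5, 28, 31, 5] .fail)), (1, (.step [1, 28, 30, 30, 30, 30, 1, 1] .fail)), (1, .fail), (1, (.step [30, 5, 29, 29, 30, 30, 5] .fail)), (1, (.step [29, 29, 5, 29, 30, 28, 1] (.step [29, 31, 31, 28, 28, 30, 1, 1, 30, 28, 30, 5, 30, 30] .fail))), (1, (.step [29, 31, 29, 1, 31, 28, 28, 31, 1] (.step [28, 31, 29, 5, 28, 1, 30, 31, 29, 5, 31, 5, 30, 30] (.step [1, 29, 31, 29, 5, 28, 5, 29, 5, 5, 5, 31, 28, 30, 29, 30, 28, 1, 30, 30, 30, 29, 1, 30, 5, 30, 30, 1] .fail)))), (1, (.step [29, 31, 29, 29, 1, 30, 28] .fail)), (1, (.step [30, 28, 28, 30, 28, 28, 31, 5] (.step [28, 31, 29, 1, 28, 1, 28, 1, 30, 1, 30, 30, 30] .fail))), (1, (.step [30, 29, 1, 1, 1, 28, 5, 30, 29] (.step [5, 29, 29, 5, 31, 1, 28, 31, 1, 31, 29] (.step [1, 28, 5, 30,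 5, 5, 30, 28, 1, 1, 1, 1, 30, 30, 29, 5, 1, 28, 30, 5, 31, 31, 1, 31, 5, 30, 29] (.step [] (.done [1, 1, 1, 1, 1, 1, 1, 1, 25, 20, 21, 20, 12, 18, 22, 3, 7, 15, 5, 7, 1, 9, 4, 7, 0, 0, 14, 24, 2, 17, 15, 9, 6])))))), (2, .fail), (1, (.step [1, 29, 1, 1, 28, 30, 28, 1, 29] .fail)), (1, .fail), (1, (.step [31, 31, 28, 28, 28, 5, 29, 1] .fail)), (2, .fail), (1, (.step [31, 29, 31, 5, 30, 5, 28, 30, 1] (.step [5, 28, 5, 31, 28, 30, 1, 29, 5, 29, 29, 29, 30, 1, 28] (.step [29, 30, 28, 1, 31, 5, 31, 1, 28, 30, 28, 30, 5, 5, 29, 1, 1, 29, 1, 30, 29, 28, 29, 30, 1, 28, 28, 1] .fail)))), (1, (.step [30, 5, 28, 1, 29, 29, 29] .fail)), (1, (.step [1, 1, 29, 29, 29, 30, 5, 29, 5] .fail)), (1, (.step [31, 1, 28, 28, 31, 1, 28, 28] (.step [31, 1, 31, 5, 5, 29, 5, 30, 30, 30, 30] (.step [5, 30, 1, 1, 1, 31, 5, 5, 28, 5, 30, 28, 1, 1, 29, 30,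 30, 28, 28, 5, 28, 5, 28, 30, 29, 29] .fail)))), (1, (.step [28, 1, 28, 30, 5, 30, 1, 29] .fail)), (2, .fail), (1, (.step [29, 31, 1, 28, 5, 30, 1] .fail)), (1, (.step [31, 29, 29, 5, 29, 30, 28, 1] .fail)), (2, .fail), (1, (.step [29, 31, 31, 31, 29, 30, 28] .fail)), (6, .fail), (1, (.step [30, 28, 1, 29, 30, 29, 30, 28, 28] (.step [1, 28, 5, 5, 29, 29, 31, 31, 29, 30, 30] .fail))), (2, .fail), (1, (.step [5, 28, 31, 5, 28, 1, 28, 28, 5] .fail)), (1, (.step [1, 28, 28, 30, 29, 29, 29] .fail)), (4, .fail), (1, (.step [5, 5, 31, 31, 28, 28, 30, 5, 28] (.step [31, 29, 5, 30, 1, 31, 28, 28, 30, 29, 1, 29, 5, 31, 28, 28] (.step [5, 31, 29, 31, 1, 28, 30, 5, 30, 28, 5, 5, 28, 1, 29, 29, 29, 30, 1, 1, 29, 1, 29, 1, 31, 28, 30, 28, 1] .fail)))), (1, .fail), (1, (.step [5, 30, 1, 30, 5, 29, 31, 28] .fail)), (12, .fail), (1, (.step [29,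 5, 30, 28, 1, 31, 31, 29] .fail)), (1, (.step [28, 1, 29, 29, 30, 5, 30, 28] .fail)), (1, (.step [30, 1, 31, 31, 5, 30, 30, 5, 29] .fail)), (1, .fail), (1, (.step [29, 31, 1, 29, 30, 30, 30, 28] .fail)), (2, .fail), (1, (.step [28, 28, 1, 29, 1, 31, 1, 1] .fail)), (1, (.step [1, 30, 30, 1, 1, 1, 30, 5, 28] (.step [28, 5, 29, 31, 29, 5, 28, 1, 28, 5, 5, 28, 29, 30] (.step [] .fail)))), (7, .fail), (1, (.step [28, 1, 29, 29, 30, 5, 30, 28] .fail)), (1, (.step [29, 5, 5, 29, 31, 28, 31, 1] (.step [28, 28, 5, 31, 5, 31, 5, 29, 29, 29, 30, 1, 28, 30] .fail))), (4, .fail), (1, (.step [28, 1, 29, 5, 28, 5, 28, 30, 5] .fail)), (1, (.step [28, 5, 5, 28, 28, 1, 29, 5] .fail)), (1, .fail), (1, (.step [30, 1, 30, 29, 29, 31, 29, 29] (.step [5, 30, 29, 30, 30, 28, 5, 30, 1, 30, 28, 1, 31, 31, 31, 31] (.step [28, 5, 29, 29, 1, 29, 1, 29, 1,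 28, 29, 30, 31, 31, 31, 31, 1, 28, 1, 1, 30, 5, 30] .fail)))), (3, .fail), (1, (.step [30, 1, 1, 30, 1, 1, 30, 28, 5] (.step [1, 28, 28, 30, 1, 30, 28, 30, 1, 29] .fail))), (1, .fail), (1, (.step [1, 29, 30, 28, 5, 31, 1, 29, 5] .fail)), (4, .fail), (1, (.step [29, 30, 28, 31, 29, 31, 5, 28] (.step [28, 28, 1, 28, 31, 28, 1, 1, 28, 1, 1, 28, 1, 31, 28] (.step [5, 31, 28, 1, 1, 1, 28, 30, 30, 29, 29, 5, 31, 28, 28, 31, 1, 30, 30, 5, 30, 28, 30, 29, 5, 1, 1, 29, 31] .fail)))), (1, (.step [29, 29, 30, 28, 31, 29, 31, 5] .fail)), (3, .fail), (1, (.step [5, 28, 30, 30, 29, 1, 28, 5] .fail)), (1, (.step [29, 5, 31, 28, 28] .fail)), (7, .fail), (1, (.step [30, 29, 5, 31, 28, 28] .fail)), (3, .fail), (1, (.step [29, 31, 28, 30, 30, 30, 28] (.step [28, 31, 31, 29, 5, 5, 5, 29, 30, 1, 31, 31, 31] (.step [29, 29, 31, 30, 29, 30, 29, 30,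 5, 29, 31, 5, 31, 31, 5, 29, 1, 1, 1, 1, 31, 28] .fail)))), (1, .fail), (1, (.step [5, 31, 1, 28, 1, 29, 1, 28] .fail)), (4, .fail), (1, (.step [29, 1, 31, 31, 5, 30, 5, 5] (.step [1, 31, 1, 28, 31, 31, 5, 5, 5, 5, 29, 31, 1, 29, 1] (.step [29, 5, 5, 29, 5, 31, 5, 28, 5, 28, 30, 29, 29, 29, 5, 28, 31, 28, 29, 5, 5, 29, 5, 30, 30, 30, 1] .fail)))), (1, (.step [30, 30, 30] .fail)), (1, .fail), (1, (.step [1, 31, 31, 28, 28, 1] (.step [28, 5, 5, 30, 30, 30, 28, 30, 5, 1, 28, 5, 31, 5, 5, 29] (.step [29, 30, 28, 1, 31, 5, 31, 1, 28, 30, 28, 30, 5, 5, 29, 1, 1, 29, 1, 30, 29, 28, 29, 30, 1, 28, 28, 1] .fail)))), (1, (.step [29, 29, 30, 1, 29, 30, 1, 28] (.step [1, 1, 1, 1, 29, 1, 31, 5, 29] (.step [1, 31, 1, 31, 28, 31, 5, 29, 30, 1, 29, 1, 31, 31, 31, 31, 31, 31, 1, 29, 31, 31, 31, 31, 5, 28, 30, 30] .fail)))), (6, .fail), (1, (.step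 [5, 30, 1, 31, 29, 31, 28, 28, 5] (.step [28, 31, 31, 29, 5, 5, 5, 29, 30, 1, 31, 31, 31] .fail))), (10, .fail)])), (3525, (.badPow 23 1)), (1, (Cert.rl [(5, .fail), (1, (.step [1, 29, 1, 1, 28, 30, 28, 1, 29] .fail)), (4, .fail), (1, (.step [29, 30, 5, 5, 31, 28, 1, 31, 29] (.step [1, 31, 5, 31, 28, 28, 28, 5, 5, 30, 30, 30] .fail))), (1, .fail), (1, (.step [5, 5, 5, 30, 29, 30, 29, 5, 28] .fail)), (2, .fail), (1, (.step [30, 5, 5, 31, 31, 31, 31, 29, 5] .fail)), (1, (.step [28, 1, 29, 5, 28, 5, 28, 30, 5] (.step [29, 30, 29, 31, 5, 31, 28, 5, 31, 31, 30] (.step [5, 31, 28, 1, 1, 1, 28, 30, 30, 29, 29, 5, 31, 28, 28, 31, 1, 30, 30, 5, 30, 28, 30, 29, 5, 1, 1, 29, 31] .fail)))), (1, (.step [31, 5, 31, 1, 29, 29, 29, 30, 28] (.step [30, 30, 28, 1, 31, 5, 31, 31, 29, 5, 28, 28, 28, 5, 29, 1] (.step [28, 31, 28, 30, 30, 28, 31, 5,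 29, 1, 31, 5, 5, 28, 30, 5, 29, 1, 31, 29] .fail)))), (1, (.step [28, 31, 28, 28, 5, 29, 1, 31, 5] (.step [28, 5, 5, 5, 29, 30, 1, 30, 28, 1, 30, 30] .fail))), (1, (.step [30, 28, 30, 5, 5, 29, 31, 29] .fail)), (1, (.step [5, 31, 28, 28, 1, 28, 31, 28] .fail)), (3, .fail), (1, (.step [1, 1, 30, 30, 30, 29, 5, 29, 5] .fail)), (2, .fail), (1, (.step [1, 28, 1, 31, 1, 29, 31, 29] (.step [28, 1, 30, 5, 28, 5, 5, 5, 5] .fail))), (1, .fail), (1, (.step [1, 30, 29, 1, 1, 30, 1] .fail)), (1, .fail), (1, (.step [5, 28, 1, 31, 1, 30, 30, 1] (.step [28, 28, 5, 31, 5, 31, 5, 29, 29, 29, 30, 1, 28, 30] (.step [1, 1, 28, 5, 1, 31, 29, 1, 1, 28, 5, 28, 1, 29, 30, 29, 30, 28, 28, 1, 1, 28, 28, 1, 29, 31, 29, 31, 28] .fail)))), (5, .fail), (1, (.step [5, 29, 29, 1, 30, 1, 29] (.step [5, 29, 5, 5, 5, 5, 28, 30, 1, 31, 31, 31] (.step [5, 30, 30,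 29, 30, 1, 30, 30, 5, 28, 5, 5, 5, 5, 31, 5, 5, 29, 31, 29, 29] .fail)))), (2, .fail), (1, (.step [28, 1, 29, 1, 30, 5, 30, 1, 1] (.step [29, 31, 29, 5, 31, 31, 29, 1, 31, 28, 30, 30, 30] (.step [1, 30, 30, 1, 28, 1, 28, 5, 29, 5, 5, 5, 28, 5, 28, 28, 5, 28, 29, 31, 29, 30, 30, 1, 29, 31, 31, 28] .fail)))), (1, .fail), (1, (.step [31, 1, 30, 29, 29, 31, 29, 29] .fail)), (10, .fail), (1, (.step [28, 28, 31, 1, 30, 1, 30, 29] (.step [28, 31, 29, 29, 5, 5, 5, 29, 28, 28, 28, 1, 1, 30, 30] (.step [1, 30, 30, 1, 28, 1, 28, 5, 29, 5, 5, 5, 28, 5, 28, 28, 5, 28, 29, 31, 29, 30, 30, 1, 29, 31, 31, 28] .fail)))), (2, .fail), (1, (.step [31, 5, 30, 29, 5, 28, 1, 1] (.step [29, 1, 31, 31, 28, 1, 1, 1, 5, 28, 5, 30, 28, 1, 1] (.step [1, 28, 31, 28, 31, 29, 5, 29, 1, 28, 1, 30, 28, 30, 30, 28, 1, 31, 31, 28, 30, 30, 28, 28, 1, 1, 29, 5] .fail)))),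 (1, .fail), (1, (.step [30, 1, 28, 28, 31, 1, 28, 28] .fail)), (1, .fail), (1, (.step [1, 1, 31, 31, 5, 30, 5] (.step [30, 5, 31, 5, 5, 28, 31, 5, 29, 29, 5, 29, 30, 28, 1, 30] (.step [1, 31, 1, 31, 28, 31, 5, 29, 30, 1, 29, 1, 31, 31, 31, 31, 31, 31, 1, 29, 31, 31, 31, 31, 5, 28, 30, 30] .fail)))), (1, (.step [31, 31, 1, 31, 5, 5, 29, 5] .fail)), (1, .fail), (1, (.step [5, 5, 31, 1, 30, 1, 28, 1] (.step [29, 1, 1, 29, 1, 29, 5, 29, 30, 29, 30, 30, 30, 30] (.step [28, 1, 30, 28, 1, 30, 5, 29, 29, 31, 29, 29, 30, 1, 28, 31, 31, 31, 1, 30, 1, 28, 1, 29, 29, 5, 28] .fail)))), (1, (.step [31, 1, 30, 29, 29, 31, 29, 29] (.step [30, 30, 28, 1, 31, 5, 31, 31, 29, 5, 28, 28, 28, 5, 29, 1] (.step [30, 30, 28, 28, 1, 28, 31, 28, 1, 1, 1, 30, 28, 30, 29, 1, 28, 31, 29, 29, 5, 30, 30, 29, 29, 29] .fail)))), (1, .fail), (1, (.step [28, 31,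 31, 31, 1, 28, 5] (.step [5, 28, 29, 28, 30, 28, 1, 1, 31, 5, 31, 5, 30, 30] (.step [1, 30, 29, 30, 1, 31, 5, 1, 1, 31, 5, 28, 28, 31, 1, 30, 1, 30, 29] .fail)))), (3, .fail), (1, (.step [28, 1, 31, 29, 30, 29, 29, 1] (.step [5, 28, 30, 29, 30, 5, 30, 28, 31, 5, 31, 29] (.step [1, 31, 1, 31, 28, 31, 5, 29, 30, 1, 29, 1, 31, 31, 31, 31, 31, 31, 1, 29, 31, 31, 31, 31, 5, 28, 30, 30] .fail)))), (4, .fail), (1, (.step [29, 1, 28, 28, 28, 31, 29] (.step [29, 29, 31, 5, 29, 5, 5, 29, 31, 5, 30, 30] (.step [1, 28, 31, 28, 31, 29, 5, 29, 1, 28, 1, 30, 28, 30, 30, 28, 1, 31, 31, 28, 30, 30, 28, 28, 1, 1, 29, 5] .fail)))), (2, .fail), (1, (.step [31, 5, 29, 29, 30, 5, 5, 29, 5] (.step [5, 28, 5, 31, 28, 30, 1, 29, 5, 29, 29, 29, 30, 1, 28] (.step [30, 29, 30, 28, 1, 31, 5, 31, 1, 29, 1, 29, 29, 29, 5, 5, 28, 31, 28, 29, 5, 5, 29, 5, 30,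 30, 30, 1] .fail)))), (1, (.step [5, 28, 5, 30, 1, 28, 31, 1] .fail)), (1, .fail), (1, (.step [5, 31, 1, 31, 29, 30, 28, 30, 1] (.step [28, 28, 1, 28, 31, 28, 1, 1, 28, 1, 1, 28, 1, 31, 28] .fail))), (2, .fail), (1, (.step [29, 31, 28, 31, 29, 30, 1, 1] .fail)), (1, .fail), (1, (.step [29, 29, 5, 30, 29, 29, 5] (.step [1, 29, 5, 31, 5, 31, 28, 1, 31, 1, 1] (.step [28, 30, 29, 29, 28, 5, 29, 5, 31, 5, 5, 5, 5, 28, 31, 28, 30, 1, 1, 1, 29, 1, 29, 1, 31, 28, 30, 28, 1] .fail)))), (1, (.step [28, 30, 28, 30, 30, 1, 29, 5] .fail)), (1, .fail), (1, (.step [31, 31, 29, 29, 30, 1, 28] (.step [5, 28, 31, 29, 30, 30, 28, 28, 1, 1, 1, 30, 30, 29, 5] (.step [5, 31, 29, 31, 1, 28, 30, 5, 30, 28, 5, 5, 28, 1, 29, 29, 29, 30, 1, 1, 29, 1, 29, 1, 31, 28, 30, 28, 1] .fail)))), (6, .fail), (1, (.step [1, 31, 31, 1, 30, 1, 29] .fail)), (1, .fail),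 (1, (.step [5, 28, 5, 30, 1, 28, 31, 1] .fail)), (1, .fail), (1, (.step [31, 28, 28, 28, 5, 29, 1] .fail)), (1, (.step [5, 28, 1, 30, 28, 30, 5, 5, 5] .fail)), (1, (.step [31, 28, 28, 31, 1, 30, 1, 30, 29] (.step [28, 5, 5, 29, 30, 30, 1, 30, 1, 30, 30] (.step [1, 1, 28, 30, 29, 29, 1, 31, 28, 1, 30, 28, 31, 31, 30, 28, 5, 31, 29, 31, 5, 31, 29, 29, 5] .fail)))), (1, .fail), (1, (.step [28, 30, 28, 31, 29, 5, 28, 28] .fail)), (2, .fail), (1, (.step [1, 31, 28, 5, 30, 5, 29, 30, 28] (.step [30, 28, 5, 5, 1, 28, 31, 29, 31, 1, 31, 31, 5] (.step [30, 30, 28, 28, 1, 28, 31, 28, 1, 1, 1, 30, 28, 30, 29, 1, 28, 31, 29, 29, 5, 30, 30, 29, 29, 29] .fail)))), (2, .fail), (1, (.step [5, 5, 29, 30, 29, 5, 29, 29] .fail)), (4, .fail), (1, (.step [29, 5, 28, 1, 31, 1, 30, 29, 29] (.step [30, 5, 31, 5, 5, 28, 31, 5, 29, 29, 5, 29, 30, 28, 1,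 30] .fail))), (1, .fail), (1, (.step [28, 31, 1, 29, 5, 5, 5, 28] .fail)), (5, .fail), (1, (.step [1, 31, 28, 31, 28, 30, 5, 5, 5] .fail)), (5, .fail), (1, (.step [1, 1, 29, 29, 29, 30, 5, 29, 5] .fail)), (1, (.step [29, 31, 31, 5, 5, 31, 31, 28, 5] (.step [30, 1, 30, 5, 31, 28, 31, 29, 29, 29, 5, 31, 31, 31, 31] (.step [1, 29, 29, 1, 1, 28, 31, 31, 1, 1, 29, 1, 31, 31, 28, 1, 1, 1, 28, 1, 30, 5, 28, 5, 5, 5, 5] .fail)))), (1, (.step [29, 31, 28, 5, 28, 31, 28, 1, 29] (.step [28, 28, 5, 31, 5, 31, 5, 29, 29, 29, 30, 1, 28, 30] (.step [31, 1, 31, 5, 29, 29, 29, 1, 29, 28, 29, 30, 31, 31, 31, 31, 1, 28, 1, 1, 30, 5, 30] .fail)))), (1, (.step [28, 5, 30, 30, 5, 5, 31, 5, 29] .fail)), (1, (.step [1, 31, 28, 31, 28, 30, 5, 5, 5] (.step [30, 29, 31, 5, 31, 5, 31, 5, 5, 28, 5, 5, 31, 31] (.step [29, 30, 28, 1, 31, 5, 31, 1, 28, 30, 28,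 30, 5, 5, 29, 1, 1, 29, 1, 30, 29, 28, 29, 30, 1, 28, 28, 1] .fail)))), (1, .fail), (1, (.step [31, 1, 28, 28, 31, 1, 28, 28] (.step [1, 1, 1, 28, 30, 1, 30, 28, 5, 28, 5, 30, 28, 1, 1] (.step [1, 29, 31, 29, 5, 28, 5, 29, 5, 5, 5, 31, 28, 30, 29, 30, 28, 1, 30, 30, 30, 29, 1, 30, 5, 30, 30, 1] .fail)))), (1, (.step [5, 5, 31, 1, 30, 1, 28, 1] .fail)), (1, (.step [31, 1, 30, 29, 29, 31, 29, 29] (.step [29, 29, 1, 30, 28, 5, 28, 1, 29, 5, 28, 28, 29, 30] (.step [29, 29, 5, 5, 29, 30, 1, 1, 29, 1, 28, 28, 31, 1, 28, 28, 31, 31, 30, 30, 28, 30, 28, 30, 5, 5, 29, 30] .fail)))), (1, (.step [1, 1, 1, 30, 1, 29, 5, 5] .fail)), (1, .fail), (1, (.step [5, 28, 1, 30, 28, 30, 5, 5, 5] (.step [31, 28, 30, 28, 31, 31, 1, 29, 5, 29, 1, 28, 1, 1, 30, 5] (.step [28, 30, 30, 29, 5, 30, 5, 29, 28, 31, 29, 30, 30, 29, 30, 1, 31, 31, 5, 31, 5, 31,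 31, 28, 1, 1, 29] .fail)))), (4, .fail), (1, (.step [5, 29, 1, 28, 5, 31, 29, 31, 1] .fail)), (1, (.step [30, 29, 5, 31, 28, 28] .fail)), (5, .fail), (1, (.step [5, 29, 29, 30, 30, 5] (.step [29, 29, 1, 30, 30, 30, 29, 29, 31, 5, 28, 28, 28, 31, 29, 29, 5] (.step [29, 5, 5, 31, 5, 31, 1, 31, 1, 28, 31, 1, 29, 5, 5, 5, 28, 28, 5, 31, 28, 31, 1, 28, 28, 28, 28] .fail)))), (2, .fail), (1, (.step [29, 1, 1, 28, 28, 28, 5, 28] .fail)), (1, (.step [31, 29, 31, 28, 30, 30, 30, 28] (.step [28, 5, 28, 28, 1, 29, 29, 30, 5, 29, 31, 31, 31] .fail))), (3, .fail), (1, (.step [28, 1, 1, 28, 1, 31, 28] .fail)), (2, .fail), (1, (.step [28, 30, 5, 28, 5, 30, 5, 5, 28] .fail)), (1, .fail), (1, (.step [31, 30, 30] (.step [] (.step [1, 31, 1, 31, 28, 31, 5, 29, 30, 1, 29, 1, 31, 31, 31, 31, 31, 31, 1, 29, 31, 31, 31, 31, 5, 28, 30, 30] .fail)))),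 (2, .fail), (1, (.step [30, 5, 31, 31, 5, 29, 29, 5] .fail)), (1, (.step [29, 5, 30, 29, 1, 28, 30, 1] .fail)), (1, .fail), (1, (.step [30, 30, 30, 30] .fail)), (4, .fail), (1, (.step [31, 1, 1, 28, 5, 30, 29, 5] .fail)), (6, .fail), (1, (.step [5, 30, 29, 5, 28, 1, 1] .fail)), (5, .fail), (1, (.step [30, 5, 30, 1, 29, 5, 31, 1, 1] (.step [5, 28, 5, 31, 28, 30, 1, 29, 5, 29, 29, 29, 30, 1, 28] (.step [29, 29, 29, 5, 5, 30, 30, 5, 31, 1, 1, 28, 5, 29, 29, 1, 1, 29, 29, 29, 5, 30, 30, 29, 29, 29] .fail)))), (1, .fail), (1, (.step [29, 29, 29, 31, 29, 31, 1] (.step [31, 29, 5, 30, 1, 31, 28, 28, 30, 29, 1, 29, 5, 31, 28, 28] (.step [1, 31, 1, 31, 28, 31, 5, 29, 30, 1, 29, 1, 31, 31, 31, 31, 31, 31, 1, 29, 31, 31, 31, 31, 5, 28, 30, 30] .fail)))), (1, (.step [5, 5, 31, 29, 29, 1, 1, 30, 29] (.step [29, 30, 28, 30, 28, 5, 29, 29, 5,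 5] (.step [29, 5, 5, 29, 5, 31, 5, 28, 5, 28, 30, 29, 29, 29, 5, 28, 31, 28, 29, 5, 5, 29, 5, 30, 30, 30, 1] .fail)))), (1, (.step [30, 28, 30, 29, 29, 29, 5, 28] (.step [29, 1, 1, 31, 29, 5, 31, 28, 5, 5, 29, 5, 31, 28, 28] (.step [29, 29, 5, 31, 31, 1, 30, 29, 5, 1, 31, 31, 1, 30, 1, 29, 31, 31, 31, 31, 1, 28, 1, 1, 30, 5, 30] .fail)))), (1, .fail), (1, (.step [30, 1, 31, 5, 5, 29, 5] (.step [1, 28, 1, 28, 31, 31, 31, 5, 5, 31, 31] (.step [5, 28, 28, 30, 5, 31, 5, 5, 28, 5, 28, 1, 30, 1, 30, 1, 29, 29, 31] .fail)))), (4, .fail), (1, (.step [29, 31, 31, 5, 5, 31, 31, 28, 5] (.step [31, 29, 5, 30, 1, 31, 28, 28, 30, 29, 1, 29, 5, 31, 28, 28] (.step [31, 29, 1, 28, 30, 29, 31, 1, 1, 28, 5, 28, 28, 28, 5, 29, 1] .fail)))), (1, (.step [5, 29, 1, 30, 5, 29, 1, 1] .fail)), (1, (.step [31, 28, 29] .fail)), (1, (.step [30, 1, 30, 29,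 1, 1, 30, 1] .fail)), (5, .fail), (1, (.step [31, 5, 29, 31, 28, 1, 28, 28] .fail)), (1, (.step [28, 28, 28, 30, 30, 29, 30, 5] .fail)), (3, .fail), (1, (.step [28, 30, 29, 29, 29, 5, 28] .fail)), (2, .fail), (1, (.step [1, 31, 28, 30, 5, 5, 5, 30, 1] (.step [28, 5, 31, 29, 31, 5, 5, 29, 1, 5, 28, 1, 31, 29, 29, 5] .fail))), (1, (.step [5, 5, 29, 31, 1, 29, 1] (.step [30, 28, 5, 30, 29, 30, 28, 30, 28, 1, 29] (.step [1, 29, 1, 30, 5, 30, 1, 5, 28, 5, 29, 5, 5, 31, 1, 30, 1, 28, 1] .fail)))), (1, (.step [29, 31, 1, 30, 28, 5, 5, 31, 29] .fail)), (1, .fail), (1, (.step [29, 31, 31, 31, 29, 30, 28] .fail)), (1, (.step [5, 30, 29, 5, 31, 1, 29, 1] (.step [28, 30, 28, 5, 30, 1, 30, 5, 1, 31, 31, 28, 28, 1, 31] (.step [29, 29, 5, 5, 29, 30, 1, 1, 29, 1, 28, 28, 31, 1, 28, 28, 31, 31, 30, 30, 28, 30, 28, 30, 5, 5, 29, 30] (.step [] (.badAt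 0)))))), (3, .fail), (1, (.step [28, 30, 5, 5, 30, 5, 5, 29] .fail)), (2, .fail), (1, (.step [29, 5, 31, 1, 29, 5, 30, 30, 28] .fail)), (3, .fail), (1, (.step [31, 5, 29, 29, 30, 30, 5] (.step [30, 1, 29, 1, 29, 31, 5, 5, 31, 5, 29, 31, 31] (.step [5, 31, 29, 31, 1, 28, 30, 5, 30, 28, 5, 5, 28, 1, 29, 29, 29, 30, 1, 1, 29, 1, 29, 1, 31, 28, 30, 28, 1] .fail)))), (1, (.step [30, 5, 28, 5, 30, 28, 1, 1] .fail)), (1, (.step [1, 28, 31, 31, 5, 5, 5] .fail)), (1, (.step [31, 29, 31, 5, 30, 28, 28, 5, 29] .fail)), (2, .fail), (1, (.step [31, 31] (.step [29, 30, 5, 30, 28, 1, 28, 30, 29, 5, 5, 28, 31, 31, 30] .fail))), (6, .fail), (1, (.step [28, 28, 5, 31, 1, 31, 31, 1, 29] (.step [29, 29, 31, 1, 29, 1, 1, 29, 31, 5, 30, 30, 30] .fail))), (5, .fail), (1, (.step [28, 5, 31, 31, 28, 5, 28, 5] .fail)), (7, .fail), (1, (.step [29, 31, 1,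 28, 5, 30, 1] .fail)), (1, (.step [5, 31, 31, 31, 31, 29, 30, 1] .fail)), (1, (.step [5, 5, 31, 31, 28, 28, 30, 5, 28] (.step [5, 30, 28, 28, 28, 31, 1, 1, 1, 28, 5, 31, 31, 30] (.step [29, 5, 5, 28, 5, 5, 5, 28, 5, 5, 5, 28, 5, 31, 31, 31, 29, 31, 29, 30, 30, 1, 29, 31, 31, 28] .fail)))), (1, (.step [31, 28, 28, 28, 31, 29, 29, 5] .fail)), (3, .fail), (1, (.step [28, 30, 1, 31, 29, 29, 31, 1] (.step [30, 28, 30, 28, 30, 1, 5, 5, 5, 29, 28, 29, 30] (.step [1, 29, 1, 30, 5, 30, 1, 5, 28, 5, 29, 5, 5, 31, 1, 30, 1, 28, 1] .fail)))), (1, (.step [31, 29, 31, 29, 29, 1, 30, 28] (.step [28, 5, 5, 30, 30, 30, 28, 30, 5, 1, 28, 5, 31, 5, 5, 29] (.step [5, 28, 28, 30, 5, 31, 5, 5, 28, 5, 28, 1, 30, 1, 30, 1, 29, 29, 31] .fail)))), (6, .fail), (1, (.step [29, 1, 1, 28, 28, 28, 5, 28] .fail)), (1, .fail), (1, (.step [5, 28, 31, 5, 28, 1,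 28, 28, 5] .fail)), (1, (.step [5, 31, 1, 31, 29, 30, 28, 30, 1] .fail)), (1, (.step [28, 1, 1, 31, 29, 31, 29] .fail)), (4, .fail), (1, (.step [28, 1, 30, 30, 29, 31, 28, 30, 28] .fail)), (1, .fail), (1, (.step [29, 31, 28, 28, 5, 30, 28] .fail)), (2, .fail), (1, (.step [30, 29, 29, 29, 31, 29, 31, 1] (.step [28, 30, 29, 30, 5, 31, 28, 1, 31, 31, 5, 31, 31] .fail))), (4, .fail), (1, (.step [5, 30, 28, 30, 28, 28, 28] .fail)), (2, .fail), (1, (.step [28, 31, 31, 31, 1, 28, 5] (.step [31, 28, 1, 1, 31, 29, 31, 29, 31, 31, 30] .fail))), (1, (.step [5, 29, 5, 31, 5, 30, 1, 1] .fail)), (1, (.step [29, 31, 1, 29, 30, 30, 30, 28] .fail)), (3, .fail), (1, (.step [1, 29, 1, 28, 1, 28, 5, 5] .fail)), (1, .fail), (1, (.step [5, 31, 31, 5, 29, 1, 1, 30, 5] (.step [5, 29, 29, 5, 31, 28, 29, 28, 31, 5, 28, 5, 5] (.step [30, 30, 28, 28, 1,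 28, 31, 28, 1, 1, 1, 30, 28, 30, 29, 1, 28, 31, 29, 29, 5, 30, 30, 29, 29, 29] .fail)))), (2, .fail), (1, (.step [29, 1, 30, 30, 30, 30, 28, 5] .fail)), (1, .fail), (1, (.step [1, 31, 31, 28, 28, 1] .fail)), (2, .fail), (1, (.step [30, 1, 1, 29, 30, 28, 1, 28, 1] .fail)), (2, .fail), (1, (.step [29, 31, 31, 31, 28, 5, 30, 28] .fail)), (4, .fail), (1, (.step [30, 28, 1, 1, 28, 1, 31, 28] .fail)), (1, .fail), (1, (.step [31, 29, 29, 5, 30, 29, 29, 5] .fail)), (6, .fail), (1, (.step [30, 5, 28, 5, 30, 28, 1, 1] .fail)), (1, (.step [28, 30, 5, 28, 1, 31, 29, 1] .fail)), (1, .fail), (1, (.step [5, 5, 29, 1, 28, 31, 1] .fail)), (1, (.step [30, 29, 30, 1, 31, 1, 1, 29, 29] (.step [31, 29, 5, 5, 30, 30, 30, 30, 30, 29, 5, 5] .fail))), (1, (.step [5, 28, 1, 30, 28, 30, 5, 5, 5] (.step [5, 31, 28, 5, 31, 28, 31, 31, 29, 5, 30, 30] (.step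 [5, 31, 1, 31, 30, 30, 1, 31, 29, 5, 5, 30, 30, 31, 31, 31, 1, 30, 1, 31, 29, 5, 30, 1, 29, 30] .fail)))), (2, .fail), (1, (.step [28, 1, 31, 29, 30, 29, 29, 1] .fail)), (2, .fail), (1, (.step [1, 31, 5, 5, 29, 5] .fail)), (6, .fail), (1, (.step [29, 5, 28, 1, 31, 1, 30, 29, 29] .fail)), (2, .fail), (1, (.step [31, 31, 29, 29, 30, 1, 28] (.step [1, 1, 1, 28, 30, 1, 30, 28, 5, 28, 5, 30, 28, 1, 1] (.step [1, 29, 30, 5, 30, 28, 31, 29, 1, 1, 28, 28, 28, 30, 28, 28, 31, 5, 30, 1, 1, 28, 28, 1, 29, 31, 29, 31, 28] .fail)))), (5, .fail), (1, (.step [28, 1, 31, 28, 5, 28, 30, 1, 1] .fail)), (2, .fail), (1, (.step [5, 30, 1, 31, 29, 31, 28, 28, 5] (.step [29, 29, 1, 30, 28, 5, 28, 1, 29, 5, 28, 28, 29, 30] (.step [1, 1, 28, 30, 29, 29, 1, 31, 28, 1, 30, 28, 31, 31, 30, 28, 5, 31, 29, 31, 5, 31, 29, 29, 5] .fail)))), (1, (.step [1, 29,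 1, 1, 28, 30, 28, 1, 29] .fail)), (5, .fail), (1, (.step [30, 5, 31, 31, 5, 29, 29, 5] .fail)), (1, (.step [1, 1, 31, 31, 5, 30, 5] .fail)), (1, (.step [31, 1, 1, 31, 31, 5, 30, 5] .fail)), (1, (.step [29, 5, 28, 31, 29, 31, 5] (.step [28, 5, 5, 29, 30, 30, 1, 30, 1, 30, 30] (.step [31, 1, 1, 1, 1, 29, 1, 31, 5, 29, 29, 29, 5, 30, 29, 29, 5, 31] .fail)))), (3, .fail), (1, (.step [30, 1, 28, 1, 1, 30, 5] .fail)), (3, .fail), (1, (.step [29, 5, 31, 28, 28] .fail)), (3, .fail), (1, (.step [1, 29, 29, 29, 5, 31, 28] .fail)), (1, .fail), (1, (.step [1, 29, 30, 30, 28, 31, 28, 30, 28] .fail)), (1, .fail), (1, (.step [28, 30, 28, 31, 29, 5, 28, 28] (.step [1, 28, 1, 28, 31, 31, 31, 5, 5, 31, 31] (.step [29, 29, 29, 5, 5, 30, 30, 5, 31, 1, 1, 28, 5, 29, 29, 1, 1, 29, 29, 29, 5, 30, 30, 29, 29, 29] .fail)))), (1, (.step [5, 28, 5, 30,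 28, 1, 1] .fail)), (1, (.step [30, 30, 5, 29, 29, 30, 30, 5] .fail)), (2, .fail), (1, (.step [31, 31, 1, 31, 5, 5, 29, 5] .fail)), (1, .fail), (1, (.step [29, 29, 29, 31, 29, 31, 1] .fail)), (2, .fail), (1, (.step [30, 30, 30, 29, 5, 31, 28, 28] (.step [28, 28, 30, 30, 30, 30, 29, 29, 29, 1, 31, 31, 31] (.step [29, 29, 29, 30, 5, 31, 31, 29, 29, 29, 30, 1, 28, 30, 30, 1, 28, 30, 5, 31, 31, 1, 31, 5, 30, 29] .fail)))), (1, (.step [31, 1, 28, 28, 1, 30, 30, 1] .fail)), (1, (.step [29, 1, 1, 28, 28, 28, 5, 28] .fail)), (1, (.step [31, 30, 30] (.step [29, 30, 29, 1, 29, 29, 5, 29, 1, 31, 31, 30] (.step [1, 1, 28, 5, 1, 31, 29, 1, 1, 28, 5, 28, 1, 29, 30, 29, 30, 28, 28, 1, 1, 28, 28, 1, 29, 31, 29, 31, 28] (.step [28, 1, 29, 30, 29, 1, 5, 30, 28, 28, 1, 29, 5, 30, 30, 30, 29, 1, 30, 30, 5, 30, 28, 30, 29, 5, 1, 1, 29, 31, 30, 28,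 5, 5, 1, 28, 31, 29, 31, 1, 31, 31, 5, 30, 30, 5, 31, 1, 1, 28, 31, 5, 28, 1, 1, 1] (.badAt 0)))))), (1, (.step [1, 28, 31, 31, 5, 5, 5] (.step [28, 5, 30, 28, 30, 28, 30, 1, 29, 30, 1, 28, 28, 28, 5] (.step [5, 31, 28, 1, 1, 1, 28, 30, 30, 29, 29, 5, 31, 28, 28, 31, 1, 30, 30, 5, 30, 28, 30, 29, 5, 1, 1, 29, 31] .fail)))), (1, .fail), (1, (.step [30, 1, 30, 29, 29, 31, 29, 29] .fail)), (2, .fail), (1, (.step [5, 31, 29, 31, 29, 31, 1, 29] (.step [29, 30, 29, 31, 5, 31, 28, 5, 31, 31, 30] .fail))), (1, (.step [29, 29, 5, 30, 29, 29, 5] .fail)), (2, .fail), (1, (.step [5, 31, 31, 31, 31, 29, 30, 1] .fail)), (1, (.step [1, 30, 28, 30, 29, 1, 28] .fail)), (4, .fail), (1, (.step [29, 1, 1, 30, 5, 29, 31, 1] (.step [5, 29, 5, 5, 5, 5, 28, 30, 1, 31, 31, 31] .fail))), (1, .fail), (1, (.step [29, 30, 29, 30, 29, 1, 31, 29, 29] (.step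 [5, 30, 29, 31, 31, 1, 31, 31, 28, 1, 28, 29, 30] (.step [29, 1, 30, 30, 30, 5, 5, 31, 5, 5, 5, 29, 31, 31, 5, 31, 1, 28, 30] .fail)))), (1, (.step [28, 5, 29, 5, 30, 5, 30, 5] .fail)), (1, (.step [1, 29, 30, 28, 5, 31, 1, 29, 5] .fail)), (2, .fail), (1, (.step [29, 5, 31, 1, 30, 1, 29, 31, 1] .fail)), (2, .fail), (1, (.step [29, 29, 30, 28, 31, 29, 31, 5] (.step [5, 31, 28, 5, 31, 28, 31, 31, 29, 5, 30, 30] (.step [31, 1, 31, 5, 29, 29, 29, 1, 29, 28, 29, 30, 31, 31, 31, 31, 1, 28, 1, 1, 30, 5, 30] (.step [28, 1, 29, 30, 29, 1, 5, 30, 28, 28, 1, 29, 5, 30, 30, 30, 29, 1, 30, 30, 5, 30, 28, 30, 29, 5, 1, 1, 29, 31, 30, 28, 5, 5, 1, 28, 31, 29, 31, 1, 31, 31, 5, 30, 30, 5, 31, 1, 1, 28, 31, 5, 28, 1, 1, 1] (.badAt 0)))))), (1, .fail), (1, (.step [] .fail)), (2, .fail), (1, (.step [31, 29, 1, 28, 28, 28, 31, 29] (.step [28, 31,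 5, 30, 28, 1, 30, 31, 29, 31, 28, 1, 31, 31, 31, 31] (.step [1, 31, 1, 31, 28, 31, 5, 29, 30, 1, 29, 1, 31, 31, 31, 31, 31, 31, 1, 29, 31, 31, 31, 31, 5, 28, 30, 30] (.step [1, 5, 30, 28, 1, 1, 31, 29, 31, 29, 1, 31, 31, 28, 28, 1, 30, 31, 31, 5, 29, 1, 1, 1, 1, 31, 28] (.badAt 0)))))), (1, (.step [1, 31, 31, 1, 30, 1, 29] (.step [1, 1, 30, 1, 31, 1, 31, 31, 29, 1, 28, 31, 31] .fail))), (1, (.step [29, 1, 29, 30, 1, 29, 30, 28] (.step [1, 1, 28, 30, 30, 30, 30, 30, 1, 1, 28, 28, 29, 30] (.step [29, 31, 31, 28, 31, 31, 31, 28, 5, 29, 1, 28, 28, 28, 31, 29, 28, 5, 31, 28, 31, 1, 28, 28, 28, 28] (.step [28, 1, 29, 30, 29, 1, 5, 30, 28, 28, 1, 29, 5, 30, 30, 30, 29, 1, 30, 30, 5, 30, 28, 30, 29, 5, 1, 1, 29, 31, 30, 28, 5, 5, 1, 28, 31, 29, 31, 1, 31, 31, 5, 30, 30, 5, 31, 1, 1, 28, 31, 5, 28, 1, 1, 1] (.badAt 0)))))), (4, .fail),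 (1, (.step [30, 29, 30, 1, 31, 31, 1, 30, 1] .fail)), (6, .fail), (1, (.step [31, 28, 31, 31, 31, 1, 28, 5] (.step [1, 31, 1, 28, 28, 28, 1, 29, 30, 29, 29, 29, 30, 1, 28, 31] .fail))), (2, .fail), (1, (.step [29, 31, 1, 28, 5, 30, 1] .fail)), (4, .fail), (1, (.step [5, 29, 1, 28, 5, 28, 28, 28] .fail)), (8, .fail), (1, (.step [28, 1, 1, 30, 1, 29, 5] .fail)), (1, (.step [30, 30, 30, 30] .fail)), (2, .fail), (1, (.step [29, 30, 5, 5, 31, 28, 1, 31, 29] .fail)), (1, (.step [30, 5, 30, 1, 29, 5, 31, 1, 1] .fail)), (1, (.step [1, 1, 1, 30, 30, 29, 5] .fail)), (1, .fail), (1, (.step [5, 29, 30, 1, 30, 28, 31, 29] .fail)), (1, .fail), (1, (.step [5, 29, 5, 31, 5, 30, 1, 1] .fail)), (4, .fail), (1, (.step [1, 31, 5, 5, 29, 5, 31] .fail)), (1, .fail), (1, (.step [31, 31, 31, 31] .fail)), (4, .fail), (1, (.step [30, 29, 1, 28, 28, 28,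 31, 29] .fail)), (3, .fail), (1, (.step [28, 30, 28, 30, 5, 5, 29] .fail)), (1, .fail), (1, (.step [31, 28, 28, 28, 5, 29, 1] .fail)), (5, .fail), (1, (.step [29, 30, 5, 5, 31, 28, 1, 31, 29] .fail)), (2, .fail), (1, (.step [31, 31, 29, 5, 31, 28, 28] .fail)), (2, .fail), (1, (.step [29, 1, 29, 29, 29, 5, 5, 28] .fail)), (4, .fail), (1, (.step [5, 28, 1, 31, 29, 29, 5] (.step [5, 31, 1, 28, 5, 30, 5, 28, 5, 5, 30, 28, 31, 31] .fail))), (3, .fail), (1, (.step [28, 31, 31, 31, 1, 28, 5] .fail)), (1, (.step [28, 1, 28, 30, 5, 30, 1, 29] .fail)), (4, .fail), (1, (.step [29, 31, 1, 30, 28, 5, 5, 31, 29] .fail)), (1, (.step [5, 28, 1, 31, 29, 29, 5] (.step [5, 30, 28, 28, 28, 31, 1, 1, 1, 28, 5, 31, 31, 30] .fail))), (4, .fail), (1, (.step [5, 5, 31, 28, 30, 29, 30, 28] .fail)), (1, (.step [31, 31, 31, 31] (.step [1, 31, 1, 28, 31,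 31, 5, 5, 5, 5, 29, 31, 1, 29, 1] (.step [5, 5, 31, 31, 31, 31, 29, 5, 29, 5, 28, 31, 29, 31, 5, 1, 30, 30, 29, 30, 5, 28, 30, 1, 5, 29] .fail)))), (1, .fail), (1, (.step [28, 31, 1, 29, 5, 5, 5, 28] .fail)), (2, .fail), (1, (.step [1, 31, 28, 31, 28, 30, 5, 5, 5] (.step [31, 31, 31, 28, 30, 28, 5, 30, 5, 29, 5, 31, 31, 30] (.step [5, 5, 31, 31, 31, 31, 29, 5, 29, 5, 28, 31, 29, 31, 5, 1, 30, 30, 29, 30, 5, 28, 30, 1, 5, 29] .fail)))), (1, .fail), (1, (.step [28, 1, 29, 29, 5, 28, 30, 1] .fail)), (3, .fail), (1, (.step [30, 1, 1, 29, 30, 28, 1, 28, 1] .fail)), (6, .fail), (1, (.step [1, 28, 28, 30, 29, 29, 29] (.step [30, 28, 28, 1, 1, 31, 1, 1, 1, 29, 5, 31, 28, 28] .fail))), (2, .fail), (1, (.step [31, 30, 30] .fail)), (1, .fail), (1, (.step [31, 29, 29, 5, 30, 29, 29, 5] .fail)), (1, .fail), (1, (.step [1, 31, 5, 29, 30, 5,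 29, 30, 29] .fail)), (4, .fail), (1, (.step [30, 30] .fail)), (1, (.step [28, 31, 31, 31, 1, 28, 5] .fail)), (1, (.step [1, 31, 28, 31, 31, 5, 29, 1] .fail)), (1, .fail), (1, (.step [1, 31, 1, 30, 30, 5, 5] .fail)), (1, (.step [30, 29, 29, 30, 1, 28] .fail)), (1, .fail), (1, (.step [29, 1, 1, 1, 28, 5, 30, 29] .fail)), (2, .fail), (1, (.step [5, 31, 1, 31, 29, 30, 28, 30, 1] (.step [31, 28, 30, 5, 30, 1, 28, 1, 31, 5, 5] .fail))), (2, .fail), (1, (.step [31, 1, 1, 1, 30, 30, 29, 5] .fail)), (1, (.step [1, 31, 5, 5, 29, 5] (.step [5, 29, 29, 5, 31, 28, 29, 28, 31, 5, 28, 5, 5] (.step [1, 29, 30, 5, 30, 28, 31, 29, 1, 1, 28, 28, 28, 30, 28, 28, 31, 5, 30, 1, 1, 28, 28, 1, 29, 31, 29, 31, 28] .fail)))), (1, .fail), (1, (.step [29, 31, 29, 29, 1, 30, 28] (.step [5, 30, 28, 28, 28, 31, 1, 1, 1, 28, 5, 31, 31, 30] .fail))), (1, (.step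 [30, 30, 30] (.step [1, 29, 5, 31, 5, 31, 28, 1, 31, 1, 1] (.step [5, 30, 29, 1, 28, 30, 5, 30, 30, 29, 1, 29, 5, 31, 5, 30, 30, 5, 31, 28, 29, 29, 5, 30, 30, 29, 29, 29] .fail)))), (1, .fail), (1, (.step [29, 31, 1, 28, 5, 30, 1] (.step [29, 1, 31, 29, 30, 5, 29, 1, 29, 1, 31, 31, 31] (.step [28, 30, 30, 29, 5, 30, 5, 29, 28, 31, 29, 30, 30, 29, 30, 1, 31, 31, 5, 31, 5, 31, 31, 28, 1, 1, 29] .fail)))), (1, (.step [5, 29, 1, 28, 5, 28, 28, 28] .fail)), (1, (.step [28, 5, 5, 28, 28, 1, 29, 5] .fail)), (1, (.step [30, 1, 28, 1, 1, 30, 5] (.step [30, 1, 30, 30, 30, 30, 1, 31, 1, 29, 5, 31, 28, 28] (.step [29, 29, 5, 31, 31, 1, 30, 29, 5, 1, 31, 31, 1, 30, 1, 29, 31, 31, 31, 31, 1, 28, 1, 1, 30, 5, 30] .fail)))), (3, .fail), (1, (.step [1, 30, 1, 31, 28, 28, 30, 30, 1] .fail)), (1, (.step [31, 31] (.step [1, 1, 28, 30, 5, 31, 5, 30,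 1, 29, 5, 31, 28, 28] (.step [1, 30, 29, 30, 1, 31, 5, 1, 1, 31, 5, 28, 28, 31, 1, 30, 1, 30, 29] .fail)))), (1, (.step [28, 1, 1, 31, 29, 31, 29] .fail)), (6, .fail), (1, (.step [31, 29, 29, 31, 31, 28, 30, 29, 1] (.step [1, 31, 1, 28, 31, 31, 5, 5, 5, 5, 29, 31, 1, 29, 1] .fail))), (1, (.step [30, 5, 5, 31, 31, 31, 31, 29, 5] (.step [5, 29, 29, 5, 31, 28, 29, 28, 31, 5, 28, 5, 5] (.step [28, 5, 31, 5, 31, 1, 1, 30, 29, 29, 28, 30, 29, 29, 29, 5, 28] .fail)))), (5, .fail), (1, (.step [29, 5, 31, 29, 31, 29, 31, 1] .fail)), (1, .fail), (1, (.step [31, 29, 31, 28, 30, 30, 30, 28] .fail)), (2, .fail), (1, (.step [29, 31, 31, 31, 29, 30, 28] .fail)), (2, .fail), (1, (.step [30, 5, 30, 1, 29, 5, 31, 1, 1] (.step [31, 28, 1, 1, 31, 29, 31, 29, 31, 31, 30] (.step [1, 28, 31, 28, 31, 29, 5, 29, 1, 28, 1, 30, 28, 30, 30, 28, 1, 31, 31,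 28, 30, 30, 28, 28, 1, 1, 29, 5] .fail)))), (1, (.step [30, 28, 28, 28, 5, 29, 1] .fail)), (1, .fail), (1, (.step [30, 1, 28, 1, 1, 30, 5] .fail)), (2, .fail), (1, (.step [29, 30, 1, 31, 1, 1, 29, 29] (.step [30, 1, 29, 1, 29, 31, 5, 5, 31, 5, 29, 31, 31] (.step [5, 30, 30, 29, 30, 1, 30, 30, 5, 28, 5, 5, 5, 5, 31, 5, 5, 29, 31, 29, 29] .fail)))), (6, .fail), (1, (.step [31, 31, 1, 31, 5, 5, 29, 5] (.step [29, 29, 30, 28, 5, 29, 5, 30, 1, 28, 29, 30] (.step [29, 30, 28, 30, 29, 30, 1, 1, 28, 28, 28, 5, 29, 1, 30, 29, 29, 5, 30, 30, 29, 29, 29] .fail)))), (5, .fail), (1, (.step [28, 1, 28, 30, 5, 30, 1, 29] .fail)), (1, (.step [1, 28, 1, 31, 1, 29, 31, 29] .fail)), (1, .fail), (1, (.step [30, 5, 29, 31, 28, 1, 28, 28] (.step [1, 1, 1, 1, 29, 1, 31, 5, 29] .fail))), (1, (.step [31, 5, 28, 1, 29, 29, 29] .fail)), (2, .fail), (1,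 (.step [1, 30, 5, 28, 1, 29, 29, 30, 29] (.step [31, 29, 5, 30, 1, 31, 28, 28, 30, 29, 1, 29, 5, 31, 28, 28] (.step [31, 28, 30, 29, 29, 30, 1, 29, 1, 28, 5, 29, 5, 28, 30, 28, 30, 5, 5, 29] .fail)))), (1, .fail), (1, (.step [29, 30, 30, 29, 1, 29, 5, 28] .fail)), (1, (.step [31, 5, 30, 30, 28, 28, 5, 31, 5] .fail)), (1, (.step [5, 28, 1, 30, 30, 29, 30, 5] .fail)), (1, (.step [31, 1, 1, 31, 31, 5, 30, 5] .fail)), (1, (.step [29, 1, 30, 1, 29, 29, 31, 28, 1] .fail)), (1, .fail), (1, (.step [28, 31, 29, 29, 31, 29, 31, 31, 28] .fail)), (1, .fail), (1, (.step [29, 5, 31, 28, 28] (.step [29, 30, 29, 1, 29, 29, 5, 29, 1, 31, 31, 30] (.step [29, 31, 31, 28, 31, 31, 31, 28, 5, 29, 1, 28, 28, 28, 31, 29, 28, 5, 31, 28, 31, 1, 28, 28, 28, 28] (.step [28, 1, 29, 30, 29, 1, 5, 30, 28, 28, 1, 29, 5, 30, 30, 30, 29, 1, 30, 30, 5, 30, 28,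 30, 29, 5, 1, 1, 29, 31, 30, 28, 5, 5, 1, 28, 31, 29, 31, 1, 31, 31, 5, 30, 30, 5, 31, 1, 1, 28, 31, 5, 28, 1, 1, 1] (.badAt 0)))))), (1, .fail), (1, (.step [31, 28, 28, 31, 1, 30, 1, 30, 29] .fail)), (1, (.step [30, 1, 28, 28, 30, 5, 29, 1] .fail)), (1, .fail), (1, (.step [30, 1, 30, 5, 5, 5, 31, 1] .fail)), (4, .fail), (1, (.step [30, 1, 29, 5, 30, 30, 30, 29] (.step [5, 30, 30, 5, 30, 30, 29, 1, 28, 30, 28, 30, 5, 5, 29] .fail))), (1, (.step [31, 1, 1, 28, 5, 30, 29, 5] (.step [1, 28, 30, 30, 28, 28, 30, 5, 28, 1, 28, 28, 31, 1, 28, 28] (.step [5, 31, 29, 31, 1, 28, 30, 5, 30, 28, 5, 5, 28, 1, 29, 29, 29, 30, 1, 1, 29, 1, 29, 1, 31, 28, 30, 28, 1] (.step [28, 1, 29, 30, 29, 1, 5, 30, 28, 28, 1, 29, 5, 30, 30, 30, 29, 1, 30, 30, 5, 30, 28, 30, 29, 5, 1, 1, 29, 31, 30, 28, 5, 5, 1, 28, 31, 29, 31, 1, 31, 31, 5, 30, 30, 5, 31,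 1, 1, 28, 31, 5, 28, 1, 1, 1] (.badAt 0)))))), (1, .fail), (1, (.step [5, 31, 31, 1, 1, 28, 5, 31, 5] (.step [30, 30, 29, 29, 5, 29, 30, 28, 1, 29, 29, 30, 1, 28] (.step [31, 28, 30, 29, 29, 30, 1, 29, 1, 28, 5, 29, 5, 28, 30, 28, 30, 5, 5, 29] (.step [] (.badAt 0)))))), (2, .fail), (1, (.step [30, 1, 28, 28, 31, 1, 28, 28] .fail)), (6, .fail), (1, (.step [30, 1, 28, 31, 1, 29, 5, 5] .fail)), (1, (.step [5, 5, 31, 29, 29, 1, 1, 30, 29] (.step [1, 28, 5, 5, 29, 29, 31, 31, 29, 30, 30] (.step [1, 30, 30, 1, 28, 1, 28, 5, 29, 5, 5, 5, 28, 5, 28, 28, 5, 28, 29, 31, 29, 30, 30, 1, 29, 31, 31, 28] .fail)))), (1, .fail), (1, (.step [5, 29, 30, 1, 30, 28, 31, 29] (.step [29, 5, 29, 31, 1, 30, 1, 31, 1, 28, 31, 29, 29, 30, 1, 28] (.step [1, 1, 28, 30, 29, 29, 1, 31, 28, 1, 30, 28, 31, 31, 30, 28, 5, 31, 29, 31, 5, 31, 29, 29, 5] .fail)))),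 (3, .fail), (1, (.step [29, 5, 30, 1, 29, 31, 5, 29] .fail)), (4, .fail), (1, (.step [30, 28, 1, 1, 28, 1, 31, 28] .fail)), (1, (.step [30, 1, 28, 28, 31, 1, 28, 28] (.step [31, 5, 5, 30, 30, 29, 5, 5, 28, 28, 5, 31, 31, 31] (.step [30, 30, 28, 28, 1, 28, 31, 28, 1, 1, 1, 30, 28, 30, 29, 1, 28, 31, 29, 29, 5, 30, 30, 29, 29, 29] .fail)))), (2, .fail), (1, (.step [5, 5, 31, 31, 28, 28, 30, 5, 28] (.step [1, 29, 31, 5, 5, 31, 5, 5, 5, 5, 5, 30, 5, 5, 29, 29] (.step [29, 29, 1, 5, 1, 29, 31, 5, 29, 30, 29, 30, 30, 30, 30, 30, 30, 29, 31, 31, 31, 29, 30, 28, 31] .fail)))), (1, (.step [30, 29, 1, 28, 28, 28, 31, 29] (.step [31, 31, 5, 31, 5, 31, 31, 28, 1, 1, 29] (.step [1, 29, 29, 1, 1, 28, 31, 31, 1, 1, 29, 1, 31, 31, 28, 1, 1, 1, 28, 1, 30, 5, 28, 5, 5, 5, 5] .fail)))), (2, .fail), (1, (.step [30, 1, 28, 1, 1, 30, 5] (.step [1,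 1, 30, 1, 31, 1, 31, 31, 29, 1, 28, 31, 31] (.step [5, 5, 31, 31, 31, 31, 29, 5, 29, 5, 28, 31, 29, 31, 5, 1, 30, 30, 29, 30, 5, 28, 30, 1, 5, 29] .fail)))), (8, .fail), (1, (.step [5, 5, 5, 5, 30, 28, 1, 1, 29] .fail)), (1, (.step [1, 31, 5, 29, 29, 29, 1, 29] .fail)), (1, (.step [5, 5, 29, 31, 1, 29, 1] .fail)), (2, .fail), (1, (.step [29, 30, 5, 31, 1, 28, 5, 31, 28] .fail)), (3, .fail), (1, (.step [31, 1, 31, 31, 28, 28, 1] .fail)), (1, (.step [30, 5, 5, 31, 31, 31, 31, 29, 5] (.step [29, 5, 29, 1, 1, 29, 31, 29, 29] .fail))), (1, (.step [1, 31, 5, 5, 29, 5, 31] .fail)), (1, (.step [5, 28, 5, 30, 1, 28, 31, 1] (.step [5, 28, 1, 30, 28, 28, 5, 30, 29, 1, 28, 28, 28, 5, 29, 1] .fail))), (1, .fail), (1, (.step [1, 28, 28, 30, 29, 29, 29] .fail)), (2, .fail), (1, (.step [30, 5, 31, 31, 5, 29, 29, 5] .fail)), (1, (.step [5, 5,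 29, 1, 28, 31, 1] (.step [29, 29, 29, 29, 5, 31, 29, 30, 1, 29, 29, 5, 31, 28, 28, 30] (.step [5, 5, 28, 31, 31, 29, 30, 29, 1, 29, 31, 29, 29, 1, 30, 28] .fail)))), (1, (.step [5, 31, 28, 31, 31, 28, 30, 29] (.step [1, 30, 29, 1, 30, 1, 1, 29, 29, 31, 31, 31] .fail))), (1, .fail), (1, (.step [29, 31, 31, 5, 5, 31, 31, 28, 5] .fail)), (1, (.step [1, 31, 28, 28, 28, 5, 31, 29, 29] (.step [30, 28, 30, 28, 30, 1, 5, 5, 5, 29, 28, 29, 30] (.step [31, 29, 1, 29, 31, 28, 5, 31, 28, 28, 5, 1, 31, 31, 28, 28, 1, 5, 29, 30, 1, 30, 28, 31, 29] .fail)))), (2, .fail), (1, (.step [5, 29, 5, 31, 5, 30, 1, 1] .fail)), (2, .fail), (1, (.step [30, 5, 29, 31, 28, 1, 28, 28] .fail)), (1, .fail), (1, (.step [1, 28, 1, 31, 1, 29, 31, 29] (.step [28, 5, 5, 30, 30, 30, 28, 30, 5, 1, 28, 5, 31, 5, 5, 29] (.step [29, 29, 29, 30, 5, 31, 31, 29, 29, 29,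 30, 1, 28, 30, 30, 1, 28, 30, 5, 31, 31, 1, 31, 5, 30, 29] .fail)))), (2, .fail), (1, (.step [31, 28, 29] (.step [28, 5, 30, 30, 28, 5, 29, 5, 29, 5, 29, 1, 28, 28, 28, 31, 29] (.step [29, 29, 5, 5, 29, 30, 1, 1, 29, 1, 28, 28, 31, 1, 28, 28, 31, 31, 30, 30, 28, 30, 28, 30, 5, 5, 29, 30] .fail)))), (1, (.step [30, 1, 28, 1, 1, 30, 5] .fail)), (1, (.step [31, 28, 29] .fail)), (1, (.step [1, 30, 5, 28, 1, 29, 29, 30, 29] (.step [1, 30, 30, 29, 30, 5, 28, 30, 29] (.step [29, 29, 5, 31, 31, 1, 30, 29, 5, 1, 31, 31, 1, 30, 1, 29, 31, 31, 31, 31, 1, 28, 1, 1, 30, 5, 30] (.step [1, 5, 30, 28, 1, 1, 31, 29, 31, 29, 1, 31, 31, 28, 28, 1, 30, 31, 31, 5, 29, 1, 1, 1, 1, 31, 28] (.badAt 0)))))), (1, .fail), (1, (.step [5, 31, 29, 30, 5, 28, 28, 5, 28] .fail)), (1, .fail), (1, (.step [29, 31, 1, 29, 30, 30, 30, 28] .fail)), (3, .fail), (1,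 (.step [1, 31, 5, 29, 29, 29, 1, 29] .fail)), (4, .fail), (1, (.step [29, 1, 30, 30, 29, 31, 5, 30, 29] (.step [28, 1, 1, 29, 30, 5, 5, 5, 29, 28, 29, 30] (.step [29, 30, 28, 30, 29, 30, 1, 1, 28, 28, 28, 5, 29, 1, 30, 29, 29, 5, 30, 30, 29, 29, 29] .fail)))), (1, .fail), (1, (.step [29, 5, 30, 1, 29, 31, 5, 29] (.step [28, 1, 5, 31, 29, 1, 31, 28, 31, 31, 5] .fail))), (1, (.step [1, 31, 31, 31, 1, 1, 30, 29, 29] .fail)), (1, (.step [29, 5, 30, 1, 29, 31, 5, 29] (.step [28, 1, 30, 5, 28, 5, 5, 5, 5] (.step [1, 29, 30, 5, 30, 28, 31, 29, 1, 1, 28, 28, 28, 30, 28, 28, 31, 5, 30, 1, 1, 28, 28, 1, 29, 31, 29, 31, 28] .fail)))), (2, .fail), (1, (.step [5, 31, 31, 5, 29, 1, 1, 30, 5] .fail)), (2, .fail), (1, (.step [28, 28, 30, 28, 1, 1, 30, 1] (.step [28, 28, 1, 28, 31, 28, 1, 1, 28, 1, 1, 28, 1, 31, 28] .fail))), (5, .fail), (1, (.step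 [28, 5, 31, 5, 28, 28, 1] .fail)), (1, (.step [1, 31, 28, 28, 28, 5, 31, 29, 29] (.step [5, 28, 28, 28, 5, 28, 31, 28, 31, 1, 30, 30] (.step [1, 29, 31, 29, 5, 28, 5, 29, 5, 5, 5, 31, 28, 30, 29, 30, 28, 1, 30, 30, 30, 29, 1, 30, 5, 30, 30, 1] .fail)))), (2, .fail), (1, (.step [31, 29, 31, 5, 30, 28, 28, 5, 29] .fail)), (7, .fail), (1, (.step [29, 5, 28, 31, 29, 31, 5] .fail)), (1, (.step [28, 28, 1, 1, 31, 1, 1, 1] (.step [29, 1, 31, 31, 1, 28, 30, 28, 1, 5, 31, 1, 29, 5, 30, 28] (.step [5, 5, 5, 29, 1, 30, 29, 5, 5, 30, 1, 31, 31, 1, 30, 30, 5, 30, 28, 30, 29, 5, 1, 1, 29, 31] .fail)))), (1, (.step [1, 28, 5, 31, 28, 1, 31, 28] (.step [30, 28, 5, 5, 1, 28, 31, 29, 31, 1, 31, 31, 5] .fail))), (1, (.step [1, 28, 28, 30, 29, 29, 29] .fail)), (2, .fail), (1, (.step [30, 28, 30, 29, 29, 29, 5, 28] .fail)), (3, .fail), (1, (.step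 [28, 5, 31, 1, 31, 29, 5, 29] (.step [30, 29, 31, 5, 31, 5, 31, 5, 5, 28, 5, 5, 31, 31] (.step [28, 30, 29, 29, 28, 5, 29, 5, 31, 5, 5, 5, 5, 28, 31, 28, 30, 1, 1, 1, 29, 1, 29, 1, 31, 28, 30, 28, 1] .fail)))), (1, (.step [29, 31, 5, 31, 29, 5, 5, 5] (.step [28, 28, 5, 31, 5, 31, 5, 29, 29, 29, 30, 1, 28, 30] (.step [30, 30, 28, 28, 1, 28, 31, 28, 1, 1, 1, 30, 28, 30, 29, 1, 28, 31, 29, 29, 5, 30, 30, 29, 29, 29] .fail)))), (1, (.step [29, 29, 30, 28, 31, 29, 31, 5] (.step [29, 29, 29, 1, 30, 1, 1, 31, 1, 28, 30, 29, 29, 29, 5, 28] (.step [29, 29, 5, 5, 29, 30, 1, 1, 29, 1, 28, 28, 31, 1, 28, 28, 31, 31, 30, 30, 28, 30, 28, 30, 5, 5, 29, 30] .fail)))), (1, .fail), (1, (.step [29, 5, 30, 28, 1, 31, 31, 29] (.step [30, 5, 29, 31, 28, 30, 29, 29, 5, 29, 29, 30, 1, 28] (.step [31, 1, 1, 1, 1, 29, 1, 31, 5, 29, 29, 29, 5, 30, 29, 29,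 5, 31] .fail)))), (2, .fail), (1, (.step [30, 28, 30, 29, 29, 29, 5, 28] .fail)), (1, .fail), (1, (.step [29, 5, 28, 1, 31, 1, 30, 29, 29] .fail)), (3, .fail), (1, (.step [30, 29, 1, 28, 28, 28, 31, 29] (.step [28, 30, 30, 29, 29, 29, 5, 5, 1, 30, 28, 30, 29, 1, 28] (.step [1, 29, 31, 29, 5, 28, 5, 29, 5, 5, 5, 31, 28, 30, 29, 30, 28, 1, 30, 30, 30, 29, 1, 30, 5, 30, 30, 1] .fail)))), (1, .fail), (1, (.step [31, 29, 31, 5, 30, 5, 28, 30, 1] (.step [31, 28, 30, 5, 30, 1, 28, 1, 31, 5, 5] (.step [1, 30, 29, 30, 1, 31, 5, 1, 1, 31, 5, 28, 28, 31, 1, 30, 1, 30, 29] .fail)))), (1, (.step [1, 31, 29, 31, 31, 31, 1, 1, 29] (.step [29, 29, 29, 1, 30, 1, 1, 31, 1, 28, 30, 29, 29, 29, 5, 28] (.step [28, 31, 5, 5, 29, 5, 30, 1, 30, 5, 29, 5, 1, 1, 28, 28, 1, 29, 31, 29, 31, 28] (.step [] (.badAt 0)))))), (1, .fail), (1, (.step [31, 5, 28,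 1, 29, 29, 29] (.step [1, 29, 31, 5, 5, 31, 5, 5, 5, 5, 5, 30, 5, 5, 29, 29] (.step [1, 1, 28, 30, 29, 29, 1, 31, 28, 1, 30, 28, 31, 31, 30, 28, 5, 31, 29, 31, 5, 31, 29, 29, 5] .fail)))), (1, (.step [28, 1, 29, 5, 28, 5, 28, 30, 5] .fail)), (10, .fail), (1, (.step [1, 31, 29, 31, 29, 30, 30, 1] .fail)), (2, .fail), (1, (.step [31, 29, 31, 5, 30, 5, 28, 30, 1] .fail)), (2, .fail), (1, (.step [29, 1, 31, 31, 5, 30, 5, 5] .fail)), (2, .fail), (1, (.step [29, 30, 5, 31, 1, 28, 5, 31, 28] .fail)), (1, .fail), (1, (.step [1, 29, 5, 30, 30, 30, 29] (.step [1, 31, 31, 29, 5, 28, 5, 5, 29, 1, 31, 28, 30, 30] (.step [30, 30, 1, 1, 29, 5, 30, 29, 1, 31, 1, 5, 5, 31, 1, 31, 5, 28, 5, 29] .fail)))), (5, .fail), (1, (.step [29, 1, 30, 1, 29, 29, 31, 28, 1] (.step [28, 30, 29, 31, 5, 31, 28, 1, 5, 29, 29, 30, 30, 5] .fail))), (1, .fail), (1,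 (.step [31, 1, 31, 31, 1, 30, 1, 29] .fail)), (1, (.step [1, 31, 31, 1, 30, 1, 29] (.step [1, 31, 31, 29, 5, 28, 5, 5, 29, 1, 31, 28, 30, 30] .fail))), (6, .fail), (1, (.step [30, 29, 1, 28, 28, 28, 31, 29] .fail)), (1, (.step [31, 28, 28, 28, 31, 29, 29, 5] .fail)), (1, (.step [30, 5, 28, 5, 30, 28, 1, 1] .fail)), (1, .fail), (1, (.step [28, 30, 28, 31, 29, 5, 28, 28] .fail)), (2, .fail), (1, (.step [30, 1, 30, 29, 1, 1, 30, 1] (.step [1, 28, 5, 28, 5, 28, 28, 30, 5, 29, 29, 31, 1] (.step [29, 5, 5, 31, 5, 31, 1, 31, 1, 28, 31, 1, 29, 5, 5, 5, 28, 28, 5, 31, 28, 31, 1, 28, 28, 28, 28] .fail)))), (1, .fail), (1, (.step [30, 30, 30, 30] (.step [29, 29, 31, 1, 29, 1, 1, 29, 31, 5, 30, 30, 30] (.step [28, 31, 28, 30, 30, 28, 31, 5, 29, 1, 31, 5, 5, 28, 30, 5, 29, 1, 31, 29] .fail)))), (1, .fail), (1, (.step [5, 5, 28, 5, 30, 29,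 5, 29, 1] (.step [30, 29, 30, 29, 1, 28, 5, 31, 5, 28, 30, 5, 31, 31, 31, 31] (.step [1, 29, 29, 1, 1, 28, 31, 31, 1, 1, 29, 1, 31, 31, 28, 1, 1, 1, 28, 1, 30, 5, 28, 5, 5, 5, 5] .fail)))), (4, .fail), (1, (.step [28, 5, 28, 5, 31, 29, 29, 29, 1] (.step [28, 1, 30, 5, 28, 5, 5, 5, 5] (.step [29, 31, 31, 28, 31, 31, 31, 28, 5, 29, 1, 28, 28, 28, 31, 29, 28, 5, 31, 28, 31, 1, 28, 28, 28, 28] .fail)))), (1, .fail), (1, (.step [1, 1, 30, 1, 30, 30, 28, 28, 5] (.step [29, 30, 5, 5, 5, 5, 28, 1, 30, 30] .fail))), (1, (.step [1, 31, 31, 1, 30, 1, 29] .fail)), (1, (.step [1, 1, 28, 5, 30, 29, 5] .fail)), (1, (.step [28, 31, 29, 29, 31, 29, 31, 31, 28] (.step [1, 30, 29, 1, 30, 1, 1, 29, 29, 31, 31, 31] (.step [1, 1, 28, 30, 29, 29, 1, 31, 28, 1, 30, 28, 31, 31, 30, 28, 5, 31, 29, 31, 5, 31, 29, 29, 5] (.step [] (.badAt 0)))))), (6, .fail),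 (1, (.step [5, 31, 5, 5, 28, 31, 5] .fail)), (1, (.step [30, 1, 30, 29, 29, 31, 29, 29] (.step [28, 1, 1, 29, 30, 5, 5, 5, 29, 28, 29, 30] (.step [29, 29, 31, 30, 29, 30, 29, 30, 5, 29, 31, 5, 31, 31, 5, 29, 1, 1, 1, 1, 31, 28] .fail)))), (1, .fail), (1, (.step [5, 5, 31, 31, 1, 30, 5, 29] .fail)), (5, .fail), (1, (.step [28, 1, 29, 5, 29, 5, 31, 31, 5] (.step [5, 30, 30, 5, 30, 30, 29, 1, 28, 30, 28, 30, 5, 5, 29] (.step [28, 31, 5, 5, 29, 5, 30, 1, 30, 5, 29, 5, 1, 1, 28, 28, 1, 29, 31, 29, 31, 28] .fail)))), (1, (.step [31, 29, 29, 5, 30, 29, 29, 5] (.step [28, 1, 30, 5, 28, 5, 5, 5, 5] (.step [1, 28, 5, 30, 5, 5, 30, 28, 1, 1, 1, 1, 30, 30, 29, 5, 1, 28, 30, 5, 31, 31, 1, 31, 5, 30, 29] .fail)))), (6, .fail), (1, (.step [31, 29, 5, 31, 28, 28] .fail)), (2, .fail), (1, (.step [1, 1, 1, 30, 30, 29, 5] .fail)), (6, .fail), (1,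 (.step [31, 29, 29, 31, 31, 28, 30, 29, 1] (.step [28, 28, 5, 31, 5, 31, 5, 29, 29, 29, 30, 1, 28, 30] (.step [5, 30, 29, 30, 30, 1, 1, 28, 28, 28, 29, 29, 30, 1, 28, 31, 31, 31, 31, 31, 1, 28, 1, 1, 30, 5, 30] .fail))))])), (525, (.badPow 23 1))]))]

/-- the centralizer of the element of order 11, piece 8 -/
def cCh_8 : Cert := Cert.rl [(1452, (.badPow 2093 1))]

/-- the centralizer of the element of order 11, piece 9 -/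
def cCh_9 : Cert := Cert.rl [(1, (Cert.rl [(773, (.badPow 23 1)), (1, (Cert.rl [(4, .fail), (1, (.step [30, 1, 1, 29, 30, 28, 1, 28, 1] (.step [29, 29, 30, 28, 5, 29, 5, 30, 1, 28, 29, 30] (.step [29, 29, 29, 5, 5, 30, 30, 5, 31, 1, 1, 28, 5, 29, 29, 1, 1, 29, 29, 29, 5, 30, 30, 29, 29, 29] .fail)))), (1, (.step [5, 28, 1, 31, 29, 29, 5] (.step [30, 29, 30, 30, 28, 1, 30, 29, 5, 5, 28, 31, 31] (.step [29, 5, 5, 31, 5, 31, 1, 31, 1, 28, 31, 1, 29, 5, 5, 5, 28, 28, 5, 31, 28, 31, 1, 28, 28, 28, 28] .fail)))), (3, .fail), (1, (.step [28, 5, 31, 5, 28, 28, 1] .fail)), (1, (.step [29, 5, 30, 29, 1, 28, 30, 1] .fail)), (1, (.step [5, 29, 1, 28, 5, 31, 29, 31, 1] (.step [28, 30, 28, 5, 30, 1, 30, 5, 1, 31, 31, 28, 28, 1, 31] .fail))), (1, .fail), (1, (.step [1, 31, 31, 28, 28, 1] .fail)), (1, (.step [28, 30, 1, 31, 29, 29, 31, 1] .fail)),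 (1, (.step [30, 29, 29, 5, 30, 29, 29, 5] .fail)), (1, (.step [31, 29, 29, 31, 31, 28, 30, 29, 1] (.step [5, 29, 29, 5, 31, 1, 28, 31, 1, 31, 29] (.step [29, 29, 29, 30, 5, 31, 31, 29, 29, 29, 30, 1, 28, 30, 30, 1, 28, 30, 5, 31, 31, 1, 31, 5, 30, 29] .fail)))), (1, .fail), (1, (.step [5, 28, 5, 30, 28, 1, 1] .fail)), (2, .fail), (1, (.step [1, 31, 28, 5, 30, 5, 29, 30, 28] .fail)), (2, .fail), (1, (.step [5, 30, 30, 30, 30, 28, 30, 29] .fail)), (1, .fail), (1, (.step [29, 29, 5, 28, 31, 1, 28, 1, 28] .fail)), (1, (.step [29, 5, 5, 29, 31, 28, 31, 1] .fail)), (1, (.step [5, 31, 29, 30, 29, 1, 1, 1] .fail)), (3, .fail), (1, (.step [29, 29, 30, 1, 29, 30, 1, 28] .fail)), (2, .fail), (1, (.step [1, 1, 29, 29, 29, 30, 5, 29, 5] .fail)), (3, .fail), (1, (.step [28, 5, 28, 28, 28, 5, 29, 5] .fail)), (1, (.step [1, 30, 1, 31, 28, 28,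 30, 30, 1] (.step [28, 30, 29, 30, 5, 31, 28, 1, 31, 31, 5, 31, 31] (.step [1, 1, 28, 30, 29, 29, 1, 31, 28, 1, 30, 28, 31, 31, 30, 28, 5, 31, 29, 31, 5, 31, 29, 29, 5] .fail)))), (5, .fail), (1, (.step [30, 28, 30, 29, 29, 29, 5, 28] .fail)), (1, (.step [28, 1, 31, 5, 30, 30, 1, 1] (.step [29, 29, 5, 5, 5, 28, 31, 29, 5, 5, 5, 29, 29, 30, 30, 5] (.step [5, 5, 28, 31, 31, 29, 30, 29, 1, 29, 31, 29, 29, 1, 30, 28] .fail)))), (1, (.step [5, 30, 29, 1, 29, 1, 28, 28, 28] (.step [5, 29, 5, 5, 5, 5, 28, 30, 1, 31, 31, 31] (.step [28, 31, 31, 29, 31, 29, 5, 29, 5, 30, 30, 30, 30, 31, 31, 1, 30, 28, 1, 1, 28, 1, 30, 28, 28] .fail)))), (1, .fail), (1, (.step [29, 29, 5, 28, 31, 1, 28, 1, 28] .fail)), (11, .fail), (1, (.step [31, 1, 1, 1, 30, 30, 29, 5] (.step [28, 5, 31, 31, 31, 31, 31, 1, 29, 31, 31, 31, 31, 31] .fail))), (1, (.step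 [1, 1, 28, 5, 30, 29, 5] (.step [1, 31, 1, 28, 28, 28, 1, 29, 30, 29, 29, 29, 30, 1, 28, 31] (.step [30, 1, 28, 5, 30, 1, 29, 31, 28, 5, 29, 5, 28, 5, 29, 5, 30, 1, 1, 1, 1, 1, 29, 1, 31, 5, 29] .fail)))), (1, .fail), (1, (.step [29, 5, 29, 30, 30, 29, 5, 28] .fail)), (1, (.step [29, 1, 1, 1, 28, 5, 30, 29] .fail)), (1, (.step [1, 31, 28, 30, 5, 5, 5, 30, 1] .fail)), (4, .fail), (1, (.step [31, 1, 28, 31, 29, 1, 30, 5, 5] (.step [5, 29, 29, 5, 31, 1, 28, 31, 1, 31, 29] (.step [31, 29, 5, 30, 5, 5, 31, 29, 30, 29, 5, 5, 5, 5, 30, 28, 1, 1, 29] .fail)))), (2, .fail), (1, (.step [31, 31, 5, 29, 29, 30, 30, 5] .fail)), (1, (.step [30, 1, 28, 31, 1, 29, 5, 5] (.step [28, 1, 1, 29, 30, 5, 5, 5, 29, 28, 29, 30] .fail))), (1, .fail), (1, (.step [31, 1, 31, 31, 1, 30, 1, 29] (.step [30, 5, 29, 31, 28, 30, 29, 29, 5, 29, 29, 30, 1, 28]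 (.step [5, 30, 1, 1, 1, 31, 5, 5, 28, 5, 30, 28, 1, 1, 29, 30, 30, 28, 28, 5, 28, 5, 28, 30, 29, 29] .fail)))), (2, .fail), (1, (.step [28, 30, 28, 5, 30, 5, 29, 5] .fail)), (8, .fail), (1, (.step [5, 31, 28, 28, 1, 28, 31, 28] (.step [28, 5, 31, 31, 31, 31, 31, 1, 29, 31, 31, 31, 31, 31] (.step [5, 30, 29, 1, 28, 30, 5, 30, 30, 29, 1, 29, 5, 31, 5, 30, 30, 5, 31, 28, 29, 29, 5, 30, 30, 29, 29, 29] .fail)))), (2, .fail), (1, (.step [31, 29, 31, 29, 29, 1, 30, 28] (.step [31, 5, 5, 30, 30, 29, 5, 5, 28, 28, 5, 31, 31, 31] (.step [5, 5, 29, 5, 29, 30, 28, 5, 29, 1, 31, 31, 28, 28, 1, 30, 28, 1, 30, 5, 28, 5, 5, 5, 5] .fail)))), (1, .fail), (1, (.step [1, 30, 30, 28, 5, 30, 30, 28, 5] (.step [31, 5, 30, 5, 29, 31, 29, 31, 28, 31, 5, 30, 30, 30] .fail))), (2, .fail), (1, (.step [5, 31, 29, 30, 5, 28, 28, 5, 28] .fail)), (1, .fail),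 (1, (.step [5, 28, 30, 30, 29, 1, 28, 5] (.step [5, 30, 28, 28, 28, 31, 1, 1, 1, 28, 5, 31, 31, 30] (.step [5, 30, 1, 1, 1, 31, 5, 5, 28, 5, 30, 28, 1, 1, 29, 30, 30, 28, 28, 5, 28, 5, 28, 30, 29, 29] .fail)))), (3, .fail), (1, (.step [1, 29, 29, 31, 31, 5, 31, 5, 5] (.step [5, 30, 29, 30, 30, 28, 5, 30, 1, 30, 28, 1, 31, 31, 31, 31] .fail))), (4, .fail), (1, (.step [28, 31, 1, 29, 5, 5, 5, 28] .fail)), (1, (.step [5, 31, 29, 30, 29, 1, 1, 1] .fail)), (5, .fail), (1, (.step [31, 5, 30, 29, 5, 28, 1, 1] .fail)), (5, .fail), (1, (.step [1, 1, 30, 1, 30, 30, 28, 28, 5] .fail)), (3, .fail), (1, (.step [30, 1, 28, 31, 1, 29, 5, 5] .fail)), (11, .fail), (1, (.step [31, 1, 28, 31, 29, 1, 30, 5, 5] (.step [28, 5, 29, 31, 29, 5, 28, 1, 28, 5, 5, 28, 29, 30] (.step [31, 1, 31, 5, 29, 29, 29, 1, 29, 28, 29, 30, 31, 31, 31, 31, 1, 28, 1,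 1, 30, 5, 30] .fail)))), (5, .fail), (1, (.step [28, 1, 30, 28, 31, 5, 28, 31, 29] (.step [29, 31, 31, 28, 28, 30, 1, 1, 30, 28, 30, 5, 30, 30] .fail))), (3, .fail), (1, (.step [1, 29, 1, 28, 1, 28, 5, 5] .fail)), (2, .fail), (1, (.step [5, 30, 30, 30, 30, 28, 30, 29] .fail)), (1, .fail), (1, (.step [5, 30, 29, 5, 31, 1, 29, 1] .fail)), (2, .fail), (1, (.step [30, 29, 30, 1, 31, 1, 1, 29, 29] (.step [29, 30, 1, 1, 29, 31, 31, 5, 31, 5, 28, 28, 28, 5, 29, 1] (.step [28, 1, 30, 28, 1, 30, 5, 29, 29, 31, 29, 29, 30, 1, 28, 31, 31, 31, 1, 30, 1, 28, 1, 29, 29, 5, 28] .fail)))), (1, (.step [31, 29, 29, 29, 31, 29, 31, 1] .fail)), (1, (.step [30, 5, 28, 1, 30, 30, 29, 30, 5] .fail)), (5, .fail), (1, (.step [5, 5, 28, 5, 30, 29, 5, 29, 1] .fail)), (1, (.step [29, 30, 29, 30, 29, 1, 31, 29, 29] (.step [29, 30, 29, 31, 5, 31, 28, 5, 31,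 31, 30] (.step [5, 30, 1, 1, 1, 31, 5, 5, 28, 5, 30, 28, 1, 1, 29, 30, 30, 28, 28, 5, 28, 5, 28, 30, 29, 29] (.step [28, 1, 29, 30, 29, 1, 5, 30, 28, 28, 1, 29, 5, 30, 30, 30, 29, 1, 30, 30, 5, 30, 28, 30, 29, 5, 1, 1, 29, 31, 30, 28, 5, 5, 1, 28, 31, 29, 31, 1, 31, 31, 5, 30, 30, 5, 31, 1, 1, 28, 31, 5, 28, 1, 1, 1] (.badAt 0)))))), (1, (.step [30, 1, 28, 28, 31, 1, 28, 28] .fail)), (1, (.step [31, 29, 29, 31, 31, 28, 30, 29, 1] .fail)), (1, (.step [1, 30, 29, 29, 31, 29, 29] .fail)), (10, .fail), (1, (.step [29, 5, 28, 31, 29, 31, 5] (.step [1, 1, 30, 1, 31, 1, 31, 31, 29, 1, 28, 31, 31] (.step [5, 5, 31, 31, 31, 31, 29, 5, 29, 5, 28, 31, 29, 31, 5, 1, 30, 30, 29, 30, 5, 28, 30, 1, 5, 29] .fail)))), (8, .fail), (1, (.step [31, 29, 31, 5, 30, 28, 28, 5, 29] (.step [5, 31, 28, 31, 5, 1, 5, 31, 29, 5, 28, 31, 31, 31] (.step [28,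 28, 28, 5, 29, 1, 31, 31, 31, 31, 28, 28, 30, 28, 5, 5, 28, 1, 28] (.step [1, 5, 30, 28, 1, 1, 31, 29, 31, 29, 1, 31, 31, 28, 28, 1, 30, 31, 31, 5, 29, 1, 1, 1, 1, 31, 28] (.badAt 0)))))), (2, .fail), (1, (.step [5, 5, 28, 5, 30, 29, 5, 29, 1] .fail)), (2, .fail), (1, (.step [1, 30, 30, 1, 1, 1, 30, 5, 28] (.step [5, 28, 31, 29, 30, 30, 28, 28, 1, 1, 1, 30, 30, 29, 5] (.step [28, 30, 29, 29, 28, 5, 29, 5, 31, 5, 5, 5, 5, 28, 31, 28, 30, 1, 1, 1, 29, 1, 29, 1, 31, 28, 30, 28, 1] .fail)))), (1, (.step [28, 5, 5, 29, 31, 1, 1, 1, 1] (.step [29, 5, 29, 31, 1, 1, 31, 31, 5, 5, 29, 29, 30, 1, 28] (.step [28, 28, 28, 5, 29, 1, 31, 31, 31, 31, 28, 28, 30, 28, 5, 5, 28, 1, 28] (.step [28, 1, 29, 30, 29, 1, 5, 30, 28, 28, 1, 29, 5, 30, 30, 30, 29, 1, 30, 30, 5, 30, 28, 30, 29, 5, 1, 1, 29, 31, 30, 28, 5, 5, 1, 28, 31, 29, 31, 1, 31, 31,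 5, 30, 30, 5, 31, 1, 1, 28, 31, 5, 28, 1, 1, 1] (.badAt 0)))))), (1, .fail), (1, (.step [29, 1, 28, 28, 28, 31, 29] (.step [30, 28, 31, 31, 31, 1, 28, 5, 1, 1, 29, 1, 31, 1, 1, 28] (.step [5, 30, 29, 1, 28, 30, 5, 30, 30, 29, 1, 29, 5, 31, 5, 30, 30, 5, 31, 28, 29, 29, 5, 30, 30, 29, 29, 29] (.step [1, 5, 30, 28, 1, 1, 31, 29, 31, 29, 1, 31, 31, 28, 28, 1, 30, 31, 31, 5, 29, 1, 1, 1, 1, 31, 28] (.badAt 0)))))), (1, (.step [5, 31, 31, 5, 29, 1, 1, 30, 5] .fail)), (2, .fail), (1, (.step [28, 31, 5, 29, 5, 28, 31, 1] .fail)), (3, .fail), (1, (.step [30, 1, 1, 29, 30, 28, 1, 28, 1] .fail)), (1, (.step [28, 5, 31, 31, 28, 5, 28, 5] (.step [29, 1, 31, 31, 28, 1, 1, 1, 5, 28, 5, 30, 28, 1, 1] .fail))), (1, (.step [30, 1, 1, 30, 1, 1, 30, 28, 5] .fail)), (1, (.step [31, 5, 30, 29, 5, 28, 1, 1] .fail)), (1, (.step [30, 29, 29, 30, 1, 28]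 .fail)), (1, .fail), (1, (.step [31, 31, 31] .fail)), (2, .fail), (1, (.step [30, 29, 30, 1, 31, 31, 1, 30, 1] (.step [1, 29, 31, 5, 5, 31, 5, 5, 5, 5, 5, 30, 5, 5, 29, 29] (.step [1, 1, 28, 30, 29, 29, 1, 31, 28, 1, 30, 28, 31, 31, 30, 28, 5, 31, 29, 31, 5, 31, 29, 29, 5] .fail)))), (1, (.step [5, 29, 5, 31, 5, 30, 1, 1] .fail)), (1, (.step [30, 1, 31, 1, 28, 31, 31, 5, 5] (.step [31, 1, 31, 31, 5, 29, 30, 29, 31, 31, 5] (.step [29, 29, 5, 5, 29, 30, 1, 1, 29, 1, 28, 28, 31, 1, 28, 28, 31, 31, 30, 30, 28, 30, 28, 30, 5, 5, 29, 30] .fail)))), (1, .fail), (1, (.step [1, 1, 28, 5, 30, 29, 5] .fail)), (2, .fail), (1, (.step [1, 31, 28, 31, 31, 5, 29, 1] .fail)), (2, .fail), (1, (.step [1, 30, 30, 28, 5, 30, 30, 28, 5] .fail)), (1, (.step [28, 30, 28, 1, 1, 31, 29] .fail)), (1, .fail), (1, (.step [1, 31, 29, 31, 29, 30, 30, 1] (.step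 [1, 31, 1, 28, 28, 28, 1, 29, 30, 29, 29, 29, 30, 1, 28, 31] (.step [30, 1, 28, 5, 30, 1, 29, 31, 28, 5, 29, 5, 28, 5, 29, 5, 30, 1, 1, 1, 1, 1, 29, 1, 31, 5, 29] .fail)))), (1, .fail), (1, (.step [28, 30, 29, 29, 29, 5, 28] .fail)), (1, (.step [29, 31, 28, 5, 28, 31, 28, 1, 29] (.step [30, 30, 29, 29, 5, 29, 30, 28, 1, 29, 29, 30, 1, 28] (.step [30, 5, 30, 1, 31, 31, 1, 1, 28, 28, 28, 29, 31, 5, 30, 30, 5, 30, 28, 28, 31, 29, 1, 31, 28, 31, 31, 5] .fail)))), (1, .fail), (1, (.step [1, 1, 30, 30, 30, 29, 5, 29, 5] .fail)), (2, .fail), (1, (.step [31, 1, 29, 5, 30, 30, 30, 29] .fail)), (1, (.step [30, 29, 1, 1, 1, 28, 5, 30, 29] .fail)), (1, (.step [31, 29, 31, 5, 30, 5, 28, 30, 1] .fail)), (2, .fail), (1, (.step [29, 31, 5, 28, 28, 30, 28] .fail)), (1, (.step [30, 5, 28, 5, 30, 28, 1, 1] .fail)), (1, (.step [1, 31, 29, 31, 29,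 30, 30, 1] (.step [5, 30, 29, 30, 30, 28, 5, 30, 1, 30, 28, 1, 31, 31, 31, 31] (.step [30, 30, 1, 1, 29, 5, 30, 29, 1, 31, 1, 5, 5, 31, 1, 31, 5, 28, 5, 29] .fail)))), (1, .fail), (1, (.step [5, 5, 29, 30, 29, 5, 29, 29] .fail)), (1, (.step [29, 29, 30, 1, 29, 30, 1, 28] .fail)), (1, (.step [29, 5, 31, 1, 29, 5, 30, 30, 28] .fail)), (3, .fail), (1, (.step [29, 5, 5, 29, 31, 28, 31, 1] .fail)), (1, (.step [28, 30, 5, 28, 1, 31, 29, 1] .fail)), (1, .fail), (1, (.step [30, 1, 1, 30, 1, 1, 30, 28, 5] .fail)), (1, (.step [30, 1, 28, 5, 31, 5, 5, 29] (.step [31, 5, 5, 30, 30, 29, 5, 5, 28, 28, 5, 31, 31, 31] (.step [5, 31, 29, 31, 1, 28, 30, 5, 30, 28, 5, 5, 28, 1, 29, 29, 29, 30, 1, 1, 29, 1, 29, 1, 31, 28, 30, 28, 1] .fail)))), (1, (.step [31, 31, 31] .fail)), (1, (.step [5, 31, 28, 28, 1, 28, 31, 28] (.step [29, 5, 29, 31, 1, 1,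 31, 31, 5, 5, 29, 29, 30, 1, 28] (.step [5, 29, 31, 31, 1, 1, 29, 31, 29, 1, 31, 31, 31, 31, 31, 31, 31, 1, 28, 30, 30, 29, 30, 1, 29, 30, 1] .fail)))), (1, (.step [29, 5, 30, 28, 1, 31, 31, 29] (.step [1, 31, 1, 28, 31, 31, 5, 5, 5, 5, 29, 31, 1, 29, 1] .fail))), (8, .fail), (1, (.step [5, 29, 1, 30, 5, 29, 1, 1] .fail)), (1, .fail), (1, (.step [28, 1, 30, 30, 29, 31, 28, 30, 28] .fail)), (2, .fail), (1, (.step [30, 1, 31, 1, 28, 31, 31, 5, 5] .fail)), (3, .fail), (1, (.step [31, 29, 1, 28, 28, 28, 31, 29] (.step [5, 30, 30, 5, 30, 30, 29, 1, 28, 30, 28, 30, 5, 5, 29] (.step [5, 31, 29, 30, 5, 29, 5, 5, 28, 29, 1, 28, 5, 28, 31, 31, 28, 31, 30, 30, 1, 29, 30, 1, 30, 28, 31, 28] .fail)))), (1, (.step [5, 30, 1, 30, 5, 29, 31, 28] .fail)), (1, (.step [31, 29, 31, 5, 30, 5, 28, 30, 1] (.step [5, 29, 31, 29, 30, 5, 28, 5, 28, 5,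 5] .fail))), (2, .fail), (1, (.step [29, 29, 29, 5, 31, 5, 5, 5, 29] .fail)), (1, .fail), (1, (.step [31, 29, 29, 29, 31, 29, 31, 1] .fail)), (2, .fail), (1, (.step [30, 5, 29, 29, 30, 30, 5] .fail)), (1, (.step [30, 30, 30, 30, 30] .fail)), (1, .fail), (1, (.step [28, 5, 29, 1, 29, 5, 29, 5] .fail)), (1, (.step [29, 5, 28, 31, 29, 31, 5] (.step [30, 28, 30, 28, 30, 1, 5, 5, 5, 29, 28, 29, 30] .fail))), (2, .fail), (1, (.step [5, 29, 29, 30, 5, 5, 29, 5] .fail)), (2, .fail), (1, (.step [1, 31, 28, 28, 28, 5, 31, 29, 29] (.step [29, 1, 31, 29, 30, 5, 29, 1, 29, 1, 31, 31, 31] (.step [29, 29, 5, 5, 29, 30, 1, 1, 29, 1, 28, 28, 31, 1, 28, 28, 31, 31, 30, 30, 28, 30, 28, 30, 5, 5, 29, 30] .fail)))), (9, .fail), (1, (.step [28, 30, 28, 1, 1, 31, 29] .fail)), (1, (.step [31, 28, 28, 31, 1, 30, 1, 30, 29] .fail)), (1, .fail), (1, (.step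 [28, 1, 31, 5, 31, 31, 29, 5] .fail)), (1, .fail), (1, (.step [28, 28, 28, 1, 29, 5, 30, 28, 28] (.step [29, 29, 29, 29, 5, 31, 29, 30, 1, 29, 29, 5, 31, 28, 28, 30] (.step [30, 1, 28, 5, 30, 1, 29, 31, 28, 5, 29, 5, 28, 5, 29, 5, 30, 1, 1, 1, 1, 1, 29, 1, 31, 5, 29] .fail)))), (1, .fail), (1, (.step [1, 28, 5, 31, 5, 5, 29] (.step [5, 31, 1, 1, 29, 30, 1, 29, 30, 5, 31, 31, 31] .fail))), (3, .fail), (1, (.step [31, 29, 5, 5, 30, 5, 28, 5, 5] .fail)), (1, (.step [28, 31, 1, 29, 5, 5, 5, 28] (.step [31, 28, 1, 1, 31, 29, 31, 29, 31, 31, 30] (.step [1, 28, 31, 28, 31, 29, 5, 29, 1, 28, 1, 30, 28, 30, 30, 28, 1, 31, 31, 28, 30, 30, 28, 28, 1, 1, 29, 5] .fail)))), (1, .fail), (1, (.step [30, 30, 30, 30] .fail)), (2, .fail), (1, (.step [28, 1, 29, 29, 30, 5, 30, 28] (.step [1, 29, 5, 31, 5, 31, 28, 1, 31, 1, 1] (.step [31, 29, 1, 29,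 31, 28, 5, 31, 28, 28, 5, 1, 31, 31, 28, 28, 1, 5, 29, 30, 1, 30, 28, 31, 29] .fail)))), (1, (.step [5, 5, 31, 31, 1, 30, 5, 29] (.step [28, 28, 1, 28, 31, 28, 1, 1, 28, 1, 1, 28, 1, 31, 28] (.step [1, 30, 29, 30, 1, 31, 5, 1, 1, 31, 5, 28, 28, 31, 1, 30, 1, 30, 29] (.step [28, 1, 29, 30, 29, 1, 5, 30, 28, 28, 1, 29, 5, 30, 30, 30, 29, 1, 30, 30, 5, 30, 28, 30, 29, 5, 1, 1, 29, 31, 30, 28, 5, 5, 1, 28, 31, 29, 31, 1, 31, 31, 5, 30, 30, 5, 31, 1, 1, 28, 31, 5, 28, 1, 1, 1] (.badAt 0)))))), (1, (.step [1, 31, 29, 31, 29, 30, 30, 1] .fail)), (1, (.step [5, 28, 1, 31, 1, 30, 30, 1] (.step [30, 28, 30, 30, 5, 31, 1, 30, 28, 1, 31, 31] .fail))), (1, .fail), (1, (.step [1, 29, 29, 31, 31, 5, 31, 5, 5] (.step [28, 30, 29, 30, 5, 31, 28, 1, 31, 31, 5, 31, 31] .fail))), (3, .fail), (1, (.step [1, 30, 30, 28, 5, 30, 30, 28, 5] (.step [5,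 28, 28, 28, 5, 28, 31, 28, 31, 1, 30, 30] .fail))), (1, (.step [1, 28, 28, 1, 30, 30, 1] (.step [31, 28, 5, 31, 1, 28, 30, 5, 31, 5, 30, 30, 30] (.step [29, 5, 5, 29, 5, 31, 5, 28, 5, 28, 30, 29, 29, 29, 5, 28, 31, 28, 29, 5, 5, 29, 5, 30, 30, 30, 1] .fail)))), (1, (.step [] .fail)), (1, (.step [30, 1, 31, 31, 5, 30, 30, 5, 29] .fail)), (1, (.step [29, 31, 31, 5, 5, 31, 31, 28, 5] (.step [31, 5, 5, 30, 30, 29, 5, 5, 28, 28, 5, 31, 31, 31] (.step [31, 28, 30, 29, 29, 30, 1, 29, 1, 28, 5, 29, 5, 28, 30, 28, 30, 5, 5, 29] .fail)))), (5, .fail), (1, (.step [28, 5, 5, 29, 31, 1, 1, 1, 1] (.step [28, 28, 5, 31, 5, 31, 5, 29, 29, 29, 30, 1, 28, 30] .fail))), (2, .fail), (1, (.step [31, 1, 31, 31, 28, 28, 1] .fail)), (2, .fail), (1, (.step [30, 1, 31, 31, 5, 30, 30, 5, 29] (.step [29, 29, 1, 30, 28, 5, 28, 1, 29, 5, 28, 28, 29, 30] (.step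 [29, 29, 5, 5, 29, 30, 1, 1, 29, 1, 28, 28, 31, 1, 28, 28, 31, 31, 30, 30, 28, 30, 28, 30, 5, 5, 29, 30] (.step [] (.badAt 0)))))), (4, .fail), (1, (.step [5, 29, 30, 1, 30, 28, 31, 29] .fail)), (1, .fail), (1, (.step [29, 1, 30, 29, 31, 1, 1, 29] (.step [29, 29, 1, 30, 28, 5, 28, 1, 29, 5, 28, 28, 29, 30] (.step [1, 28, 31, 28, 31, 29, 5, 29, 1, 28, 1, 30, 28, 30, 30, 28, 1, 31, 31, 28, 30, 30, 28, 28, 1, 1, 29, 5] .fail)))), (4, .fail), (1, (.step [5, 31, 1, 31, 31, 5, 30, 1] (.step [29, 1, 1, 31, 29, 5, 31, 28, 5, 5, 29, 5, 31, 28, 28] (.step [1, 1, 28, 30, 29, 29, 1, 31, 28, 1, 30, 28, 31, 31, 30, 28, 5, 31, 29, 31, 5, 31, 29, 29, 5] .fail)))), (1, (.step [1, 31, 28, 31, 28, 30, 5, 5, 5] .fail)), (2, .fail), (1, (.step [1, 30, 28, 30, 29, 1, 28] .fail)), (4, .fail), (1, (.step [31, 1, 1, 1, 30, 30, 29, 5] .fail)), (1, (.step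 [29, 1, 30, 30, 29, 31, 5, 30, 29] (.step [28, 5, 30, 28, 30, 28, 30, 1, 29, 30, 1, 28, 28, 28, 5] .fail))), (8, .fail), (1, (.step [30, 1, 31, 31, 5, 30, 30, 5, 29] .fail)), (3, .fail), (1, (.step [29, 31, 1, 30, 28, 5, 5, 31, 29] .fail)), (2, .fail), (1, (.step [29, 30, 28, 31, 29, 31, 5, 28] .fail)), (1, .fail), (1, (.step [28, 1, 31, 28, 5, 28, 30, 1, 1] (.step [1, 1, 28, 30, 5, 31, 5, 30, 1, 29, 5, 31, 28, 28] (.step [31, 28, 30, 29, 29, 30, 1, 29, 1, 28, 5, 29, 5, 28, 30, 28, 30, 5, 5, 29] (.step [1, 5, 30, 28, 1, 1, 31, 29, 31, 29, 1, 31, 31, 28, 28, 1, 30, 31, 31, 5, 29, 1, 1, 1, 1, 31, 28] (.badAt 0)))))), (1, (.step [1, 1, 30, 30, 30, 29, 5, 29, 5] .fail)), (4, .fail), (1, (.step [30, 1, 1, 30, 1, 1, 30, 28, 5] .fail)), (1, (.step [1, 29, 1, 28, 1, 28, 5, 5] (.step [1, 29, 5, 31, 5, 31, 28, 1, 31, 1, 1] .fail))), (1,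 (.step [30, 28, 30, 5, 5, 29, 31, 29] .fail)), (1, (.step [29, 30, 5, 29, 5, 5, 29] .fail)), (3, .fail), (1, (.step [5, 31, 31, 5, 29, 29, 5] .fail)), (2, .fail), (1, (.step [30, 5, 30, 30, 28, 28, 5, 31, 5] .fail)), (1, (.step [5, 31, 31, 31, 31, 29, 30, 1] (.step [29, 1, 30, 5, 30, 30, 5, 29, 29, 31, 31, 31] .fail))), (1, .fail), (1, (.step [1, 31, 31, 31, 1, 1, 30, 29, 29] .fail)), (1, (.step [5, 5, 29, 30, 29, 5, 29, 29] (.step [1, 28, 1, 28, 31, 31, 31, 5, 5, 31, 31] (.step [29, 28, 1, 1, 28, 28, 28, 31, 31, 29, 1, 30, 29, 1, 1, 30, 1, 31, 31, 31, 29, 29, 1, 29, 5, 30, 30, 28] .fail)))), (5, .fail), (1, (.step [31, 29, 29, 5, 30, 29, 29, 5] .fail)), (1, .fail), (1, (.step [31, 1, 30, 29, 29, 31, 29, 29] (.step [28, 31, 28, 5, 31, 1, 28, 1, 1, 30, 28, 31, 31, 31, 31, 31] (.step [31, 29, 5, 30, 5, 5, 31, 29, 30, 29, 5, 5, 5,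 5, 30, 28, 1, 1, 29] .fail)))), (1, (.step [29, 1, 31, 5, 5, 5, 31, 31, 5] .fail)), (2, .fail), (1, (.step [28, 28, 30, 5, 28, 31, 28, 31, 28] (.step [29, 5, 29, 31, 1, 1, 31, 31, 5, 5, 29, 29, 30, 1, 28] (.step [5, 31, 29, 30, 5, 29, 5, 5, 28, 29, 1, 28, 5, 28, 31, 31, 28, 31, 30, 30, 1, 29, 30, 1, 30, 28, 31, 28] .fail)))), (1, (.step [29, 30, 5, 31, 1, 28, 5, 31, 28] (.step [1, 28, 1, 29, 29, 29, 1, 29, 31, 31, 31] (.step [30, 30, 28, 28, 1, 28, 31, 28, 1, 1, 1, 30, 28, 30, 29, 1, 28, 31, 29, 29, 5, 30, 30, 29, 29, 29] .fail)))), (5, .fail), (1, (.step [29, 5, 31, 28, 28] .fail)), (1, (.step [28, 5, 29, 1, 29, 5, 29, 5] .fail)), (4, .fail), (1, (.step [28, 28, 1, 29, 1, 31, 1, 1] (.step [29, 30, 29, 1, 29, 29, 5, 29, 1, 31, 31, 30] (.step [29, 29, 29, 1, 31, 28, 29, 1, 31, 31, 31, 1, 28, 30, 5, 5, 29, 31, 29] .fail)))), (1,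 (.step [5, 5, 31, 29, 29, 1, 1, 30, 29] (.step [31, 5, 30, 5, 29, 31, 29, 31, 28, 31, 5, 30, 30, 30] (.step [] .fail)))), (6, .fail), (1, (.step [28, 28, 1, 29, 1, 31, 1, 1] .fail)), (1, (.step [5, 5, 5, 5, 30, 28, 1, 1, 29] .fail)), (1, (.step [1, 30, 30, 1, 1, 1, 30, 5, 28] .fail)), (2, .fail), (1, (.step [29, 5, 31, 1, 29, 5, 30, 30, 28] (.step [5, 29, 29, 5, 31, 28, 29, 28, 31, 5, 28, 5, 5] (.step [5, 30, 30, 29, 30, 1, 30, 30, 5, 28, 5, 5, 5, 5, 31, 5, 5, 29, 31, 29, 29] .fail)))), (1, .fail), (1, (.step [30, 1, 28, 31, 1, 29, 5, 5] (.step [1, 1, 29, 5, 5, 28, 5, 30, 29, 28, 28, 28, 5, 29, 1, 31] (.step [29, 5, 5, 28, 5, 5, 5, 28, 5, 5, 5, 28, 5, 31, 31, 31, 29, 31, 29, 30, 30, 1, 29, 31, 31, 28] .fail)))), (1, .fail), (1, (.step [1, 1, 29, 29, 29, 30, 5, 29, 5] (.step [29, 1, 1, 31, 29, 5, 31, 28, 5, 5, 29, 5, 31, 28, 28]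 (.step [31, 29, 1, 29, 31, 28, 5, 31, 28, 28, 5, 1, 31, 31, 28, 28, 1, 5, 29, 30, 1, 30, 28, 31, 29] .fail)))), (1, .fail), (1, (.step [5, 29, 31, 28, 1, 28, 28] (.step [30, 28, 28, 28, 31, 29, 29, 5, 1, 28, 1, 1, 30, 5] .fail))), (1, (.step [31, 28, 29] .fail)), (9, .fail), (1, (.step [5, 5, 5, 5, 30, 28, 1, 1, 29] (.step [5, 31, 1, 1, 29, 30, 1, 29, 30, 5, 31, 31, 31] (.step [1, 28, 31, 28, 31, 29, 5, 29, 1, 28, 1, 30, 28, 30, 30, 28, 1, 31, 31, 28, 30, 30, 28, 28, 1, 1, 29, 5] .fail)))), (6, .fail), (1, (.step [1, 30, 5, 28, 1, 29, 29, 30, 29] (.step [5, 28, 28, 28, 5, 28, 31, 28, 31, 1, 30, 30] (.step [31, 29, 5, 30, 5, 5, 31, 29, 30, 29, 5, 5, 5, 5, 30, 28, 1, 1, 29] .fail)))), (1, (.step [30, 29, 29, 29, 31, 29, 31, 1] .fail)), (4, .fail), (1, (.step [29, 1, 28, 28, 28, 31, 29] (.step [30, 1, 29, 31, 28, 30, 30, 31, 5, 29,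 1, 29, 5] (.step [5, 31, 1, 31, 30, 30, 1, 31, 29, 5, 5, 30, 30, 31, 31, 31, 1, 30, 1, 31, 29, 5, 30, 1, 29, 30] .fail)))), (1, (.step [31, 1, 31, 31, 28, 28, 1] (.step [28, 31, 1, 30, 5, 30, 30, 1, 31, 29, 5] (.step [1, 31, 1, 31, 28, 31, 5, 29, 30, 1, 29, 1, 31, 31, 31, 31, 31, 31, 1, 29, 31, 31, 31, 31, 5, 28, 30, 30] .fail)))), (2, .fail), (1, (.step [30, 1, 28, 5, 31, 5, 5, 29] (.step [29, 5, 31, 31, 28, 31, 28, 5, 29, 5, 28, 1, 29, 29, 29, 31] (.step [29, 29, 29, 30, 5, 31, 31, 29, 29, 29, 30, 1, 28, 30, 30, 1, 28, 30, 5, 31, 31, 1, 31, 5, 30, 29] (.step [] (.badAt 0)))))), (1, .fail), (1, (.step [31, 31, 1, 31, 5, 5, 29, 5] (.step [5, 28, 30, 29, 30, 5, 30, 28, 31, 5, 31, 29] (.step [28, 30, 29, 29, 28, 5, 29, 5, 31, 5, 5, 5, 5, 28, 31, 28, 30, 1, 1, 1, 29, 1, 29, 1, 31, 28, 30, 28, 1] .fail)))), (1, (.step [31, 29, 31,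 5, 30, 5, 28, 30, 1] (.step [28, 29, 5, 31, 1, 29, 30, 28, 5, 5, 31, 29, 31, 31, 31] (.step [28, 5, 29, 29, 1, 29, 1, 29, 1, 28, 29, 30, 31, 31, 31, 31, 1, 28, 1, 1, 30, 5, 30] .fail)))), (1, (.step [29, 29, 5, 30, 29, 29, 5] .fail)), (1, .fail), (1, (.step [1, 28, 5, 31, 28, 1, 31, 28] (.step [29, 31, 1, 29, 29, 30, 28, 5, 31, 1, 29, 5, 30, 28] (.step [29, 5, 5, 29, 5, 31, 5, 28, 5, 28, 30, 29, 29, 29, 5, 28, 31, 28, 29, 5, 5, 29, 5, 30, 30, 30, 1] .fail)))), (1, (.step [1, 1, 31, 1, 30, 30, 5, 28] .fail)), (1, (.step [29, 30, 29, 30, 29, 1, 31, 29, 29] (.step [5, 28, 28, 28, 5, 28, 31, 28, 31, 1, 30, 30] (.step [30, 1, 28, 5, 30, 1, 29, 31, 28, 5, 29, 5, 28, 5, 29, 5, 30, 1, 1, 1, 1, 1, 29, 1, 31, 5, 29] .fail)))), (1, .fail), (1, (.step [1, 31, 1, 30, 30, 5, 5] .fail)), (1, .fail), (1, (.step [29, 5, 31, 28, 28, 30] (.step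 [29, 29, 5, 5, 5, 28, 31, 29, 5, 5, 5, 29, 29, 30, 30, 5] (.step [30, 1, 30, 30, 30, 1, 29, 31, 5, 28, 5, 1, 29, 5, 30, 30, 30, 29, 28, 1, 30, 5, 28, 5, 5, 5, 5] .fail)))), (1, (.step [29, 29, 5, 30, 1, 30, 30, 1] .fail)), (1, (.step [30, 29, 29, 5, 30, 29, 29, 5] .fail)), (1, (.step [28, 31, 1, 29, 5, 5, 5, 28] .fail)), (1, .fail), (1, (.step [31, 31, 29, 29, 30, 1, 28] (.step [28, 28, 5, 31, 5, 31, 5, 29, 29, 29, 30, 1, 28, 30] .fail))), (7, .fail), (1, (.step [31, 1, 30, 28, 30, 29, 1, 28] (.step [29, 31, 1, 30, 1, 1, 28, 29, 1, 31, 5, 29, 31, 31, 30] (.step [5, 30, 30, 29, 30, 1, 30, 30, 5, 28, 5, 5, 5, 5, 31, 5, 5, 29, 31, 29, 29] .fail)))), (1, (.step [1, 28, 28, 31, 1, 28, 28] (.step [30, 28, 30, 28, 30, 1, 5, 5, 5, 29, 28, 29, 30] (.step [1, 28, 31, 28, 31, 29, 5, 29, 1, 28, 1, 30, 28, 30, 30, 28, 1, 31, 31, 28, 30, 30,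 28, 28, 1, 1, 29, 5] .fail)))), (3, .fail), (1, (.step [1, 31, 5, 29, 30, 5, 29, 30, 29] .fail)), (1, (.step [1, 28, 30, 30, 30, 30, 1, 1] .fail)), (1, .fail), (1, (.step [30, 30] .fail)), (2, .fail), (1, (.step [30, 5, 28, 1, 30, 30, 29, 30, 5] (.step [29, 29, 29, 1, 30, 1, 1, 31, 1, 28, 30, 29, 29, 29, 5, 28] (.step [30, 1, 30, 30, 30, 1, 29, 31, 5, 28, 5, 1, 29, 5, 30, 30, 30, 29, 28, 1, 30, 5, 28, 5, 5, 5, 5] .fail)))), (1, .fail), (1, (.step [31, 29, 31, 29, 29, 1, 30, 28] .fail)), (1, (.step [28, 28, 30, 28, 1, 1, 30, 1] .fail)), (1, .fail), (1, (.step [30, 30, 5, 29, 29, 30, 30, 5] .fail)), (2, .fail), (1, (.step [31, 28, 28, 28, 31, 29, 29, 5] .fail)), (1, (.step [31, 1, 31, 31, 1, 30, 1, 29] (.step [5, 28, 1, 30, 28, 28, 5, 30, 29, 1, 28, 28, 28, 5, 29, 1] (.step [29, 5, 5, 28, 5, 5, 5, 28, 5, 5, 5, 28, 5, 31, 31, 31,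 29, 31, 29, 30, 30, 1, 29, 31, 31, 28] .fail)))), (5, .fail), (1, (.step [29, 30, 1, 31, 31, 1, 30, 1] .fail)), (1, .fail), (1, (.step [1, 1, 31, 1, 30, 30, 5, 28] (.step [28, 28, 28, 31, 31, 1, 28, 28] .fail))), (1, (.step [29, 1, 29, 1, 30, 1, 28, 28] .fail)), (1, (.step [29, 1, 29, 29, 29, 5, 5, 28] .fail)), (2, .fail), (1, (.step [1, 31, 5, 28, 30, 28, 30, 30, 29] (.step [1, 28, 28, 30, 1, 30, 28, 30, 1, 29] (.step [5, 31, 29, 30, 5, 29, 5, 5, 28, 29, 1, 28, 5, 28, 31, 31, 28, 31, 30, 30, 1, 29, 30, 1, 30, 28, 31, 28] .fail)))), (1, .fail), (1, (.step [1, 29, 1, 28, 1, 28, 5, 5] .fail)), (5, .fail), (1, (.step [28, 28, 28, 1, 29, 5, 30, 28, 28] .fail)), (1, .fail), (1, (.step [28, 30, 29, 29, 29, 5, 28] (.step [30, 28, 5, 5, 1, 28, 31, 29, 31, 1, 31, 31, 5] (.step [30, 29, 30, 28, 1, 31, 5, 31, 1, 29, 1, 29, 29, 29, 5, 5,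 28, 31, 28, 29, 5, 5, 29, 5, 30, 30, 30, 1] .fail)))), (2, .fail), (1, (.step [29, 31, 1, 30, 28, 5, 5, 31, 29] (.step [29, 29, 29, 1, 30, 1, 1, 31, 1, 28, 30, 29, 29, 29, 5, 28] .fail))), (1, .fail), (1, (.step [29, 30, 1, 1, 1, 28, 30, 1] (.step [29, 31, 29, 5, 31, 31, 29, 1, 31, 28, 30, 30, 30] (.step [29, 29, 5, 5, 29, 30, 1, 1, 29, 1, 28, 28, 31, 1, 28, 28, 31, 31, 30, 30, 28, 30, 28, 30, 5, 5, 29, 30] (.step [1, 5, 30, 28, 1, 1, 31, 29, 31, 29, 1, 31, 31, 28, 28, 1, 30, 31, 31, 5, 29, 1, 1, 1, 1, 31, 28] (.badAt 0)))))), (1, .fail), (1, (.step [28, 5, 28, 28, 28, 5, 29, 5] (.step [29, 30, 5, 5, 5, 5, 28, 1, 30, 30] (.step [1, 28, 31, 28, 31, 29, 5, 29, 1, 28, 1, 30, 28, 30, 30, 28, 1, 31, 31, 28, 30, 30, 28, 28, 1, 1, 29, 5] (.step [] (.badAt 0)))))), (2, .fail), (1, (.step [29, 31, 29, 1, 31, 28, 28, 31, 1] (.step [28,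 5, 30, 28, 30, 28, 30, 1, 29, 30, 1, 28, 28, 28, 5] (.step [] .fail)))), (1, (.step [5, 30, 29, 1, 29, 1, 28, 28, 28] .fail)), (1, (.step [28, 1, 31, 5, 30, 30, 1, 1] .fail)), (1, (.step [28, 30, 29, 1, 28, 28, 30, 29, 1] .fail)), (3, .fail), (1, (.step [29, 29, 5, 28, 31, 1, 28, 1, 28] (.step [28, 28, 30, 5, 29, 31, 29, 5, 28, 1, 31, 5, 5, 29, 5, 31] (.step [31, 29, 5, 30, 5, 5, 31, 29, 30, 29, 5, 5, 5, 5, 30, 28, 1, 1, 29] .fail)))), (6, .fail), (1, (.step [1, 30, 1, 31, 28, 28, 30, 30, 1] .fail)), (3, .fail), (1, (.step [1, 28, 1, 31, 1, 29, 31, 29] .fail)), (1, (.step [31, 1, 1, 1, 30, 30, 29, 5] .fail)), (3, .fail), (1, (.step [31, 28, 28, 28, 5, 29, 1] .fail)), (8, .fail), (1, (.step [1, 31, 5, 29, 29, 29, 1, 29] .fail)), (3, .fail), (1, (.step [5, 5, 29, 30, 29, 5, 29, 29] .fail)), (1, .fail), (1, (.step [28, 28, 1, 29,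 1, 31, 1, 1] .fail)), (1, (.step [5, 5, 29, 31, 1, 29, 1] .fail)), (3, .fail), (1, (.step [30, 29, 5, 31, 28, 28] .fail)), (1, (.step [30, 29, 30, 1, 31, 1, 1, 29, 29] .fail)), (1, (.step [30, 29, 5, 31, 28, 28] .fail)), (1, .fail), (1, (.step [30, 28, 1, 29, 30, 29, 30, 28, 28] .fail)), (1, (.step [1, 30, 1, 31, 28, 28, 30, 30, 1] (.step [5, 31, 1, 1, 29, 30, 1, 29, 30, 5, 31, 31, 31] (.step [31, 29, 1, 29, 31, 28, 5, 31, 28, 28, 5, 1, 31, 31, 28, 28, 1, 5, 29, 30, 1, 30, 28, 31, 29] .fail)))), (1, (.step [30, 28, 28, 5, 31, 5, 31, 5, 29] (.step [28, 5, 28, 28, 1, 29, 29, 30, 5, 29, 31, 31, 31] (.step [31, 29, 1, 28, 30, 29, 31, 1, 1, 28, 5, 28, 28, 28, 5, 29, 1] .fail)))), (1, (.step [30, 1, 1, 29, 30, 28, 1, 28, 1] (.step [29, 29, 1, 30, 30, 30, 29, 29, 31, 5, 28, 28, 28, 31, 29, 29, 5] .fail))), (1, (.step [30, 28, 1, 1, 28,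 1, 31, 28] (.step [29, 30, 5, 5, 5, 5, 28, 1, 30, 30] (.step [5, 31, 29, 31, 1, 28, 30, 5, 30, 28, 5, 5, 28, 1, 29, 29, 29, 30, 1, 1, 29, 1, 29, 1, 31, 28, 30, 28, 1] .fail)))), (2, .fail), (1, (.step [30, 1, 29, 5, 30, 30, 30, 29] .fail)), (1, (.step [29, 31, 29, 29, 1, 30, 28] .fail)), (1, (.step [31, 1, 28, 28, 1, 30, 30, 1] .fail)), (3, .fail), (1, (.step [1, 31, 31, 1, 30, 1, 29, 31] (.step [31, 5, 30, 5, 29, 31, 29, 31, 28, 31, 5, 30, 30, 30] .fail))), (1, .fail), (1, (.step [31, 29, 1, 28, 28, 28, 31, 29] .fail)), (1, (.step [31, 1, 29, 5, 30, 30, 30, 29] .fail)), (3, .fail), (1, (.step [1, 30, 29, 5, 29, 5, 30, 28, 5] (.step [28, 28, 30, 29, 30, 29, 30, 28, 29, 5, 29, 1, 31, 31, 31, 31] (.step [] .fail)))), (1, .fail), (1, (.step [30, 1, 31, 31, 5, 30, 30, 5, 29] .fail)), (1, (.step [29, 30, 29, 30, 29, 1, 31, 29, 29]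 (.step [29, 31, 31, 28, 28, 30, 1, 1, 30, 28, 30, 5, 30, 30] (.step [29, 29, 31, 30, 29, 30, 29, 30, 5, 29, 31, 5, 31, 31, 5, 29, 1, 1, 1, 1, 31, 28] .fail)))), (1, .fail), (1, (.step [1, 29, 5, 30, 30, 30, 29] (.step [1, 28, 28, 30, 1, 30, 28, 30, 1, 29] (.step [5, 28, 28, 30, 5, 31, 5, 5, 28, 5, 28, 1, 30, 1, 30, 1, 29, 29, 31] .fail)))), (1, (.step [31, 28, 28, 28, 31, 29, 29, 5] .fail)), (3, .fail), (1, (.step [29, 31, 28, 28, 5, 30, 28] .fail)), (1, (.step [31, 1, 1, 28, 5, 30, 29, 5] .fail)), (2, .fail), (1, (.step [1, 28, 30, 30, 30, 30, 1, 1] .fail)), (1, (.step [29, 31, 31, 31, 28, 5, 30, 28] (.step [28, 5, 5, 30, 30, 30, 28, 30, 5, 1, 28, 5, 31, 5, 5, 29] (.step [29, 29, 31, 30, 29, 30, 29, 30, 5, 29, 31, 5, 31, 31, 5, 29, 1, 1, 1, 1, 31, 28] .fail)))), (1, .fail), (1, (.step [29, 5, 5, 30, 5, 28, 5, 5] .fail)), (8,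 .fail), (1, (.step [30, 28, 30, 5, 5, 29, 31, 29] (.step [29, 5, 29, 31, 1, 30, 1, 31, 1, 28, 31, 29, 29, 30, 1, 28] (.step [28, 5, 31, 5, 31, 1, 1, 30, 29, 29, 28, 30, 29, 29, 29, 5, 28] .fail)))), (1, .fail), (1, (.step [29, 29, 29, 5, 31, 5, 5, 5, 29] (.step [5, 29, 31, 29, 30, 5, 28, 5, 28, 5, 5] (.step [28, 30, 29, 29, 28, 5, 29, 5, 31, 5, 5, 5, 5, 28, 31, 28, 30, 1, 1, 1, 29, 1, 29, 1, 31, 28, 30, 28, 1] .fail)))), (1, (.step [28, 1, 31, 1, 29, 29, 5, 5] (.step [5, 31, 31, 1, 1, 30, 5, 5, 5, 5, 30, 30] (.step [28, 5, 31, 5, 31, 1, 1, 30, 29, 29, 28, 30, 29, 29, 29, 5, 28] .fail)))), (1, (.step [29, 29, 5, 28, 31, 1, 28, 1, 28] (.step [28, 31, 29, 5, 28, 1, 30, 31, 29, 5, 31, 5, 30, 30] (.step [29, 31, 31, 28, 31, 31, 31, 28, 5, 29, 1, 28, 28, 28, 31, 29, 28, 5, 31, 28, 31, 1, 28, 28, 28, 28] .fail)))), (1, .fail), (1, (.step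 [31, 29, 29, 5, 29, 30, 28, 1] .fail)), (1, .fail), (1, (.step [28, 28, 30, 28, 1, 1, 30, 1] .fail)), (1, (.step [28, 28, 28, 1, 29, 5, 30, 28, 28] .fail)), (4, .fail), (1, (.step [29, 29, 5, 29, 30, 28, 1] .fail)), (4, .fail), (1, (.step [31, 31, 28, 28, 28, 5, 29, 1] (.step [5, 29, 31, 29, 30, 5, 28, 5, 28, 5, 5] (.step [29, 31, 31, 28, 31, 31, 31, 28, 5, 29, 1, 28, 28, 28, 31, 29, 28, 5, 31, 28, 31, 1, 28, 28, 28, 28] .fail)))), (1, .fail), (1, (.step [30, 29, 29, 30, 1, 28] (.step [5, 28, 29, 28, 30, 28, 1, 1, 31, 5, 31, 5, 30, 30] (.step [5, 30, 29, 1, 28, 30, 5, 30, 30, 29, 1, 29, 5, 31, 5, 30, 30, 5, 31, 28, 29, 29, 5, 30, 30, 29, 29, 29] .fail)))), (2, .fail), (1, (.step [1, 31, 28, 31, 31, 5, 29, 1] .fail)), (1, .fail), (1, (.step [28, 31, 29, 29, 31, 29, 31, 31, 28] (.step [28, 28, 5, 31, 5, 31, 5, 29, 29, 29, 30, 1,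 28, 30] (.step [29, 29, 31, 30, 29, 30, 29, 30, 5, 29, 31, 5, 31, 31, 5, 29, 1, 1, 1, 1, 31, 28] .fail)))), (2, .fail), (1, (.step [31, 1, 30, 29, 29, 31, 29, 29] (.step [5, 29, 29, 5, 31, 28, 29, 28, 31, 5, 28, 5, 5] .fail))), (1, .fail), (1, (.step [5, 5, 5, 29, 30, 30, 5, 28] .fail)), (11, .fail), (1, (.step [29, 1, 30, 1, 29, 29, 31, 28, 1] .fail)), (1, .fail), (1, (.step [29, 30, 29, 5, 29, 29, 30, 1] .fail)), (1, .fail), (1, (.step [29, 5, 31, 29, 31, 29, 31, 1] .fail)), (1, .fail), (1, (.step [30, 30, 30] (.step [28, 28, 28, 31, 31, 1, 28, 28] (.step [1, 29, 1, 30, 5, 30, 1, 5, 28, 5, 29, 5, 5, 31, 1, 30, 1, 28, 1] .fail)))), (1, .fail), (1, (.step [1, 29, 1, 1, 28, 30, 28, 1, 29] (.step [30, 29, 30, 29, 1, 28, 5, 31, 5, 28, 30, 5, 31, 31, 31, 31] (.step [28, 30, 30, 29, 5, 30, 5, 29, 28, 31, 29, 30, 30, 29, 30, 1, 31,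 31, 5, 31, 5, 31, 31, 28, 1, 1, 29] .fail)))), (10, .fail), (1, (.step [28, 5, 29, 5, 30, 5, 30, 5] (.step [1, 28, 1, 28, 31, 31, 31, 5, 5, 31, 31] .fail))), (9, .fail), (1, (.step [1, 1, 30, 1, 30, 30, 28, 28, 5] (.step [30, 28, 5, 30, 29, 30, 28, 30, 28, 1, 29] (.step [29, 29, 29, 30, 5, 31, 31, 29, 29, 29, 30, 1, 28, 30, 30, 1, 28, 30, 5, 31, 31, 1, 31, 5, 30, 29] .fail)))), (2, .fail), (1, (.step [31, 5, 29, 29, 30, 30, 5] .fail)), (1, .fail), (1, (.step [29, 31, 31, 5, 5, 31, 31, 28, 5] (.step [28, 28, 30, 29, 30, 29, 30, 28, 29, 5, 29, 1, 31, 31, 31, 31] (.step [1, 1, 28, 30, 29, 29, 1, 31, 28, 1, 30, 28, 31, 31, 30, 28, 5, 31, 29, 31, 5, 31, 29, 29, 5] .fail)))), (9, .fail), (1, (.step [31, 29, 5, 5, 30, 5, 28, 5, 5] .fail)), (2, .fail), (1, (.step [28, 5, 28, 28, 28, 5, 29, 5] (.step [1, 31, 31, 29, 5, 28, 5, 5, 29, 1,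 31, 28, 30, 30] .fail))), (9, .fail), (1, (.step [5, 28, 5, 30, 28, 1, 1] (.step [28, 1, 30, 5, 28, 5, 5, 5, 5] (.step [29, 30, 28, 1, 31, 5, 31, 1, 28, 30, 28, 30, 5, 5, 29, 1, 1, 29, 1, 30, 29, 28, 29, 30, 1, 28, 28, 1] .fail)))), (5, .fail), (1, (.step [30, 5, 28, 1, 30, 30, 29, 30, 5] (.step [5, 30, 28, 28, 28, 31, 1, 1, 1, 28, 5, 31, 31, 30] (.step [31, 1, 1, 1, 1, 29, 1, 31, 5, 29, 29, 29, 5, 30, 29, 29, 5, 31] .fail)))), (3, .fail), (1, (.step [29, 1, 1, 1, 28, 5, 30, 29] (.step [28, 5, 5, 29, 30, 30, 1, 30, 1, 30, 30] (.step [29, 5, 5, 29, 5, 31, 5, 28, 5, 28, 30, 29, 29, 29, 5, 28, 31, 28, 29, 5, 5, 29, 5, 30, 30, 30, 1] .fail)))), (1, (.step [29, 29, 5, 28, 31, 1, 28, 1, 28] (.step [31, 28, 30, 5, 30, 1, 28, 1, 31, 5, 5] (.step [29, 5, 5, 31, 5, 31, 1, 31, 1, 28, 31, 1, 29, 5, 5, 5, 28, 28, 5, 31, 28, 31, 1, 28, 28,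 28, 28] .fail)))), (3, .fail), (1, (.step [31, 29, 29, 5, 29, 30, 28, 1] .fail)), (1, .fail), (1, (.step [31, 31, 31, 31] .fail)), (1, .fail), (1, (.step [1, 31, 28, 1, 28, 31, 31, 31, 29] (.step [5, 28, 5, 31, 28, 30, 1, 29, 5, 29, 29, 29, 30, 1, 28] .fail))), (5, .fail), (1, (.step [5, 29, 29, 1, 30, 1, 29] (.step [28, 30, 29, 31, 5, 31, 28, 1, 5, 29, 29, 30, 30, 5] (.step [1, 31, 1, 31, 28, 31, 5, 29, 30, 1, 29, 1, 31, 31, 31, 31, 31, 31, 1, 29, 31, 31, 31, 31, 5, 28, 30, 30] .fail)))), (1, .fail), (1, (.step [31, 31, 5, 29, 29, 30, 30, 5] .fail)), (1, .fail), (1, (.step [1, 29, 1, 1, 28, 30, 28, 1, 29] .fail)), (1, .fail), (1, (.step [28, 5, 31, 5, 28, 28, 1] .fail)), (1, (.step [31, 1, 28, 28, 1, 30, 30, 1] .fail)), (2, .fail), (1, (.step [28, 30, 28, 30, 5, 5, 29] (.step [5, 28, 28, 28, 5, 28, 31, 28, 31, 1, 30, 30] (.step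 [29, 28, 1, 1, 28, 28, 28, 31, 31, 29, 1, 30, 29, 1, 1, 30, 1, 31, 31, 31, 29, 29, 1, 29, 5, 30, 30, 28] (.step [] (.badAt 0)))))), (1, (.step [31, 31, 1, 31, 5, 5, 29, 5] .fail)), (2, .fail), (1, (.step [1, 31, 5, 5, 29, 5] (.step [30, 28, 30, 28, 30, 1, 5, 5, 5, 29, 28, 29, 30] (.step [28, 31, 5, 5, 29, 5, 30, 1, 30, 5, 29, 5, 1, 1, 28, 28, 1, 29, 31, 29, 31, 28] .fail)))), (1, .fail), (1, (.step [31, 29, 31, 29, 29, 1, 30, 28] .fail)), (1, (.step [1, 28, 28, 30, 5, 29, 1] .fail)), (2, .fail), (1, (.step [29, 31, 29, 29, 1, 30, 28] .fail)), (7, .fail), (1, (.step [29, 30, 30, 29, 1, 29, 5, 28] .fail)), (3, .fail), (1, (.step [29, 30, 1, 31, 1, 1, 29, 29] .fail)), (1, (.step [28, 5, 5, 28, 28, 1, 29, 5] .fail)), (1, (.step [29, 1, 31, 31, 5, 30, 5, 5] .fail)), (1, .fail), (1, (.step [1, 1, 29, 5, 28, 30, 5, 28, 1] .fail)), (2,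 .fail), (1, (.step [30, 1, 30, 29, 1, 1, 30, 1] (.step [28, 31, 29, 5, 28, 1, 30, 31, 29, 5, 31, 5, 30, 30] .fail))), (1, (.step [29, 5, 28, 31, 29, 31, 5] .fail)), (1, .fail), (1, (.step [5, 31, 29, 30, 5, 28, 28, 5, 28] .fail)), (1, (.step [29, 31, 31, 31, 29, 30, 28] .fail)), (1, (.step [5, 5, 28, 5, 30, 29, 5, 29, 1] .fail)), (3, .fail), (1, (.step [28, 30, 29, 1, 28, 28, 30, 29, 1] .fail)), (1, (.step [28, 28, 28, 30, 30, 29, 30, 5] .fail)), (1, (.step [29, 31, 31, 31, 29, 30, 28] (.step [28, 5, 5, 5, 29, 30, 1, 30, 28, 1, 30, 30] .fail))), (1, (.step [29, 29, 5, 30, 29, 29, 5] .fail)), (1, (.step [28, 1, 30, 30, 29, 31, 28, 30, 28] .fail)), (1, (.step [5, 29, 31, 28, 1, 28, 28] .fail)), (1, .fail), (1, (.step [31, 1, 1, 1, 30, 30, 29, 5] .fail)), (1, .fail), (1, (.step [1, 1, 29, 29, 29, 30, 5, 29, 5] .fail)), (8, .fail),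 (1, (.step [1, 31, 5, 29, 29, 29, 1, 29] (.step [28, 1, 1, 29, 30, 5, 5, 5, 29, 28, 29, 30] .fail))), (5, .fail), (1, (.step [30, 30] (.step [30, 1, 30, 30, 30, 30, 1, 31, 1, 29, 5, 31, 28, 28] .fail))), (1, (.step [29, 1, 29, 29, 29, 5, 5, 28] (.step [31, 29, 5, 5, 30, 30, 30, 30, 30, 29, 5, 5] (.step [31, 29, 1, 28, 30, 29, 31, 1, 1, 28, 5, 28, 28, 28, 5, 29, 1] .fail)))), (1, (.step [29, 31, 5, 31, 29, 5, 5, 5] .fail)), (1, .fail), (1, (.step [31, 1, 29, 5, 30, 30, 30, 29] (.step [30, 1, 30, 5, 31, 28, 31, 29, 29, 29, 5, 31, 31, 31, 31] (.step [29, 30, 28, 30, 29, 30, 1, 1, 28, 28, 28, 5, 29, 1, 30, 29, 29, 5, 30, 30, 29, 29, 29] .fail)))), (3, .fail), (1, (.step [29, 31, 28, 31, 29, 30, 1, 1] .fail)), (1, .fail), (1, (.step [1, 31, 31, 1, 30, 1, 29, 31] .fail)), (1, .fail), (1, (.step [29, 29, 5, 30, 29, 29, 5] (.step [28,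 30, 29, 31, 5, 31, 28, 1, 5, 29, 29, 30, 30, 5] (.step [28, 1, 30, 28, 1, 30, 5, 29, 29, 31, 29, 29, 30, 1, 28, 31, 31, 31, 1, 30, 1, 28, 1, 29, 29, 5, 28] .fail)))), (5, .fail), (1, (.step [28, 30, 1, 31, 29, 29, 31, 1] .fail)), (1, (.step [30, 28, 1, 29, 30, 29, 30, 28, 28] .fail)), (1, .fail), (1, (.step [28, 5, 28, 5, 31, 29, 29, 29, 1] .fail)), (1, (.step [30, 29, 29, 5, 30, 29, 29, 5] .fail)), (4, .fail), (1, (.step [28, 5, 5, 29, 31, 1, 1, 1, 1] .fail)), (1, (.step [29, 30, 1, 31, 31, 1, 30, 1] .fail)), (2, .fail), (1, (.step [29, 29, 29, 31, 29, 31, 1] .fail)), (1, (.step [28, 28, 5, 31, 1, 31, 31, 1, 29] (.step [28, 28, 31, 29, 1, 29, 1, 29, 29, 31, 31, 28] (.step [29, 29, 29, 1, 31, 28, 29, 1, 31, 31, 31, 1, 28, 30, 5, 5, 29, 31, 29] .fail)))), (1, .fail), (1, (.step [28, 31, 31, 31, 1, 28, 5] (.step [5, 28, 29, 28,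 30, 28, 1, 1, 31, 5, 31, 5, 30, 30] (.step [29, 29, 29, 1, 31, 28, 29, 1, 31, 31, 31, 1, 28, 30, 5, 5, 29, 31, 29] .fail)))), (1, (.step [5, 31, 31, 1, 1, 28, 5, 31, 5] (.step [29, 1, 1, 31, 29, 5, 31, 28, 5, 5, 29, 5, 31, 28, 28] (.step [5, 30, 30, 29, 30, 1, 30, 30, 5, 28, 5, 5, 5, 5, 31, 5, 5, 29, 31, 29, 29] .fail)))), (3, .fail), (1, (.step [5, 31, 31, 31, 31, 29, 30, 1] .fail)), (1, (.step [29, 30, 5, 29, 5, 5, 29] (.step [29, 1, 30, 5, 30, 30, 5, 29, 29, 31, 31, 31] .fail))), (1, (.step [31, 28, 29] .fail)), (2, .fail)])), (3074, (.badPow 23 1)), (1, (Cert.rl [(3, .fail), (1, (.step [29, 31, 1, 28, 5, 30, 1] .fail)), (3, .fail), (1, (.step [31, 1, 30, 29, 29, 31, 29, 29] (.step [29, 29, 29, 29, 5, 31, 29, 30, 1, 29, 29, 5, 31, 28, 28, 30] (.step [] .fail)))), (1, (.step [5, 29, 29, 1, 30, 1, 29] .fail)), (3, .fail), (1,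 (.step [1, 30, 30, 1, 1, 1, 30, 5, 28] .fail)), (1, .fail), (1, (.step [31, 1, 28, 28, 31, 1, 28, 28] .fail)), (6, .fail), (1, (.step [29, 30, 5, 5, 31, 28, 1, 31, 29] .fail)), (1, .fail), (1, (.step [1, 31, 5, 5, 29, 5] .fail)), (3, .fail), (1, (.step [1, 1, 30, 30, 30, 29, 5, 29, 5] .fail)), (1, (.step [1, 28, 5, 31, 5, 5, 29] .fail)), (1, .fail), (1, (.step [5, 5, 31, 1, 30, 1, 28, 1] .fail)), (1, (.step [5, 31, 31, 1, 1, 28, 5, 31, 5] .fail)), (2, .fail), (1, (.step [29, 5, 28, 1, 31, 1, 30, 29, 29] .fail)), (1, .fail), (1, (.step [1, 28, 1, 31, 1, 29, 31, 29] (.step [28, 29, 5, 31, 1, 29, 30, 28, 5, 5, 31, 29, 31, 31, 31] (.step [28, 28, 28, 5, 29, 1, 31, 31, 31, 31, 28, 28, 30, 28, 5, 5, 28, 1, 28] .fail)))), (2, .fail), (1, (.step [29, 29, 31, 28, 31, 28, 5, 29] (.step [28, 30, 29, 5, 5, 29, 30, 29, 29, 31, 28, 5] .fail))),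 (1, (.step [30, 5, 30, 1, 1, 1, 31, 5] .fail)), (1, (.step [5, 5, 31, 31, 1, 30, 5, 29] (.step [1, 31, 1, 28, 31, 31, 5, 5, 5, 5, 29, 31, 1, 29, 1] .fail))), (1, .fail), (1, (.step [29, 31, 5, 28, 28, 30, 28] (.step [28, 30, 29, 31, 5, 31, 28, 1, 5, 29, 29, 30, 30, 5] (.step [5, 28, 28, 30, 28, 31, 28, 31, 1, 29, 5, 31, 28, 28, 30, 30, 31, 30, 30, 1, 29, 30, 1, 30, 28, 31, 28] .fail)))), (1, (.step [29, 29, 29, 5, 31, 5, 5, 5, 29] .fail)), (1, .fail), (1, (.step [30, 1, 28, 28, 31, 1, 28, 28] .fail)), (1, (.step [30, 5, 29, 31, 28, 1, 28, 28] .fail)), (1, (.step [1, 31, 28, 31, 31, 5, 29, 1] (.step [5, 31, 28, 31, 5, 1, 5, 31, 29, 5, 28, 31, 31, 31] (.step [29, 30, 28, 1, 31, 5, 31, 1, 28, 30, 28, 30, 5, 5, 29, 1, 1, 29, 1, 30, 29, 28, 29, 30, 1, 28, 28, 1] .fail)))), (1, (.step [31, 29, 29, 29, 31, 29, 31, 1] .fail)), (1, (.step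 [28, 1, 1, 30, 1, 29, 5] (.step [30, 1, 29, 31, 28, 30, 30, 31, 5, 29, 1, 29, 5] (.step [29, 29, 1, 5, 1, 29, 31, 5, 29, 30, 29, 30, 30, 30, 30, 30, 30, 29, 31, 31, 31, 29, 30, 28, 31] (.step [] (.done [20, 21, 20, 12, 18, 22, 3, 7, 15, 5, 7, 1, 9, 4, 7, 0, 0, 14, 24, 2, 17, 15, 9, 6])))))), (3, .fail), (1, (.step [5, 5, 30, 5, 28, 5, 29, 29] .fail)), (3, .fail), (1, (.step [31, 1, 29, 5, 30, 30, 30, 29] .fail)), (1, (.step [31, 28, 28, 28, 31, 29, 29, 5] .fail)), (5, .fail), (1, (.step [29, 1, 31, 31, 5, 30, 5, 5] .fail)), (1, .fail), (1, (.step [31, 31] .fail)), (3, .fail), (1, (.step [29, 5, 30, 1, 29, 31, 5, 29] (.step [28, 5, 31, 31, 28, 31, 28, 31, 28, 31, 1, 29, 31, 31, 31] (.step [28, 30, 29, 29, 28, 5, 29, 5, 31, 5, 5, 5, 5, 28, 31, 28, 30, 1, 1, 1, 29, 1, 29, 1, 31, 28, 30, 28, 1] (.step [28, 1, 29, 30, 29, 1, 5, 30,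 28, 28, 1, 29, 5, 30, 30, 30, 29, 1, 30, 30, 5, 30, 28, 30, 29, 5, 1, 1, 29, 31, 30, 28, 5, 5, 1, 28, 31, 29, 31, 1, 31, 31, 5, 30, 30, 5, 31, 1, 1, 28, 31, 5, 28, 1, 1, 1] (.done [1, 1, 1, 1, 1, 1, 1, 1, 1, 1, 20, 21, 20, 12, 18, 22, 3, 7, 15, 5, 7, 1, 9, 4, 7, 0, 0, 14, 24, 2, 17, 15, 9, 6])))))), (5, .fail), (1, (.step [30, 29, 1, 1, 1, 28, 5, 30, 29] .fail)), (1, (.step [1, 30, 30, 1, 1, 1, 30, 5, 28] (.step [29, 1, 31, 29, 30, 5, 29, 1, 29, 1, 31, 31, 31] .fail))), (1, .fail), (1, (.step [28, 1, 1, 31, 29, 31, 29] .fail)), (2, .fail), (1, (.step [5, 5, 30, 5, 28, 5, 29, 29] (.step [5, 28, 5, 31, 28, 30, 1, 29, 5, 29, 29, 29, 30, 1, 28] (.step [1, 1, 28, 5, 1, 31, 29, 1, 1, 28, 5, 28, 1, 29, 30, 29, 30, 28, 28, 1, 1, 28, 28, 1, 29, 31, 29, 31, 28] .fail)))), (1, .fail), (1, (.step [30, 29, 30, 1, 31, 1, 1, 29, 29] .fail)),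 (1, .fail), (1, (.step [1, 31, 31, 5, 5, 30, 30, 29, 29] (.step [5, 28, 31, 29, 30, 30, 28, 28, 1, 1, 1, 30, 30, 29, 5] (.step [30, 1, 30, 30, 30, 1, 29, 31, 5, 28, 5, 1, 29, 5, 30, 30, 30, 29, 28, 1, 30, 5, 28, 5, 5, 5, 5] .fail)))), (1, .fail), (1, (.step [29, 29, 30, 28, 31, 29, 31, 5] .fail)), (1, .fail), (1, (.step [30, 30, 30, 30] (.step [30, 28, 5, 5, 1, 28, 31, 29, 31, 1, 31, 31, 5] (.step [28, 30, 30, 29, 5, 30, 5, 29, 28, 31, 29, 30, 30, 29, 30, 1, 31, 31, 5, 31, 5, 31, 31, 28, 1, 1, 29] .fail)))), (1, (.step [28, 1, 28, 30, 28, 30, 5, 31, 5] (.step [29, 1, 31, 31, 28, 1, 1, 1, 5, 28, 5, 30, 28, 1, 1] .fail))), (1, .fail), (1, (.step [31, 31, 29, 29, 30, 1, 28] .fail)), (1, (.step [1, 31, 5, 29, 29, 29, 1, 29] (.step [1, 28, 1, 29, 29, 29, 1, 29, 31, 31, 31] (.step [5, 31, 28, 1, 1, 1, 28, 30, 30, 29, 29, 5, 31, 28,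 28, 31, 1, 30, 30, 5, 30, 28, 30, 29, 5, 1, 1, 29, 31] .fail)))), (1, .fail), (1, (.step [1, 1, 30, 1, 30, 30, 28, 28, 5] .fail)), (1, (.step [30, 1, 30, 5, 5, 5, 31, 1] .fail)), (1, .fail), (1, (.step [29, 1, 1, 1, 28, 5, 30, 29] (.step [30, 28, 30, 1, 31, 31, 5, 5, 29, 29, 1, 30, 30] (.step [5, 5, 28, 31, 31, 29, 30, 29, 1, 29, 31, 29, 29, 1, 30, 28] .fail)))), (1, (.step [28, 1, 31, 28, 5, 28, 30, 1, 1] .fail)), (9, .fail), (1, (.step [1, 1, 1, 30, 1, 29, 5, 5] .fail)), (1, (.step [31, 30, 30] .fail)), (1, (.step [1, 29, 5, 30, 30, 30, 29] .fail)), (1, .fail), (1, (.step [28, 30, 5, 5, 29, 31, 29] (.step [1, 31, 5, 31, 28, 28, 28, 5, 5, 30, 30, 30] (.step [31, 1, 31, 5, 29, 29, 29, 1, 29, 28, 29, 30, 31, 31, 31, 31, 1, 28, 1, 1, 30, 5, 30] .fail)))), (20, .fail), (1, (.step [28, 30, 28, 30, 5, 5, 29] (.step [5, 28, 5, 31, 28,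 30, 1, 29, 5, 29, 29, 29, 30, 1, 28] (.step [31, 1, 31, 5, 29, 29, 29, 1, 29, 28, 29, 30, 31, 31, 31, 31, 1, 28, 1, 1, 30, 5, 30] .fail)))), (3, .fail), (1, (.step [1, 28, 5, 31, 5, 5, 29] (.step [5, 31, 1, 28, 5, 30, 5, 28, 5, 5, 30, 28, 31, 31] .fail))), (1, (.step [29, 1, 29, 30, 1, 29, 30, 28] .fail)), (2, .fail), (1, (.step [30, 30, 30] (.step [29, 29, 1, 30, 30, 30, 29, 29, 31, 5, 28, 28, 28, 31, 29, 29, 5] .fail))), (11, .fail), (1, (.step [29, 29, 30, 28, 31, 29, 31, 5] (.step [30, 5, 29, 31, 28, 30, 29, 29, 5, 29, 29, 30, 1, 28] (.step [29, 29, 29, 30, 5, 31, 31, 29, 29, 29, 30, 1, 28, 30, 30, 1, 28, 30, 5, 31, 31, 1, 31, 5, 30, 29] .fail)))), (1, (.step [29, 31, 29, 29, 1, 30, 28] .fail)), (1, (.step [30, 1, 28, 5, 31, 5, 5, 29] (.step [5, 29, 5, 5, 5, 5, 28, 30, 1, 31, 31, 31] .fail))), (1, (.step [30, 1, 30, 29, 29,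 31, 29, 29] (.step [28, 28, 31, 29, 1, 29, 1, 29, 29, 31, 31, 28] (.step [28, 31, 28, 30, 30, 28, 31, 5, 29, 1, 31, 5, 5, 28, 30, 5, 29, 1, 31, 29] .fail)))), (2, .fail), (1, (.step [1, 28, 1, 31, 1, 29, 31, 29] .fail)), (1, (.step [30, 1, 28, 1, 1, 30, 5] .fail)), (1, (.step [29, 31, 28, 28, 5, 30, 28] .fail)), (1, (.step [5, 5, 31, 1, 30, 1, 28, 1] .fail)), (1, .fail), (1, (.step [1, 29, 29, 31, 31, 5, 31, 5, 5] (.step [28, 30, 28, 5, 30, 1, 30, 5, 1, 31, 31, 28, 28, 1, 31] (.step [5, 31, 28, 1, 1, 1, 28, 30, 30, 29, 29, 5, 31, 28, 28, 31, 1, 30, 30, 5, 30, 28, 30, 29, 5, 1, 1, 29, 31] .fail)))), (2, .fail), (1, (.step [29, 30, 1, 31, 1, 1, 29, 29] .fail)), (3, .fail), (1, (.step [5, 30, 28, 5, 29, 5, 5, 5, 28, 5] .fail)), (1, .fail), (1, (.step [1, 30, 29, 5, 29, 5, 30, 28, 5] .fail)), (1, (.step [1, 29, 30, 30, 28, 31, 28,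 30, 28] .fail)), (1, .fail), (1, (.step [29, 1, 29, 29, 29, 5, 5, 28] .fail)), (6, .fail), (1, (.step [28, 5, 31, 5, 28, 28, 1] (.step [28, 31, 31, 30, 29, 5, 5, 29, 29, 5, 5, 29, 1] (.step [1, 30, 30, 1, 28, 1, 28, 5, 29, 5, 5, 5, 28, 5, 28, 28, 5, 28, 29, 31, 29, 30, 30, 1, 29, 31, 31, 28] .fail)))), (1, (.step [28, 1, 30, 28, 31, 5, 28, 31, 29] .fail)), (1, .fail), (1, (.step [30, 28, 1, 1, 28, 1, 31, 28] .fail)), (1, (.step [28, 31, 28, 28, 5, 29, 1, 31, 5] (.step [28, 28, 28, 28, 5, 1, 28, 30, 28, 1, 28, 31, 31] (.step [29, 29, 29, 30, 5, 31, 31, 29, 29, 29, 30, 1, 28, 30, 30, 1, 28, 30, 5, 31, 31, 1, 31, 5, 30, 29] .fail)))), (1, (.step [31, 5, 29, 31, 28, 1, 28, 28] .fail)), (1, (.step [1, 28, 31, 31, 5, 5, 5] (.step [29, 29, 29, 1, 30, 1, 1, 31, 1, 28, 30, 29, 29, 29, 5, 28] (.step [30, 5, 30, 1, 31, 31, 1, 1, 28, 28,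 28, 29, 31, 5, 30, 30, 5, 30, 28, 28, 31, 29, 1, 31, 28, 31, 31, 5] .fail)))), (1, (.step [1, 31, 31, 28, 28, 1] (.step [28, 31, 28, 5, 31, 1, 28, 1, 1, 30, 28, 31, 31, 31, 31, 31] (.step [5, 31, 28, 1, 1, 1, 28, 30, 30, 29, 29, 5, 31, 28, 28, 31, 1, 30, 30, 5, 30, 28, 30, 29, 5, 1, 1, 29, 31] .fail)))), (2, .fail), (1, (.step [31, 1, 28, 28, 1, 30, 30, 1] .fail)), (1, .fail), (1, (.step [5, 30, 29, 5, 28, 1, 1] .fail)), (1, (.step [1, 30, 1, 31, 28, 28, 30, 30, 1] .fail)), (3, .fail), (1, (.step [29, 5, 30, 29, 1, 28, 30, 1] (.step [28, 28, 30, 5, 29, 31, 29, 5, 28, 1, 31, 5, 5, 29, 5, 31] .fail))), (1, (.step [30, 29, 29, 5, 30, 29, 29, 5] .fail)), (1, (.step [1, 29, 30, 28, 5, 31, 1, 29, 5] (.step [1, 1, 29, 5, 5, 28, 5, 30, 29, 28, 28, 28, 5, 29, 1, 31] .fail))), (1, (.step [1, 30, 28, 30, 29, 1, 28] (.step [30, 1, 29, 1,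 29, 31, 5, 5, 31, 5, 29, 31, 31] .fail))), (1, .fail), (1, (.step [5, 29, 1, 28, 5, 31, 29, 31, 1] .fail)), (1, (.step [30, 5, 29, 31, 28, 1, 28, 28] (.step [29, 5, 29, 30, 29, 5, 29, 5, 5, 5, 30, 30] (.step [31, 29, 1, 28, 30, 29, 31, 1, 1, 28, 5, 28, 28, 28, 5, 29, 1] .fail)))), (1, (.step [28, 1, 1, 31, 29, 31, 29] .fail)), (2, .fail), (1, (.step [5, 5, 31, 31, 1, 30, 5, 29] .fail)), (2, .fail), (1, (.step [28, 28, 28, 1, 29, 5, 30, 28, 28] (.step [29, 30, 1, 1, 29, 31, 31, 5, 31, 5, 28, 28, 28, 5, 29, 1] .fail))), (4, .fail), (1, (.step [31, 28, 29] (.step [5, 30, 30, 5, 30, 30, 29, 1, 28, 30, 28, 30, 5, 5, 29] (.step [28, 31, 31, 29, 31, 29, 5, 29, 5, 30, 30, 30, 30, 31, 31, 1, 30, 28, 1, 1, 28, 1, 30, 28, 28] .fail)))), (9, .fail), (1, (.step [29, 31, 5, 31, 29, 5, 5, 5] .fail)), (1, (.step [5, 31, 28, 31, 31, 28, 30, 29]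 .fail)), (2, .fail), (1, (.step [5, 5, 31, 31, 1, 30, 5, 29] .fail)), (1, .fail), (1, (.step [31, 1, 30, 28, 30, 29, 1, 28] .fail)), (5, .fail), (1, (.step [29, 31, 1, 31, 5, 28, 30, 1] (.step [28, 30, 5, 29, 29, 30, 28, 5, 28, 31, 31, 28, 1] (.step [28, 31, 5, 5, 29, 5, 30, 1, 30, 5, 29, 5, 1, 1, 28, 28, 1, 29, 31, 29, 31, 28] .fail)))), (1, (.step [31, 1, 28, 28, 31, 1, 28, 28] (.step [1, 31, 5, 31, 28, 28, 28, 5, 5, 30, 30, 30] .fail))), (9, .fail), (1, (.step [30, 1, 31, 31, 5, 30, 30, 5, 29] .fail)), (8, .fail), (1, (.step [1, 31, 5, 29, 29, 29, 1, 29] (.step [1, 1, 29, 5, 5, 28, 5, 30, 29, 28, 28, 28, 5, 29, 1, 31] (.step [31, 29, 5, 30, 5, 5, 31, 29, 30, 29, 5, 5, 5, 5, 30, 28, 1, 1, 29] .fail)))), (1, (.step [30, 30, 5, 29, 29, 30, 30, 5] (.step [29, 30, 28, 30, 28, 5, 29, 29, 5, 5] (.step [28, 5, 31, 5, 31, 1, 1, 30,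 29, 29, 28, 30, 29, 29, 29, 5, 28] .fail)))), (1, .fail), (1, (.step [30, 28, 1, 1, 28, 1, 31, 28] .fail)), (3, .fail), (1, (.step [5, 31, 28, 28, 1, 28, 31, 28] .fail)), (1, (.step [5, 29, 5, 31, 5, 30, 1, 1] .fail)), (4, .fail), (1, (.step [1, 1, 31, 31, 5, 30, 5] (.step [30, 30, 29, 29, 5, 29, 30, 28, 1, 29, 29, 30, 1, 28] (.step [31, 29, 1, 28, 30, 29, 31, 1, 1, 28, 5, 28, 28, 28, 5, 29, 1] .fail)))), (1, (.step [31, 29, 1, 28, 28, 28, 31, 29] .fail)), (1, (.step [31, 29, 29, 29, 31, 29, 31, 1] (.step [31, 28, 5, 31, 1, 28, 30, 5, 31, 5, 30, 30, 30] (.step [29, 29, 1, 5, 1, 29, 31, 5, 29, 30, 29, 30, 30, 30, 30, 30, 30, 29, 31, 31, 31, 29, 30, 28, 31] .fail)))), (1, (.step [29, 31, 5, 28, 28, 30, 28] .fail)), (1, (.step [28, 1, 28, 30, 28, 30, 5, 31, 5] (.step [1, 31, 1, 28, 31, 31, 5, 5, 5, 5, 29, 31, 1, 29, 1] (.step [29,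 29, 29, 5, 5, 30, 30, 5, 31, 1, 1, 28, 5, 29, 29, 1, 1, 29, 29, 29, 5, 30, 30, 29, 29, 29] (.step [] (.done [1, 1, 1, 1, 1, 1, 1, 1, 20, 21, 20, 12, 18, 22, 3, 7, 15, 5, 7, 1, 9, 4, 7, 0, 0, 14, 24, 2, 17, 15, 9, 6])))))), (1, .fail), (1, (.step [29, 5, 5, 29, 31, 28, 31, 1] .fail)), (1, .fail), (1, (.step [1, 29, 31, 31, 31, 31, 5, 28] .fail)), (3, .fail), (1, (.step [1, 30, 28, 30, 29, 1, 28] .fail)), (3, .fail), (1, (.step [30, 29, 29, 30, 1, 28] .fail)), (1, .fail), (1, (.step [30, 5, 31, 31, 5, 29, 29, 5] (.step [30, 29, 30, 5, 29, 5, 5, 29, 1, 28, 1, 1, 30, 5] (.step [29, 5, 5, 28, 5, 5, 5, 28, 5, 5, 5, 28, 5, 31, 31, 31, 29, 31, 29, 30, 30, 1, 29, 31, 31, 28] (.step [28, 1, 29, 30, 29, 1, 5, 30, 28, 28, 1, 29, 5, 30, 30, 30, 29, 1, 30, 30, 5, 30, 28, 30, 29, 5, 1, 1, 29, 31, 30, 28, 5, 5, 1, 28, 31, 29, 31, 1, 31, 31, 5,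 30, 30, 5, 31, 1, 1, 28, 31, 5, 28, 1, 1, 1] (.done [1, 1, 20, 21, 20, 12, 18, 22, 3, 7, 15, 5, 7, 1, 9, 4, 7, 0, 0, 14, 24, 2, 17, 15, 9, 6])))))), (1, .fail), (1, (.step [5, 30, 30, 30, 30, 28, 30, 29] .fail)), (1, (.step [29, 1, 28, 28, 28, 31, 29] .fail)), (1, (.step [5, 28, 1, 29, 29, 29] .fail)), (1, .fail), (1, (.step [5, 31, 29, 31, 29, 31, 1, 29] .fail)), (2, .fail), (1, (.step [1, 28, 28, 31, 1, 28, 28] .fail)), (3, .fail), (1, (.step [31, 28, 30, 29, 29, 29, 5, 28] (.step [5, 28, 30, 29, 30, 5, 30, 28, 31, 5, 31, 29] (.step [28, 5, 29, 29, 1, 29, 1, 29, 1, 28, 29, 30, 31, 31, 31, 31, 1, 28, 1, 1, 30, 5, 30] (.step [28, 1, 29, 30, 29, 1, 5, 30, 28, 28, 1, 29, 5, 30, 30, 30, 29, 1, 30, 30, 5, 30, 28, 30, 29, 5, 1, 1, 29, 31, 30, 28, 5, 5, 1, 28, 31, 29, 31, 1, 31, 31, 5, 30, 30, 5, 31, 1, 1, 28, 31, 5, 28, 1, 1, 1] (.done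 [1, 1, 1, 20, 21, 20, 12, 18, 22, 3, 7, 15, 5, 7, 1, 9, 4, 7, 0, 0, 14, 24, 2, 17, 15, 9, 6])))))), (1, .fail), (1, (.step [30, 5, 30, 30, 28, 28, 5, 31, 5] (.step [30, 28, 30, 1, 31, 31, 5, 5, 29, 29, 1, 30, 30] (.step [28, 28, 28, 5, 29, 1, 31, 31, 31, 31, 28, 28, 30, 28, 5, 5, 28, 1, 28] (.step [] (.done [1, 20, 21, 20, 12, 18, 22, 3, 7, 15, 5, 7, 1, 9, 4, 7, 0, 0, 14, 24, 2, 17, 15, 9, 6])))))), (1, (.step [28, 30, 5, 28, 1, 31, 29, 1] (.step [1, 31, 31, 29, 5, 28, 5, 5, 29, 1, 31, 28, 30, 30] (.step [1, 1, 28, 5, 1, 31, 29, 1, 1, 28, 5, 28, 1, 29, 30, 29, 30, 28, 28, 1, 1, 28, 28, 1, 29, 31, 29, 31, 28] (.step [28, 1, 29, 30, 29, 1, 5, 30, 28, 28, 1, 29, 5, 30, 30, 30, 29, 1, 30, 30, 5, 30, 28, 30, 29, 5, 1, 1, 29, 31, 30, 28, 5, 5, 1, 28, 31, 29, 31, 1, 31, 31, 5, 30, 30, 5, 31, 1, 1, 28, 31, 5, 28, 1, 1, 1] (.done [1, 1,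 1, 1, 1, 20, 21, 20, 12, 18, 22, 3, 7, 15, 5, 7, 1, 9, 4, 7, 0, 0, 14, 24, 2, 17, 15, 9, 6])))))), (1, (.step [28, 31, 5, 29, 5, 28, 31, 1] (.step [1, 28, 28, 30, 1, 30, 28, 30, 1, 29] (.step [29, 29, 31, 30, 29, 30, 29, 30, 5, 29, 31, 5, 31, 31, 5, 29, 1, 1, 1, 1, 31, 28] (.step [] (.done [1, 1, 1, 1, 1, 1, 1, 20, 21, 20, 12, 18, 22, 3, 7, 15, 5, 7, 1, 9, 4, 7, 0, 0, 14, 24, 2, 17, 15, 9, 6])))))), (2, .fail), (1, (.step [30, 30, 30, 30, 30] .fail)), (3, .fail), (1, (.step [30, 1, 28, 28, 31, 1, 28, 28] (.step [30, 28, 28, 28, 31, 29, 29, 5, 1, 28, 1, 1, 30, 5] (.step [28, 30, 29, 29, 28, 5, 29, 5, 31, 5, 5, 5, 5, 28, 31, 28, 30, 1, 1, 1, 29, 1, 29, 1, 31, 28, 30, 28, 1] .fail)))), (4, .fail), (1, (.step [1, 31, 31, 31, 1, 1, 30, 29, 29] (.step [5, 31, 29, 5, 5, 5, 31, 28, 1, 31, 31, 28, 28, 1] (.step [29, 28, 1, 1, 28, 28, 28,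 31, 31, 29, 1, 30, 29, 1, 1, 30, 1, 31, 31, 31, 29, 29, 1, 29, 5, 30, 30, 28] .fail)))), (1, (.step [5, 28, 30, 30, 29, 1, 28, 5] .fail)), (1, (.step [29, 30, 28, 31, 29, 31, 5, 28] .fail)), (1, (.step [5, 29, 29, 30, 5, 5, 29, 5] .fail)), (1, .fail), (1, (.step [1, 30, 28, 30, 29, 1, 28] (.step [5, 30, 29, 30, 30, 28, 5, 30, 1, 30, 28, 1, 31, 31, 31, 31] (.step [29, 5, 5, 31, 5, 31, 1, 31, 1, 28, 31, 1, 29, 5, 5, 5, 28, 28, 5, 31, 28, 31, 1, 28, 28, 28, 28] .fail)))), (1, .fail), (1, (.step [1, 31, 1, 30, 30, 5, 5] (.step [1, 31, 31, 29, 5, 28, 5, 5, 29, 1, 31, 28, 30, 30] (.step [31, 1, 1, 1, 1, 29, 1, 31, 5, 29, 29, 29, 5, 30, 29, 29, 5, 31] .fail)))), (1, (.step [28, 1, 31, 28, 5, 28, 30, 1, 1] .fail)), (2, .fail), (1, (.step [28, 1, 29, 5, 29, 5, 31, 31, 5] (.step [28, 5, 5, 5, 29, 30, 1, 30, 28, 1, 30, 30] .fail))), (3,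 .fail), (1, (.step [28, 1, 1, 28, 1, 31, 28] (.step [29, 1, 31, 31, 28, 1, 1, 1, 5, 28, 5, 30, 28, 1, 1] .fail))), (2, .fail), (1, (.step [1, 1, 30, 30, 30, 29, 5, 29, 5] .fail)), (2, .fail), (1, (.step [30, 1, 30, 5, 5, 5, 31, 1] (.step [5, 31, 28, 5, 31, 28, 31, 31, 29, 5, 30, 30] (.step [5, 31, 1, 31, 30, 30, 1, 31, 29, 5, 5, 30, 30, 31, 31, 31, 1, 30, 1, 31, 29, 5, 30, 1, 29, 30] .fail)))), (9, .fail), (1, (.step [31, 1, 30, 29, 29, 31, 29, 29] .fail)), (1, .fail), (1, (.step [30, 29, 29, 30, 1, 28] .fail)), (1, (.step [28, 30, 29, 29, 29, 5, 28] (.step [28, 1, 30, 30, 1, 30, 5, 5, 5, 30, 30, 30] (.step [] .fail)))), (1, (.step [29, 31, 28, 31, 29, 30, 1, 1] (.step [29, 30, 30, 28, 5, 31, 31, 28, 30, 28] (.step [29, 29, 31, 30, 29, 30, 29, 30, 5, 29, 31, 5, 31, 31, 5, 29, 1, 1, 1, 1, 31, 28] .fail)))), (1, (.step [5, 28, 5,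 30, 1, 28, 31, 1] (.step [28, 30, 30, 29, 29, 29, 5, 5, 1, 30, 28, 30, 29, 1, 28] .fail))), (1, .fail), (1, (.step [28, 31, 1, 29, 5, 5, 5, 28] .fail)), (1, .fail), (1, (.step [5, 28, 31, 5, 28, 1, 28, 28, 5] .fail)), (5, .fail), (1, (.step [1, 1, 1, 30, 30, 29, 5] .fail)), (1, (.step [29, 31, 31, 31, 28, 5, 30, 28] (.step [29, 31, 29, 5, 31, 31, 29, 1, 31, 28, 30, 30, 30] .fail))), (1, (.step [28, 31, 29, 29, 31, 29, 31, 31, 28] .fail)), (1, (.step [1, 1, 30, 30, 30, 29, 5, 29, 5] (.step [5, 31, 5, 30, 28, 31, 31, 29, 5, 28, 31, 31] (.step [1, 1, 28, 30, 29, 29, 1, 31, 28, 1, 30, 28, 31, 31, 30, 28, 5, 31, 29, 31, 5, 31, 29, 29, 5] .fail)))), (2, .fail), (1, (.step [30, 30, 30, 29, 5, 31, 28, 28] .fail)), (1, (.step [28, 1, 31, 1, 29, 29, 5, 5] (.step [30, 28, 5, 30, 29, 30, 28, 30, 28, 1, 29] (.step [1, 29, 30, 5, 30, 28, 31,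 29, 1, 1, 28, 28, 28, 30, 28, 28, 31, 5, 30, 1, 1, 28, 28, 1, 29, 31, 29, 31, 28] .fail)))), (1, (.step [1, 28, 5, 31, 5, 5, 29] .fail)), (1, .fail), (1, (.step [1, 1, 29, 5, 28, 30, 5, 28, 1] (.step [30, 1, 30, 5, 31, 28, 31, 29, 29, 29, 5, 31, 31, 31, 31] (.step [5, 28, 28, 30, 28, 31, 28, 31, 1, 29, 5, 31, 28, 28, 30, 30, 31, 30, 30, 1, 29, 30, 1, 30, 28, 31, 28] .fail)))), (4, .fail), (1, (.step [31, 1, 30, 29, 29, 31, 29, 29] .fail)), (1, (.step [28, 1, 28, 30, 28, 30, 5, 31, 5] .fail)), (11, .fail), (1, (.step [28, 28, 31, 1, 30, 1, 30, 29] (.step [31, 31, 29, 1, 30, 30, 30, 30, 28, 5, 30, 30, 30] (.step [29, 29, 29, 30, 5, 31, 31, 29, 29, 29, 30, 1, 28, 30, 30, 1, 28, 30, 5, 31, 31, 1, 31, 5, 30, 29] .fail)))), (1, .fail), (1, (.step [5, 29, 1, 28, 5, 31, 29, 31, 1] .fail)), (1, .fail), (1, (.step [5, 5, 5, 29, 31, 29,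 30, 30, 28] (.step [1, 28, 30, 30, 28, 28, 30, 5, 28, 1, 28, 28, 31, 1, 28, 28] (.step [] .fail)))), (2, .fail), (1, (.step [29, 5, 29, 30, 30, 29, 5, 28] .fail)), (4, .fail), (1, (.step [1, 30, 30, 1, 1, 1, 30, 5, 28] (.step [28, 1, 5, 31, 29, 1, 31, 28, 31, 31, 5] (.step [29, 30, 28, 30, 29, 30, 1, 1, 28, 28, 28, 5, 29, 1, 30, 29, 29, 5, 30, 30, 29, 29, 29] .fail)))), (3, .fail), (1, (.step [30, 29, 29, 30, 1, 28] (.step [28, 31, 29, 1, 28, 1, 28, 1, 30, 1, 30, 30, 30] .fail))), (2, .fail), (1, (.step [1, 29, 1, 1, 28, 30, 28, 1, 29] .fail)), (1, (.step [29, 1, 29, 1, 30, 1, 28, 28] .fail)), (1, (.step [5, 31, 1, 31, 1, 31, 29, 5, 5] .fail)), (8, .fail), (1, (.step [29, 5, 31, 29, 31, 29, 31, 1] .fail)), (2, .fail), (1, (.step [1, 30, 5, 28, 1, 29, 29, 30, 29] .fail)), (1, .fail), (1, (.step [31, 29, 5, 30, 1, 30, 30, 28, 1]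 (.step [31, 28, 30, 28, 31, 31, 1, 29, 5, 29, 1, 28, 1, 1, 30, 5] .fail))), (5, .fail), (1, (.step [31, 31, 31, 31] .fail)), (1, (.step [31, 31, 31, 31] (.step [1, 29, 31, 5, 5, 31, 5, 5, 5, 5, 5, 30, 5, 5, 29, 29] (.step [1, 30, 30, 1, 28, 1, 28, 5, 29, 5, 5, 5, 28, 5, 28, 28, 5, 28, 29, 31, 29, 30, 30, 1, 29, 31, 31, 28] .fail)))), (2, .fail), (1, (.step [31, 28, 28, 28, 31, 29, 29, 5] .fail)), (1, (.step [29, 5, 31, 1, 30, 1, 29, 31, 1] (.step [29, 5, 29, 31, 1, 30, 1, 31, 1, 28, 31, 29, 29, 30, 1, 28] (.step [5, 5, 28, 31, 31, 29, 30, 29, 1, 29, 31, 29, 29, 1, 30, 28] .fail)))), (1, .fail), (1, (.step [5, 31, 1, 31, 31, 5, 30, 1] .fail)), (1, (.step [1, 28, 28, 1, 30, 30, 1] .fail)), (1, .fail), (1, (.step [30, 5, 30, 1, 29, 5, 31, 1, 1] .fail)), (9, .fail), (1, (.step [1, 30, 29, 5, 29, 5, 30, 28, 5] (.step [1, 1, 1, 28,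 5, 28, 1, 28, 31, 5, 5, 28, 29, 30] (.step [29, 28, 1, 1, 28, 28, 28, 31, 31, 29, 1, 30, 29, 1, 1, 30, 1, 31, 31, 31, 29, 29, 1, 29, 5, 30, 30, 28] .fail)))), (5, .fail), (1, (.step [1, 29, 5, 30, 30, 30, 29] .fail)), (1, (.step [5, 5, 31, 28, 30, 29, 30, 28] (.step [1, 31, 1, 28, 28, 28, 1, 29, 30, 29, 29, 29, 30, 1, 28, 31] (.step [5, 5, 5, 29, 1, 30, 29, 5, 5, 30, 1, 31, 31, 1, 30, 30, 5, 30, 28, 30, 29, 5, 1, 1, 29, 31] .fail)))), (1, (.step [1, 29, 1, 1, 28, 30, 28, 1, 29] .fail)), (4, .fail), (1, (.step [31, 5, 29, 29, 1, 30, 1, 29] (.step [1, 1, 1, 28, 5, 28, 1, 28, 31, 5, 5, 28, 29, 30] (.step [28, 28, 28, 5, 29, 1, 31, 31, 31, 31, 28, 28, 30, 28, 5, 5, 28, 1, 28] .fail)))), (1, (.step [29, 1, 29, 29, 29, 5, 5, 28] .fail)), (1, .fail), (1, (.step [5, 31, 31, 5, 29, 1, 1, 30, 5] (.step [31, 28, 1, 1, 31, 29, 31, 29, 31,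 31, 30] (.step [1, 28, 5, 30, 5, 5, 30, 28, 1, 1, 1, 1, 30, 30, 29, 5, 1, 28, 30, 5, 31, 31, 1, 31, 5, 30, 29] .fail)))), (1, .fail), (1, (.step [5, 31, 28, 31, 31, 28, 30, 29] .fail)), (1, (.step [29, 5, 30, 5, 5, 31, 29, 30, 29] .fail)), (6, .fail), (1, (.step [28, 1, 1, 28, 1, 31, 28] (.step [28, 30, 28, 5, 30, 1, 30, 5, 1, 31, 31, 28, 28, 1, 31] (.step [1, 29, 30, 5, 30, 28, 31, 29, 1, 1, 28, 28, 28, 30, 28, 28, 31, 5, 30, 1, 1, 28, 28, 1, 29, 31, 29, 31, 28] .fail)))), (1, .fail), (1, (.step [31, 31, 31, 31] .fail)), (1, (.step [5, 28, 1, 30, 28, 30, 5, 5, 5] .fail)), (1, .fail), (1, (.step [29, 5, 5, 30, 5, 28, 5, 5] .fail)), (1, (.step [30, 1, 31, 31, 5, 30, 30, 5, 29] (.step [5, 29, 5, 5, 5, 5, 28, 30, 1, 31, 31, 31] (.step [5, 5, 29, 5, 29, 30, 28, 5, 29, 1, 31, 31, 28, 28, 1, 30, 28, 1, 30, 5, 28, 5, 5, 5, 5] .fail)))),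 (1, .fail), (1, (.step [31, 5, 29, 31, 28, 1, 28, 28] .fail)), (3, .fail), (1, (.step [28, 1, 31, 28, 5, 28, 30, 1, 1] .fail)), (2, .fail), (1, (.step [30, 30, 30] (.step [29, 29, 29, 1, 30, 1, 1, 31, 1, 28, 30, 29, 29, 29, 5, 28] (.step [29, 1, 30, 30, 30, 5, 5, 31, 5, 5, 5, 29, 31, 31, 5, 31, 1, 28, 30] .fail)))), (1, (.step [30, 1, 31, 5, 5, 29, 5] (.step [1, 1, 29, 5, 5, 28, 5, 30, 29, 28, 28, 28, 5, 29, 1, 31] (.step [5, 5, 31, 31, 31, 31, 29, 5, 29, 5, 28, 31, 29, 31, 5, 1, 30, 30, 29, 30, 5, 28, 30, 1, 5, 29] .fail)))), (1, (.step [1, 31, 31, 1, 30, 1, 29] (.step [28, 1, 1, 29, 30, 5, 5, 5, 29, 28, 29, 30] (.step [1, 1, 28, 30, 29, 29, 1, 31, 28, 1, 30, 28, 31, 31, 30, 28, 5, 31, 29, 31, 5, 31, 29, 29, 5] .fail)))), (3, .fail), (1, (.step [28, 1, 31, 1, 29, 29, 5, 5] .fail)), (1, .fail), (1, (.step [5, 28, 5, 30, 1, 28,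 31, 1] .fail)), (1, (.step [30, 28, 30, 5, 5, 29, 31, 29] .fail)), (1, .fail), (1, (.step [29, 31, 1, 31, 31, 1, 30, 28] (.step [29, 30, 30, 28, 5, 31, 31, 28, 30, 28] .fail))), (3, .fail), (1, (.step [5, 29, 1, 28, 5, 31, 29, 31, 1] .fail)), (1, .fail), (1, (.step [5, 29, 29, 1, 30, 1, 29] (.step [31, 28, 1, 1, 31, 29, 31, 29, 31, 31, 30] (.step [29, 28, 1, 1, 28, 28, 28, 31, 31, 29, 1, 30, 29, 1, 1, 30, 1, 31, 31, 31, 29, 29, 1, 29, 5, 30, 30, 28] .fail)))), (1, .fail), (1, (.step [1, 31, 31, 1, 30, 1, 29] .fail)), (2, .fail), (1, (.step [29, 29, 30, 1, 28] (.step [29, 1, 31, 31, 28, 1, 1, 1, 5, 28, 5, 30, 28, 1, 1] (.step [29, 5, 5, 28, 5, 5, 5, 28, 5, 5, 5, 28, 5, 31, 31, 31, 29, 31, 29, 30, 30, 1, 29, 31, 31, 28] .fail)))), (1, (.step [28, 5, 29, 1, 29, 5, 29, 5] (.step [31, 5, 5, 30, 30, 29, 5, 5, 28, 28, 5, 31, 31, 31]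 (.step [28, 31, 5, 5, 29, 5, 30, 1, 30, 5, 29, 5, 1, 1, 28, 28, 1, 29, 31, 29, 31, 28] .fail)))), (1, .fail), (1, (.step [30, 1, 28, 31, 1, 29, 5, 5] .fail)), (1, (.step [5, 5, 31, 1, 30, 1, 28, 1] .fail)), (5, .fail), (1, (.step [29, 31, 5, 31, 29, 5, 5, 5] .fail)), (1, .fail), (1, (.step [31, 1, 30, 28, 30, 29, 1, 28] .fail)), (1, (.step [29, 5, 30, 5, 5, 31, 29, 30, 29] .fail)), (3, .fail), (1, (.step [29, 31, 1, 30, 28, 5, 5, 31, 29] .fail)), (2, .fail), (1, (.step [5, 29, 29, 30, 5, 5, 29, 5] .fail)), (4, .fail), (1, (.step [28, 5, 5, 28, 28, 1, 29, 5] .fail)), (2, .fail), (1, (.step [5, 31, 1, 29, 5, 30, 28] .fail)), (1, (.step [30, 28, 28, 30, 28, 28, 31, 5] .fail)), (1, (.step [5, 29, 1, 30, 5, 29, 1, 1] .fail)), (1, (.step [31, 5, 30, 30, 28, 28, 5, 31, 5] .fail)), (4, .fail), (1, (.step [28, 30, 29, 29, 29, 5, 28] .fail)),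 (1, (.step [1, 31, 29, 31, 29, 30, 30, 1] .fail)), (2, .fail), (1, (.step [29, 31, 28, 30, 30, 30, 28] .fail)), (4, .fail), (1, (.step [31, 5, 29, 31, 28, 1, 28, 28] (.step [5, 31, 31, 1, 1, 30, 5, 5, 5, 5, 30, 30] (.step [29, 1, 30, 30, 30, 5, 5, 31, 5, 5, 5, 29, 31, 31, 5, 31, 1, 28, 30] .fail)))), (1, (.step [1, 29, 31, 31, 31, 31, 5, 28] (.step [31, 5, 30, 5, 29, 31, 29, 31, 28, 31, 5, 30, 30, 30] (.step [5, 28, 28, 30, 5, 31, 5, 5, 28, 5, 28, 1, 30, 1, 30, 1, 29, 29, 31] .fail)))), (4, .fail), (1, (.step [31, 1, 28, 28, 1, 30, 30, 1] (.step [5, 29, 5, 5, 5, 5, 28, 30, 1, 31, 31, 31] (.step [1, 29, 30, 5, 30, 28, 31, 29, 1, 1, 28, 28, 28, 30, 28, 28, 31, 5, 30, 1, 1, 28, 28, 1, 29, 31, 29, 31, 28] (.step [] (.done [1, 1, 1, 1, 1, 1, 20, 21, 20, 12, 18, 22, 3, 7, 15, 5, 7, 1, 9, 4, 7, 0, 0, 14, 24, 2, 17, 15, 9, 6])))))), (1,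 (.step [1, 28, 30, 30, 30, 30, 1, 1] (.step [1, 1, 1, 28, 30, 1, 30, 28, 5, 28, 5, 30, 28, 1, 1] (.step [31, 28, 30, 29, 29, 30, 1, 29, 1, 28, 5, 29, 5, 28, 30, 28, 30, 5, 5, 29] .fail)))), (1, .fail), (1, (.step [30, 5, 29, 31, 28, 1, 28, 28] .fail)), (6, .fail), (1, (.step [30, 5, 29, 29, 30, 30, 5] (.step [28, 30, 28, 5, 30, 1, 30, 5, 1, 31, 31, 28, 28, 1, 31] (.step [31, 1, 1, 1, 1, 29, 1, 31, 5, 29, 29, 29, 5, 30, 29, 29, 5, 31] .fail)))), (1, (.step [1, 29, 30, 30, 28, 31, 28, 30, 28] (.step [30, 28, 30, 1, 31, 31, 5, 5, 29, 29, 1, 30, 30] (.step [28, 28, 28, 5, 29, 1, 31, 31, 31, 31, 28, 28, 30, 28, 5, 5, 28, 1, 28] (.step [1, 5, 30, 28, 1, 1, 31, 29, 31, 29, 1, 31, 31, 28, 28, 1, 30, 31, 31, 5, 29, 1, 1, 1, 1, 31, 28] (.done [1, 1, 1, 1, 1, 1, 1, 1, 1, 20, 21, 20, 12, 18, 22, 3, 7, 15, 5, 7, 1, 9, 4, 7, 0, 0, 14, 24, 2,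 17, 15, 9, 6])))))), (4, .fail), (1, (.step [1, 28, 5, 31, 28, 1, 31, 28] (.step [30, 29, 30, 5, 29, 5, 5, 29, 1, 28, 1, 1, 30, 5] (.step [29, 29, 5, 31, 31, 1, 30, 29, 5, 1, 31, 31, 1, 30, 1, 29, 31, 31, 31, 31, 1, 28, 1, 1, 30, 5, 30] .fail)))), (8, .fail), (1, (.step [5, 5, 5, 29, 31, 29, 30, 30, 28] (.step [29, 1, 1, 31, 29, 5, 31, 28, 5, 5, 29, 5, 31, 28, 28] .fail))), (1, .fail), (1, (.step [30, 29, 29, 30, 1, 28] (.step [28, 28, 28, 28, 5, 1, 28, 30, 28, 1, 28, 31, 31] (.step [5, 30, 30, 29, 30, 1, 30, 30, 5, 28, 5, 5, 5, 5, 31, 5, 5, 29, 31, 29, 29] .fail)))), (1, (.step [29, 1, 31, 5, 5, 5, 31, 31, 5] .fail)), (1, (.step [5, 5, 29, 30, 29, 5, 29, 29] .fail)), (1, (.step [29, 29, 31, 28, 31, 28, 5, 29] .fail)), (3, .fail), (1, (.step [5, 30, 29, 5, 28, 1, 1] .fail)), (11, .fail), (1, (.step [29, 31, 29, 29, 1, 30, 28]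 (.step [28, 30, 29, 5, 5, 29, 30, 29, 29, 31, 28, 5] (.step [29, 29, 31, 31, 28, 30, 29, 1, 1, 28, 31, 31, 5, 5, 5, 1, 1, 29, 1, 29, 1, 31, 28, 30, 28, 1] .fail)))), (3, .fail), (1, (.step [29, 30, 29, 30, 29, 1, 31, 29, 29] .fail)), (7, .fail), (1, (.step [30, 30, 30, 30, 30] (.step [28, 28, 30, 29, 30, 29, 30, 28, 29, 5, 29, 1, 31, 31, 31, 31] .fail))), (1, (.step [5, 31, 31, 31, 31, 29, 30, 1] (.step [28, 28, 30, 29, 30, 29, 30, 28, 29, 5, 29, 1, 31, 31, 31, 31] (.step [31, 28, 30, 29, 29, 30, 1, 29, 1, 28, 5, 29, 5, 28, 30, 28, 30, 5, 5, 29] .fail)))), (2, .fail), (1, (.step [30, 29, 1, 1, 1, 28, 5, 30, 29] .fail)), (1, (.step [30, 29, 29, 29, 31, 29, 31, 1] .fail)), (2, .fail), (1, (.step [29, 1, 29, 1, 30, 1, 28, 28] (.step [1, 1, 28, 30, 5, 31, 5, 30, 1, 29, 5, 31, 28, 28] .fail))), (1, .fail), (1, (.step [29, 1, 1, 1,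 28, 5, 30, 29] .fail)), (1, .fail), (1, (.step [30, 28, 28, 28, 5, 29, 1] (.step [29, 29, 29, 1, 30, 1, 1, 31, 1, 28, 30, 29, 29, 29, 5, 28] (.step [30, 30, 1, 1, 29, 5, 30, 29, 1, 31, 1, 5, 5, 31, 1, 31, 5, 28, 5, 29] .fail)))), (1, (.step [1, 1, 29, 5, 28, 30, 5, 28, 1] .fail)), (1, (.step [31, 31, 5, 29, 29, 30, 30, 5] .fail)), (1, .fail), (1, (.step [29, 31, 29, 29, 1, 30, 28] (.step [28, 31, 29, 29, 5, 5, 5, 29, 28, 28, 28, 1, 1, 30, 30] (.step [1, 29, 29, 1, 1, 28, 31, 31, 1, 1, 29, 1, 31, 31, 28, 1, 1, 1, 28, 1, 30, 5, 28, 5, 5, 5, 5] .fail)))), (1, (.step [28, 1, 29, 29, 5, 28, 30, 1] .fail)), (4, .fail), (1, (.step [31, 29, 31, 28, 30, 30, 30, 28] (.step [1, 28, 1, 28, 31, 31, 31, 5, 5, 31, 31] (.step [30, 1, 30, 30, 30, 1, 29, 31, 5, 28, 5, 1, 29, 5, 30, 30, 30, 29, 28, 1, 30, 5, 28, 5, 5, 5, 5] .fail)))), (1, (.step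 [1, 28, 28, 1, 30, 30, 1] (.step [30, 29, 30, 30, 28, 1, 30, 29, 5, 5, 28, 31, 31] (.step [5, 31, 1, 31, 30, 30, 1, 31, 29, 5, 5, 30, 30, 31, 31, 31, 1, 30, 1, 31, 29, 5, 30, 1, 29, 30] .fail)))), (2, .fail), (1, (.step [29, 30, 29, 5, 29, 29, 30, 1] .fail)), (1, (.step [29, 30, 30, 29, 1, 29, 5, 28] .fail)), (1, (.step [29, 1, 1, 1, 28, 5, 30, 29] (.step [1, 1, 29, 5, 5, 28, 5, 30, 29, 28, 28, 28, 5, 29, 1, 31] (.step [31, 29, 1, 29, 31, 28, 5, 31, 28, 28, 5, 1, 31, 31, 28, 28, 1, 5, 29, 30, 1, 30, 28, 31, 29] .fail)))), (2, .fail), (1, (.step [30, 28, 30, 29, 29, 29, 5, 28] .fail)), (1, .fail), (1, (.step [29, 1, 30, 30, 29, 31, 5, 30, 29] (.step [1, 1, 30, 1, 31, 1, 31, 31, 29, 1, 28, 31, 31] .fail))), (1, .fail), (1, (.step [29, 31, 28, 30, 30, 30, 28] (.step [5, 28, 28, 28, 5, 28, 31, 28, 31, 1, 30, 30] (.step [1, 28, 31,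 28, 31, 29, 5, 29, 1, 28, 1, 30, 28, 30, 30, 28, 1, 31, 31, 28, 30, 30, 28, 28, 1, 1, 29, 5] .fail)))), (1, (.step [1, 29, 30, 28, 5, 31, 1, 29, 5] .fail)), (3, .fail), (1, (.step [1, 31, 31, 31, 1, 1, 30, 29, 29] (.step [5, 29, 5, 5, 5, 5, 28, 30, 1, 31, 31, 31] (.step [] .fail)))), (1, (.step [5, 29, 29, 1, 30, 1, 29] (.step [29, 30, 5, 5, 5, 5, 28, 1, 30, 30] (.step [1, 31, 1, 31, 28, 31, 5, 29, 30, 1, 29, 1, 31, 31, 31, 31, 31, 31, 1, 29, 31, 31, 31, 31, 5, 28, 30, 30] .fail)))), (1, (.step [5, 30, 29, 1, 29, 1, 28, 28, 28] .fail)), (1, (.step [1, 1, 30, 30, 29, 5, 30, 5] .fail)), (4, .fail), (1, (.step [29, 31, 1, 30, 28, 5, 5, 31, 29] (.step [28, 5, 5, 1, 29, 31, 29, 31, 28, 31, 1, 29, 31, 31, 30] (.step [1, 29, 1, 30, 5, 30, 1, 5, 28, 5, 29, 5, 5, 31, 1, 30, 1, 28, 1] .fail)))), (1, (.step [28, 28, 30, 5, 28, 31, 28, 31,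 28] (.step [30, 28, 28, 1, 1, 31, 1, 1, 1, 29, 5, 31, 28, 28] .fail))), (1, (.step [31, 31, 29, 29, 30, 1, 28] .fail)), (1, (.step [5, 5, 30, 5, 28, 5, 29, 29] .fail)), (6, .fail), (1, (.step [29, 1, 1, 28, 28, 28, 5, 28] (.step [29, 31, 31, 28, 28, 30, 1, 1, 30, 28, 30, 5, 30, 30] (.step [28, 28, 28, 5, 29, 1, 31, 31, 31, 31, 28, 28, 30, 28, 5, 5, 28, 1, 28] .fail)))), (2, .fail), (1, (.step [5, 5, 31, 31, 1, 30, 5, 29] .fail)), (1, (.step [31, 1, 1, 28, 5, 30, 29, 5] .fail)), (5, .fail), (1, (.step [5, 30, 28, 30, 28, 28, 28] .fail)), (2, .fail), (1, (.step [29, 29, 5, 29, 30, 28, 1] .fail)), (1, (.step [28, 5, 29, 5, 30, 5, 30, 5] .fail)), (1, .fail), (1, (.step [31, 1, 30, 28, 30, 29, 1, 28] .fail)), (1, (.step [30, 5, 30, 1, 1, 1, 31, 5] (.step [5, 28, 28, 28, 5, 28, 31, 28, 31, 1, 30, 30] .fail))), (3, .fail), (1, (.step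 [5, 31, 31, 5, 29, 29, 5] (.step [30, 28, 29, 1, 28, 1, 31, 1, 29, 31, 29, 30, 30, 30] .fail))), (2, .fail), (1, (.step [30, 1, 31, 31, 5, 30, 30, 5, 29] .fail)), (1, (.step [28, 28, 1, 1, 31, 1, 1, 1] (.step [31, 31, 31, 28, 30, 28, 5, 30, 5, 29, 5, 31, 31, 30] (.step [5, 30, 30, 29, 30, 1, 30, 30, 5, 28, 5, 5, 5, 5, 31, 5, 5, 29, 31, 29, 29] .fail)))), (2, .fail), (1, (.step [29, 5, 30, 5, 5, 31, 29, 30, 29] (.step [29, 5, 29, 30, 29, 5, 29, 5, 5, 5, 30, 30] (.step [5, 31, 28, 1, 1, 1, 28, 30, 30, 29, 29, 5, 31, 28, 28, 31, 1, 30, 30, 5, 30, 28, 30, 29, 5, 1, 1, 29, 31] .fail)))), (3, .fail), (1, (.step [28, 30, 5, 5, 30, 5, 5, 29] .fail)), (1, .fail), (1, (.step [1, 1, 31, 1, 30, 30, 5, 28] (.step [5, 31, 31, 1, 1, 30, 5, 5, 5, 5, 30, 30] .fail))), (1, .fail), (1, (.step [28, 30, 28, 31, 29, 5, 28, 28] (.step [1, 29, 31, 5,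 5, 31, 5, 5, 5, 5, 5, 30, 5, 5, 29, 29] (.step [30, 1, 30, 30, 30, 1, 29, 31, 5, 28, 5, 1, 29, 5, 30, 30, 30, 29, 28, 1, 30, 5, 28, 5, 5, 5, 5] .fail)))), (1, (.step [1, 29, 29, 31, 31, 5, 31, 5, 5] (.step [5, 31, 28, 31, 5, 1, 5, 31, 29, 5, 28, 31, 31, 31] (.step [31, 29, 1, 29, 31, 28, 5, 31, 28, 28, 5, 1, 31, 31, 28, 28, 1, 5, 29, 30, 1, 30, 28, 31, 29] .fail)))), (9, .fail), (1, (.step [1, 28, 5, 31, 5, 5, 29] (.step [31, 28, 1, 1, 31, 29, 31, 29, 31, 31, 30] .fail))), (1, (.step [30, 5, 30, 30, 28, 28, 5, 31, 5] .fail)), (5, .fail), (1, (.step [1, 31, 5, 28, 30, 28, 30, 30, 29] .fail)), (1, (.step [28, 30, 28, 30, 5, 5, 29] (.step [31, 31, 29, 1, 30, 30, 30, 30, 28, 5, 30, 30, 30] (.step [1, 28, 31, 28, 31, 29, 5, 29, 1, 28, 1, 30, 28, 30, 30, 28, 1, 31, 31, 28, 30, 30, 28, 28, 1, 1, 29, 5] .fail)))), (4, .fail), (1, (.step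 [29, 30, 30, 29, 1, 29, 5, 28] (.step [5, 28, 5, 31, 28, 30, 1, 29, 5, 29, 29, 29, 30, 1, 28] (.step [31, 1, 31, 5, 29, 29, 29, 1, 29, 28, 29, 30, 31, 31, 31, 31, 1, 28, 1, 1, 30, 5, 30] .fail)))), (1, .fail), (1, (.step [1, 1, 29, 5, 28, 30, 5, 28, 1] .fail)), (1, (.step [5, 28, 1, 30, 28, 30, 5, 5, 5] (.step [31, 28, 30, 28, 31, 31, 1, 29, 5, 29, 1, 28, 1, 1, 30, 5] (.step [28, 5, 31, 5, 31, 1, 1, 30, 29, 29, 28, 30, 29, 29, 29, 5, 28] .fail)))), (2, .fail), (1, (.step [28, 28, 28, 30, 30, 29, 30, 5] .fail)), (2, .fail), (1, (.step [5, 5, 31, 29, 29, 1, 1, 30, 29] (.step [29, 29, 5, 5, 5, 28, 31, 29, 5, 5, 5, 29, 29, 30, 30, 5] (.step [29, 29, 5, 31, 31, 1, 30, 29, 5, 1, 31, 31, 1, 30, 1, 29, 31, 31, 31, 31, 1, 28, 1, 1, 30, 5, 30] .fail)))), (1, (.step [30, 29, 1, 1, 1, 28, 5, 30, 29] .fail)), (1, (.step [28, 1, 29, 29, 5,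 28, 30, 1] .fail)), (4, .fail), (1, (.step [30, 1, 28, 5, 31, 5, 5, 29] (.step [29, 29, 29, 29, 5, 31, 29, 30, 1, 29, 29, 5, 31, 28, 28, 30] (.step [28, 1, 30, 28, 1, 30, 5, 29, 29, 31, 29, 29, 30, 1, 28, 31, 31, 31, 1, 30, 1, 28, 1, 29, 29, 5, 28] .fail)))), (3, .fail), (1, (.step [29, 1, 1, 30, 5, 29, 31, 1] .fail)), (1, .fail), (1, (.step [29, 31, 28, 31, 29, 30, 1, 1] .fail)), (1, .fail), (1, (.step [1, 30, 5, 28, 1, 29, 29, 30, 29] (.step [5, 28, 1, 30, 28, 28, 5, 30, 29, 1, 28, 28, 28, 5, 29, 1] (.step [5, 31, 29, 30, 5, 29, 5, 5, 28, 29, 1, 28, 5, 28, 31, 31, 28, 31, 30, 30, 1, 29, 30, 1, 30, 28, 31, 28] .fail)))), (1, (.step [1, 31, 31, 1, 30, 1, 29, 31] .fail)), (1, (.step [5, 31, 5, 5, 28, 31, 5] (.step [1, 1, 28, 1, 1, 1, 31, 29, 5, 5, 28, 29, 30] (.step [5, 30, 1, 1, 1, 31, 5, 5, 28, 5, 30, 28, 1, 1, 29, 30, 30, 28,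 28, 5, 28, 5, 28, 30, 29, 29] (.step [28, 1, 29, 30, 29, 1, 5, 30, 28, 28, 1, 29, 5, 30, 30, 30, 29, 1, 30, 30, 5, 30, 28, 30, 29, 5, 1, 1, 29, 31, 30, 28, 5, 5, 1, 28, 31, 29, 31, 1, 31, 31, 5, 30, 30, 5, 31, 1, 1, 28, 31, 5, 28, 1, 1, 1] (.done [1, 1, 1, 1, 20, 21, 20, 12, 18, 22, 3, 7, 15, 5, 7, 1, 9, 4, 7, 0, 0, 14, 24, 2, 17, 15, 9, 6])))))), (1, (.step [29, 29, 29, 5, 31, 5, 5, 5, 29] (.step [28, 31, 1, 30, 5, 30, 30, 1, 31, 29, 5] (.step [30, 1, 30, 30, 30, 1, 29, 31, 5, 28, 5, 1, 29, 5, 30, 30, 30, 29, 28, 1, 30, 5, 28, 5, 5, 5, 5] .fail)))), (2, .fail), (1, (.step [29, 5, 28, 1, 31, 1, 30, 29, 29] .fail)), (3, .fail), (1, (.step [31, 1, 28, 31, 29, 1, 30, 5, 5] .fail)), (1, (.step [28, 28, 31, 1, 30, 1, 30, 29] (.step [30, 5, 31, 5, 5, 28, 31, 5, 29, 29, 5, 29, 30, 28, 1, 30] (.step [28, 5, 31, 5, 31, 1, 1, 30, 29, 29,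 28, 30, 29, 29, 29, 5, 28] .fail)))), (1, (.step [5, 31, 31, 5, 29, 1, 1, 30, 5] .fail)), (1, (.step [31, 29, 5, 30, 1, 30, 30, 28, 1] .fail)), (1, (.step [31, 31, 29, 29, 30, 1, 28] .fail)), (1, .fail), (1, (.step [30, 28, 30, 5, 5, 29, 31, 29] .fail)), (3, .fail), (1, (.step [1, 28, 28, 31, 1, 28, 28] (.step [28, 1, 30, 5, 28, 5, 5, 5, 5] .fail))), (3, .fail), (1, (.step [5, 29, 30, 1, 30, 28, 31, 29] (.step [28, 29, 5, 31, 1, 29, 30, 28, 5, 5, 31, 29, 31, 31, 31] .fail))), (2, .fail), (1, (.step [31, 29, 31, 29, 29, 1, 30, 28] .fail)), (2, .fail), (1, (.step [30, 29, 1, 1, 1, 28, 5, 30, 29] .fail)), (2, .fail), (1, (.step [5, 5, 29, 1, 28, 31, 1] .fail)), (1, (.step [28, 5, 5, 28, 28, 1, 29, 5] .fail)), (1, (.step [5, 29, 31, 31, 29, 31, 5, 29] .fail)), (1, .fail), (1, (.step [5, 29, 1, 28, 5, 28, 28, 28] .fail)), (1, (.step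 [30, 5, 30, 1, 29, 5, 31, 1, 1] .fail)), (2, .fail), (1, (.step [28, 1, 28, 30, 28, 30, 5, 31, 5] .fail)), (1, (.step [29, 29, 5, 28, 31, 1, 28, 1, 28] (.step [1, 29, 5, 31, 28, 28, 1, 29, 5, 30, 1, 28, 29, 30] (.step [28, 28, 28, 5, 29, 1, 31, 31, 31, 31, 28, 28, 30, 28, 5, 5, 28, 1, 28] .fail)))), (1, .fail), (1, (.step [1, 30, 29, 29, 31, 29, 29] .fail)), (2, .fail), (1, (.step [31, 5, 28, 1, 29, 29, 29] .fail)), (2, .fail), (1, (.step [1, 28, 31, 1, 29, 5, 5] .fail)), (1, (.step [29, 30, 28, 31, 29, 31, 5, 28] .fail)), (1, (.step [5, 29, 31, 31, 29, 31, 5, 29] (.step [28, 28, 5, 31, 5, 31, 5, 29, 29, 29, 30, 1, 28, 30] (.step [5, 28, 28, 30, 28, 31, 28, 31, 1, 29, 5, 31, 28, 28, 30, 30, 31, 30, 30, 1, 29, 30, 1, 30, 28, 31, 28] .fail)))), (2, .fail), (1, (.step [31, 29, 29, 5, 29, 30, 28, 1] .fail)), (1, (.step [28, 5, 28,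 5, 31, 29, 29, 29, 1] (.step [1, 1, 30, 1, 31, 1, 31, 31, 29, 1, 28, 31, 31] (.step [29, 29, 5, 31, 31, 1, 30, 29, 5, 1, 31, 31, 1, 30, 1, 29, 31, 31, 31, 31, 1, 28, 1, 1, 30, 5, 30] .fail)))), (1, .fail), (1, (.step [5, 30, 29, 5, 31, 1, 29, 1] (.step [28, 1, 1, 29, 30, 5, 5, 5, 29, 28, 29, 30] .fail))), (6, .fail), (1, (.step [28, 1, 30, 28, 31, 5, 28, 31, 29] (.step [30, 28, 28, 1, 1, 31, 1, 1, 1, 29, 5, 31, 28, 28] .fail))), (1, .fail), (1, (.step [28, 1, 29, 1, 30, 5, 30, 1, 1] .fail)), (10, .fail), (1, (.step [29, 31, 1, 30, 28, 5, 5, 31, 29] .fail)), (1, .fail), (1, (.step [28, 1, 29, 1, 30, 5, 30, 1, 1] .fail)), (4, .fail), (1, (.step [29, 1, 1, 1, 28, 5, 30, 29] .fail)), (1, (.step [28, 30, 28, 31, 29, 5, 28, 28] (.step [5, 30, 29, 30, 30, 28, 5, 30, 1, 30, 28, 1, 31, 31, 31, 31] (.step [1, 28, 5, 30, 5, 5, 30, 28, 1,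 1, 1, 1, 30, 30, 29, 5, 1, 28, 30, 5, 31, 31, 1, 31, 5, 30, 29] .fail)))), (1, .fail), (1, (.step [5, 30, 30, 30, 30, 28, 30, 29] .fail)), (1, .fail), (1, (.step [5, 5, 31, 29, 29, 1, 1, 30, 29] (.step [30, 29, 30, 5, 29, 5, 5, 29, 1, 28, 1, 1, 30, 5] (.step [31, 28, 30, 29, 29, 30, 1, 29, 1, 28, 5, 29, 5, 28, 30, 28, 30, 5, 5, 29] .fail)))), (1, (.step [29, 5, 31, 28, 28, 30] .fail)), (6, .fail), (1, (.step [31, 1, 1, 1, 30, 30, 29, 5] .fail)), (1, (.step [28, 28, 1, 29, 1, 31, 1, 1] .fail)), (2, .fail), (1, (.step [1, 31, 31, 28, 28, 1] .fail)), (1, (.step [29, 1, 30, 29, 31, 1, 1, 29] .fail)), (6, .fail), (1, (.step [1, 1, 28, 5, 30, 29, 5] .fail)), (1, .fail), (1, (.step [30, 1, 31, 31, 5, 30, 30, 5, 29] (.step [1, 29, 5, 31, 28, 28, 1, 29, 5, 30, 1, 28, 29, 30] .fail))), (2, .fail), (1, (.step [1, 29, 29, 31, 31, 5, 31, 5,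 5] .fail)), (1, (.step [28, 31, 1, 29, 5, 5, 5, 28] (.step [29, 31, 31, 28, 28, 30, 1, 1, 30, 28, 30, 5, 30, 30] (.step [30, 30, 1, 1, 29, 5, 30, 29, 1, 31, 1, 5, 5, 31, 1, 31, 5, 28, 5, 29] .fail)))), (2, .fail)])), (751, (.badPow 23 1))]))]

/-- the centralizer of the element of order 11, piece 10 -/
def cCh_10 : Cert := Cert.rl [(8190, (.badPow 2093 1))]

/-- the centralizer of the element of order 11, piece 11 -/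
def cCh_11 : Cert := Cert.rl [(8190, (.badPow 2093 1))]

/-- the centralizer of the element of order 11, piece 12 -/
def cCh_12 : Cert := Cert.rl [(8190, (.badPow 2093 1))]

/-- the centralizer of the element of order 11, piece 13 -/
def cCh_13 : Cert := Cert.rl [(8190, (.badPow 2093 1))]

/-- the centralizer of the element of order 11, piece 14 -/
def cCh_14 : Cert := Cert.rl [(8190, (.badPow 2093 1))]

/-- the centralizer of the element of order 11, piece 15 -/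
def cCh_15 : Cert := Cert.rl [(8190, (.badPow 2093 1))]

/-- the centralizer of the element of order 11, piece 16 -/
def cCh_16 : Cert := Cert.rl [(8190, (.badPow 2093 1))]

/-- the centralizer of the element of order 11, piece 17 -/
def cCh_17 : Cert := Cert.rl [(8190, (.badPow 2093 1))]

/-- the centralizer of the element of order 11, piece 18 -/
def cCh_18 : Cert := Cert.rl [(8190, (.badPow 2093 1))]

/-- the centralizer of the element of order 11, piece 19 -/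
def cCh_19 : Cert := Cert.rl [(2783, (.badPow 2093 1))]

/-- the centralizer of the element of order 11: the pieces -/
def pcsCh : List (List (List ℕ) × Cert) := [(U0_0, cCh_0), (U0_1, cCh_1), (U0_2, cCh_2), (U0_3, cCh_3), (U0_4, cCh_4), (U0_5, cCh_5), (U0_6, cCh_6), (U0_7, cCh_7), (U0_8, cCh_8), (U0_9, cCh_9), (U0_10, cCh_10), (U0_11, cCh_11), (U0_12, cCh_12), (U0_13, cCh_13), (U0_14, cCh_14), (U0_15, cCh_15), (U0_16, cCh_16), (U0_17, cCh_17), (U0_18, cCh_18), (U0_19, cCh_19)]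

/-- the first seven letters as words in good letters -/
def Wl : List (List ℕ) := [[0], [1], [28, 1, 30, 29, 29, 1, 29, 31, 1, 1, 1, 29, 30, 28, 1, 28, 1, 31, 31, 5, 29, 31, 5, 31, 28, 1, 1, 1, 29, 29, 31, 31, 1, 28, 5, 28, 28, 30, 30, 30, 5, 28, 5, 30, 1, 28, 31, 1, 1, 1, 28, 31, 4, 26, 1, 4, 28, 25, 26, 25, 31, 25, 4, 4], [29, 30, 1, 1, 31, 5, 28, 30, 5, 30, 5, 28, 31, 31, 31, 1, 28, 5, 5, 5, 29, 31, 1, 29, 1, 1, 30, 5, 5, 5, 31, 1, 28, 1, 1, 31, 29, 31, 29, 29, 5, 28, 30, 30, 5, 31, 1, 29, 30, 30, 28, 5, 28, 31, 31, 1, 31, 31, 1, 28, 28, 1, 29, 1, 31, 1, 1, 31, 31, 1, 30, 1, 28, 5, 29, 1, 28, 30, 29, 5, 28, 28, 28, 5, 28, 31, 28, 31, 1, 30, 30], [4], [5], [29, 29, 5, 28, 28, 28, 5, 5, 5, 29, 29, 29, 5, 30, 29, 29, 5, 31, 31, 30, 30, 28, 30, 28, 30, 5, 31, 30, 5, 29, 30, 5, 30, 30, 30, 28, 31, 5, 29, 30, 28, 30, 30, 30, 30,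 1, 1, 1, 1, 29, 1, 31, 5, 29, 31, 1, 29, 1, 31, 29, 1, 30, 5, 28, 5, 5, 31, 5, 5, 28, 31, 5, 29, 29, 5, 30, 5, 1, 30, 29, 29, 29, 28, 28, 28, 31, 5, 1, 31, 1, 28, 28, 5, 31, 31, 31, 31, 29, 30, 1, 5, 31, 29, 1, 4, 30, 1, 31, 25, 27, 25, 31, 25, 27, 28]]

/-- the relators -/
def relL : List (List ℕ) := [[0, 1, 2, 2, 0, 1, 2, 2, 0, 1, 2, 2, 0, 1, 2, 2, 0, 1, 2, 2, 0, 1, 2, 2, 0, 1, 2, 2, 0, 1, 2, 2, 0, 1, 2, 2, 0, 1, 2, 2, 0, 1, 2, 2], [0, 1, 1, 1, 2, 0, 1, 1, 1, 2, 0, 1, 1, 1, 2, 0, 1, 1, 1, 2, 0, 1, 1, 1, 2, 0, 1, 1, 1, 2, 0, 1, 1, 1, 2, 0, 1, 1, 1, 2, 0, 1, 1, 1, 2, 0, 1, 1, 1, 2], [0, 2, 0, 2, 0, 2, 0, 2, 0, 2, 0, 2, 0, 2, 0, 2, 0, 2, 0, 2, 0, 2, 0, 2, 0, 2, 0, 2, 0, 2, 0, 2, 0, 2, 0, 2, 0, 2, 0, 2, 0, 2, 0, 2, 0, 2, 0, 2, 0, 2, 0, 2]]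

/-- the candidates for the image of the third generator -/
def candL : List (List ℕ) := [[25], [1, 25], [1, 1, 1, 1, 1, 1, 1, 1, 25], [1, 1, 25], [1, 1, 1, 1, 1, 1, 1, 1, 1, 25], [1, 1, 1, 25], [1, 1, 1, 1, 1, 25], [1, 1, 1, 1, 1, 1, 1, 1, 1, 1, 25], [1, 1, 1, 1, 1, 1, 1, 25], [1, 1, 1, 1, 25], [1, 1, 1, 1, 1, 1, 25], [1, 1, 1, 1, 1, 1, 1, 1, 20, 21, 20, 12, 18, 22, 3, 7, 15, 5, 7, 1, 9, 4, 7, 0, 0, 14, 24, 2, 17, 15, 9, 6, 25], [1, 1, 1, 1, 20, 21, 20, 12, 18, 22, 3, 7, 15, 5, 7, 1, 9, 4, 7, 0, 0, 14, 24, 2, 17, 15, 9, 6, 25], [1, 1, 1, 1, 1, 1, 20, 21, 20, 12, 18, 22, 3, 7, 15, 5, 7, 1, 9, 4, 7, 0, 0, 14, 24, 2, 17, 15, 9, 6, 25], [1, 1, 1, 1, 1, 1, 1, 1, 1, 1, 20, 21, 20, 12, 18, 22, 3, 7, 15, 5, 7, 1, 9, 4, 7, 0, 0, 14, 24, 2, 17, 15, 9, 6, 25], [1, 1, 1, 20, 21, 20, 12, 18, 22, 3, 7, 15, 5, 7, 1, 9, 4, 7, 0, 0, 14, 24, 2,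 17, 15, 9, 6, 25], [1, 1, 1, 1, 1, 1, 1, 20, 21, 20, 12, 18, 22, 3, 7, 15, 5, 7, 1, 9, 4, 7, 0, 0, 14, 24, 2, 17, 15, 9, 6, 25], [1, 20, 21, 20, 12, 18, 22, 3, 7, 15, 5, 7, 1, 9, 4, 7, 0, 0, 14, 24, 2, 17, 15, 9, 6, 25], [1, 1, 20, 21, 20, 12, 18, 22, 3, 7, 15, 5, 7, 1, 9, 4, 7, 0, 0, 14, 24, 2, 17, 15, 9, 6, 25], [1, 1, 1, 1, 1, 1, 1, 1, 1, 20, 21, 20, 12, 18, 22, 3, 7, 15, 5, 7, 1, 9, 4, 7, 0, 0, 14, 24, 2, 17, 15, 9, 6, 25], [20, 21, 20, 12, 18, 22, 3, 7, 15, 5, 7, 1, 9, 4, 7, 0, 0, 14, 24, 2, 17, 15, 9, 6, 25], [1, 1, 1, 1, 1, 20, 21, 20, 12, 18, 22, 3, 7, 15, 5, 7, 1, 9, 4, 7, 0, 0, 14, 24, 2, 17, 15, 9, 6, 25], [1, 1, 1, 1, 1, 25, 20, 21, 20, 12, 18, 22, 3, 7, 15, 5, 7, 1, 9, 4, 7, 0, 0, 14, 24, 2, 17, 15, 9, 6, 25], [1, 1, 1, 1, 1, 1, 1, 1, 25, 20, 21, 20, 12, 18, 22, 3, 7, 15, 5, 7, 1, 9, 4, 7, 0, 0, 14, 24, 2, 17, 15,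 9, 6, 25], [1, 1, 25, 20, 21, 20, 12, 18, 22, 3, 7, 15, 5, 7, 1, 9, 4, 7, 0, 0, 14, 24, 2, 17, 15, 9, 6, 25], [1, 1, 1, 1, 25, 20, 21, 20, 12, 18, 22, 3, 7, 15, 5, 7, 1, 9, 4, 7, 0, 0, 14, 24, 2, 17, 15, 9, 6, 25], [1, 1, 1, 1, 1, 1, 25, 20, 21, 20, 12, 18, 22, 3, 7, 15, 5, 7, 1, 9, 4, 7, 0, 0, 14, 24, 2, 17, 15, 9, 6, 25], [1, 1, 1, 1, 1, 1, 1, 1, 1, 1, 25, 20, 21, 20, 12, 18, 22, 3, 7, 15, 5, 7, 1, 9, 4, 7, 0, 0, 14, 24, 2, 17, 15, 9, 6, 25], [1, 1, 1, 1, 1, 1, 1, 25, 20, 21, 20, 12, 18, 22, 3, 7, 15, 5, 7, 1, 9, 4, 7, 0, 0, 14, 24, 2, 17, 15, 9, 6, 25], [25, 20, 21, 20, 12, 18, 22, 3, 7, 15, 5, 7, 1, 9, 4, 7, 0, 0, 14, 24, 2, 17, 15, 9, 6, 25], [1, 25, 20, 21, 20, 12, 18, 22, 3, 7, 15, 5, 7, 1, 9, 4, 7, 0, 0, 14, 24, 2, 17, 15, 9, 6, 25], [1, 1, 1, 1, 1, 1, 1, 1, 1, 25, 20, 21, 20, 12, 18, 22, 3, 7, 15, 5, 7, 1, 9, 4, 7, 0,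 0, 14, 24, 2, 17, 15, 9, 6, 25], [1, 1, 1, 25, 20, 21, 20, 12, 18, 22, 3, 7, 15, 5, 7, 1, 9, 4, 7, 0, 0, 14, 24, 2, 17, 15, 9, 6, 25], [], [1], [1, 1, 1, 1, 1, 1, 1, 1], [1, 1], [1, 1, 1, 1, 1, 1, 1, 1, 1], [1, 1, 1], [1, 1, 1, 1, 1], [1, 1, 1, 1, 1, 1, 1, 1, 1, 1], [1, 1, 1, 1, 1, 1, 1], [1, 1, 1, 1], [1, 1, 1, 1, 1, 1], [25, 20, 21, 20, 12, 18, 22, 3, 7, 15, 5, 7, 1, 9, 4, 7, 0, 0, 14, 24, 2, 17, 15, 9, 6], [1, 1, 1, 1, 1, 1, 1, 1, 1, 25, 20, 21, 20, 12, 18, 22, 3, 7, 15, 5, 7, 1, 9, 4, 7, 0, 0, 14, 24, 2, 17, 15, 9, 6], [1, 1, 1, 1, 1, 1, 1, 25, 20, 21, 20, 12, 18, 22, 3, 7, 15, 5, 7, 1, 9, 4, 7, 0, 0, 14, 24, 2, 17, 15, 9, 6], [1, 1, 1, 1, 1, 1, 25, 20, 21, 20, 12, 18, 22, 3, 7, 15, 5, 7, 1, 9, 4, 7, 0, 0, 14, 24, 2, 17, 15, 9, 6], [1, 1, 25, 20, 21, 20, 12, 18, 22, 3, 7, 15, 5, 7, 1, 9, 4, 7, 0, 0, 14, 24, 2, 17, 15, 9, 6],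 [1, 1, 1, 25, 20, 21, 20, 12, 18, 22, 3, 7, 15, 5, 7, 1, 9, 4, 7, 0, 0, 14, 24, 2, 17, 15, 9, 6], [1, 1, 1, 1, 1, 25, 20, 21, 20, 12, 18, 22, 3, 7, 15, 5, 7, 1, 9, 4, 7, 0, 0, 14, 24, 2, 17, 15, 9, 6], [1, 1, 1, 1, 25, 20, 21, 20, 12, 18, 22, 3, 7, 15, 5, 7, 1, 9, 4, 7, 0, 0, 14, 24, 2, 17, 15, 9, 6], [1, 1, 1, 1, 1, 1, 1, 1, 1, 1, 25, 20, 21, 20, 12, 18, 22, 3, 7, 15, 5, 7, 1, 9, 4, 7, 0, 0, 14, 24, 2, 17, 15, 9, 6], [1, 25, 20, 21, 20, 12, 18, 22, 3, 7, 15, 5, 7, 1, 9, 4, 7, 0, 0, 14, 24, 2, 17, 15, 9, 6], [1, 1, 1, 1, 1, 1, 1, 1, 25, 20, 21, 20, 12, 18, 22, 3, 7, 15, 5, 7, 1, 9, 4, 7, 0, 0, 14, 24, 2, 17, 15, 9, 6], [20, 21, 20, 12, 18, 22, 3, 7, 15, 5, 7, 1, 9, 4, 7, 0, 0, 14, 24, 2, 17, 15, 9, 6], [1, 1, 1, 1, 1, 1, 1, 1, 1, 1, 20, 21, 20, 12, 18, 22, 3, 7, 15, 5, 7, 1, 9, 4, 7, 0, 0, 14, 24, 2, 17, 15, 9, 6], [1, 1, 1, 1,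 1, 1, 1, 1, 20, 21, 20, 12, 18, 22, 3, 7, 15, 5, 7, 1, 9, 4, 7, 0, 0, 14, 24, 2, 17, 15, 9, 6], [1, 1, 20, 21, 20, 12, 18, 22, 3, 7, 15, 5, 7, 1, 9, 4, 7, 0, 0, 14, 24, 2, 17, 15, 9, 6], [1, 1, 1, 20, 21, 20, 12, 18, 22, 3, 7, 15, 5, 7, 1, 9, 4, 7, 0, 0, 14, 24, 2, 17, 15, 9, 6], [1, 20, 21, 20, 12, 18, 22, 3, 7, 15, 5, 7, 1, 9, 4, 7, 0, 0, 14, 24, 2, 17, 15, 9, 6], [1, 1, 1, 1, 1, 20, 21, 20, 12, 18, 22, 3, 7, 15, 5, 7, 1, 9, 4, 7, 0, 0, 14, 24, 2, 17, 15, 9, 6], [1, 1, 1, 1, 1, 1, 1, 20, 21, 20, 12, 18, 22, 3, 7, 15, 5, 7, 1, 9, 4, 7, 0, 0, 14, 24, 2, 17, 15, 9, 6], [1, 1, 1, 1, 1, 1, 20, 21, 20, 12, 18, 22, 3, 7, 15, 5, 7, 1, 9, 4, 7, 0, 0, 14, 24, 2, 17, 15, 9, 6], [1, 1, 1, 1, 1, 1, 1, 1, 1, 20, 21, 20, 12, 18, 22, 3, 7, 15, 5, 7, 1, 9, 4, 7, 0, 0, 14, 24, 2, 17, 15, 9, 6], [1, 1, 1, 1, 20, 21, 20, 12, 18, 22, 3, 7, 15, 5,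 7, 1, 9, 4, 7, 0, 0, 14, 24, 2, 17, 15, 9, 6]]

/-- the fate of the candidates, for the exponent 1: kept, or a relator and a point -/
def elim1 : List (List ℕ × ℕ × ℕ × ℕ) := [([25], 1, 0, 0),
  ([1, 25], 0, 1, 0),
  ([1, 1, 1, 1, 1, 1, 1, 1, 25], 0, 1, 0),
  ([1, 1, 25], 0, 1, 0),
  ([1, 1, 1, 1, 1, 1, 1, 1, 1, 25], 0, 1, 0),
  ([1, 1, 1, 25], 0, 1, 0),
  ([1, 1, 1, 1, 1, 25], 0, 0, 0),
  ([1, 1, 1, 1, 1, 1, 1, 1, 1, 1, 25], 0, 1, 0),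
  ([1, 1, 1, 1, 1, 1, 1, 25], 0, 1, 0),
  ([1, 1, 1, 1, 25], 0, 1, 0),
  ([1, 1, 1, 1, 1, 1, 25], 0, 1, 0),
  ([1, 1, 1, 1, 1, 1, 1, 1, 20, 21, 20, 12, 18, 22, 3, 7, 15, 5, 7, 1, 9, 4, 7, 0, 0, 14, 24, 2, 17, 15, 9, 6, 25], 0, 0, 0),
  ([1, 1, 1, 1, 20, 21, 20, 12, 18, 22, 3, 7, 15, 5, 7, 1, 9, 4, 7, 0, 0, 14, 24, 2, 17, 15, 9, 6, 25], 0, 0, 0),
  ([1, 1, 1, 1, 1, 1, 20, 21, 20, 12, 18, 22, 3, 7, 15, 5, 7, 1, 9, 4, 7, 0, 0, 14, 24, 2, 17, 15, 9, 6, 25], 0, 0, 0),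
  ([1, 1, 1, 1, 1, 1, 1, 1, 1, 1, 20, 21, 20, 12, 18, 22, 3, 7, 15, 5, 7, 1, 9, 4, 7, 0, 0, 14, 24, 2, 17, 15, 9, 6, 25], 0, 0, 0),
  ([1, 1, 1, 20, 21, 20, 12, 18, 22, 3, 7, 15, 5, 7, 1, 9, 4, 7, 0, 0, 14, 24, 2, 17, 15, 9, 6, 25], 0, 0, 0),
  ([1, 1, 1, 1, 1, 1, 1, 20, 21, 20, 12, 18, 22, 3, 7, 15, 5, 7, 1, 9, 4, 7, 0, 0, 14, 24, 2, 17, 15, 9, 6, 25], 0, 0, 0),
  ([1, 20, 21, 20, 12, 18, 22, 3, 7, 15, 5, 7, 1, 9, 4, 7, 0, 0, 14, 24, 2, 17, 15, 9, 6, 25], 0, 0, 0),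
  ([1, 1, 20, 21, 20, 12, 18, 22, 3, 7, 15, 5, 7, 1, 9, 4, 7, 0, 0, 14, 24, 2, 17, 15, 9, 6, 25], 0, 0, 0),
  ([1, 1, 1, 1, 1, 1, 1, 1, 1, 20, 21, 20, 12, 18, 22, 3, 7, 15, 5, 7, 1, 9, 4, 7, 0, 0, 14, 24, 2, 17, 15, 9, 6, 25], 0, 0, 0),
  ([20, 21, 20, 12, 18, 22, 3, 7, 15, 5, 7, 1, 9, 4, 7, 0, 0, 14, 24, 2, 17, 15, 9, 6, 25], 0, 0, 0),
  ([1, 1, 1, 1, 1, 20, 21, 20, 12, 18, 22, 3, 7, 15, 5, 7, 1, 9, 4, 7, 0, 0, 14, 24, 2, 17, 15, 9, 6, 25], 0, 0, 0),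
  ([1, 1, 1, 1, 1, 25, 20, 21, 20, 12, 18, 22, 3, 7, 15, 5, 7, 1, 9, 4, 7, 0, 0, 14, 24, 2, 17, 15, 9, 6, 25], 0, 0, 0),
  ([1, 1, 1, 1, 1, 1, 1, 1, 25, 20, 21, 20, 12, 18, 22, 3, 7, 15, 5, 7, 1, 9, 4, 7, 0, 0, 14, 24, 2, 17, 15, 9, 6, 25], 0, 1, 0),
  ([1, 1, 25, 20, 21, 20, 12, 18, 22, 3, 7, 15, 5, 7, 1, 9, 4, 7, 0, 0, 14, 24, 2, 17, 15, 9, 6, 25], 0, 1, 0),
  ([1, 1, 1, 1, 25, 20, 21, 20, 12, 18, 22, 3, 7, 15, 5, 7, 1, 9, 4, 7, 0, 0, 14, 24, 2, 17, 15, 9, 6, 25], 0, 1, 0),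
  ([1, 1, 1, 1, 1, 1, 25, 20, 21, 20, 12, 18, 22, 3, 7, 15, 5, 7, 1, 9, 4, 7, 0, 0, 14, 24, 2, 17, 15, 9, 6, 25], 0, 1, 0),
  ([1, 1, 1, 1, 1, 1, 1, 1, 1, 1, 25, 20, 21, 20, 12, 18, 22, 3, 7, 15, 5, 7, 1, 9, 4, 7, 0, 0, 14, 24, 2, 17, 15, 9, 6, 25], 0, 1, 0),
  ([1, 1, 1, 1, 1, 1, 1, 25, 20, 21, 20, 12, 18, 22, 3, 7, 15, 5, 7, 1, 9, 4, 7, 0, 0, 14, 24, 2, 17, 15, 9, 6, 25], 0, 1, 0),
  ([25, 20, 21, 20, 12, 18, 22, 3, 7, 15, 5, 7, 1, 9, 4, 7, 0, 0, 14, 24, 2, 17, 15, 9, 6, 25], 0, 1, 0),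
  ([1, 25, 20, 21, 20, 12, 18, 22, 3, 7, 15, 5, 7, 1, 9, 4, 7, 0, 0, 14, 24, 2, 17, 15, 9, 6, 25], 0, 1, 0),
  ([1, 1, 1, 1, 1, 1, 1, 1, 1, 25, 20, 21, 20, 12, 18, 22, 3, 7, 15, 5, 7, 1, 9, 4, 7, 0, 0, 14, 24, 2, 17, 15, 9, 6, 25], 0, 1, 0),
  ([1, 1, 1, 25, 20, 21, 20, 12, 18, 22, 3, 7, 15, 5, 7, 1, 9, 4, 7, 0, 0, 14, 24, 2, 17, 15, 9, 6, 25], 0, 1, 0),
  ([], 0, 1, 0),
  ([1], 0, 1, 0),
  ([1, 1, 1, 1, 1, 1, 1, 1], 0, 1, 0),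
  ([1, 1], 0, 1, 0),
  ([1, 1, 1, 1, 1, 1, 1, 1, 1], 0, 1, 0),
  ([1, 1, 1], 0, 1, 0),
  ([1, 1, 1, 1, 1], 0, 0, 0),
  ([1, 1, 1, 1, 1, 1, 1, 1, 1, 1], 0, 1, 0),
  ([1, 1, 1, 1, 1, 1, 1], 0, 1, 0),
  ([1, 1, 1, 1], 0, 1, 0),
  ([1, 1, 1, 1, 1, 1], 0, 1, 0),
  ([25, 20, 21, 20, 12, 18, 22, 3, 7, 15, 5, 7, 1, 9, 4, 7, 0, 0, 14, 24, 2, 17, 15, 9, 6], 0, 0, 0),
  ([1, 1, 1, 1, 1, 1, 1, 1, 1, 25, 20, 21, 20, 12, 18, 22, 3, 7, 15, 5, 7, 1, 9, 4, 7, 0, 0, 14, 24, 2, 17, 15, 9, 6], 0, 0, 0),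
  ([1, 1, 1, 1, 1, 1, 1, 25, 20, 21, 20, 12, 18, 22, 3, 7, 15, 5, 7, 1, 9, 4, 7, 0, 0, 14, 24, 2, 17, 15, 9, 6], 0, 0, 0),
  ([1, 1, 1, 1, 1, 1, 25, 20, 21, 20, 12, 18, 22, 3, 7, 15, 5, 7, 1, 9, 4, 7, 0, 0, 14, 24, 2, 17, 15, 9, 6], 0, 0, 0),
  ([1, 1, 25, 20, 21, 20, 12, 18, 22, 3, 7, 15, 5, 7, 1, 9, 4, 7, 0, 0, 14, 24, 2, 17, 15, 9, 6], 0, 0, 0),
  ([1, 1, 1, 25, 20, 21, 20, 12, 18, 22, 3, 7, 15, 5, 7, 1, 9, 4, 7, 0, 0, 14, 24, 2, 17, 15, 9, 6], 0, 0, 0),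
  ([1, 1, 1, 1, 1, 25, 20, 21, 20, 12, 18, 22, 3, 7, 15, 5, 7, 1, 9, 4, 7, 0, 0, 14, 24, 2, 17, 15, 9, 6], 0, 0, 0),
  ([1, 1, 1, 1, 25, 20, 21, 20, 12, 18, 22, 3, 7, 15, 5, 7, 1, 9, 4, 7, 0, 0, 14, 24, 2, 17, 15, 9, 6], 0, 0, 0),
  ([1, 1, 1, 1, 1, 1, 1, 1, 1, 1, 25, 20, 21, 20, 12, 18, 22, 3, 7, 15, 5, 7, 1, 9, 4, 7, 0, 0, 14, 24, 2, 17, 15, 9, 6], 0, 0, 0),
  ([1, 25, 20, 21, 20, 12, 18, 22, 3, 7, 15, 5, 7, 1, 9, 4, 7, 0, 0, 14, 24, 2, 17, 15, 9, 6], 0, 0, 0),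
  ([1, 1, 1, 1, 1, 1, 1, 1, 25, 20, 21, 20, 12, 18, 22, 3, 7, 15, 5, 7, 1, 9, 4, 7, 0, 0, 14, 24, 2, 17, 15, 9, 6], 0, 0, 0),
  ([20, 21, 20, 12, 18, 22, 3, 7, 15, 5, 7, 1, 9, 4, 7, 0, 0, 14, 24, 2, 17, 15, 9, 6], 0, 1, 0),
  ([1, 1, 1, 1, 1, 1, 1, 1, 1, 1, 20, 21, 20, 12, 18, 22, 3, 7, 15, 5, 7, 1, 9, 4, 7, 0, 0, 14, 24, 2, 17, 15, 9, 6], 0, 1, 0),
  ([1, 1, 1, 1, 1, 1, 1, 1, 20, 21, 20, 12, 18, 22, 3, 7, 15, 5, 7, 1, 9, 4, 7, 0, 0, 14, 24, 2, 17, 15, 9, 6], 0, 1, 0),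
  ([1, 1, 20, 21, 20, 12, 18, 22, 3, 7, 15, 5, 7, 1, 9, 4, 7, 0, 0, 14, 24, 2, 17, 15, 9, 6], 0, 1, 0),
  ([1, 1, 1, 20, 21, 20, 12, 18, 22, 3, 7, 15, 5, 7, 1, 9, 4, 7, 0, 0, 14, 24, 2, 17, 15, 9, 6], 0, 1, 1),
  ([1, 20, 21, 20, 12, 18, 22, 3, 7, 15, 5, 7, 1, 9, 4, 7, 0, 0, 14, 24, 2, 17, 15, 9, 6], 0, 2, 0),
  ([1, 1, 1, 1, 1, 20, 21, 20, 12, 18, 22, 3, 7, 15, 5, 7, 1, 9, 4, 7, 0, 0, 14, 24, 2, 17, 15, 9, 6], 0, 0, 0),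
  ([1, 1, 1, 1, 1, 1, 1, 20, 21, 20, 12, 18, 22, 3, 7, 15, 5, 7, 1, 9, 4, 7, 0, 0, 14, 24, 2, 17, 15, 9, 6], 0, 1, 0),
  ([1, 1, 1, 1, 1, 1, 20, 21, 20, 12, 18, 22, 3, 7, 15, 5, 7, 1, 9, 4, 7, 0, 0, 14, 24, 2, 17, 15, 9, 6], 0, 1, 0),
  ([1, 1, 1, 1, 1, 1, 1, 1, 1, 20, 21, 20, 12, 18, 22, 3, 7, 15, 5, 7, 1, 9, 4, 7, 0, 0, 14, 24, 2, 17, 15, 9, 6], 0, 1, 0),
  ([1, 1, 1, 1, 20, 21, 20, 12, 18, 22, 3, 7, 15, 5, 7, 1, 9, 4, 7, 0, 0, 14, 24, 2, 17, 15, 9, 6], 0, 1, 0)]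

/-- the fate of the candidates, for the exponent 5: kept, or a relator and a point -/
def elim5 : List (List ℕ × ℕ × ℕ × ℕ) := [([25], 0, 1, 0),
  ([1, 25], 0, 1, 0),
  ([1, 1, 1, 1, 1, 1, 1, 1, 25], 0, 1, 0),
  ([1, 1, 25], 0, 1, 0),
  ([1, 1, 1, 1, 1, 1, 1, 1, 1, 25], 0, 1, 0),
  ([1, 1, 1, 25], 0, 1, 0),
  ([1, 1, 1, 1, 1, 25], 0, 0, 0),
  ([1, 1, 1, 1, 1, 1, 1, 1, 1, 1, 25], 0, 1, 0),
  ([1, 1, 1, 1, 1, 1, 1, 25], 0, 1, 0),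
  ([1, 1, 1, 1, 25], 0, 1, 0),
  ([1, 1, 1, 1, 1, 1, 25], 0, 1, 0),
  ([1, 1, 1, 1, 1, 1, 1, 1, 20, 21, 20, 12, 18, 22, 3, 7, 15, 5, 7, 1, 9, 4, 7, 0, 0, 14, 24, 2, 17, 15, 9, 6, 25], 0, 0, 0),
  ([1, 1, 1, 1, 20, 21, 20, 12, 18, 22, 3, 7, 15, 5, 7, 1, 9, 4, 7, 0, 0, 14, 24, 2, 17, 15, 9, 6, 25], 0, 0, 0),
  ([1, 1, 1, 1, 1, 1, 20, 21, 20, 12, 18, 22, 3, 7, 15, 5, 7, 1, 9, 4, 7, 0, 0, 14, 24, 2, 17, 15, 9, 6, 25], 0, 0, 0),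
  ([1, 1, 1, 1, 1, 1, 1, 1, 1, 1, 20, 21, 20, 12, 18, 22, 3, 7, 15, 5, 7, 1, 9, 4, 7, 0, 0, 14, 24, 2, 17, 15, 9, 6, 25], 0, 0, 0),
  ([1, 1, 1, 20, 21, 20, 12, 18, 22, 3, 7, 15, 5, 7, 1, 9, 4, 7, 0, 0, 14, 24, 2, 17, 15, 9, 6, 25], 0, 0, 0),
  ([1, 1, 1, 1, 1, 1, 1, 20, 21, 20, 12, 18, 22, 3, 7, 15, 5, 7, 1, 9, 4, 7, 0, 0, 14, 24, 2, 17, 15, 9, 6, 25], 0, 0, 0),
  ([1, 20, 21, 20, 12, 18, 22, 3, 7, 15, 5, 7, 1, 9, 4, 7, 0, 0, 14, 24, 2, 17, 15, 9, 6, 25], 0, 0, 0),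
  ([1, 1, 20, 21, 20, 12, 18, 22, 3, 7, 15, 5, 7, 1, 9, 4, 7, 0, 0, 14, 24, 2, 17, 15, 9, 6, 25], 0, 0, 0),
  ([1, 1, 1, 1, 1, 1, 1, 1, 1, 20, 21, 20, 12, 18, 22, 3, 7, 15, 5, 7, 1, 9, 4, 7, 0, 0, 14, 24, 2, 17, 15, 9, 6, 25], 0, 0, 0),
  ([20, 21, 20, 12, 18, 22, 3, 7, 15, 5, 7, 1, 9, 4, 7, 0, 0, 14, 24, 2, 17, 15, 9, 6, 25], 0, 0, 0),
  ([1, 1, 1, 1, 1, 20, 21, 20, 12, 18, 22, 3, 7, 15, 5, 7, 1, 9, 4, 7, 0, 0, 14, 24, 2, 17, 15, 9, 6, 25], 0, 0, 0),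
  ([1, 1, 1, 1, 1, 25, 20, 21, 20, 12, 18, 22, 3, 7, 15, 5, 7, 1, 9, 4, 7, 0, 0, 14, 24, 2, 17, 15, 9, 6, 25], 0, 0, 0),
  ([1, 1, 1, 1, 1, 1, 1, 1, 25, 20, 21, 20, 12, 18, 22, 3, 7, 15, 5, 7, 1, 9, 4, 7, 0, 0, 14, 24, 2, 17, 15, 9, 6, 25], 0, 1, 0),
  ([1, 1, 25, 20, 21, 20, 12, 18, 22, 3, 7, 15, 5, 7, 1, 9, 4, 7, 0, 0, 14, 24, 2, 17, 15, 9, 6, 25], 0, 1, 0),
  ([1, 1, 1, 1, 25, 20, 21, 20, 12, 18, 22, 3, 7, 15, 5, 7, 1, 9, 4, 7, 0, 0, 14, 24, 2, 17, 15, 9, 6, 25], 0, 1, 0),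
  ([1, 1, 1, 1, 1, 1, 25, 20, 21, 20, 12, 18, 22, 3, 7, 15, 5, 7, 1, 9, 4, 7, 0, 0, 14, 24, 2, 17, 15, 9, 6, 25], 0, 1, 0),
  ([1, 1, 1, 1, 1, 1, 1, 1, 1, 1, 25, 20, 21, 20, 12, 18, 22, 3, 7, 15, 5, 7, 1, 9, 4, 7, 0, 0, 14, 24, 2, 17, 15, 9, 6, 25], 0, 1, 0),
  ([1, 1, 1, 1, 1, 1, 1, 25, 20, 21, 20, 12, 18, 22, 3, 7, 15, 5, 7, 1, 9, 4, 7, 0, 0, 14, 24, 2, 17, 15, 9, 6, 25], 0, 1, 0),
  ([25, 20, 21, 20, 12, 18, 22, 3, 7, 15, 5, 7, 1, 9, 4, 7, 0, 0, 14, 24, 2, 17, 15, 9, 6, 25], 0, 1, 0),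
  ([1, 25, 20, 21, 20, 12, 18, 22, 3, 7, 15, 5, 7, 1, 9, 4, 7, 0, 0, 14, 24, 2, 17, 15, 9, 6, 25], 0, 1, 0),
  ([1, 1, 1, 1, 1, 1, 1, 1, 1, 25, 20, 21, 20, 12, 18, 22, 3, 7, 15, 5, 7, 1, 9, 4, 7, 0, 0, 14, 24, 2, 17, 15, 9, 6, 25], 0, 1, 0),
  ([1, 1, 1, 25, 20, 21, 20, 12, 18, 22, 3, 7, 15, 5, 7, 1, 9, 4, 7, 0, 0, 14, 24, 2, 17, 15, 9, 6, 25], 0, 1, 0),
  ([], 0, 1, 0),
  ([1], 0, 1, 0),
  ([1, 1, 1, 1, 1, 1, 1, 1], 0, 1, 0),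
  ([1, 1], 0, 1, 0),
  ([1, 1, 1, 1, 1, 1, 1, 1, 1], 0, 1, 0),
  ([1, 1, 1], 0, 1, 0),
  ([1, 1, 1, 1, 1], 0, 0, 0),
  ([1, 1, 1, 1, 1, 1, 1, 1, 1, 1], 0, 1, 0),
  ([1, 1, 1, 1, 1, 1, 1], 0, 1, 0),
  ([1, 1, 1, 1], 0, 1, 0),
  ([1, 1, 1, 1, 1, 1], 0, 1, 0),
  ([25, 20, 21, 20, 12, 18, 22, 3, 7, 15, 5, 7, 1, 9, 4, 7, 0, 0, 14, 24, 2, 17, 15, 9, 6], 0, 0, 0),
  ([1, 1, 1, 1, 1, 1, 1, 1, 1, 25, 20, 21, 20, 12, 18, 22, 3, 7, 15, 5, 7, 1, 9, 4, 7, 0, 0, 14, 24, 2, 17, 15, 9, 6], 0, 0, 0),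
  ([1, 1, 1, 1, 1, 1, 1, 25, 20, 21, 20, 12, 18, 22, 3, 7, 15, 5, 7, 1, 9, 4, 7, 0, 0, 14, 24, 2, 17, 15, 9, 6], 0, 0, 0),
  ([1, 1, 1, 1, 1, 1, 25, 20, 21, 20, 12, 18, 22, 3, 7, 15, 5, 7, 1, 9, 4, 7, 0, 0, 14, 24, 2, 17, 15, 9, 6], 0, 0, 0),
  ([1, 1, 25, 20, 21, 20, 12, 18, 22, 3, 7, 15, 5, 7, 1, 9, 4, 7, 0, 0, 14, 24, 2, 17, 15, 9, 6], 0, 0, 0),
  ([1, 1, 1, 25, 20, 21, 20, 12, 18, 22, 3, 7, 15, 5, 7, 1, 9, 4, 7, 0, 0, 14, 24, 2, 17, 15, 9, 6], 0, 0, 0),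
  ([1, 1, 1, 1, 1, 25, 20, 21, 20, 12, 18, 22, 3, 7, 15, 5, 7, 1, 9, 4, 7, 0, 0, 14, 24, 2, 17, 15, 9, 6], 0, 0, 0),
  ([1, 1, 1, 1, 25, 20, 21, 20, 12, 18, 22, 3, 7, 15, 5, 7, 1, 9, 4, 7, 0, 0, 14, 24, 2, 17, 15, 9, 6], 0, 0, 0),
  ([1, 1, 1, 1, 1, 1, 1, 1, 1, 1, 25, 20, 21, 20, 12, 18, 22, 3, 7, 15, 5, 7, 1, 9, 4, 7, 0, 0, 14, 24, 2, 17, 15, 9, 6], 0, 0, 0),
  ([1, 25, 20, 21, 20, 12, 18, 22, 3, 7, 15, 5, 7, 1, 9, 4, 7, 0, 0, 14, 24, 2, 17, 15, 9, 6], 0, 0, 0),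
  ([1, 1, 1, 1, 1, 1, 1, 1, 25, 20, 21, 20, 12, 18, 22, 3, 7, 15, 5, 7, 1, 9, 4, 7, 0, 0, 14, 24, 2, 17, 15, 9, 6], 0, 0, 0),
  ([20, 21, 20, 12, 18, 22, 3, 7, 15, 5, 7, 1, 9, 4, 7, 0, 0, 14, 24, 2, 17, 15, 9, 6], 0, 1, 0),
  ([1, 1, 1, 1, 1, 1, 1, 1, 1, 1, 20, 21, 20, 12, 18, 22, 3, 7, 15, 5, 7, 1, 9, 4, 7, 0, 0, 14, 24, 2, 17, 15, 9, 6], 0, 1, 0),
  ([1, 1, 1, 1, 1, 1, 1, 1, 20, 21, 20, 12, 18, 22, 3, 7, 15, 5, 7, 1, 9, 4, 7, 0, 0, 14, 24, 2, 17, 15, 9, 6], 0, 1, 0),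
  ([1, 1, 20, 21, 20, 12, 18, 22, 3, 7, 15, 5, 7, 1, 9, 4, 7, 0, 0, 14, 24, 2, 17, 15, 9, 6], 0, 1, 0),
  ([1, 1, 1, 20, 21, 20, 12, 18, 22, 3, 7, 15, 5, 7, 1, 9, 4, 7, 0, 0, 14, 24, 2, 17, 15, 9, 6], 0, 1, 0),
  ([1, 20, 21, 20, 12, 18, 22, 3, 7, 15, 5, 7, 1, 9, 4, 7, 0, 0, 14, 24, 2, 17, 15, 9, 6], 0, 1, 0),
  ([1, 1, 1, 1, 1, 20, 21, 20, 12, 18, 22, 3, 7, 15, 5, 7, 1, 9, 4, 7, 0, 0, 14, 24, 2, 17, 15, 9, 6], 0, 0, 0),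
  ([1, 1, 1, 1, 1, 1, 1, 20, 21, 20, 12, 18, 22, 3, 7, 15, 5, 7, 1, 9, 4, 7, 0, 0, 14, 24, 2, 17, 15, 9, 6], 0, 1, 1),
  ([1, 1, 1, 1, 1, 1, 20, 21, 20, 12, 18, 22, 3, 7, 15, 5, 7, 1, 9, 4, 7, 0, 0, 14, 24, 2, 17, 15, 9, 6], 0, 1, 0),
  ([1, 1, 1, 1, 1, 1, 1, 1, 1, 20, 21, 20, 12, 18, 22, 3, 7, 15, 5, 7, 1, 9, 4, 7, 0, 0, 14, 24, 2, 17, 15, 9, 6], 0, 1, 0),
  ([1, 1, 1, 1, 20, 21, 20, 12, 18, 22, 3, 7, 15, 5, 7, 1, 9, 4, 7, 0, 0, 14, 24, 2, 17, 15, 9, 6], 0, 2, 0)]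

end

end Cfsg.Agent.Lib.Helper1.Co1B
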