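import Mathlib
import Cfsg.Agent.Lib.Helper1.Co1B.QR

set_option autoImplicit false
set_option maxRecDepth 100000

/-! The first Conway group on the 98280 pairs of minimal vectors: checks of the certificates of the searches, part 0. -/

namespace Cfsg.Agent.Lib.Helper1.Co1B

open Cfsg.Agent.Lib.Helper6.TC Cfsg.Agent.Lib.Helper6.PM Cfsg.Agent.Lib.Helper2.PMS
open Cfsg.Agent.Lib.Helper5.Chain Cfsg.Agent.Lib.Helper5.Srch Cfsg.Agent.Lib.Helper1.PMChk
open Cfsg.Agent.Lib.Helper2.PMC

set_option Elab.async false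

theorem chk_Cp_0 : Helper5.Srch.chk co1T iv2 wp wp cCp_0 (L0 :: lvA') msA (some U0_0) [] [] = true := by
  decide +kernel

theorem chk_Cp_1 : Helper5.Srch.chk co1T iv2 wp wp cCp_1 (L0 :: lvA') msA (some U0_1) [] [] = true := by
  decide +kernel

theorem chk_Cp_2 : Helper5.Srch.chk co1T iv2 wp wp cCp_2 (L0 :: lvA') msA (some U0_2) [] [] = true := by
  decide +kernel

theorem chk_Cp_3 : Helper5.Srch.chk co1T iv2 wp wp cCp_3 (L0 :: lvA') msA (some U0_3) [] [] = true := by
  decide +kernel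

theorem chk_Cp_4 : Helper5.Srch.chk co1T iv2 wp wp cCp_4 (L0 :: lvA') msA (some U0_4) [] [] = true := by
  decide +kernel

theorem chk_Cp_5 : Helper5.Srch.chk co1T iv2 wp wp cCp_5 (L0 :: lvA') msA (some U0_5) [] [] = true := by
  decide +kernel

theorem chk_Cp_6 : Helper5.Srch.chk co1T iv2 wp wp cCp_6 (L0 :: lvA') msA (some U0_6) [] [] = true := by
  decide +kernel

theorem chk_Cp_7 : Helper5.Srch.chk co1T iv2 wp wp cCp_7 (L0 :: lvA') msA (some U0_7) [] [] = true := by
  decide +kernel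

theorem chk_Cp_8 : Helper5.Srch.chk co1T iv2 wp wp cCp_8 (L0 :: lvA') msA (some U0_8) [] [] = true := by
  decide +kernel

theorem chk_Cp_9 : Helper5.Srch.chk co1T iv2 wp wp cCp_9 (L0 :: lvA') msA (some U0_9) [] [] = true := by
  decide +kernel

theorem chk_Cp_10 : Helper5.Srch.chk co1T iv2 wp wp cCp_10 (L0 :: lvA') msA (some U0_10) [] [] = true := by
  decide +kernel

theorem chk_Cp_11 : Helper5.Srch.chk co1T iv2 wp wp cCp_11 (L0 :: lvA') msA (some U0_11) [] [] = true := by
  decide +kernel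

theorem chk_Cp_12 : Helper5.Srch.chk co1T iv2 wp wp cCp_12 (L0 :: lvA') msA (some U0_12) [] [] = true := by
  decide +kernel

theorem chk_Cp_13 : Helper5.Srch.chk co1T iv2 wp wp cCp_13 (L0 :: lvA') msA (some U0_13) [] [] = true := by
  decide +kernel

theorem chk_Cp_14 : Helper5.Srch.chk co1T iv2 wp wp cCp_14 (L0 :: lvA') msA (some U0_14) [] [] = true := by
  decide +kernel

theorem chk_Cp_15 : Helper5.Srch.chk co1T iv2 wp wp cCp_15 (L0 :: lvA') msA (some U0_15) [] [] = true := by
  decide +kernel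

theorem chk_Cp_16 : Helper5.Srch.chk co1T iv2 wp wp cCp_16 (L0 :: lvA') msA (some U0_16) [] [] = true := by
  decide +kernel

end Cfsg.Agent.Lib.Helper1.Co1B
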