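import Mathlib
import Cfsg.Agent.Lib.Helper1.Co1B.QS0

set_option autoImplicit false
set_option maxRecDepth 100000

/-! The first Conway group on the 98280 pairs of minimal vectors: checks of the certificates of the searches, part 1. -/

namespace Cfsg.Agent.Lib.Helper1.Co1B

open Cfsg.Agent.Lib.Helper6.TC Cfsg.Agent.Lib.Helper6.PM Cfsg.Agent.Lib.Helper2.PMS
open Cfsg.Agent.Lib.Helper5.Chain Cfsg.Agent.Lib.Helper5.Srch Cfsg.Agent.Lib.Helper1.PMChk
open Cfsg.Agent.Lib.Helper2.PMC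

set_option Elab.async false

theorem chk_Cp_17 : Helper5.Srch.chk co1T iv2 wp wp cCp_17 (L0 :: lvA') msA (some U0_17) [] [] = true := by
  decide +kernel

theorem chk_Cp_18 : Helper5.Srch.chk co1T iv2 wp wp cCp_18 (L0 :: lvA') msA (some U0_18) [] [] = true := by
  decide +kernel

theorem chk_Cp_19 : Helper5.Srch.chk co1T iv2 wp wp cCp_19 (L0 :: lvA') msA (some U0_19) [] [] = true := by
  decide +kernel

theorem chk_Cp : ∀ p ∈ pcsCp, Helper5.Srch.chk co1T iv2 wp wp p.2 (L0 :: lvA') msA (some p.1) [] [] = true := by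
  intro p hp
  simp only [pcsCp, List.mem_cons, List.not_mem_nil, or_false] at hp
  rcases hp with rfl | rfl | rfl | rfl | rfl | rfl | rfl | rfl | rfl | rfl | rfl | rfl | rfl | rfl | rfl | rfl | rfl | rfl | rfl | rfl
  · exact chk_Cp_0
  · exact chk_Cp_1
  · exact chk_Cp_2
  · exact chk_Cp_3
  · exact chk_Cp_4
  · exact chk_Cp_5
  · exact chk_Cp_6
  · exact chk_Cp_7
  · exact chk_Cp_8
  · exact chk_Cp_9
  · exact chk_Cp_10
  · exact chk_Cp_11
  · exact chk_Cp_12
  · exact chk_Cp_13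
  · exact chk_Cp_14
  · exact chk_Cp_15
  · exact chk_Cp_16
  · exact chk_Cp_17
  · exact chk_Cp_18
  · exact chk_Cp_19

theorem chk_T2_0 : Helper5.Srch.chk co1T iv2 wp (rep 5 wp) cT2_0 (L0 :: lvA') msA (some U0_0) [] [] = true := by
  decide +kernel

theorem chk_T2_1 : Helper5.Srch.chk co1T iv2 wp (rep 5 wp) cT2_1 (L0 :: lvA') msA (some U0_1) [] [] = true := by
  decide +kernel

theorem chk_T2_2 : Helper5.Srch.chk co1T iv2 wp (rep 5 wp) cT2_2 (L0 :: lvA') msA (some U0_2) [] [] = true := by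
  decide +kernel

theorem chk_T2_3 : Helper5.Srch.chk co1T iv2 wp (rep 5 wp) cT2_3 (L0 :: lvA') msA (some U0_3) [] [] = true := by
  decide +kernel

theorem chk_T2_4 : Helper5.Srch.chk co1T iv2 wp (rep 5 wp) cT2_4 (L0 :: lvA') msA (some U0_4) [] [] = true := by
  decide +kernel

theorem chk_T2_5 : Helper5.Srch.chk co1T iv2 wp (rep 5 wp) cT2_5 (L0 :: lvA') msA (some U0_5) [] [] = true := by
  decide +kernel

theorem chk_T2_6 : Helper5.Srch.chk co1T iv2 wp (rep 5 wp) cT2_6 (L0 :: lvA') msA (some U0_6) [] [] = true := by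
  decide +kernel

theorem chk_T2_7 : Helper5.Srch.chk co1T iv2 wp (rep 5 wp) cT2_7 (L0 :: lvA') msA (some U0_7) [] [] = true := by
  decide +kernel

theorem chk_T2_8 : Helper5.Srch.chk co1T iv2 wp (rep 5 wp) cT2_8 (L0 :: lvA') msA (some U0_8) [] [] = true := by
  decide +kernel

theorem chk_T2_9 : Helper5.Srch.chk co1T iv2 wp (rep 5 wp) cT2_9 (L0 :: lvA') msA (some U0_9) [] [] = true := by
  decide +kernel

theorem chk_T2_10 : Helper5.Srch.chk co1T iv2 wp (rep 5 wp) cT2_10 (L0 :: lvA') msA (some U0_10) [] [] = true := by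
  decide +kernel

end Cfsg.Agent.Lib.Helper1.Co1B
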