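import Mathlib
import Cfsg.Agent.Lib.Helper1.Co1B.QS1

set_option autoImplicit false
set_option maxRecDepth 100000

/-! The first Conway group on the 98280 pairs of minimal vectors: checks of the certificates of the searches, part 2. -/

namespace Cfsg.Agent.Lib.Helper1.Co1B

open Cfsg.Agent.Lib.Helper6.TC Cfsg.Agent.Lib.Helper6.PM Cfsg.Agent.Lib.Helper2.PMS
open Cfsg.Agent.Lib.Helper5.Chain Cfsg.Agent.Lib.Helper5.Srch Cfsg.Agent.Lib.Helper1.PMChk
open Cfsg.Agent.Lib.Helper2.PMC

set_option Elab.async false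

theorem chk_T2_11 : Helper5.Srch.chk co1T iv2 wp (rep 5 wp) cT2_11 (L0 :: lvA') msA (some U0_11) [] [] = true := by
  decide +kernel

theorem chk_T2_12 : Helper5.Srch.chk co1T iv2 wp (rep 5 wp) cT2_12 (L0 :: lvA') msA (some U0_12) [] [] = true := by
  decide +kernel

theorem chk_T2_13 : Helper5.Srch.chk co1T iv2 wp (rep 5 wp) cT2_13 (L0 :: lvA') msA (some U0_13) [] [] = true := by
  decide +kernel

theorem chk_T2_14 : Helper5.Srch.chk co1T iv2 wp (rep 5 wp) cT2_14 (L0 :: lvA') msA (some U0_14) [] [] = true := by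
  decide +kernel

theorem chk_T2_15 : Helper5.Srch.chk co1T iv2 wp (rep 5 wp) cT2_15 (L0 :: lvA') msA (some U0_15) [] [] = true := by
  decide +kernel

theorem chk_T2_16 : Helper5.Srch.chk co1T iv2 wp (rep 5 wp) cT2_16 (L0 :: lvA') msA (some U0_16) [] [] = true := by
  decide +kernel

end Cfsg.Agent.Lib.Helper1.Co1B
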