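import Mathlib
import Cfsg.Agent.Lib.Helper1.Co1B.QS2

set_option autoImplicit false
set_option maxRecDepth 100000

/-! The first Conway group on the 98280 pairs of minimal vectors: checks of the certificates of the searches, part 3. -/

namespace Cfsg.Agent.Lib.Helper1.Co1B

open Cfsg.Agent.Lib.Helper6.TC Cfsg.Agent.Lib.Helper6.PM Cfsg.Agent.Lib.Helper2.PMS
open Cfsg.Agent.Lib.Helper5.Chain Cfsg.Agent.Lib.Helper5.Srch Cfsg.Agent.Lib.Helper1.PMChk
open Cfsg.Agent.Lib.Helper2.PMC

set_option Elab.async false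

theorem chk_T2_17 : Helper5.Srch.chk co1T iv2 wp (rep 5 wp) cT2_17 (L0 :: lvA') msA (some U0_17) [] [] = true := by
  decide +kernel

theorem chk_T2_18 : Helper5.Srch.chk co1T iv2 wp (rep 5 wp) cT2_18 (L0 :: lvA') msA (some U0_18) [] [] = true := by
  decide +kernel

theorem chk_T2_19 : Helper5.Srch.chk co1T iv2 wp (rep 5 wp) cT2_19 (L0 :: lvA') msA (some U0_19) [] [] = true := by
  decide +kernel

theorem chk_T2 : ∀ p ∈ pcsT2, Helper5.Srch.chk co1T iv2 wp (rep 5 wp) p.2 (L0 :: lvA') msA (some p.1) [] [] = true := by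
  intro p hp
  simp only [pcsT2, List.mem_cons, List.not_mem_nil, or_false] at hp
  rcases hp with rfl | rfl | rfl | rfl | rfl | rfl | rfl | rfl | rfl | rfl | rfl | rfl | rfl | rfl | rfl | rfl | rfl | rfl | rfl | rfl
  · exact chk_T2_0
  · exact chk_T2_1
  · exact chk_T2_2
  · exact chk_T2_3
  · exact chk_T2_4
  · exact chk_T2_5
  · exact chk_T2_6
  · exact chk_T2_7
  · exact chk_T2_8
  · exact chk_T2_9
  · exact chk_T2_10
  · exact chk_T2_11
  · exact chk_T2_12
  · exact chk_T2_13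
  · exact chk_T2_14
  · exact chk_T2_15
  · exact chk_T2_16
  · exact chk_T2_17
  · exact chk_T2_18
  · exact chk_T2_19

theorem chk_Ch_0 : Helper5.Srch.chk co1T iv2 wh wh cCh_0 (L0 :: lvB') msB (some U0_0) [] [] = true := by
  decide +kernel

theorem chk_Ch_1 : Helper5.Srch.chk co1T iv2 wh wh cCh_1 (L0 :: lvB') msB (some U0_1) [] [] = true := by
  decide +kernel

theorem chk_Ch_2 : Helper5.Srch.chk co1T iv2 wh wh cCh_2 (L0 :: lvB') msB (some U0_2) [] [] = true := by
  decide +kernel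

end Cfsg.Agent.Lib.Helper1.Co1B
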