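import Mathlib
import Cfsg.Agent.Lib.Helper1.Co1B.QS3

set_option autoImplicit false
set_option maxRecDepth 100000

/-! The first Conway group on the 98280 pairs of minimal vectors: checks of the certificates of the searches, part 4. -/

namespace Cfsg.Agent.Lib.Helper1.Co1B

open Cfsg.Agent.Lib.Helper6.TC Cfsg.Agent.Lib.Helper6.PM Cfsg.Agent.Lib.Helper2.PMS
open Cfsg.Agent.Lib.Helper5.Chain Cfsg.Agent.Lib.Helper5.Srch Cfsg.Agent.Lib.Helper1.PMChk
open Cfsg.Agent.Lib.Helper2.PMC

set_option Elab.async false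

theorem chk_Ch_3 : Helper5.Srch.chk co1T iv2 wh wh cCh_3 (L0 :: lvB') msB (some U0_3) [] [] = true := by
  decide +kernel

theorem chk_Ch_4 : Helper5.Srch.chk co1T iv2 wh wh cCh_4 (L0 :: lvB') msB (some U0_4) [] [] = true := by
  decide +kernel

theorem chk_Ch_5 : Helper5.Srch.chk co1T iv2 wh wh cCh_5 (L0 :: lvB') msB (some U0_5) [] [] = true := by
  decide +kernel

theorem chk_Ch_6 : Helper5.Srch.chk co1T iv2 wh wh cCh_6 (L0 :: lvB') msB (some U0_6) [] [] = true := by
  decide +kernel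

theorem chk_Ch_7 : Helper5.Srch.chk co1T iv2 wh wh cCh_7 (L0 :: lvB') msB (some U0_7) [] [] = true := by
  decide +kernel

theorem chk_Ch_8 : Helper5.Srch.chk co1T iv2 wh wh cCh_8 (L0 :: lvB') msB (some U0_8) [] [] = true := by
  decide +kernel

end Cfsg.Agent.Lib.Helper1.Co1B
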