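import Mathlib
import Cfsg.Agent.Lib.Helper1.Co1B.QS5

set_option autoImplicit false
set_option maxRecDepth 100000

/-! The first Conway group on the 98280 pairs of minimal vectors: checks of the certificates of the searches, part 6. -/

namespace Cfsg.Agent.Lib.Helper1.Co1B

open Cfsg.Agent.Lib.Helper6.TC Cfsg.Agent.Lib.Helper6.PM Cfsg.Agent.Lib.Helper2.PMS
open Cfsg.Agent.Lib.Helper5.Chain Cfsg.Agent.Lib.Helper5.Srch Cfsg.Agent.Lib.Helper1.PMChk
open Cfsg.Agent.Lib.Helper2.PMC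

set_option Elab.async false

theorem chk_Ch_18 : Helper5.Srch.chk co1T iv2 wh wh cCh_18 (L0 :: lvB') msB (some U0_18) [] [] = true := by
  decide +kernel

theorem chk_Ch_19 : Helper5.Srch.chk co1T iv2 wh wh cCh_19 (L0 :: lvB') msB (some U0_19) [] [] = true := by
  decide +kernel

theorem chk_Ch : ∀ p ∈ pcsCh, Helper5.Srch.chk co1T iv2 wh wh p.2 (L0 :: lvB') msB (some p.1) [] [] = true := by
  intro p hp
  simp only [pcsCh, List.mem_cons, List.not_mem_nil, or_false] at hp
  rcases hp with rfl | rfl | rfl | rfl | rfl | rfl | rfl | rfl | rfl | rfl | rfl | rfl | rfl | rfl | rfl | rfl | rfl | rfl | rfl | rfl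
  · exact chk_Ch_0
  · exact chk_Ch_1
  · exact chk_Ch_2
  · exact chk_Ch_3
  · exact chk_Ch_4
  · exact chk_Ch_5
  · exact chk_Ch_6
  · exact chk_Ch_7
  · exact chk_Ch_8
  · exact chk_Ch_9
  · exact chk_Ch_10
  · exact chk_Ch_11
  · exact chk_Ch_12
  · exact chk_Ch_13
  · exact chk_Ch_14
  · exact chk_Ch_15
  · exact chk_Ch_16
  · exact chk_Ch_17
  · exact chk_Ch_18
  · exact chk_Ch_19

end Cfsg.Agent.Lib.Helper1.Co1B
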