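import Mathlib
import Cfsg.Agent.Lib.Helper1.Co1B.QS6

set_option autoImplicit false
set_option maxRecDepth 100000

/-! The first Conway group: the normalizer of a Sylow 23-subgroup. -/

namespace Cfsg.Agent.Lib.Helper1.Co1B

open Cfsg.Spor Cfsg.Agent.Lib.Helper6.TC Cfsg.Agent.Lib.Helper6.PM Cfsg.Agent.Lib.Helper2.PMS
open Cfsg.Agent.Lib.Helper2.PMC Cfsg.Agent.Lib.Helper5.Chain Cfsg.Agent.Lib.Helper2.RigidOut
open Cfsg.Agent.Lib.Helper5.Srch Cfsg.Agent.Lib.Helper1.PMChk

set_option Elab.async false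

/-- the element of order 23 -/
noncomputable def gp : co1T.G := co1T.elt wp
/-- the element of order 11 -/
noncomputable def gh : co1T.G := co1T.elt wh
/-- the third generator -/
noncomputable def gv : co1T.G := co1T.elt wv

theorem lt_wp : ∀ c ∈ wp, c < co1T.nl := by rw [co1T_nl]; decide
theorem lt_wh : ∀ c ∈ wh, c < co1T.nl := by rw [co1T_nl]; decide
theorem lt_wv : ∀ c ∈ wv, c < co1T.nl := by rw [co1T_nl]; decide

theorem gp_pow (k : ℕ) : gp ^ k = co1T.elt (rep k wp) := (elt_rep co1T k wp).symm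
theorem gh_pow (k : ℕ) : gh ^ k = co1T.elt (rep k wh) := (elt_rep co1T k wh).symm

theorem gp_inv : gp⁻¹ = co1T.elt (invw iv2 wp) := (elt_invw co1T iv2 invMapT wp lt_wp).symm
theorem gh_inv : gh⁻¹ = co1T.elt (invw iv2 wh) := (elt_invw co1T iv2 invMapT wh lt_wh).symm
theorem gv_inv : gv⁻¹ = co1T.elt (invw iv2 wv) := (elt_invw co1T iv2 invMapT wv lt_wv).symm

theorem chk_pl : chkBaseL co1T (L0 :: lvA') (rep 23 wp) [] = true := by decide +kernel
theorem chk_p1 : chkNeAt co1T wp [] 0 = true := by decide +kernel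

theorem gp_ne : gp ≠ 1 := by
  have := elt_ne_of_chkNeAt (M := co1T) _ _ _ chk_p1
  rwa [co1T.elt_nil] at this

theorem orderOf_gp : orderOf gp = 23 := by
  have : Fact (Nat.Prime 23) := ⟨by norm_num⟩
  apply orderOf_eq_prime
  · rw [gp_pow, ← co1T.elt_nil]
    exact factsA.elt_eq_of_chk _ _ chk_pl
  · exact gp_ne

theorem chk_he : chkBaseL co1T (L0 :: lvA') (rep 11 wh) [] = true := by decide +kernel
theorem chk_h1 : chkNeAt co1T wh [] 0 = true := by decide +kernel

theorem orderOf_gh : orderOf gh = 11 := by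
  have : Fact (Nat.Prime 11) := ⟨by norm_num⟩
  apply orderOf_eq_prime
  · rw [gh_pow, ← co1T.elt_nil]
    exact factsA.elt_eq_of_chk _ _ chk_he
  · have := elt_ne_of_chkNeAt (M := co1T) _ _ _ chk_h1
    rwa [co1T.elt_nil] at this

theorem chk_ph : chkBaseL co1T (L0 :: lvA') (invw iv2 wh ++ wp ++ wh) (rep 2 wp) = true := by
  decide +kernel

theorem rel_ph : gh⁻¹ * gp * gh = gp ^ 2 := by
  rw [gh_inv, gp_pow]
  unfold gp gh
  rw [← co1T.elt_append, ← co1T.elt_append]
  exact factsA.elt_eq_of_chk _ _ chk_ph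

/-! ## The centralizer and the normalizer -/

theorem chk_wp : chkW co1T wp = true := by decide +kernel
theorem chk_wp2 : chkW co1T (rep 5 wp) = true := by decide +kernel

theorem chk_srcA : chkSrc co1T wp [] (L0 :: lvA') = true := by decide +kernel

theorem leaves_Cp : (pcsCp.all fun p => (Helper5.Srch.leaves p.2).all fun z =>
    ((List.range 23).map fun i => rep i wp).contains z) = true := by decide +kernel

theorem centralizer_gp (g : co1T.G) (hg : g⁻¹ * gp * g = gp) : ∃ i : ℕ, g = gp ^ i := by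
  obtain ⟨p, hp, z, hz, hgz⟩ := search_pieces_of_masksOK (L := L0) (lv' := lvA') factsA msA masksA
    iv2 invMapT wp wp chk_wp chk_wp chk_srcA rfl pcsCp rfl chk_Cp g hg
  have h1 := leaves_Cp
  rw [List.all_eq_true] at h1
  have h2 := h1 p hp
  rw [List.all_eq_true] at h2
  have h3 := h2 z hz
  rw [List.contains_iff_mem, List.mem_map] at h3
  obtain ⟨i, _, rfl⟩ := h3
  exact ⟨i, by rw [hgz, gp_pow]⟩

theorem leaves_T2 : (pcsT2.all fun p => (Helper5.Srch.leaves p.2).isEmpty) = true := by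
  decide +kernel

theorem no_sq (g : co1T.G) : g⁻¹ * gp * g ≠ gp ^ 5 := by
  intro hg
  rw [gp_pow] at hg
  obtain ⟨p, hp, z, hz, _⟩ := search_pieces_of_masksOK (L := L0) (lv' := lvA') factsA msA masksA
    iv2 invMapT wp (rep 5 wp) chk_wp chk_wp2 chk_srcA rfl pcsT2 rfl chk_T2 g hg
  have h1 := leaves_T2
  rw [List.all_eq_true] at h1
  have h2 := h1 p hp
  rw [List.isEmpty_iff] at h2
  rw [h2] at hz
  exact absurd hz List.not_mem_nil

theorem hE : ∀ k < 23, 0 < k → ∃ j, ∃ ε ∈ [1, 5], 2 ^ j * k % 23 = ε % 23 := by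
  have h : ∀ k < 23, 0 < k → ∃ j < 11, ∃ ε ∈ [1, 5], 2 ^ j * k % 23 = ε % 23 := by
    decide +kernel
  intro k hk hk0
  obtain ⟨j, _, ε, hε, e⟩ := h k hk hk0
  exact ⟨j, ε, hε, e⟩

theorem normalizer_gp : ∀ n : co1T.G, (∃ k : ℕ, n⁻¹ * gp * n = gp ^ k) →
    ∃ i j : ℕ, n = gp ^ i * gh ^ j := by
  apply normalizer_of_transporters 23 2 [1, 5] gp gh (by norm_num) orderOf_gp rel_ph hE
    centralizer_gp
  intro ε hε hne g
  simp only [List.mem_cons, List.not_mem_nil, or_false] at hε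
  rcases hε with rfl | rfl
  · exact absurd rfl hne
  · exact no_sq g

end Cfsg.Agent.Lib.Helper1.Co1B
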